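import Mathlib
import Groth.Agent.H57.FlatPt5

/-! Finite presentation of flat modules from local finite presentation (Stacks 053F style),
via openness of the flat locus (helper57).  (helper66) -/

set_option autoImplicit false
set_option linter.style.haveILetI false

universe u

open TensorProduct

namespace Groth.Agent.H66.FlatFP

/-- If `R` embeds into a finite product of its local rings `R_{p_j}`, an element of a flat
`R`-module killed, for each `j`, by an element outside `p_j`, vanishes. -/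
theorem eq_zero_of_flat_of_forall_smul {R : Type u} [CommRing R] {F : Type*} [AddCommGroup F]
    [Module R F] [Module.Flat R F] (s : Finset (PrimeSpectrum R))
    (hs : Function.Injective
      fun r : R => fun p : s => algebraMap R (Localization.AtPrime p.1.asIdeal) r)
    (x : F) (hx : ∀ p ∈ s, ∃ t : R, t ∉ p.asIdeal ∧ t • x = 0) : x = 0 := by
  classical
  let φ : R →ₗ[R] (∀ p : s, Localization.AtPrime p.1.asIdeal) :=
    Algebra.linearMap R (∀ p : s, Localization.AtPrime p.1.asIdeal)
  have hφ : Function.Injective φ := hs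
  have hinj := Module.Flat.lTensor_preserves_injective_linearMap (M := F) φ hφ
  have h0 : φ.lTensor F (x ⊗ₜ[R] (1 : R)) = 0 := by
    rw [LinearMap.lTensor_tmul]
    have h1 : φ 1 = ∑ p : s, Pi.single p (1 : Localization.AtPrime p.1.asIdeal) := by
      rw [Finset.univ_sum_single]
      exact map_one (algebraMap R (∀ p : s, Localization.AtPrime p.1.asIdeal))
    rw [h1, TensorProduct.tmul_sum]
    refine Finset.sum_eq_zero fun p _ => ?_
    obtain ⟨t, ht, htx⟩ := hx p.1 p.2
    have hu : IsUnit (algebraMap R (Localization.AtPrime p.1.asIdeal) t) :=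
      IsLocalization.map_units (M := p.1.asIdeal.primeCompl) _ ⟨t, ht⟩
    obtain ⟨u, hu⟩ := hu
    have hsingle : (Pi.single p (1 : Localization.AtPrime p.1.asIdeal) :
        ∀ p : s, Localization.AtPrime p.1.asIdeal) =
        t • Pi.single p ((↑u⁻¹ : Localization.AtPrime p.1.asIdeal)) := by
      rw [← Pi.single_smul]
      congr 1
      rw [Algebra.smul_def, ← hu]
      simp
    rw [hsingle, TensorProduct.tmul_smul, TensorProduct.smul_tmul', htx, TensorProduct.zero_tmul]
  have h2 : x ⊗ₜ[R] (1 : R) = 0 := hinj (by rw [h0, map_zero])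
  have h3 := congrArg (TensorProduct.rid R F) h2
  simpa using h3

/-- Elementwise local criterion for finite generation of a submodule. -/
theorem fg_of_forall_prime {S : Type*} [CommRing S] {F : Type*} [AddCommGroup F] [Module S F]
    (K : Submodule S F)
    (h : ∀ q : Ideal S, q.IsPrime → ∃ g : S, g ∉ q ∧ ∃ K' : Submodule S F, K'.FG ∧ K' ≤ K ∧
      ∀ k ∈ K, ∃ N : ℕ, g ^ N • k ∈ K') : K.FG := by
  classical
  let G : Set S := {g | ∃ K' : Submodule S F, K'.FG ∧ K' ≤ K ∧ ∀ k ∈ K, ∃ N : ℕ, g ^ N • k ∈ K'}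
  have hG : Ideal.span G = ⊤ := by
    by_contra hne
    obtain ⟨m, hm, hle⟩ := Ideal.exists_le_maximal _ hne
    obtain ⟨g, hg, hgG⟩ := h m hm.isPrime
    exact hg (hle (Ideal.subset_span hgG))
  obtain ⟨t, htG, ht⟩ : ∃ t : Finset S, (t : Set S) ⊆ G ∧ Ideal.span (t : Set S) = ⊤ := by
    have h1 : (1 : S) ∈ Ideal.span G := by rw [hG]; trivial
    obtain ⟨t, htG, h1t⟩ := Submodule.mem_span_finite_of_mem_span h1
    exact ⟨t, htG, (Ideal.eq_top_iff_one _).mpr h1t⟩
  have hch : ∀ g : S, ∃ K' : Submodule S F, g ∈ G → (K'.FG ∧ K' ≤ K ∧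
      ∀ k ∈ K, ∃ N : ℕ, g ^ N • k ∈ K') := fun g => by
    by_cases hg : g ∈ G
    · obtain ⟨K', hK'⟩ := hg
      exact ⟨K', fun _ => hK'⟩
    · exact ⟨⊥, fun h => absurd h hg⟩
  choose K' hK' using hch
  let K'' : Submodule S F := ⨆ g ∈ t, K' g
  have hK''fg : K''.FG := Submodule.fg_biSup t _ (fun g hg => (hK' g (htG hg)).1)
  have hK''le : K'' ≤ K := iSup₂_le fun g hg => (hK' g (htG hg)).2.1
  suffices hle : K ≤ K'' by
    rw [le_antisymm hle hK''le]
    exact hK''fg
  intro k hk
  have hN : ∀ g : S, ∃ N : ℕ, g ∈ t → g ^ N • k ∈ K'' := fun g => by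
    by_cases hg : g ∈ t
    · obtain ⟨N, hN⟩ := (hK' g (htG hg)).2.2 k hk
      exact ⟨N, fun _ => (le_biSup K' hg : K' g ≤ K'') hN⟩
    · exact ⟨0, fun h => absurd h hg⟩
  choose N hN using hN
  let n := t.sup N
  have hn : ∀ g ∈ t, g ^ n • k ∈ K'' := fun g hg => by
    have hle : N g ≤ n := Finset.le_sup hg
    rw [← Nat.sub_add_cancel hle, pow_add, mul_smul]
    exact K''.smul_mem _ (hN g hg)
  have htop : Ideal.span ((fun g => g ^ n) '' (t : Set S)) = ⊤ := Ideal.span_pow_eq_top _ ht n
  let J : Ideal S := K''.comap (LinearMap.toSpanSingleton S F k)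
  have hJ : Ideal.span ((fun g => g ^ n) '' (t : Set S)) ≤ J := by
    rw [Ideal.span_le]
    rintro _ ⟨g, hg, rfl⟩
    show LinearMap.toSpanSingleton S F k (g ^ n) ∈ K''
    rw [LinearMap.toSpanSingleton_apply]
    exact hn g hg
  have h1 : (1 : S) ∈ J := hJ (by rw [htop]; trivial)
  have h2 : LinearMap.toSpanSingleton S F k 1 ∈ K'' := h1
  rwa [LinearMap.toSpanSingleton_apply, one_smul] at h2

/-- Generators of the localized kernel can be taken in the kernel. -/
theorem exists_fg_le_ker {R S : Type u} [CommRing R] [CommRing S] [Algebra R S] {F M : Type u}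
    [AddCommGroup F] [AddCommGroup M] [Module S F] [Module S M] [Module.Finite S F]
    (π : F →ₗ[S] M) (hπ : Function.Surjective π) (p : Ideal R) [p.IsPrime]
    (hloc : Module.FinitePresentation
      (Localization (Algebra.algebraMapSubmonoid S p.primeCompl))
      (LocalizedModule (Algebra.algebraMapSubmonoid S p.primeCompl) M)) :
    ∃ K' : Submodule S F, K'.FG ∧ K' ≤ LinearMap.ker π ∧
      ∀ k ∈ LinearMap.ker π, ∃ t : R, t ∉ p ∧ algebraMap R S t • k ∈ K' := by
  classical
  obtain ⟨T, hT⟩ : ∃ T : Submonoid S, T = Algebra.algebraMapSubmonoid S p.primeCompl := ⟨_, rfl⟩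
  rw [← hT] at hloc
  let ιF := LocalizedModule.mkLinearMap T F
  let ιM := LocalizedModule.mkLinearMap T M
  let πT := (IsLocalizedModule.map T ιF ιM π).extendScalarsOfIsLocalization T (Localization T)
  have hπT : Function.Surjective πT := IsLocalizedModule.map_surjective T ιF ιM π hπ
  have hfg : (LinearMap.ker πT).FG := Module.FinitePresentation.fg_ker πT hπT
  rw [← LinearMap.localized'_ker_eq_ker_localizedMap (Localization T) T ιF ιM π,
    Submodule.localized'_eq_span] at hfg
  obtain ⟨σ', hσ', hspan⟩ := (Submodule.fg_span_iff_fg_span_finset_subset _).mp hfg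
  obtain ⟨σ₀, hσ₀, rfl⟩ := Finset.subset_set_image_iff.mp hσ'
  refine ⟨Submodule.span S σ₀, Submodule.fg_span σ₀.finite_toSet, Submodule.span_le.mpr hσ₀,
    fun k hk => ?_⟩
  have h1 : ιF k ∈ Submodule.span (Localization T) (ιF '' (σ₀ : Set F)) := by
    have h2 : ιF k ∈ Submodule.span (Localization T) (ιF '' (LinearMap.ker π : Set F)) :=
      Submodule.subset_span ⟨k, hk, rfl⟩
    rw [hspan] at h2
    simpa using h2
  obtain ⟨t, ht⟩ := multiple_mem_span_of_mem_localization_span T (Localization T) _ _ h1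
  rw [← Submodule.map_span] at ht
  obtain ⟨y, hy, hyk⟩ := ht
  have h3 : ιF y = ιF ((t : S) • k) := by rw [hyk, map_smul]; rfl
  obtain ⟨c, hc⟩ := (IsLocalizedModule.eq_iff_exists T ιF).mp h3
  have hct : ((c * t : T) : S) ∈ Algebra.algebraMapSubmonoid S p.primeCompl := hT ▸ (c * t).2
  obtain ⟨r, hr, hrct⟩ := Submonoid.mem_map.mp hct
  refine ⟨r, hr, ?_⟩
  rw [hrct, Submonoid.coe_mul, mul_smul]
  have h4 : (c : S) • ((t : S) • k) = (c : S) • y := hc.symm
  rw [h4]
  exact Submodule.smul_mem _ _ hy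

/-- **Stacks 053F-type**: a finite module over a finitely presented `R`-algebra `S`, flat over
`R`, locally (on `Spec R`) finitely presented, is finitely presented, provided `R` embeds into a
finite product of its local rings. -/
theorem finitePresentation_of_flat {R S M : Type u} [CommRing R] [CommRing S] [Algebra R S]
    [Algebra.FinitePresentation R S] [AddCommGroup M] [Module S M] [Module R M]
    [IsScalarTower R S M] [Module.Finite S M] [Module.Flat R M]
    (s : Finset (PrimeSpectrum R))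
    (hs : Function.Injective
      fun r : R => fun p : s => algebraMap R (Localization.AtPrime p.1.asIdeal) r)
    (hloc : ∀ (p : Ideal R) [p.IsPrime], Module.FinitePresentation
      (Localization (Algebra.algebraMapSubmonoid S p.primeCompl))
      (LocalizedModule (Algebra.algebraMapSubmonoid S p.primeCompl) M)) :
    Module.FinitePresentation S M := by
  classical
  obtain ⟨r, π, hπ⟩ := Module.Finite.exists_fin' S M
  rw [← Module.FinitePresentation.fg_ker_iff π hπ]
  refine fg_of_forall_prime _ fun q hq => ?_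
  haveI := hq
  let p : Ideal R := q.comap (algebraMap R S)
  obtain ⟨K0, hK0fg, hK0le, hK0⟩ := exists_fg_le_ker π hπ p (hloc p)
  have hj : ∀ j : s, ∃ K' : Submodule S (Fin r → S), K'.FG ∧ K' ≤ LinearMap.ker π ∧
      ∀ k ∈ LinearMap.ker π, ∃ t : R, t ∉ j.1.asIdeal ∧ algebraMap R S t • k ∈ K' :=
    fun j => exists_fg_le_ker π hπ j.1.asIdeal (hloc j.1.asIdeal)
  choose Kj hKjfg hKjle hKj using hj
  let K' : Submodule S (Fin r → S) := K0 ⊔ ⨆ j : s, Kj j
  have hK'fg : K'.FG := hK0fg.sup (Submodule.fg_iSup _ hKjfg)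
  have hK'le : K' ≤ LinearMap.ker π := sup_le hK0le (iSup_le hKjle)
  let M' := (Fin r → S) ⧸ K'
  haveI : Module.FinitePresentation S M' :=
    Module.finitePresentation_of_surjective K'.mkQ K'.mkQ_surjective
      (by rw [Submodule.ker_mkQ]; exact hK'fg)
  let ρ : M' →ₗ[S] M := K'.liftQ π hK'le
  have hρ : Function.Surjective ρ := fun m => by
    obtain ⟨f, rfl⟩ := hπ m
    exact ⟨K'.mkQ f, rfl⟩
  have hker0 : ∀ x : M', ρ x = 0 → ∃ t : R, t ∉ p ∧ algebraMap R S t • x = 0 := by
    intro x hx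
    obtain ⟨k, rfl⟩ := K'.mkQ_surjective x
    have hk : k ∈ LinearMap.ker π := hx
    obtain ⟨t, ht, htk⟩ := hK0 k hk
    refine ⟨t, ht, ?_⟩
    rw [← map_smul, Submodule.mkQ_apply, Submodule.Quotient.mk_eq_zero]
    exact (le_sup_left : K0 ≤ K') htk
  have hkerj : ∀ x : M', ρ x = 0 → ∀ j ∈ s, ∃ t : R, t ∉ j.asIdeal ∧
      algebraMap R S t • x = 0 := by
    intro x hx j hj
    obtain ⟨k, rfl⟩ := K'.mkQ_surjective x
    have hk : k ∈ LinearMap.ker π := hx
    obtain ⟨t, ht, htk⟩ := hKj ⟨j, hj⟩ k hk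
    refine ⟨t, ht, ?_⟩
    rw [← map_smul, Submodule.mkQ_apply, Submodule.Quotient.mk_eq_zero]
    exact (le_sup_of_le_right (le_iSup Kj ⟨j, hj⟩) : Kj ⟨j, hj⟩ ≤ K') htk
  -- flatness of `M'` at `q`
  haveI hflatM : Module.Flat R (LocalizedModule q.primeCompl M) := by
    refine Groth.Agent.H57.flat_localizedModule_of_forall q.primeCompl M
      (fun P Q _ _ _ _ u hu x hx => ⟨1, ?_⟩)
    rw [one_smul]
    exact Module.Flat.lTensor_preserves_injective_linearMap u hu (by rw [hx, map_zero])
  let ι' := LocalizedModule.mkLinearMap q.primeCompl M'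
  let ι := LocalizedModule.mkLinearMap q.primeCompl M
  let ρq : LocalizedModule q.primeCompl M' →ₗ[S] LocalizedModule q.primeCompl M :=
    IsLocalizedModule.map q.primeCompl ι' ι ρ
  have hρq_surj : Function.Surjective ρq := IsLocalizedModule.map_surjective _ _ _ _ hρ
  have hρq_inj : Function.Injective ρq := by
    rw [injective_iff_map_eq_zero]
    intro z hz
    obtain ⟨⟨m, t⟩, rfl⟩ := IsLocalizedModule.mk'_surjective q.primeCompl ι' z
    simp only [Function.uncurry_apply_pair] at hz ⊢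
    rw [IsLocalizedModule.map_mk', IsLocalizedModule.mk'_eq_zero] at hz
    obtain ⟨c, hc⟩ := (IsLocalizedModule.eq_zero_iff q.primeCompl ι).mp hz
    have h0 : ρ ((c : S) • m) = 0 := by rw [map_smul]; exact hc
    obtain ⟨t', ht', htm⟩ := hker0 _ h0
    rw [IsLocalizedModule.mk'_eq_zero, IsLocalizedModule.eq_zero_iff q.primeCompl ι']
    refine ⟨⟨algebraMap R S t', ht'⟩ * c, ?_⟩
    rw [Submonoid.smul_def, Submonoid.coe_mul, mul_smul]
    exact htm
  have hflatq : Module.Flat R (LocalizedModule q.primeCompl M') :=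
    Module.Flat.of_linearEquiv
      ((LinearEquiv.ofBijective ρq ⟨hρq_inj, hρq_surj⟩).restrictScalars R)
  have hopen := Groth.Agent.H57.FlatPt.isOpen_flat_module_locus (R := R) (S := S) (M := M')
  obtain ⟨g, hgq, hgU⟩ : ∃ g : S, g ∉ q ∧ ∀ q' : PrimeSpectrum S, g ∉ q'.asIdeal →
      Module.Flat R (LocalizedModule q'.asIdeal.primeCompl M') := by
    obtain ⟨U, ⟨g, rfl⟩, hqU, hU⟩ :=
      PrimeSpectrum.isTopologicalBasis_basic_opens.exists_subset_of_mem_open
        (a := (⟨q, hq⟩ : PrimeSpectrum S))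
        (show (⟨q, hq⟩ : PrimeSpectrum S) ∈ {q' : PrimeSpectrum S |
          Module.Flat R (LocalizedModule q'.asIdeal.primeCompl M')} from hflatq) hopen
    exact ⟨g, hqU, fun q' hq' => hU hq'⟩
  refine ⟨g, hgq, K', hK'fg, hK'le, fun k hk => ?_⟩
  by_contra hcon
  push Not at hcon
  let x : M' := K'.mkQ k
  have hx : ρ x = 0 := hk
  let I : Ideal S := LinearMap.ker (LinearMap.toSpanSingleton S M' x)
  have hI : ∀ c : S, c ∈ I ↔ c • x = 0 := fun c => by
    show c ∈ LinearMap.ker (LinearMap.toSpanSingleton S M' x) ↔ _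
    rw [LinearMap.mem_ker, LinearMap.toSpanSingleton_apply]
  have hdisj : Disjoint (I : Set S) (Submonoid.powers g : Set S) := by
    rw [Set.disjoint_left]
    rintro _ hc ⟨N, rfl⟩
    refine hcon N ?_
    have h1 := (hI _).mp hc
    rw [← map_smul, Submodule.mkQ_apply, Submodule.Quotient.mk_eq_zero] at h1
    exact h1
  obtain ⟨q', hq', hIq', hq'disj⟩ := Ideal.exists_le_prime_disjoint I (Submonoid.powers g) hdisj
  have hgq' : g ∉ q' := fun h => Set.disjoint_left.mp hq'disj h ⟨1, pow_one g⟩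
  haveI := hq'
  haveI : Module.Flat R (LocalizedModule q'.primeCompl M') := hgU ⟨q', hq'⟩ hgq'
  have hy : LocalizedModule.mkLinearMap q'.primeCompl M' x = 0 := by
    refine eq_zero_of_flat_of_forall_smul s hs _ (fun j hj => ?_)
    obtain ⟨t, ht, htx⟩ := hkerj x hx j hj
    refine ⟨t, ht, ?_⟩
    rw [← algebraMap_smul S t, ← map_smul, htx, map_zero]
  obtain ⟨c, hc⟩ := (IsLocalizedModule.eq_zero_iff q'.primeCompl
    (LocalizedModule.mkLinearMap q'.primeCompl M')).mp hy
  exact c.2 (hIq' ((hI _).mpr hc))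

end Groth.Agent.H66.FlatFP
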