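import Groth.Agent.H66.GlobalCI

/-!
# Global complete intersections over a field, part 2 (helper66)

Local rings of global complete intersections are complete intersections over the field;
independence of the presentation.
-/

set_option autoImplicit false
set_option linter.style.haveILetI false
set_option linter.unusedSectionVars false
set_option linter.unusedVariables false

universe u

namespace Groth.Agent.H66.GlobalCI

open TensorProduct Groth.Agent.H9.FibDim Groth.Agent.H66.FibreReg Groth.Agent.H66.RelGCI
open RingTheory.Sequence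

theorem map_ne_top {A : Type u} [CommRing A] (I P : Ideal A) [P.IsPrime] (hIP : I ≤ P) :
    I.map (algebraMap A (Localization.AtPrime P)) ≠ ⊤ := by
  intro h
  have h1 := Ideal.map_mono (f := algebraMap A (Localization.AtPrime P)) hIP
  rw [h, Localization.AtPrime.map_eq_maximalIdeal] at h1
  exact (IsLocalRing.maximalIdeal.isMaximal _).ne_top (top_le_iff.mp h1)

theorem ofList_ne_top {B : Type u} [CommRing B] (rs : List B) (hrs : IsRegular B rs) :
    Ideal.ofList rs ≠ ⊤ := by
  have := hrs.2
  simp only [smul_eq_mul, Ideal.mul_top] at this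
  exact fun h => this h.symm

section LocQuot

variable {k A T : Type u} [CommRing k] [CommRing A] [CommRing T] [Algebra k A] [Algebra k T]

/-- The local ring of a quotient at a prime, as a quotient of the local ring upstairs
(`k`-algebra version, for an arbitrary surjection). -/
theorem nonempty_atPrime_equiv_quot (φ : A →ₐ[k] T) (hφ : Function.Surjective φ) (Q : Ideal T)
    [Q.IsPrime] :
    Nonempty (Localization.AtPrime Q ≃ₐ[k]
      (Localization.AtPrime (Q.comap φ.toRingHom) ⧸
        (RingHom.ker φ.toRingHom).map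
          (algebraMap A (Localization.AtPrime (Q.comap φ.toRingHom))))) := by
  set P := Q.comap φ.toRingHom with hPdef
  set K := RingHom.ker φ.toRingHom with hK
  let e : (A ⧸ K) ≃ₐ[k] T := Ideal.quotientKerAlgEquivOfSurjective hφ
  have hsub : Submonoid.map e (Algebra.algebraMapSubmonoid (A ⧸ K) P.primeCompl) =
      Q.primeCompl := by
    ext t
    constructor
    · rintro ⟨x, ⟨a, ha, rfl⟩, rfl⟩
      exact ha
    · intro ht
      obtain ⟨a, rfl⟩ := hφ t
      exact ⟨algebraMap A (A ⧸ K) a, ⟨a, ht, rfl⟩, rfl⟩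
  haveI : IsScalarTower k (A ⧸ K)
      (Localization.AtPrime P ⧸ K.map (algebraMap A (Localization.AtPrime P))) := by
    refine IsScalarTower.of_algebraMap_eq' ?_
    rw [IsScalarTower.algebraMap_eq k A (A ⧸ K), ← RingHom.comp_assoc,
      ← IsScalarTower.algebraMap_eq A (A ⧸ K), ← IsScalarTower.algebraMap_eq k A]
  exact ⟨(IsLocalization.algEquivOfAlgEquiv
    (M := Algebra.algebraMapSubmonoid (A ⧸ K) P.primeCompl)
    (Localization.AtPrime P ⧸ K.map (algebraMap A (Localization.AtPrime P)))
    (T := Q.primeCompl) (Localization.AtPrime Q) e hsub).symm⟩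

end LocQuot

/-- Being cut out by a regular sequence in a regular local ring only depends on the quotient. -/
theorem regular_iff_of_ringEquiv {R B : Type u} [CommRing R] [CommRing B] [IsRegularLocalRing R]
    [IsRegularLocalRing B] (I : Ideal R) (J : Ideal B) (hI : I ≠ ⊤) (hJ : J ≠ ⊤)
    (e : (R ⧸ I) ≃+* (B ⧸ J)) :
    (∃ rs : List R, IsRegular R rs ∧ Ideal.ofList rs = I) ↔
      (∃ rs : List B, IsRegular B rs ∧ Ideal.ofList rs = J) := by
  haveI : Nontrivial (R ⧸ I) := Ideal.Quotient.nontrivial_iff.mpr hI
  haveI : Nontrivial (B ⧸ J) := Ideal.Quotient.nontrivial_iff.mpr hJ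
  haveI : IsLocalRing (R ⧸ I) := inferInstance
  haveI : IsLocalRing (B ⧸ J) := inferInstance
  obtain ⟨e1⟩ := Groth.Agent.H15.FormEq.nonempty_cplEquiv e
  exact Groth.Agent.H79.CIPres.regular_iff_of_cplEquiv I J hI hJ e1

theorem isCIOver_of_algEquiv {k A A' : Type u} [Field k] [CommRing A] [CommRing A']
    [Algebra k A] [Algebra k A'] [IsLocalRing A] [IsLocalRing A'] (e : A ≃ₐ[k] A')
    (h : Synt.IsCIOver k A) : Synt.IsCIOver k A' := by
  obtain ⟨R, i1, i2, i3, hess, rs, hm, hr, ⟨e0⟩⟩ := h
  exact ⟨R, i1, i2, i3, hess, rs, hm, hr, ⟨e.symm.trans e0⟩⟩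

theorem isLCIOver_of_isGlobalCI {k A : Type u} [Field k] [CommRing A] [Algebra k A]
    [Algebra.FiniteType k A] (h : Synt.IsGlobalCI k A) : Synt.IsLCIOver k A := by
  refine ⟨inferInstance, fun P => ⟨1, ?_, ?_⟩⟩
  · exact fun h1 => P.isPrime.ne_top ((Ideal.eq_top_iff_one _).mpr h1)
  · let a := (IsLocalization.atOne A (Localization.Away (1 : A))).restrictScalars k
    exact Groth.Agent.S9146.gci_of_algEquiv a h

/-- The local ring at a prime not containing `g` is a local ring of `S_g`. -/
theorem exists_atPrime_away_equiv {k S : Type u} [CommRing k] [CommRing S] [Algebra k S]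
    (p : Ideal S) [p.IsPrime] (g : S) (hg : g ∉ p) :
    ∃ (Q : Ideal (Localization.Away g)) (_ : Q.IsPrime),
      Q.comap (algebraMap S (Localization.Away g)) = p ∧
      Nonempty (Localization.AtPrime p ≃ₐ[k] Localization.AtPrime Q) := by
  have hdisj : Disjoint (Submonoid.powers g : Set S) (p : Set S) :=
    (Ideal.disjoint_powers_iff_notMem_of_isPrime g).mpr hg
  haveI hQ : (Ideal.map (algebraMap S (Localization.Away g)) p).IsPrime :=
    IsLocalization.isPrime_of_isPrime_disjoint (Submonoid.powers g) _ p inferInstance hdisj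
  have hc : (Ideal.map (algebraMap S (Localization.Away g)) p).comap
      (algebraMap S (Localization.Away g)) = p :=
    IsLocalization.under_map_of_isPrime_disjoint (Submonoid.powers g) _ inferInstance hdisj
  refine ⟨_, hQ, hc, ?_⟩
  have key : ∀ (p' : Ideal S) [p'.IsPrime], p' = p →
      Nonempty (Localization.AtPrime p ≃ₐ[S] Localization.AtPrime p') := by
    rintro p' _ rfl; exact ⟨AlgEquiv.refl⟩
  obtain ⟨e1⟩ := key _ hc
  let e2 := IsLocalization.localizationLocalizationAtPrimeIsoLocalization (Submonoid.powers g)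
    (Ideal.map (algebraMap S (Localization.Away g)) p)
  exact ⟨(e1.trans e2).restrictScalars k⟩

/-- Local rings of a global complete intersection are complete intersections over `k`. -/
theorem isCIOver_atPrime_of_isGlobalCI {k T : Type u} [Field k] [CommRing T] [Algebra k T]
    (h : Synt.IsGlobalCI k T) (Q : Ideal T) [hQp : Q.IsPrime] :
    Synt.IsCIOver k (Localization.AtPrime Q) := by
  rcases h with h | ⟨m, c, hcm, φ, r, hφ, hker, hdim⟩
  · exfalso; exact hQp.ne_top (Subsingleton.elim _ _)
  haveI : Algebra.FiniteType k T := Algebra.FiniteType.of_surjective φ hφ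
  have hQ := localDim_pres φ.toRingHom hφ r hker hdim ⟨Q, inferInstance⟩
  obtain ⟨rs, hrs, hrsI⟩ := exists_regular_pres φ.toRingHom hφ r hker hcm Q hQ
  obtain ⟨e⟩ := nonempty_atPrime_equiv_quot φ hφ Q
  have hne := ofList_ne_top rs hrs
  refine ⟨Localization.AtPrime (Q.comap φ.toRingHom), inferInstance, inferInstance, inferInstance,
    inferInstance, rs, ?_, hrs, ⟨e.trans (Ideal.quotientEquivAlgOfEq k hrsI.symm)⟩⟩
  exact fun x hx => IsLocalRing.le_maximalIdeal hne (Ideal.subset_span hx)

/-- A complete intersection over `k` is Cohen–Macaulay. -/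
theorem isCM_of_isCIOver {k A : Type u} [Field k] [CommRing A] [Algebra k A] [IsLocalRing A]
    (h : Synt.IsCIOver k A) : LocCoh.IsCohenMacaulayLocalRing A := by
  obtain ⟨R, i1, i2, i3, hess, rs, hm, hr, ⟨e0⟩⟩ := h
  have hne := ofList_ne_top rs hr
  haveI : Nontrivial (R ⧸ Ideal.ofList rs) := Ideal.Quotient.nontrivial_iff.mpr hne
  haveI : IsLocalRing (R ⧸ Ideal.ofList rs) := inferInstance
  exact Groth.Agent.H29.FlatCM.isCM_ringEquiv e0.symm.toRingEquiv (isCM_quot_regular R rs hr)

/-- If `S_g` is a global complete intersection and `g ∉ p`, then `S_p` is a complete intersection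
over `k`. -/
theorem isCIOver_atPrime_of_isGlobalCI_away {k S : Type u} [Field k] [CommRing S] [Algebra k S]
    (p : Ideal S) [p.IsPrime] (g : S) (hg : g ∉ p)
    (h : Synt.IsGlobalCI k (Localization.Away g)) :
    Synt.IsCIOver k (Localization.AtPrime p) := by
  obtain ⟨Q, hQ, -, ⟨e⟩⟩ := exists_atPrime_away_equiv (k := k) p g hg
  haveI := hQ
  exact isCIOver_of_algEquiv e.symm (isCIOver_atPrime_of_isGlobalCI h Q)

section Indep

variable {k S : Type u} [Field k] [CommRing S] [Algebra k S] {n : ℕ}
  (φ : MvPolynomial (Fin n) k →ₐ[k] S) (hφ : Function.Surjective φ) (q : Ideal S) [q.IsPrime]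

include hφ in
/-- If `S_q` is a complete intersection over `k` then for any presentation the kernel is locally
generated by a regular sequence. -/
theorem exists_regular_of_isCIOver (h : Synt.IsCIOver k (Localization.AtPrime q)) :
    ∃ rs : List (Localization.AtPrime (q.comap φ.toRingHom)),
      IsRegular (Localization.AtPrime (q.comap φ.toRingHom)) rs ∧
      Ideal.ofList rs = (RingHom.ker φ.toRingHom).map
        (algebraMap _ (Localization.AtPrime (q.comap φ.toRingHom))) := by
  obtain ⟨R, i1, i2, i3, hess, rs, hm, hr, ⟨e0⟩⟩ := h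
  obtain ⟨e⟩ := nonempty_atPrime_equiv_quot φ hφ q
  have hI := ofList_ne_top rs hr
  have hIQ : RingHom.ker φ.toRingHom ≤ q.comap φ.toRingHom := fun x hx => by
    rw [Ideal.mem_comap, RingHom.mem_ker.mp hx]; exact zero_mem _
  have hJ := map_ne_top _ _ hIQ
  exact (regular_iff_of_ringEquiv (Ideal.ofList rs) _ hI hJ
    (e0.symm.trans e).toRingEquiv).mp ⟨rs, hr, rfl⟩

include hφ in
theorem exists_regular_of_isGlobalCI_away (g : S) (hg : g ∉ q)
    (h : Synt.IsGlobalCI k (Localization.Away g)) :
    ∃ rs : List (Localization.AtPrime (q.comap φ.toRingHom)),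
      IsRegular (Localization.AtPrime (q.comap φ.toRingHom)) rs ∧
      Ideal.ofList rs = (RingHom.ker φ.toRingHom).map
        (algebraMap _ (Localization.AtPrime (q.comap φ.toRingHom))) := by
  exact exists_regular_of_isCIOver φ hφ q (isCIOver_atPrime_of_isGlobalCI_away q g hg h)

end Indep

end Groth.Agent.H66.GlobalCI
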