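import Mathlib
import Groth.Agent.H9.LocalDimField

/-!
# Local dimension is invariant under base field extension

For `S` of finite type over a field `k`, `K/k` a field extension and a prime `qK` of `K ⊗ S` over
`q`: `localDim (Spec (K ⊗ S)) qK = localDim (Spec S) q`.
-/

set_option autoImplicit false
set_option linter.style.haveILetI false
set_option linter.unusedSectionVars false

open TensorProduct

namespace Groth.Agent.H66.LocalDimBC

universe u

theorem dim_le_of_ringHom_isIntegral {R S : Type*} [CommRing R] [CommRing S] (f : R →+* S)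
    (hf : f.IsIntegral) : ringKrullDim S ≤ ringKrullDim R := by
  algebraize [f]
  exact Groth.Agent.H54.ringKrullDim_le_of_isIntegral

section

variable {k S K : Type u} [Field k] [CommRing S] [Algebra k S] [Algebra.FiniteType k S] [Field K]
  [Algebra k K]

theorem comm_algebraMap (x : S) :
    (Algebra.TensorProduct.comm k S K) (algebraMap S (S ⊗[k] K) x) = (1 : K) ⊗ₜ[k] x := by
  rw [Algebra.TensorProduct.algebraMap_apply, Algebra.TensorProduct.comm_tmul]
  rfl

theorem includeRight_eq_comp :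
    (Algebra.TensorProduct.includeRight.toRingHom : S →+* K ⊗[k] S) =
      ((Algebra.TensorProduct.comm k S K : S ⊗[k] K ≃ₐ[k] K ⊗[k] S) :
        S ⊗[k] K →+* K ⊗[k] S).comp (algebraMap S (S ⊗[k] K)) :=
  RingHom.ext fun x => (comm_algebraMap x).symm

theorem isOpenMap_comap_includeRight :
    IsOpenMap (PrimeSpectrum.comap
      (Algebra.TensorProduct.includeRight.toRingHom : S →+* K ⊗[k] S)) := by
  have h1 : IsOpenMap (PrimeSpectrum.comap (algebraMap S (S ⊗[k] K))) :=
    PrimeSpectrum.isOpenMap_comap_algebraMap_tensorProduct_of_field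
  have h2 : IsOpenMap (PrimeSpectrum.comap
      ((Algebra.TensorProduct.comm k S K : S ⊗[k] K ≃ₐ[k] K ⊗[k] S) :
        S ⊗[k] K →+* K ⊗[k] S)) :=
    (PrimeSpectrum.isHomeomorph_comap_of_bijective
      (Algebra.TensorProduct.comm k S K).bijective).isOpenMap
  rw [includeRight_eq_comp, PrimeSpectrum.comap_comp]
  exact h1.comp h2

/-- Going down along `S → K ⊗ S`: heights do not drop. -/
theorem height_le_of_comap (P : Ideal (K ⊗[k] S)) [P.IsPrime] (p : Ideal S) [p.IsPrime]
    (hPp : P.comap (Algebra.TensorProduct.includeRight.toRingHom : S →+* K ⊗[k] S) = p) :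
    p.height ≤ P.height := by
  haveI : IsNoetherianRing S := Algebra.FiniteType.isNoetherianRing k S
  haveI : IsNoetherianRing (K ⊗[k] S) := Algebra.FiniteType.isNoetherianRing K (K ⊗[k] S)
  haveI : IsNoetherianRing (S ⊗[k] K) :=
    isNoetherianRing_of_ringEquiv (K ⊗[k] S) (Algebra.TensorProduct.comm k S K).symm.toRingEquiv
  obtain ⟨P', hP'def⟩ : ∃ P' : Ideal (S ⊗[k] K),
      P' = P.comap (Algebra.TensorProduct.comm k S K).toRingEquiv := ⟨_, rfl⟩
  haveI : P'.IsPrime := by rw [hP'def]; exact Ideal.comap_isPrime _ _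
  have hP' : P'.height = P.height := by
    rw [hP'def]; exact RingEquiv.height_comap _ P
  haveI : P'.LiesOver p := ⟨by
    rw [Ideal.under_def, ← hPp, hP'def]
    ext x
    simp only [Ideal.mem_comap]
    change _ ↔ (Algebra.TensorProduct.comm k S K) (algebraMap S (S ⊗[k] K) x) ∈ P
    rw [comm_algebraMap]
    rfl⟩
  have hform := Ideal.height_eq_height_add_of_liesOver_of_hasGoingDown p P'
  rw [← hP', hform]
  exact le_self_add

/-- The easy inequality: `dim (K ⊗ S)/Q0 ≤ dim S/(Q0 ∩ S)`. -/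
theorem dim_quot_le (Q0 : Ideal (K ⊗[k] S)) [Q0.IsPrime] (q0 : Ideal S)
    (hq0 : Q0.comap (Algebra.TensorProduct.includeRight.toRingHom : S →+* K ⊗[k] S) = q0) :
    ringKrullDim ((K ⊗[k] S) ⧸ Q0) ≤ ringKrullDim (S ⧸ q0) := by
  classical
  haveI : q0.IsPrime := by rw [← hq0]; exact Ideal.comap_isPrime _ _
  obtain ⟨s, g, hinj, hfin⟩ := exists_finite_inj_algHom_of_fg k (S ⧸ q0)
  have hint : g.toRingHom.IsIntegral := RingHom.Finite.to_isIntegral hfin
  have hdimA : ringKrullDim (S ⧸ q0) = (s : WithBot ℕ∞) := by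
    rw [Groth.Agent.H54.ringKrullDim_eq_of_ringHom_isIntegral_of_injective g.toRingHom hint hinj,
      Groth.Agent.H54.ringKrullDim_mvPolynomial_field]
  let θ₀ : S →ₐ[k] (K ⊗[k] S) ⧸ Q0 :=
    (Ideal.Quotient.mkₐ k Q0).comp Algebra.TensorProduct.includeRight
  have hθ₀ : ∀ a ∈ q0, θ₀ a = 0 := by
    intro a ha
    rw [← hq0] at ha
    exact Ideal.Quotient.eq_zero_iff_mem.2 ha
  let θ : S ⧸ q0 →ₐ[k] (K ⊗[k] S) ⧸ Q0 := Ideal.Quotient.liftₐ q0 θ₀ hθ₀
  have hθmk : ∀ a : S, θ (Ideal.Quotient.mk q0 a) = Ideal.Quotient.mk Q0 ((1 : K) ⊗ₜ[k] a) :=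
    fun a => rfl
  let ψ : MvPolynomial (Fin s) K →ₐ[K] (K ⊗[k] S) ⧸ Q0 :=
    MvPolynomial.aeval (fun i => θ (g (MvPolynomial.X i)))
  have hψC : ∀ c : K, ψ (MvPolynomial.C c) = Ideal.Quotient.mk Q0 (c ⊗ₜ[k] (1 : S)) := by
    intro c
    rw [show ψ (MvPolynomial.C c) = algebraMap K _ c from ψ.commutes c]
    rfl
  have hcompat : ∀ p : MvPolynomial (Fin s) k,
      ψ (MvPolynomial.map (algebraMap k K) p) = θ (g p) := by
    intro p
    induction p using MvPolynomial.induction_on with
    | C a =>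
      have h2 : θ (g (MvPolynomial.C a)) = algebraMap k _ a := by
        rw [show (MvPolynomial.C a : MvPolynomial (Fin s) k) = algebraMap k _ a from rfl,
          AlgHom.commutes, AlgHom.commutes]
      rw [MvPolynomial.map_C, hψC, h2]
      rw [← Ideal.Quotient.mk_algebraMap, Algebra.TensorProduct.algebraMap_apply]
    | add p q hp hq => rw [map_add, map_add, map_add, map_add, hp, hq]
    | mul_X p i hp =>
      rw [map_mul, map_mul, map_mul, map_mul, hp, MvPolynomial.map_X]
      congr 1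
      exact MvPolynomial.aeval_X _ i
  have hψint : ψ.toRingHom.IsIntegral := by
    intro t
    obtain ⟨t, rfl⟩ := Ideal.Quotient.mk_surjective t
    induction t using TensorProduct.induction_on with
    | zero => rw [map_zero]; exact RingHom.isIntegralElem_zero _
    | tmul c a =>
      have h1 : Ideal.Quotient.mk Q0 (c ⊗ₜ[k] a) =
          ψ (MvPolynomial.C c) * θ (Ideal.Quotient.mk q0 a) := by
        rw [hψC, hθmk, ← map_mul, Algebra.TensorProduct.tmul_mul_tmul, mul_one, one_mul]
      rw [h1]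
      refine RingHom.IsIntegralElem.mul _ (RingHom.isIntegralElem_map _) ?_
      obtain ⟨P, hPm, hP⟩ := hint (Ideal.Quotient.mk q0 a)
      refine ⟨P.map (MvPolynomial.map (algebraMap k K)), hPm.map _, ?_⟩
      rw [Polynomial.eval₂_map]
      have hcomp : (ψ.toRingHom.comp (MvPolynomial.map (algebraMap k K))) =
          θ.toRingHom.comp g.toRingHom := RingHom.ext hcompat
      rw [hcomp]
      have hh := Polynomial.hom_eval₂ P g.toRingHom θ.toRingHom (Ideal.Quotient.mk q0 a)
      rw [hP, map_zero] at hh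
      exact hh.symm
    | add x y hx hy => rw [map_add]; exact RingHom.IsIntegralElem.add _ hx hy
  have hle := dim_le_of_ringHom_isIntegral ψ.toRingHom hψint
  rw [Groth.Agent.H54.ringKrullDim_mvPolynomial_field] at hle
  rw [hdimA]
  exact hle

/-- Dimension of basic opens goes up along `S → K ⊗ S` when the image covers. -/
theorem dim_away_le (f : S) (h : K ⊗[k] S)
    (hsub : ∀ p : PrimeSpectrum S, f ∉ p.asIdeal → ∃ P : PrimeSpectrum (K ⊗[k] S),
      h ∉ P.asIdeal ∧ P.asIdeal.comap
        (Algebra.TensorProduct.includeRight.toRingHom : S →+* K ⊗[k] S) = p.asIdeal) :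
    ringKrullDim (Localization.Away f) ≤ ringKrullDim (Localization.Away h) := by
  rw [ringKrullDim_le_iff_height_le]
  intro P' hP'
  obtain ⟨p, hp⟩ : ∃ p : Ideal S, p = P'.comap (algebraMap S (Localization.Away f)) := ⟨_, rfl⟩
  haveI : p.IsPrime := by rw [hp]; exact Ideal.comap_isPrime _ _
  have hht : p.height = P'.height := by
    rw [hp]; exact IsLocalization.height_under (Submonoid.powers f) P'
  have hfp : f ∉ p := by
    intro hf
    rw [hp] at hf
    exact hP'.ne_top (Ideal.eq_top_of_isUnit_mem _ hf (IsLocalization.Away.algebraMap_isUnit f))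
  obtain ⟨P, hhP, hPp⟩ := hsub ⟨p, inferInstance⟩ hfp
  have h1 : p.height ≤ P.asIdeal.height := height_le_of_comap P.asIdeal p hPp
  have hdisj : Disjoint (Submonoid.powers h : Set (K ⊗[k] S)) (P.asIdeal : Set (K ⊗[k] S)) := by
    rw [Set.disjoint_left]
    rintro x ⟨n, rfl⟩ hx
    exact hhP (P.2.mem_of_pow_mem n hx)
  have h2 : (P.asIdeal.map (algebraMap _ (Localization.Away h))).height = P.asIdeal.height :=
    IsLocalization.height_map_of_disjoint (Submonoid.powers h) P.asIdeal hdisj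
  have h3 : (P.asIdeal.map (algebraMap _ (Localization.Away h))) ≠ ⊤ :=
    (IsLocalization.isPrime_of_isPrime_disjoint (Submonoid.powers h) _ _ P.2 hdisj).ne_top
  calc (P'.height : WithBot ℕ∞) = p.height := by rw [hht]
    _ ≤ P.asIdeal.height := by exact_mod_cast h1
    _ = (P.asIdeal.map (algebraMap _ (Localization.Away h))).height := by rw [h2]
    _ ≤ ringKrullDim (Localization.Away h) := Ideal.height_le_ringKrullDim_of_ne_top h3

theorem localDim_baseChange (q : Ideal S) [q.IsPrime] (qK : Ideal (K ⊗[k] S)) [qK.IsPrime]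
    (hq : qK.comap (Algebra.TensorProduct.includeRight.toRingHom : S →+* K ⊗[k] S) = q) :
    FlatMor.localDim (PrimeSpectrum (K ⊗[k] S)) ⟨qK, inferInstance⟩ =
      FlatMor.localDim (PrimeSpectrum S) ⟨q, inferInstance⟩ := by
  apply le_antisymm
  · rw [Groth.Agent.H9.LocalDimField.localDim_eq_iSup K (K ⊗[k] S) ⟨qK, inferInstance⟩,
      Groth.Agent.H9.LocalDimField.localDim_eq_iSup k S ⟨q, inferInstance⟩]
    apply iSup_le
    rintro ⟨Q0, hQ0min, hQ0le⟩
    obtain ⟨q0, hq0⟩ : ∃ q0 : Ideal S, Q0.asIdeal.comap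
        (Algebra.TensorProduct.includeRight.toRingHom : S →+* K ⊗[k] S) = q0 := ⟨_, rfl⟩
    haveI : q0.IsPrime := by rw [← hq0]; exact Ideal.comap_isPrime _ _
    have hq0q : q0 ≤ q := by
      rw [← hq0, ← hq]
      exact Ideal.comap_mono hQ0le
    obtain ⟨q00, hq00min, hq00le⟩ := Ideal.exists_minimalPrimes_le (I := ⊥) (J := q0) bot_le
    haveI : q00.IsPrime := hq00min.1.1
    have h1 : ringKrullDim ((K ⊗[k] S) ⧸ Q0.asIdeal) ≤ ringKrullDim (S ⧸ q0) :=
      dim_quot_le Q0.asIdeal q0 hq0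
    have h2 : ringKrullDim (S ⧸ q0) ≤ ringKrullDim (S ⧸ q00) :=
      ringKrullDim_le_of_surjective (Ideal.Quotient.factor hq00le)
        (Ideal.Quotient.factor_surjective hq00le)
    refine (h1.trans h2).trans ?_
    exact le_iSup (fun q0' : {q0' : PrimeSpectrum S // q0'.asIdeal ∈ minimalPrimes S ∧
      q0' ≤ ⟨q, inferInstance⟩} => ringKrullDim (S ⧸ q0'.1.asIdeal))
      ⟨⟨q00, inferInstance⟩, hq00min, hq00le.trans hq0q⟩
  · obtain ⟨h, hhq, hdim⟩ :=
      Groth.Agent.H9.FibDim.exists_basicOpen_dim_eq (K ⊗[k] S) ⟨qK, inferInstance⟩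
    rw [← hdim, Groth.Agent.H9.FibDim.dim_basicOpen_eq]
    have hopen := isOpenMap_comap_includeRight (k := k) (S := S) (K := K) _
      (PrimeSpectrum.basicOpen h).2
    have hqmem : (⟨q, inferInstance⟩ : PrimeSpectrum S) ∈
        PrimeSpectrum.comap (Algebra.TensorProduct.includeRight.toRingHom : S →+* K ⊗[k] S) ''
          (PrimeSpectrum.basicOpen h : Set (PrimeSpectrum (K ⊗[k] S))) :=
      ⟨⟨qK, inferInstance⟩, hhq, PrimeSpectrum.ext hq⟩
    obtain ⟨_, ⟨f, rfl⟩, hqf, hfsub⟩ :=
      PrimeSpectrum.isTopologicalBasis_basic_opens.exists_subset_of_mem_open hqmem hopen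
    have h3 : ringKrullDim (Localization.Away f) ≤ ringKrullDim (Localization.Away h) := by
      apply dim_away_le f h
      intro p hfp
      obtain ⟨P, hP, hPp⟩ := hfsub (show p ∈ (PrimeSpectrum.basicOpen f : Set _) from hfp)
      exact ⟨P, hP, congrArg PrimeSpectrum.asIdeal hPp⟩
    refine le_trans ?_ h3
    rw [← Groth.Agent.H9.FibDim.dim_basicOpen_eq]
    exact Groth.Agent.H9.FibDim.localDim_le_of_mem _ _ (PrimeSpectrum.basicOpen f) hqf

end

end Groth.Agent.H66.LocalDimBC
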