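import Groth.Agent.H66.RelGCI2
import Groth.Agent.S9176

/-!
# Relative global complete intersections: base change and descent to finite type subalgebras
-/

set_option autoImplicit false
set_option linter.style.haveILetI false
set_option linter.unusedSectionVars false

universe u

namespace Groth.Agent.H66.RelGCI

open TensorProduct Groth.Agent.H9.FibDim Groth.Agent.H66.FibreReg

/-- The natural map of presentations induced by a ring homomorphism of base rings. -/
noncomputable def natMap {R₀ R : Type u} [CommRing R₀] [CommRing R] (φ : R₀ →+* R) (n c : ℕ)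
    (F₀ : Fin c → MvPolynomial (Fin n) R₀) :
    Synt.RelGCIRing R₀ n c F₀ →+* Synt.RelGCIRing R n c (fun i => MvPolynomial.map φ (F₀ i)) :=
  Ideal.quotientMap _ (MvPolynomial.map φ) (by
    rw [Ideal.span_le]
    rintro _ ⟨i, rfl⟩
    exact Ideal.subset_span ⟨i, rfl⟩)

theorem natMap_mk {R₀ R : Type u} [CommRing R₀] [CommRing R] (φ : R₀ →+* R) (n c : ℕ)
    (F₀ : Fin c → MvPolynomial (Fin n) R₀) (a : MvPolynomial (Fin n) R₀) :
    natMap φ n c F₀ (Ideal.Quotient.mk _ a) = Ideal.Quotient.mk _ (MvPolynomial.map φ a) :=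
  rfl

/-- Base change of a presentation. -/
theorem exists_baseChange_equiv (R₀ R : Type u) [CommRing R₀] [CommRing R] [Algebra R₀ R]
    (n c : ℕ) (F₀ : Fin c → MvPolynomial (Fin n) R₀) :
    ∃ e : R ⊗[R₀] Synt.RelGCIRing R₀ n c F₀ ≃ₐ[R]
        Synt.RelGCIRing R n c (fun i => MvPolynomial.map (algebraMap R₀ R) (F₀ i)),
      ∀ s, e ((1 : R) ⊗ₜ[R₀] s) = natMap (algebraMap R₀ R) n c F₀ s := by
  let e1 := Algebra.TensorProduct.tensorQuotientEquiv (R := R₀) R
    (MvPolynomial (Fin n) R₀) R (Ideal.span (Set.range F₀))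
  let e2 := MvPolynomial.algebraTensorAlgEquiv (σ := Fin n) R₀ R
  have hIJ : Ideal.span (Set.range
      (fun i => MvPolynomial.map (algebraMap R₀ R) (F₀ i))) =
      ((Ideal.span (Set.range F₀)).map (Algebra.TensorProduct.includeRight :
        MvPolynomial (Fin n) R₀ →ₐ[R₀] R ⊗[R₀] MvPolynomial (Fin n) R₀)).map
        (e2 : _ →+* _) := by
    rw [Ideal.map_span, Ideal.map_span, ← Set.range_comp, ← Set.range_comp]
    congr 2
    funext i
    show _ = e2 ((1 : R) ⊗ₜ[R₀] F₀ i)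
    rw [MvPolynomial.algebraTensorAlgEquiv_tmul, one_smul]
  refine ⟨e1.trans (Ideal.quotientEquivAlg _ _ e2 hIJ), ?_⟩
  intro s
  obtain ⟨a, rfl⟩ := Ideal.Quotient.mk_surjective s
  show Ideal.quotientEquivAlg _ _ e2 hIJ (e1 ((1 : R) ⊗ₜ[R₀] Ideal.Quotient.mk _ a)) = _
  have h1 : e1 ((1 : R) ⊗ₜ[R₀] Ideal.Quotient.mk _ a) =
      Ideal.Quotient.mk _ ((1 : R) ⊗ₜ[R₀] a) := rfl
  rw [h1, natMap_mk]
  show Ideal.Quotient.mk _ (e2 ((1 : R) ⊗ₜ[R₀] a)) = _
  rw [MvPolynomial.algebraTensorAlgEquiv_tmul, one_smul]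

set_option backward.isDefEq.respectTransparency false in
/-- Fibre dimension is invariant under base change of presentations. -/
theorem tfd_natMap (R₀ R : Type u) [CommRing R₀] [CommRing R] [Algebra R₀ R]
    (n c : ℕ) (F₀ : Fin c → MvPolynomial (Fin n) R₀)
    (q : PrimeSpectrum (Synt.RelGCIRing R n c
      (fun i => MvPolynomial.map (algebraMap R₀ R) (F₀ i)))) :
    tfd (PrimeSpectrum.comap (algebraMap R (Synt.RelGCIRing R n c
      (fun i => MvPolynomial.map (algebraMap R₀ R) (F₀ i))))) q =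
    tfd (PrimeSpectrum.comap (algebraMap R₀ (Synt.RelGCIRing R₀ n c F₀)))
      (PrimeSpectrum.comap (natMap (algebraMap R₀ R) n c F₀) q) := by
  obtain ⟨e, he⟩ := exists_baseChange_equiv R₀ R n c F₀
  have h1 := Groth.Agent.S9176.tfd_algEquiv (R := R)
    (S' := R ⊗[R₀] Synt.RelGCIRing R₀ n c F₀)
    (S := Synt.RelGCIRing R n c (fun i => MvPolynomial.map (algebraMap R₀ R) (F₀ i))) e q
  rw [h1, Groth.Agent.S9176.tfd_baseChange R₀ R (Synt.RelGCIRing R₀ n c F₀) _]
  congr 1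
  rw [← PrimeSpectrum.comap_comp_apply]
  congr 1
  exact RingHom.ext he


/-- The fibre through a point is nontrivial and bounds the local fibre dimension. -/
theorem tfd_le_fiber_dim {R S : Type u} [CommRing R] [CommRing S] [Algebra R S]
    (q : PrimeSpectrum S) (p : Ideal R) [p.IsPrime] (hp : p = q.asIdeal.under R) :
    Nontrivial (p.Fiber S) ∧
      tfd (PrimeSpectrum.comap (algebraMap R S)) q ≤ ringKrullDim (p.Fiber S) := by
  haveI : q.asIdeal.LiesOver p := ⟨hp⟩
  obtain ⟨Q, hQ⟩ := exists_fiber_prime p q.asIdeal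
  refine ⟨PrimeSpectrum.nonempty_iff_nontrivial.mp ⟨Q⟩, ?_⟩
  rw [← localDim_fiber_eq_tfd p q hp.symm Q hQ]
  refine (localDim_le_dim _ Q).trans ?_
  rw [PrimeSpectrum.topologicalKrullDim_eq_ringKrullDim]

theorem fiber_dim_eq_of_tfd_eq {R S : Type u} [CommRing R] [CommRing S] [Algebra R S]
    [Algebra.FiniteType R S] (m : ℕ)
    (h : ∀ q : PrimeSpectrum S, tfd (PrimeSpectrum.comap (algebraMap R S)) q = m)
    (p : Ideal R) [p.IsPrime] [Nontrivial (p.Fiber S)] : ringKrullDim (p.Fiber S) = m := by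
  apply dim_eq_of_localDim_eq p.ResidueField
  intro Q
  rw [localDim_fiber_eq]
  exact h _

theorem exists_below_of_nontrivial {R S : Type u} [CommRing R] [CommRing S] [Algebra R S]
    (p : Ideal R) [p.IsPrime] [Nontrivial (p.Fiber S)] :
    ∃ q : PrimeSpectrum S, q.asIdeal.under R = p := by
  obtain ⟨Q⟩ := (inferInstance : Nonempty (PrimeSpectrum (p.Fiber S)))
  exact ⟨below p Q, below_under p Q⟩

/-- A relative global complete intersection has all local fibre dimensions `≤ n - c`. -/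
theorem tfd_le_of_isRelGCI (R : Type u) [CommRing R] (n c : ℕ)
    (F : Fin c → MvPolynomial (Fin n) R) (h : Synt.IsRelGCI R n c F)
    (q : PrimeSpectrum (Synt.RelGCIRing R n c F)) :
    c ≤ n ∧ tfd (PrimeSpectrum.comap (algebraMap R (Synt.RelGCIRing R n c F))) q ≤
      ((n - c : ℕ) : WithBot ℕ∞) := by
  obtain ⟨p, hp⟩ : ∃ p : Ideal R, p = q.asIdeal.under R := ⟨_, rfl⟩
  haveI : p.IsPrime := by rw [hp]; infer_instance
  obtain ⟨hnt, hle⟩ := tfd_le_fiber_dim q p hp
  obtain ⟨hcn, hdim⟩ := h ⟨p, inferInstance⟩ hnt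
  exact ⟨hcn, hle.trans (le_of_eq hdim)⟩

/-- Conversely, a presentation all of whose local fibre dimensions are `≤ n - c` is a relative
global complete intersection. -/
theorem isRelGCI_of_tfd_le (R : Type u) [CommRing R] (n c : ℕ)
    (F : Fin c → MvPolynomial (Fin n) R)
    (h : ∀ q : PrimeSpectrum (Synt.RelGCIRing R n c F),
      c ≤ n ∧ tfd (PrimeSpectrum.comap (algebraMap R (Synt.RelGCIRing R n c F))) q ≤
      ((n - c : ℕ) : WithBot ℕ∞)) : Synt.IsRelGCI R n c F := by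
  intro p hnt
  haveI := hnt
  obtain ⟨q, -⟩ := exists_below_of_nontrivial (S := Synt.RelGCIRing R n c F) p.asIdeal
  refine ⟨(h q).1, ?_⟩
  exact fiber_dim_eq_of_tfd_eq (S := Synt.RelGCIRing R n c F) (n - c)
    (fun q' => le_antisymm (h q').2 (sub_le_of_le_add (le_tfd_add R n c F q'))) p.asIdeal

theorem map_eq_top_of_forall_comap_not_le {A B : Type u} [CommRing A] [CommRing B] (ψ : A →+* B)
    (J : Ideal A)
    (h : ∀ q : PrimeSpectrum B, ¬ J ≤ (PrimeSpectrum.comap ψ q).asIdeal) : J.map ψ = ⊤ := by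
  by_contra hne
  obtain ⟨M, hM, hle⟩ := Ideal.exists_le_maximal _ hne
  exact h ⟨M, hM.isPrime⟩ (Ideal.map_le_iff_le_comap.mp hle)

/-- Enlarging a finitely generated subalgebra so that an ideal of the presentation over it
generates the unit ideal. -/
theorem exists_subalgebra_map_eq_top (R : Type u) [CommRing R] (n c : ℕ)
    (A₀ : Subalgebra ℤ R) (hA₀ : A₀.FG) (F₀ : Fin c → MvPolynomial (Fin n) A₀)
    (J₀ : Ideal (Synt.RelGCIRing A₀ n c F₀))
    (hJ : J₀.map (natMap (algebraMap A₀ R) n c F₀) = ⊤) :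
    ∃ (A₁ : Subalgebra ℤ R) (h01 : A₀ ≤ A₁), A₁.FG ∧
      J₀.map (natMap (Subalgebra.inclusion h01).toRingHom n c F₀) = ⊤ := by
  classical
  obtain ⟨I₀, hI₀⟩ : ∃ I₀ : Ideal (MvPolynomial (Fin n) A₀), I₀ = Ideal.span (Set.range F₀) :=
    ⟨_, rfl⟩
  obtain ⟨μ₀, hμ₀⟩ : ∃ μ₀ : MvPolynomial (Fin n) A₀ →+* MvPolynomial (Fin n) R,
    μ₀ = MvPolynomial.map (algebraMap A₀ R) := ⟨_, rfl⟩
  obtain ⟨J₀', hJ₀'⟩ : ∃ J₀' : Ideal (MvPolynomial (Fin n) A₀),
    J₀' = J₀.comap (Ideal.Quotient.mk (Ideal.span (Set.range F₀))) := ⟨_, rfl⟩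
  have hFmem : ∀ k, F₀ k ∈ J₀' := by
    intro k
    have hk : F₀ k ∈ Ideal.span (Set.range F₀) := Ideal.subset_span ⟨k, rfl⟩
    rw [hJ₀', Ideal.mem_comap, Ideal.Quotient.eq_zero_iff_mem.mpr hk]
    exact J₀.zero_mem
  have htop : J₀'.map μ₀ = ⊤ := by
    have h1 : J₀.map (natMap (algebraMap A₀ R) n c F₀) =
        (J₀'.map μ₀).map (Ideal.Quotient.mk (Ideal.span (Set.range
          (fun i => MvPolynomial.map (algebraMap A₀ R) (F₀ i))))) := by
      have h2 : J₀ = J₀'.map (Ideal.Quotient.mk (Ideal.span (Set.range F₀))) := by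
        rw [hJ₀', Ideal.map_comap_of_surjective _ Ideal.Quotient.mk_surjective]
      conv_lhs => rw [h2]
      rw [Ideal.map_map, Ideal.map_map, hμ₀]
      rfl
    rw [h1] at hJ
    have h3 := congrArg (Ideal.comap (Ideal.Quotient.mk (Ideal.span (Set.range
          (fun i => MvPolynomial.map (algebraMap A₀ R) (F₀ i)))))) hJ
    rw [Ideal.comap_map_of_surjective _ Ideal.Quotient.mk_surjective, Ideal.comap_top,
      ← RingHom.ker_eq_comap_bot, Ideal.mk_ker] at h3
    have h4 : Ideal.span (Set.range (fun i => MvPolynomial.map (algebraMap A₀ R) (F₀ i))) ≤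
        J₀'.map μ₀ := by
      rw [Ideal.span_le]
      rintro _ ⟨k, rfl⟩
      rw [hμ₀]
      exact Ideal.mem_map_of_mem _ (hFmem k)
    rwa [sup_eq_left.mpr h4] at h3
  have h1mem : (1 : MvPolynomial (Fin n) R) ∈ Submodule.span (MvPolynomial (Fin n) R)
      (μ₀ '' (J₀' : Set (MvPolynomial (Fin n) A₀))) := by
    have : (1 : MvPolynomial (Fin n) R) ∈ J₀'.map μ₀ := by rw [htop]; exact Submodule.mem_top
    exact this
  obtain ⟨m, cf, g, hsum⟩ := Submodule.mem_span_set'.mp h1mem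
  choose jt hjt hjg using fun i => (g i).2
  let A₁ : Subalgebra ℤ R := A₀ ⊔ Algebra.adjoin ℤ
    (↑(Finset.univ.biUnion fun i => (cf i).coeffs) : Set R)
  have h01 : A₀ ≤ A₁ := le_sup_left
  have hA₁ : A₁.FG := hA₀.sup (Subalgebra.fg_adjoin_finset _)
  have hcf : ∀ i, cf i ∈ Set.range (MvPolynomial.map (algebraMap A₁ R)) := by
    intro i
    rw [MvPolynomial.mem_range_map_iff_coeffs_subset]
    intro x hx
    have hx1 : x ∈ A₁ := by
      apply (le_sup_right : Algebra.adjoin ℤ _ ≤ A₁)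
      apply Algebra.subset_adjoin
      simp only [Finset.coe_biUnion, Finset.coe_univ, Set.mem_univ, Set.iUnion_true,
        Set.mem_iUnion, Finset.mem_coe]
      exact ⟨i, hx⟩
    exact ⟨⟨x, hx1⟩, rfl⟩
  choose ch hch using hcf
  refine ⟨A₁, h01, hA₁, ?_⟩
  have hcomp : (algebraMap A₁ R).comp (Subalgebra.inclusion h01).toRingHom = algebraMap A₀ R :=
    RingHom.ext fun x => rfl
  have hident : ∑ i, ch i * MvPolynomial.map (Subalgebra.inclusion h01).toRingHom (jt i) = 1 := by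
    apply MvPolynomial.map_injective (algebraMap A₁ R) Subtype.val_injective
    rw [map_sum, map_one, ← hsum]
    refine Finset.sum_congr rfl fun i _ => ?_
    rw [map_mul, hch, MvPolynomial.map_map, hcomp, smul_eq_mul, ← hjg i, hμ₀]
  rw [Ideal.eq_top_iff_one]
  have h5 : (1 : Synt.RelGCIRing A₁ n c
      (fun i => MvPolynomial.map (Subalgebra.inclusion h01).toRingHom (F₀ i))) =
      ∑ i, Ideal.Quotient.mk _ (ch i) *
        natMap (Subalgebra.inclusion h01).toRingHom n c F₀ (Ideal.Quotient.mk _ (jt i)) := by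
    rw [← map_one (Ideal.Quotient.mk _), ← hident, map_sum]
    refine Finset.sum_congr rfl fun i _ => ?_
    rw [map_mul, natMap_mk]
  rw [h5]
  refine Ideal.sum_mem _ fun i _ => Ideal.mul_mem_left _ _ (Ideal.mem_map_of_mem _ ?_)
  have := hjt i
  rw [hJ₀'] at this
  exact this

end Groth.Agent.H66.RelGCI
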