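import Groth.Agent.H66.RelGCI4
import Groth.Agent.S9148

/-!
# Relative global complete intersections are syntomic
-/

set_option autoImplicit false
set_option linter.style.haveILetI false
set_option linter.unusedSectionVars false

universe u

namespace Groth.Agent.H66.RelGCI

open TensorProduct Groth.Agent.H9.FibDim Groth.Agent.H66.FibreReg

/-- A relative global complete intersection is flat. -/
theorem flat_of_isRelGCI (R : Type u) [CommRing R] (n c : ℕ)
    (F : Fin c → MvPolynomial (Fin n) R) (h : Synt.IsRelGCI R n c F) :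
    Module.Flat R (Synt.RelGCIRing R n c F) := by
  obtain ⟨R₀, F₀, hft, hF₀, h₀⟩ := Groth.Agent.S9148.result R n c F h
  haveI : IsNoetherianRing R₀ := Algebra.FiniteType.isNoetherianRing ℤ R₀
  haveI := flat_of_isRelGCI_noetherian R₀ n c F₀ h₀
  obtain ⟨e, -⟩ := exists_baseChange_equiv R₀ R n c F₀
  have hFeq : (fun i => MvPolynomial.map (algebraMap R₀ R) (F₀ i)) = F := funext hF₀
  subst hFeq
  exact Module.Flat.of_linearEquiv e.symm.toLinearEquiv

/-- `κ(p)`-algebra version of the presentation of the fibre. -/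
theorem nonempty_fiber_algEquiv_pres (R : Type u) [CommRing R] (n c : ℕ)
    (F : Fin c → MvPolynomial (Fin n) R) (p : Ideal R) [p.IsPrime] :
    Nonempty (p.Fiber (Synt.RelGCIRing R n c F) ≃ₐ[p.ResidueField]
      Synt.RelGCIRing p.ResidueField n c
        (fun i => MvPolynomial.map (algebraMap R p.ResidueField) (F i))) := by
  let e1 := Algebra.TensorProduct.tensorQuotientEquiv (R := R) p.ResidueField
    (MvPolynomial (Fin n) R) p.ResidueField (Ideal.span (Set.range F))
  let e := MvPolynomial.algebraTensorAlgEquiv (σ := Fin n) R p.ResidueField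
  have hIJ : Ideal.span (Set.range
      (fun i => MvPolynomial.map (algebraMap R p.ResidueField) (F i))) =
      ((Ideal.span (Set.range F)).map (Algebra.TensorProduct.includeRight :
        MvPolynomial (Fin n) R →ₐ[R] p.ResidueField ⊗[R] MvPolynomial (Fin n) R)).map
        (e : _ →+* _) := by
    rw [Ideal.map_span, Ideal.map_span, ← Set.range_comp, ← Set.range_comp]
    congr 2
    funext i
    show _ = e ((1 : p.ResidueField) ⊗ₜ[R] F i)
    rw [MvPolynomial.algebraTensorAlgEquiv_tmul, one_smul]
  exact ⟨e1.trans (Ideal.quotientEquivAlg _ _ e hIJ)⟩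

/-- A presented algebra of the right dimension is a global complete intersection. -/
theorem isGlobalCI_of_algEquiv (k B : Type u) [Field k] [CommRing B] [Algebra k B] (n c : ℕ)
    (hcn : c ≤ n) (r : Fin c → MvPolynomial (Fin n) k)
    (ψ : (MvPolynomial (Fin n) k ⧸ Ideal.span (Set.range r)) ≃ₐ[k] B)
    (hdim : ringKrullDim B = ((n - c : ℕ) : WithBot ℕ∞)) : Synt.IsGlobalCI k B := by
  refine Or.inr ⟨n, c, hcn, ψ.toAlgHom.comp (Ideal.Quotient.mkₐ k _), r, ?_, ?_, hdim⟩
  · exact ψ.surjective.comp (Ideal.Quotient.mkₐ_surjective k _)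
  · have : (ψ.toAlgHom.comp (Ideal.Quotient.mkₐ k (Ideal.span (Set.range r)))).toRingHom =
        (ψ.toAlgHom.toRingHom).comp (Ideal.Quotient.mk (Ideal.span (Set.range r))) := rfl
    rw [this, RingHom.ker_comp_of_injective _ ψ.injective, Ideal.mk_ker]


/-- A relative global complete intersection is syntomic. -/
theorem isSyntomic_of_isRelGCI (R : Type u) [CommRing R] (n c : ℕ)
    (F : Fin c → MvPolynomial (Fin n) R) (h : Synt.IsRelGCI R n c F) :
    Synt.IsSyntomic R (Synt.RelGCIRing R n c F) := by
  refine ⟨flat_of_isRelGCI R n c F h, ?_, ?_⟩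
  · exact Algebra.FinitePresentation.quotient (Submodule.fg_span (Set.finite_range F))
  · intro p
    refine ⟨inferInstance, fun P => ⟨1, ?_, ?_⟩⟩
    · exact fun h1 => P.isPrime.ne_top ((Ideal.eq_top_iff_one _).mpr h1)
    · haveI : Nontrivial (p.asIdeal.Fiber (Synt.RelGCIRing R n c F)) :=
        PrimeSpectrum.nonempty_iff_nontrivial.mp ⟨P⟩
      obtain ⟨hcn, hdim⟩ := h p inferInstance
      obtain ⟨ψ₀⟩ := nonempty_fiber_algEquiv_pres R n c F p.asIdeal
      let a := (IsLocalization.atOne (p.asIdeal.Fiber (Synt.RelGCIRing R n c F))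
        (Localization.Away (1 : p.asIdeal.Fiber (Synt.RelGCIRing R n c F)))).restrictScalars
          p.asIdeal.ResidueField
      refine isGlobalCI_of_algEquiv p.asIdeal.ResidueField _ n c hcn _ (ψ₀.symm.trans a) ?_
      have hd : ringKrullDim (p.asIdeal.Fiber (Synt.RelGCIRing R n c F)) =
          ringKrullDim (Localization.Away (1 : p.asIdeal.Fiber (Synt.RelGCIRing R n c F))) :=
        ringKrullDim_eq_of_ringEquiv a.toRingEquiv
      rw [← hd, hdim]

end Groth.Agent.H66.RelGCI
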