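import Mathlib

/-!
# Local freeness criteria for localized modules (helper66)
-/

set_option autoImplicit false
set_option linter.style.haveILetI false
set_option linter.unusedSectionVars false
set_option linter.unusedVariables false

universe u

namespace Groth.Agent.H66.LocFree

variable {T : Type u} [CommRing T] {N : Type u} [AddCommGroup N] [Module T N]

/-- Criterion for `N_r` to be finite free over `T_r` with basis the images of `v`. -/
theorem free_localizedModule_away (r : T) {c : ℕ} (v : Fin c → N)
    (hspan : ∀ y : N, ∃ k : ℕ, r ^ k • y ∈ Submodule.span T (Set.range v))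
    (hindep : ∀ a : Fin c → T, ∑ i, a i • v i = 0 → ∃ k : ℕ, ∀ i, r ^ k * a i = 0) :
    Module.Free (Localization.Away r) (LocalizedModule.Away r N) ∧
      Module.Finite (Localization.Away r) (LocalizedModule.Away r N) := by
  classical
  obtain ⟨M, hM⟩ : ∃ M : Submonoid T, M = Submonoid.powers r := ⟨_, rfl⟩
  show Module.Free (Localization (Submonoid.powers r)) (LocalizedModule (Submonoid.powers r) N) ∧
    Module.Finite (Localization (Submonoid.powers r)) (LocalizedModule (Submonoid.powers r) N)
  rw [← hM]
  have hpow : ∀ k : ℕ, r ^ k ∈ M := fun k => hM ▸ ⟨k, rfl⟩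
  let w : Fin c → LocalizedModule M N := fun i => LocalizedModule.mkLinearMap M N (v i)
  have hli : LinearIndependent (Localization M) w := by
    rw [Fintype.linearIndependent_iff]
    intro a ha i
    obtain ⟨b, hb⟩ := IsLocalization.exist_integer_multiples M (Finset.univ : Finset (Fin c)) a
    have hb' : ∀ i, ∃ α : T, algebraMap T (Localization M) α = (b : T) • a i :=
      fun i => hb i (Finset.mem_univ i)
    choose α hα using hb'
    have h1 : LocalizedModule.mkLinearMap M N (∑ i, α i • v i) = 0 := by
      rw [map_sum]
      have h2 : ∀ i, LocalizedModule.mkLinearMap M N (α i • v i) = (b : T) • (a i • w i) := by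
        intro i
        rw [map_smul, ← smul_assoc, ← hα i, algebraMap_smul]
      rw [Finset.sum_congr rfl (fun i _ => h2 i), ← Finset.smul_sum, ha, smul_zero]
    obtain ⟨s, hs⟩ := (IsLocalizedModule.eq_zero_iff M (LocalizedModule.mkLinearMap M N)).mp h1
    have h3 : ∑ i, ((s : T) * α i) • v i = 0 := by
      have : ∑ i, ((s : T) * α i) • v i = (s : T) • ∑ i, α i • v i := by
        rw [Finset.smul_sum]
        exact Finset.sum_congr rfl (fun i _ => mul_smul _ _ _)
      rw [this]
      exact hs
    obtain ⟨k, hk⟩ := hindep _ h3
    have h4 : algebraMap T (Localization M) (α i) = 0 := by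
      rw [IsLocalization.map_eq_zero_iff M]
      refine ⟨⟨r ^ k, hpow k⟩ * s, ?_⟩
      show r ^ k * (s : T) * α i = 0
      rw [mul_assoc]; exact hk i
    rw [hα i, Algebra.smul_def] at h4
    exact (IsUnit.mul_right_eq_zero (IsLocalization.map_units (Localization M) b)).mp h4
  have hsp : ⊤ ≤ Submodule.span (Localization M) (Set.range w) := by
    rintro z -
    induction z using LocalizedModule.induction_on with
    | h y s =>
      obtain ⟨k, hk⟩ := hspan y
      have hrk : r ^ k ∈ M := hpow k
      have h1 : LocalizedModule.mk y s = Localization.mk (1 : T) (⟨r ^ k, hrk⟩ * s) •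
          LocalizedModule.mkLinearMap M N (r ^ k • y) := by
        rw [LocalizedModule.mkLinearMap_apply, LocalizedModule.mk_smul_mk, one_smul, mul_one]
        exact (LocalizedModule.mk_cancel_common_left (⟨r ^ k, hrk⟩ : M) s y).symm
      rw [h1]
      refine Submodule.smul_mem _ _ ?_
      have h2 : LocalizedModule.mkLinearMap M N (r ^ k • y) ∈
          Submodule.map (LocalizedModule.mkLinearMap M N) (Submodule.span T (Set.range v)) :=
        ⟨_, hk, rfl⟩
      rw [Submodule.map_span, ← Set.range_comp] at h2
      exact Submodule.span_le_restrictScalars T (Localization M) _ h2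
  let bas : Module.Basis (Fin c) (Localization M) (LocalizedModule M N) := Module.Basis.mk hli hsp
  exact ⟨Module.Free.of_basis bas, Module.Finite.of_basis bas⟩

/-- A finite module which is finite free on a basic open neighbourhood of every prime is
projective (and finitely presented). -/
theorem projective_of_locally_free
    (h : ∀ q : PrimeSpectrum T, ∃ r : T, r ∉ q.asIdeal ∧
      Module.Free (Localization.Away r) (LocalizedModule.Away r N) ∧
      Module.Finite (Localization.Away r) (LocalizedModule.Away r N)) :
    Module.Projective T N := by
  let s : Set T := {r | Module.Free (Localization.Away r)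
      (LocalizedModule.Away r N) ∧ Module.Finite (Localization.Away r)
      (LocalizedModule.Away r N)}
  have hs : Ideal.span s = ⊤ := by
    by_contra hne
    obtain ⟨m, hm, hle⟩ := Ideal.exists_le_maximal _ hne
    obtain ⟨r, hr, hfree⟩ := h ⟨m, hm.isPrime⟩
    exact hr (hle (Ideal.subset_span hfree))
  have hmem : ∀ g : s, Module.Free (Localization.Away g.1) (LocalizedModule.Away g.1 N) ∧
      Module.Finite (Localization.Away g.1) (LocalizedModule.Away g.1 N) := fun g => g.2
  haveI : Module.FinitePresentation T N :=
    Module.FinitePresentation.of_localizationSpan s hs (fun g => by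
      obtain ⟨h1, h2⟩ := hmem g
      exact Module.finitePresentation_of_projective _ _)
  haveI : Module.Flat T N := Module.flat_of_localized_span T N s hs (fun g => by
    obtain ⟨h1, h2⟩ := hmem g
    exact Module.Flat.trans T (Localization.Away g.1) _)
  exact Module.Flat.projective_of_finitePresentation

end Groth.Agent.H66.LocFree
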