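import Groth.Agent.H66.RelGCI3
import Groth.Agent.S5774
import Groth.Agent.S4744

/-!
# Relative global complete intersections are flat (Noetherian case) and syntomic
-/

set_option autoImplicit false
set_option linter.style.haveILetI false
set_option linter.unusedSectionVars false

universe u

namespace Groth.Agent.H66.RelGCI

open TensorProduct Groth.Agent.H9.FibDim Groth.Agent.H66.FibreReg

/-- The quotient of a localization at a prime by an extended ideal is the localization of the
quotient at the image prime. -/
theorem isLocalization_quot (B : Type u) [CommRing B] (Q : Ideal B) [Q.IsPrime] (I : Ideal B)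
    (hIQ : I ≤ Q) [(Q.map (Ideal.Quotient.mk I)).IsPrime] :
    IsLocalization.AtPrime
      (Localization.AtPrime Q ⧸ I.map (algebraMap B (Localization.AtPrime Q)))
      (Q.map (Ideal.Quotient.mk I)) := by
  have hM : Algebra.algebraMapSubmonoid (B ⧸ I) Q.primeCompl =
      (Q.map (Ideal.Quotient.mk I)).primeCompl := by
    ext x
    obtain ⟨b, rfl⟩ := Ideal.Quotient.mk_surjective x
    constructor
    · rintro ⟨b', hb', hbb'⟩
      show Ideal.Quotient.mk I b ∉ Q.map (Ideal.Quotient.mk I)
      rw [Ideal.mem_quotient_iff_mem hIQ]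
      intro hb
      apply hb'
      have h1 : b' - b ∈ I := by
        rw [← Ideal.Quotient.eq]
        exact hbb'
      have : b' = (b' - b) + b := by ring
      rw [SetLike.mem_coe, this]
      exact Q.add_mem (hIQ h1) hb
    · intro hb
      have hb' : Ideal.Quotient.mk I b ∉ Q.map (Ideal.Quotient.mk I) := hb
      rw [Ideal.mem_quotient_iff_mem hIQ] at hb'
      exact ⟨b, hb', rfl⟩
  unfold IsLocalization.AtPrime
  rw [← hM]
  infer_instance

/-- Flatness transfers along a ring isomorphism compatible with the algebra structures. -/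
theorem flat_of_ringEquiv (R X Y : Type u) [CommRing R] [CommRing X] [CommRing Y] [Algebra R X]
    [Algebra R Y] (e : X ≃+* Y) (he : ∀ r, e (algebraMap R X r) = algebraMap R Y r)
    [Module.Flat R X] : Module.Flat R Y := by
  let l : X ≃ₗ[R] Y :=
    { e with
      map_smul' := fun r x => by
        show e (r • x) = r • e x
        rw [Algebra.smul_def, Algebra.smul_def, map_mul, he] }
  exact Module.Flat.of_linearEquiv l.symm

/-- Fibres of polynomial rings are Cohen–Macaulay. -/
theorem isCM_fiber_mvPolynomial (R : Type u) [CommRing R] (n : ℕ) (p : Ideal R) [p.IsPrime] :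
    LocCoh.IsCohenMacaulayRing (p.Fiber (MvPolynomial (Fin n) R)) :=
  Groth.Agent.S4744.isCMRing_of_ringEquiv
    (MvPolynomial.algebraTensorAlgEquiv (σ := Fin n) R p.ResidueField).symm.toRingEquiv
    (Groth.Agent.S4744.isCMRing_of_isRegularRing (MvPolynomial (Fin n) p.ResidueField)
      inferInstance)

/-- Fibres of polynomial rings are equidimensional of dimension `n`. -/
theorem equidim_fiber_mvPolynomial (R : Type u) [CommRing R] (n : ℕ) (p : Ideal R) [p.IsPrime]
    (P0 : Ideal (p.Fiber (MvPolynomial (Fin n) R)))
    (hP0 : P0 ∈ minimalPrimes (p.Fiber (MvPolynomial (Fin n) R))) :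
    ringKrullDim (p.Fiber (MvPolynomial (Fin n) R) ⧸ P0) = (n : WithBot ℕ∞) := by
  let e := MvPolynomial.algebraTensorAlgEquiv (σ := Fin n) R p.ResidueField
  haveI : IsDomain (p.Fiber (MvPolynomial (Fin n) R)) := e.toMulEquiv.isDomain _
  have hbot : P0 = ⊥ := by
    have := IsDomain.minimalPrimes_eq_singleton_bot (p.Fiber (MvPolynomial (Fin n) R))
    rw [this] at hP0
    exact hP0
  subst hbot
  rw [ringKrullDim_eq_of_ringEquiv (RingEquiv.quotientBot _),
    ringKrullDim_eq_of_ringEquiv e.toRingEquiv, Groth.Agent.H54.ringKrullDim_mvPolynomial_field]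

theorem ofList_ofFn {A : Type u} [CommRing A] {c : ℕ} (F : Fin c → A) :
    Ideal.ofList (List.ofFn F) = Ideal.span (Set.range F) := by
  unfold Ideal.ofList
  congr 1
  ext x
  simp [List.mem_ofFn]

set_option backward.isDefEq.respectTransparency false in
/-- The equations of a relative global complete intersection form a regular sequence in the fibre
local rings of the polynomial ring. -/
theorem isRegular_fibLoc_poly (R : Type u) [CommRing R] (n c : ℕ)
    (F : Fin c → MvPolynomial (Fin n) R) (h : Synt.IsRelGCI R n c F)
    (q' : Ideal (MvPolynomial (Fin n) R)) [q'.IsPrime] (hq' : Ideal.span (Set.range F) ≤ q') :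
    RingTheory.Sequence.IsRegular (EGA4.FibLocRing R (MvPolynomial (Fin n) R) q')
      ((List.ofFn F).map (algebraMap (MvPolynomial (Fin n) R)
        (EGA4.FibLocRing R (MvPolynomial (Fin n) R) q'))) := by
  have hI' := ofList_ofFn F
  have hle : Ideal.ofList (List.ofFn F) ≤ q' := by rw [hI']; exact hq'
  haveI : (q'.map (Ideal.Quotient.mk (Ideal.ofList (List.ofFn F)))).IsPrime :=
    Ideal.map_isPrime_of_surjective Ideal.Quotient.mk_surjective
      (by rw [Ideal.mk_ker]; exact hle)
  let qb : PrimeSpectrum (MvPolynomial (Fin n) R ⧸ Ideal.ofList (List.ofFn F)) :=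
    ⟨q'.map (Ideal.Quotient.mk (Ideal.ofList (List.ofFn F))), inferInstance⟩
  have hq : (⟨q', inferInstance⟩ : PrimeSpectrum (MvPolynomial (Fin n) R)) =
      PrimeSpectrum.comap (Ideal.Quotient.mk (Ideal.ofList (List.ofFn F))) qb := by
    apply PrimeSpectrum.ext
    show q' = Ideal.comap _ (Ideal.map _ q')
    rw [Ideal.comap_map_of_surjective _ Ideal.Quotient.mk_surjective,
      ← RingHom.ker_eq_comap_bot, Ideal.mk_ker, sup_eq_left.mpr hle]
  have key := isRegular_iff R (MvPolynomial (Fin n) R) n
    (fun p => isCM_fiber_mvPolynomial R n p.asIdeal)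
    (fun p P0 hP0 => equidim_fiber_mvPolynomial R n p.asIdeal P0 hP0)
    (List.ofFn F) qb ⟨q', inferInstance⟩ hq
  refine key.mpr ?_
  rw [List.length_ofFn]
  let e : (MvPolynomial (Fin n) R ⧸ Ideal.ofList (List.ofFn F)) ≃ₐ[R]
      Synt.RelGCIRing R n c F := Ideal.quotientEquivAlgOfEq R hI'
  have h1 := Groth.Agent.S9176.tfd_algEquiv (R := R)
    (S' := Synt.RelGCIRing R n c F)
    (S := MvPolynomial (Fin n) R ⧸ Ideal.ofList (List.ofFn F)) e.symm qb
  rw [h1]
  exact tfd_le_of_isRelGCI R n c F h _

set_option maxHeartbeats 400000 in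
/-- Noetherian case: the local rings of a relative global complete intersection are flat over
the base. -/
theorem flat_loc_quot (R : Type u) [CommRing R] [IsNoetherianRing R] (n c : ℕ)
    (F : Fin c → MvPolynomial (Fin n) R) (h : Synt.IsRelGCI R n c F)
    (q' : Ideal (MvPolynomial (Fin n) R)) [q'.IsPrime] (hq' : Ideal.span (Set.range F) ≤ q') :
    Module.Flat R (Localization.AtPrime q' ⧸
      (Ideal.span (Set.range F)).map (algebraMap (MvPolynomial (Fin n) R)
        (Localization.AtPrime q'))) := by
  obtain ⟨p, hp⟩ : ∃ p : Ideal R, p = q'.under R := ⟨_, rfl⟩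
  haveI : p.IsPrime := by rw [hp]; infer_instance
  haveI : q'.LiesOver p := ⟨hp⟩
  letI : Algebra (Localization.AtPrime p) (Localization.AtPrime q') :=
    Localization.AtPrime.algebraOfLiesOver p q'
  haveI : IsLocalHom (algebraMap (Localization.AtPrime p) (Localization.AtPrime q')) := by
    show IsLocalHom (Localization.localRingHom p q' (algebraMap R (MvPolynomial (Fin n) R))
      Ideal.LiesOver.over)
    infer_instance
  haveI : IsNoetherianRing (Localization.AtPrime q') :=
    IsLocalization.isNoetherianRing q'.primeCompl _ inferInstance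
  haveI : IsNoetherianRing (Localization.AtPrime p) :=
    IsLocalization.isNoetherianRing p.primeCompl _ inferInstance
  obtain ⟨fs, hfs⟩ : ∃ fs : List (Localization.AtPrime q'), fs = (List.ofFn F).map
    (algebraMap (MvPolynomial (Fin n) R) (Localization.AtPrime q')) := ⟨_, rfl⟩
  have hreg : RingTheory.Sequence.IsWeaklyRegular (Localization.AtPrime q' ⧸
      ((IsLocalRing.maximalIdeal (Localization.AtPrime p)).map
        (algebraMap (Localization.AtPrime p) (Localization.AtPrime q')) •
        (⊤ : Submodule (Localization.AtPrime q') (Localization.AtPrime q')))) fs := by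
    have h0 := (isRegular_fibLoc_poly R n c F h q' hq').toIsWeaklyRegular
    have hmap : (List.ofFn F).map (algebraMap (MvPolynomial (Fin n) R)
        (EGA4.FibLocRing R (MvPolynomial (Fin n) R) q')) =
        fs.map (algebraMap (Localization.AtPrime q')
          (EGA4.FibLocRing R (MvPolynomial (Fin n) R) q')) := by
      rw [hfs, List.map_map]
      rfl
    rw [hmap, RingTheory.Sequence.isWeaklyRegular_map_algebraMap_iff] at h0
    have hJ : ((q'.comap (algebraMap R (MvPolynomial (Fin n) R))).map
        (algebraMap R (Localization.AtPrime q')) :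
          Submodule (Localization.AtPrime q') (Localization.AtPrime q')) =
        (IsLocalRing.maximalIdeal (Localization.AtPrime p)).map
          (algebraMap (Localization.AtPrime p) (Localization.AtPrime q')) •
          (⊤ : Submodule (Localization.AtPrime q') (Localization.AtPrime q')) := by
      rw [smul_eq_mul, Ideal.mul_top, ← Localization.AtPrime.map_eq_maximalIdeal, Ideal.map_map,
        ← IsScalarTower.algebraMap_eq, hp]
    exact (LinearEquiv.isWeaklyRegular_congr (Submodule.quotEquivOfEq _ _ hJ) fs).mp h0
  obtain ⟨-, hflat⟩ := Groth.Agent.S5774.result (Localization.AtPrime p)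
    (Localization.AtPrime q') (Localization.AtPrime q') fs hreg
  have hfl := hflat fs.length le_rfl
  rw [List.take_length] at hfl
  have hfl2 : Module.Flat R (Localization.AtPrime q' ⧸ (Ideal.ofList fs •
      (⊤ : Submodule (Localization.AtPrime q') (Localization.AtPrime q')))) :=
    Module.Flat.trans R (Localization.AtPrime p) _
  have hI : (Ideal.ofList fs • (⊤ : Submodule (Localization.AtPrime q')
      (Localization.AtPrime q'))) =
      (Ideal.span (Set.range F)).map (algebraMap (MvPolynomial (Fin n) R)
        (Localization.AtPrime q')) := by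
    rw [smul_eq_mul, Ideal.mul_top, ← ofList_ofFn, Ideal.map_ofList, hfs]
  exact Module.Flat.of_linearEquiv ((Submodule.quotEquivOfEq _ _ hI).restrictScalars R).symm

set_option maxHeartbeats 400000 in
/-- Noetherian case: a relative global complete intersection is flat. -/
theorem flat_of_isRelGCI_noetherian (R : Type u) [CommRing R] [IsNoetherianRing R] (n c : ℕ)
    (F : Fin c → MvPolynomial (Fin n) R) (h : Synt.IsRelGCI R n c F) :
    Module.Flat R (Synt.RelGCIRing R n c F) := by
  apply Module.flat_of_isLocalized_maximal (Synt.RelGCIRing R n c F) (Synt.RelGCIRing R n c F)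
    (fun m _ => Localization.AtPrime m)
    (fun m _ => Algebra.linearMap (Synt.RelGCIRing R n c F) (Localization.AtPrime m))
  intro m hm
  obtain ⟨q', hq'def⟩ : ∃ q' : Ideal (MvPolynomial (Fin n) R),
    q' = m.comap (Ideal.Quotient.mk (Ideal.span (Set.range F))) := ⟨_, rfl⟩
  haveI : q'.IsPrime := by rw [hq'def]; exact Ideal.comap_isPrime _ _
  have hq' : Ideal.span (Set.range F) ≤ q' := by
    intro x hx
    rw [hq'def, Ideal.mem_comap, Ideal.Quotient.eq_zero_iff_mem.mpr hx]
    exact m.zero_mem
  have hm' : q'.map (Ideal.Quotient.mk (Ideal.span (Set.range F))) = m := by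
    rw [hq'def, Ideal.map_comap_of_surjective _ Ideal.Quotient.mk_surjective]
  clear hq'def
  subst hm'
  haveI := flat_loc_quot R n c F h q' hq'
  haveI := isLocalization_quot (MvPolynomial (Fin n) R) q' (Ideal.span (Set.range F)) hq'
  let e := IsLocalization.algEquiv
    (q'.map (Ideal.Quotient.mk (Ideal.span (Set.range F)))).primeCompl
    (Localization.AtPrime q' ⧸ (Ideal.span (Set.range F)).map
      (algebraMap (MvPolynomial (Fin n) R) (Localization.AtPrime q')))
    (Localization.AtPrime (q'.map (Ideal.Quotient.mk (Ideal.span (Set.range F)))))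
  refine flat_of_ringEquiv R (Localization.AtPrime q' ⧸ (Ideal.span (Set.range F)).map
      (algebraMap (MvPolynomial (Fin n) R) (Localization.AtPrime q')))
    (Localization.AtPrime (q'.map (Ideal.Quotient.mk (Ideal.span (Set.range F)))))
    e.toRingEquiv (fun r => ?_)
  have h1 : algebraMap R (Localization.AtPrime q' ⧸ (Ideal.span (Set.range F)).map
      (algebraMap (MvPolynomial (Fin n) R) (Localization.AtPrime q'))) r =
      algebraMap (Synt.RelGCIRing R n c F) _ (algebraMap R (Synt.RelGCIRing R n c F) r) := rfl
  rw [h1]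
  show e _ = _
  rw [e.commutes, ← IsScalarTower.algebraMap_apply]

end Groth.Agent.H66.RelGCI
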