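import Groth.Agent.H66.RelCI2
import Groth.Agent.H48.RelGCIReg
import Groth.Agent.H48.RelGCICot

/-!
# Regular presentations of syntomic algebras near a prime, for the conormal module (helper66)
-/

set_option autoImplicit false
set_option linter.style.haveILetI false
set_option linter.unusedSectionVars false
set_option linter.unusedVariables false

universe u

namespace Groth.Agent.H66.SyntCot

open TensorProduct Groth.Agent.H9.FibDim Groth.Agent.H66.FibreReg Groth.Agent.H66.RelGCI
  Groth.Agent.H66.GlobalCI Groth.Agent.H66.RelCI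
open RingTheory.Sequence IsLocalRing Groth.Agent.H48.RegFib

set_option maxHeartbeats 800000 in
/-- (after helper48, `H48.RelGCIReg.isRegular_and_flat`) a sequence of polynomials which is weakly
regular in the fibre local ring at `q'` is weakly regular in `R[x]_{q'}`. -/
theorem isWeaklyRegular_atPrime_of_fibLoc (R : Type u) [CommRing R] (n c : ℕ)
    (F : Fin c → MvPolynomial (Fin n) R)
    (q' : Ideal (MvPolynomial (Fin n) R)) [q'.IsPrime]
    (h00 : IsWeaklyRegular (EGA4.FibLocRing R (MvPolynomial (Fin n) R) q')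
      ((List.ofFn F).map (algebraMap (MvPolynomial (Fin n) R)
        (EGA4.FibLocRing R (MvPolynomial (Fin n) R) q')))) :
    IsWeaklyRegular (Localization.AtPrime q')
        ((List.ofFn F).map (algebraMap (MvPolynomial (Fin n) R) (Localization.AtPrime q'))) := by
  obtain ⟨p, hp⟩ : ∃ p : Ideal R, p = q'.under R := ⟨_, rfl⟩
  haveI : p.IsPrime := by rw [hp]; infer_instance
  haveI : q'.LiesOver p := ⟨hp⟩
  letI : Algebra (Localization.AtPrime p) (Localization.AtPrime q') :=
    Localization.AtPrime.algebraOfLiesOver p q'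
  haveI : IsLocalHom (algebraMap (Localization.AtPrime p) (Localization.AtPrime q')) := by
    show IsLocalHom (Localization.localRingHom p q' (algebraMap R (MvPolynomial (Fin n) R))
      Ideal.LiesOver.over)
    infer_instance
  obtain ⟨S₀, _, _, _, _, W, hfp, hloc⟩ := exists_essFP_atPrime p q'
  obtain ⟨fs, hfs⟩ : ∃ fs : List (Localization.AtPrime q'), fs = (List.ofFn F).map
    (algebraMap (MvPolynomial (Fin n) R) (Localization.AtPrime q')) := ⟨_, rfl⟩
  have hlen : fs.length = c := by rw [hfs, List.length_map, List.length_ofFn]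
  have hreg : IsWeaklyRegular (EGA4.FibLocRing R (MvPolynomial (Fin n) R) q') fs := by
    have h0 := h00
    have hmap : (List.ofFn F).map (algebraMap (MvPolynomial (Fin n) R)
        (EGA4.FibLocRing R (MvPolynomial (Fin n) R) q')) =
        fs.map (algebraMap (Localization.AtPrime q')
          (EGA4.FibLocRing R (MvPolynomial (Fin n) R) q')) := by
      rw [hfs, List.map_map]
      rfl
    rw [hmap, isWeaklyRegular_map_algebraMap_iff] at h0
    exact h0
  have hJ : ((q'.comap (algebraMap R (MvPolynomial (Fin n) R))).map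
      (algebraMap R (Localization.AtPrime q')) :
        Submodule (Localization.AtPrime q') (Localization.AtPrime q')) =
      (IsLocalRing.maximalIdeal (Localization.AtPrime p)).map
        (algebraMap (Localization.AtPrime p) (Localization.AtPrime q')) •
        (⊤ : Submodule (Localization.AtPrime q') (Localization.AtPrime q')) := by
    rw [smul_eq_mul, Ideal.mul_top, ← Localization.AtPrime.map_eq_maximalIdeal, Ideal.map_map,
      ← IsScalarTower.algebraMap_eq, hp]
  haveI : Module.Flat R (Localization.AtPrime q') :=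
    Module.Flat.trans R (MvPolynomial (Fin n) R) (Localization.AtPrime q')
  haveI : Module.Flat (Localization.AtPrime p) (Localization.AtPrime q') :=
    (Module.flat_iff_of_isLocalization (Localization.AtPrime p) p.primeCompl
      (Localization.AtPrime q')).mpr inferInstance
  let π : Localization.AtPrime q' →ₗ[Localization.AtPrime q']
      EGA4.FibLocRing R (MvPolynomial (Fin n) R) q' :=
    Submodule.mkQ ((q'.comap (algebraMap R (MvPolynomial (Fin n) R))).map
      (algebraMap R (Localization.AtPrime q')))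
  have hπ : Function.Surjective π := Submodule.mkQ_surjective _
  have hker : LinearMap.ker π = (IsLocalRing.maximalIdeal (Localization.AtPrime p)).map
        (algebraMap (Localization.AtPrime p) (Localization.AtPrime q')) •
        (⊤ : Submodule (Localization.AtPrime q') (Localization.AtPrime q')) := by
    rw [← hJ]
    exact Submodule.ker_mkQ _
  obtain ⟨h1, h2⟩ := isWeaklyRegular_and_flat_quot_of_fibre S₀ W fs (Localization.AtPrime q')
    (EGA4.FibLocRing R (MvPolynomial (Fin n) R) q') π hπ hker hreg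
  rw [← hfs]
  exact h1

/-- Core: if `F ⊆ I` generates `I` on `D(E)` and is weakly regular at all primes of `V(I) ∩ D(E)`,
then a relation `∑ βᵢ Fᵢ ∈ I²` forces `E^k βᵢ ∈ I`. -/
theorem exists_pow_mul_mem_of_sum_mem_sq {P : Type u} [CommRing P] (I : Ideal P) {c : ℕ}
    (F : Fin c → P) (hFI : ∀ i, F i ∈ I) (E : P)
    (hmul : ∀ x ∈ I, E * x ∈ Ideal.span (Set.range F))
    (hreg : ∀ (𝔭 : Ideal P) [𝔭.IsPrime], I ≤ 𝔭 → E ∉ 𝔭 →
      IsWeaklyRegular (Localization.AtPrime 𝔭)
        ((List.ofFn F).map (algebraMap P (Localization.AtPrime 𝔭))))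
    (β : Fin c → P) (hβ : ∑ i, β i * F i ∈ I ^ 2) (i : Fin c) :
    ∃ k : ℕ, E ^ k * β i ∈ I := by
  obtain ⟨J, hJ⟩ : ∃ J : Ideal P, J = Submodule.colon I ({β i} : Set P) := ⟨_, rfl⟩
  have hmemJ : ∀ x, x ∈ J ↔ x * β i ∈ I := by
    intro x; rw [hJ, Submodule.mem_colon_singleton, smul_eq_mul]
  have hIJ : I ≤ J := fun x hx => (hmemJ x).mpr (I.mul_mem_right _ hx)
  have hrad : E ∈ J.radical := by
    rw [Ideal.radical_eq_sInf, Ideal.mem_sInf]
    rintro 𝔭 ⟨hJ𝔭, h𝔭⟩
    by_contra hE
    haveI := h𝔭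
    have hw := hreg 𝔭 (hIJ.trans hJ𝔭) hE
    rw [List.map_ofFn] at hw
    have hu : IsUnit (algebraMap P (Localization.AtPrime 𝔭) E) :=
      IsLocalization.map_units (M := 𝔭.primeCompl) _ ⟨E, hE⟩
    have hmap : I.map (algebraMap P (Localization.AtPrime 𝔭)) =
        Ideal.span (Set.range (algebraMap P (Localization.AtPrime 𝔭) ∘ F)) := by
      apply le_antisymm
      · rw [Ideal.map_le_iff_le_comap]
        intro x hx
        rw [Ideal.mem_comap]
        have h1 := Ideal.mem_map_of_mem (algebraMap P (Localization.AtPrime 𝔭)) (hmul x hx)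
        rw [Ideal.map_span, ← Set.range_comp, map_mul] at h1
        exact (Ideal.unit_mul_mem_iff_mem _ hu).mp h1
      · rw [Ideal.span_le]
        rintro _ ⟨j, rfl⟩
        exact Ideal.mem_map_of_mem _ (hFI j)
    have hβ' : ∑ j, (algebraMap P (Localization.AtPrime 𝔭) ∘ β) j *
        (algebraMap P (Localization.AtPrime 𝔭) ∘ F) j ∈
        Ideal.span (Set.range (algebraMap P (Localization.AtPrime 𝔭) ∘ F)) ^ 2 := by
      rw [← hmap, ← Ideal.map_pow]
      have := Ideal.mem_map_of_mem (algebraMap P (Localization.AtPrime 𝔭)) hβ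
      rw [map_sum] at this
      simpa only [map_mul, Function.comp_apply] using this
    have h2 := Groth.Agent.H48.Syz.mem_of_sum_mem_sq
      (algebraMap P (Localization.AtPrime 𝔭) ∘ F) hw
      (algebraMap P (Localization.AtPrime 𝔭) ∘ β) hβ' i
    rw [← hmap] at h2
    obtain ⟨m, hm, hmI⟩ := (IsLocalization.algebraMap_mem_map_algebraMap_iff 𝔭.primeCompl
      (Localization.AtPrime 𝔭) I (β i)).mp h2
    exact hm (hJ𝔭 ((hmemJ m).mpr hmI))
  obtain ⟨k, hk⟩ := hrad
  exact ⟨k, (hmemJ _).mp hk⟩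

set_option maxHeartbeats 800000 in
/-- Refinement of `H66.RelCI.exists_relGCI_away`: near a prime where the algebra is flat with
complete intersection fibre local ring, the kernel of a presentation is generated, on a basic open,
by a sequence which is weakly regular at all primes of that basic open. -/
theorem exists_regular_presentation_away {R S : Type u} [CommRing R] [CommRing S] [Algebra R S]
    {n : ℕ} (φ : MvPolynomial (Fin n) R →ₐ[R] S) (hφ : Function.Surjective φ)
    (hfg : (RingHom.ker φ.toRingHom).FG) (q : Ideal S) [q.IsPrime]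
    (hflat : Module.Flat R (Localization.AtPrime q))
    (hci : ∃ (R0 : Type u) (_ : CommRing R0) (_ : IsRegularLocalRing R0) (rs0 : List R0),
      IsRegular R0 rs0 ∧ Nonempty (EGA4.FibLocRing R S q ≃+* R0 ⧸ Ideal.ofList rs0)) :
    ∃ (c : ℕ) (F : Fin c → MvPolynomial (Fin n) R) (H : MvPolynomial (Fin n) R),
      (∀ i, F i ∈ RingHom.ker φ.toRingHom) ∧ φ H ∉ q ∧
      (∀ x ∈ RingHom.ker φ.toRingHom, H * x ∈ Ideal.span (Set.range F)) ∧
      ∀ (𝔭 : Ideal (MvPolynomial (Fin n) R)) [𝔭.IsPrime], Ideal.span (Set.range F) ≤ 𝔭 → H ∉ 𝔭 →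
        IsWeaklyRegular (Localization.AtPrime 𝔭)
          ((List.ofFn F).map (algebraMap (MvPolynomial (Fin n) R) (Localization.AtPrime 𝔭))) := by
  classical
  set P := q.comap φ.toRingHom with hP
  set K := RingHom.ker φ.toRingHom with hK
  have hKP : K ≤ P := fun x hx => by
    rw [hP, Ideal.mem_comap, RingHom.mem_ker.mp hx]; exact zero_mem _
  haveI hreg : IsRegularLocalRing (EGA4.FibLocRing R (MvPolynomial (Fin n) R) P) :=
    isRegularLocalRing_fibLoc_poly R n P
  have hCM : LocCoh.IsCohenMacaulayLocalRing (EGA4.FibLocRing R (MvPolynomial (Fin n) R) P) :=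
    ⟨Groth.Agent.H21.HilbertCI.isCM_of_isRegularLocalRing _⟩
  obtain ⟨R0, i1, i2, rs0, hr0, ⟨e0⟩⟩ := hci
  obtain ⟨e1⟩ := nonempty_fibLoc_equiv_quot φ hφ q
  have hKb_ne : K.map (algebraMap _ (EGA4.FibLocRing R (MvPolynomial (Fin n) R) P)) ≠ ⊤ := by
    intro htop
    have hle : K.map (algebraMap _ (EGA4.FibLocRing R (MvPolynomial (Fin n) R) P)) ≤
        IsLocalRing.maximalIdeal (EGA4.FibLocRing R (MvPolynomial (Fin n) R) P) := by
      rw [Ideal.map_le_iff_le_comap]
      intro x hx
      exact mem_maximalIdeal_fibLoc R _ P x (hKP hx)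
    exact (IsLocalRing.maximalIdeal.isMaximal _).ne_top (top_le_iff.mp (htop ▸ hle))
  obtain ⟨rs, hrs, hrsK⟩ := (regular_iff_of_ringEquiv (Ideal.ofList rs0)
    (K.map (algebraMap _ (EGA4.FibLocRing R (MvPolynomial (Fin n) R) P)))
    (ofList_ne_top rs0 hr0) hKb_ne (e0.symm.trans e1)).mp ⟨rs0, hr0, rfl⟩
  -- (d) lifting
  have hlift : ∀ r ∈ K.map (algebraMap (MvPolynomial (Fin n) R)
      (EGA4.FibLocRing R (MvPolynomial (Fin n) R) P)), ∃ a ∈ K,
      ∃ u : EGA4.FibLocRing R (MvPolynomial (Fin n) R) P, IsUnit u ∧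
        algebraMap _ (EGA4.FibLocRing R (MvPolynomial (Fin n) R) P) a = r * u := by
    intro r hr
    have hmm : K.map (algebraMap (MvPolynomial (Fin n) R)
        (EGA4.FibLocRing R (MvPolynomial (Fin n) R) P)) =
        (K.map (algebraMap _ (Localization.AtPrime P))).map (Ideal.Quotient.mk _) := by
      rw [Ideal.map_map]; rfl
    rw [hmm] at hr
    obtain ⟨y, hy, rfl⟩ := (Ideal.mem_map_iff_of_surjective _ Ideal.Quotient.mk_surjective).mp hr
    obtain ⟨⟨x, s⟩, hx⟩ :=
      (IsLocalization.mem_map_algebraMap_iff P.primeCompl (Localization.AtPrime P)).mp hy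
    refine ⟨x.1, x.2, Ideal.Quotient.mk _ (algebraMap (MvPolynomial (Fin n) R) (Localization.AtPrime P) (s : MvPolynomial (Fin n) R)),
      (IsLocalization.map_units (Localization.AtPrime P) s).map _, ?_⟩
    show Ideal.Quotient.mk _ (algebraMap _ (Localization.AtPrime P) x.1) = _
    rw [← map_mul, hx]
  obtain ⟨as, hasK, hasmap, hasreg⟩ := exists_list_of_regular_fib hCM
    (algebraMap _ (EGA4.FibLocRing R (MvPolynomial (Fin n) R) P)) K hlift rs hrs hrsK
  -- (e) flatness + Nakayama
  obtain ⟨pR, hpR⟩ : ∃ pR : Ideal R, pR = P.comap (algebraMap R (MvPolynomial (Fin n) R)) :=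
    ⟨_, rfl⟩
  obtain ⟨J, hJ⟩ : ∃ J : Ideal (Localization.AtPrime P),
    J = K.map (algebraMap _ (Localization.AtPrime P)) := ⟨_, rfl⟩
  obtain ⟨N, hN⟩ : ∃ N : Ideal (Localization.AtPrime P),
    N = (Ideal.ofList as).map (algebraMap _ (Localization.AtPrime P)) := ⟨_, rfl⟩
  have hasle : Ideal.ofList as ≤ K := Ideal.span_le.mpr hasK
  have hNJ : N ≤ J := by rw [hN, hJ]; exact Ideal.map_mono hasle
  have hJN : J ≤ N := by
    obtain ⟨e9⟩ := nonempty_atPrime_equiv_quot φ hφ q
    rw [← hJ] at e9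
    haveI : Module.Flat R (Localization.AtPrime P ⧸ J) :=
      Module.Flat.of_linearEquiv e9.symm.toLinearEquiv
    have hJfg : J.FG := by rw [hJ]; exact Ideal.FG.map hfg _
    have hpmax : pR.map (algebraMap R (Localization.AtPrime P)) ≤
        IsLocalRing.maximalIdeal (Localization.AtPrime P) := by
      rw [Ideal.map_le_iff_le_comap]
      intro r hr
      rw [Ideal.mem_comap, IsScalarTower.algebraMap_apply R (MvPolynomial (Fin n) R)
        (Localization.AtPrime P)]
      rw [hpR] at hr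
      exact (IsLocalization.AtPrime.to_map_mem_maximal_iff _ P _).mpr hr
    refine le_of_flat_of_le_sup J N hJfg pR hpmax hNJ ?_
    have hmapeq : J.map (Ideal.Quotient.mk (pR.map (algebraMap R (Localization.AtPrime P)))) =
        N.map (Ideal.Quotient.mk (pR.map (algebraMap R (Localization.AtPrime P)))) := by
      rw [hJ, hN, Ideal.map_map, Ideal.map_map, hpR]
      have h1 : (Ideal.ofList as).map (algebraMap (MvPolynomial (Fin n) R)
          (EGA4.FibLocRing R (MvPolynomial (Fin n) R) P)) =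
          K.map (algebraMap (MvPolynomial (Fin n) R)
          (EGA4.FibLocRing R (MvPolynomial (Fin n) R) P)) := by
        rw [Ideal.map_ofList]; exact hasmap
      exact h1.symm
    have h2 := Ideal.comap_map_of_surjective
      (Ideal.Quotient.mk (pR.map (algebraMap R (Localization.AtPrime P))))
      Ideal.Quotient.mk_surjective N
    rw [← hmapeq, ← RingHom.ker_eq_comap_bot, Ideal.mk_ker] at h2
    rw [← h2]
    exact Ideal.le_comap_map
  -- (f) multiplier
  obtain ⟨h, hhP, hh⟩ := exists_notMem_mul_mem_of_fg P K (Ideal.ofList as) hfg (by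
    intro x hx
    rw [← hN]
    exact hJN (hJ ▸ Ideal.mem_map_of_mem _ hx))
  -- (g) the presentation by `as`
  obtain ⟨c, hc⟩ : ∃ c, c = as.length := ⟨_, rfl⟩
  obtain ⟨F, hFas⟩ : ∃ F : Fin c → MvPolynomial (Fin n) R, List.ofFn F = as := by
    subst hc
    exact ⟨as.get, List.ofFn_get as⟩
  have hF : Ideal.span (Set.range F) = Ideal.ofList as := by rw [← ofList_ofFn, hFas]
  have hI' := ofList_ofFn F
  have hle : Ideal.ofList (List.ofFn F) ≤ P := by rw [hFas]; exact hasle.trans hKP
  haveI : (P.map (Ideal.Quotient.mk (Ideal.ofList (List.ofFn F)))).IsPrime :=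
    Ideal.map_isPrime_of_surjective Ideal.Quotient.mk_surjective
      (by rw [Ideal.mk_ker]; exact hle)
  let qb : PrimeSpectrum (MvPolynomial (Fin n) R ⧸ Ideal.ofList (List.ofFn F)) :=
    ⟨P.map (Ideal.Quotient.mk (Ideal.ofList (List.ofFn F))), inferInstance⟩
  have hq : (⟨P, inferInstance⟩ : PrimeSpectrum (MvPolynomial (Fin n) R)) =
      PrimeSpectrum.comap (Ideal.Quotient.mk (Ideal.ofList (List.ofFn F))) qb := by
    apply PrimeSpectrum.ext
    show P = Ideal.comap _ (Ideal.map _ P)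
    rw [Ideal.comap_map_of_surjective _ Ideal.Quotient.mk_surjective,
      ← RingHom.ker_eq_comap_bot, Ideal.mk_ker, sup_eq_left.mpr hle]
  have key := isRegular_iff R (MvPolynomial (Fin n) R) n
    (fun p => isCM_fiber_mvPolynomial R n p.asIdeal)
    (fun p P0 hP0 => equidim_fiber_mvPolynomial R n p.asIdeal P0 hP0)
    (List.ofFn F) qb ⟨P, inferInstance⟩ hq
  rw [← hFas] at hasreg
  obtain ⟨hcn, htfd⟩ := key.mp hasreg
  rw [List.length_ofFn] at hcn htfd
  let e : (MvPolynomial (Fin n) R ⧸ Ideal.ofList (List.ofFn F)) ≃ₐ[R]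
      Synt.RelGCIRing R n c F := Ideal.quotientEquivAlgOfEq R hI'
  have h1 := Groth.Agent.S9176.tfd_algEquiv (R := R)
    (S' := Synt.RelGCIRing R n c F)
    (S := MvPolynomial (Fin n) R ⧸ Ideal.ofList (List.ofFn F)) e.symm qb
  rw [h1] at htfd
  obtain ⟨qT, hqT⟩ : ∃ qT : PrimeSpectrum (Synt.RelGCIRing R n c F),
    qT = PrimeSpectrum.comap (e.symm : _ →+* _) qb := ⟨_, rfl⟩
  rw [← hqT] at htfd
  have hqTmem : ∀ a : MvPolynomial (Fin n) R,
      Ideal.Quotient.mk (Ideal.span (Set.range F)) a ∈ qT.asIdeal ↔ a ∈ P := by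
    intro a
    rw [hqT]
    show e.symm (Ideal.Quotient.mk _ a) ∈
      P.map (Ideal.Quotient.mk (Ideal.ofList (List.ofFn F))) ↔ _
    have : e.symm (Ideal.Quotient.mk (Ideal.span (Set.range F)) a) =
        Ideal.Quotient.mk (Ideal.ofList (List.ofFn F)) a := rfl
    rw [this, Ideal.mem_quotient_iff_mem hle]
  have hopen := isOpen_setOf_tfd_le R (Synt.RelGCIRing R n c F) (n - c)
  obtain ⟨_, ⟨h2, rfl⟩, hqh2, hh2U⟩ :=
    PrimeSpectrum.isTopologicalBasis_basic_opens.exists_subset_of_mem_open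
      (show qT ∈ {y | tfd (PrimeSpectrum.comap (algebraMap R (Synt.RelGCIRing R n c F))) y ≤
        ((n - c : ℕ) : WithBot ℕ∞)} from htfd) hopen
  obtain ⟨h2', rfl⟩ := Ideal.Quotient.mk_surjective h2
  have hh2P : h2' ∉ P := fun hmem => hqh2 ((hqTmem h2').mpr hmem)
  obtain ⟨H, hH⟩ : ∃ H, H = h * h2' := ⟨_, rfl⟩
  have hHP : H ∉ P := by
    rw [hH]
    exact fun hmem => (Ideal.IsPrime.mem_or_mem inferInstance hmem).elim hhP hh2P
  have regAt : ∀ (𝔭 : Ideal (MvPolynomial (Fin n) R)) [𝔭.IsPrime],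
      Ideal.span (Set.range F) ≤ 𝔭 → h2' ∉ 𝔭 →
      IsRegular (EGA4.FibLocRing R (MvPolynomial (Fin n) R) 𝔭)
        ((List.ofFn F).map (algebraMap (MvPolynomial (Fin n) R)
          (EGA4.FibLocRing R (MvPolynomial (Fin n) R) 𝔭))) := by
    intro 𝔭 _ h𝔭F h𝔭h
    have hle𝔭 : Ideal.ofList (List.ofFn F) ≤ 𝔭 := by rw [hI']; exact h𝔭F
    haveI : (𝔭.map (Ideal.Quotient.mk (Ideal.ofList (List.ofFn F)))).IsPrime :=
      Ideal.map_isPrime_of_surjective Ideal.Quotient.mk_surjective
        (by rw [Ideal.mk_ker]; exact hle𝔭)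
    let qb𝔭 : PrimeSpectrum (MvPolynomial (Fin n) R ⧸ Ideal.ofList (List.ofFn F)) :=
      ⟨𝔭.map (Ideal.Quotient.mk (Ideal.ofList (List.ofFn F))), inferInstance⟩
    have hq𝔭 : (⟨𝔭, inferInstance⟩ : PrimeSpectrum (MvPolynomial (Fin n) R)) =
        PrimeSpectrum.comap (Ideal.Quotient.mk (Ideal.ofList (List.ofFn F))) qb𝔭 := by
      apply PrimeSpectrum.ext
      show 𝔭 = Ideal.comap _ (Ideal.map _ 𝔭)
      rw [Ideal.comap_map_of_surjective _ Ideal.Quotient.mk_surjective,
        ← RingHom.ker_eq_comap_bot, Ideal.mk_ker, sup_eq_left.mpr hle𝔭]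
    have key𝔭 := isRegular_iff R (MvPolynomial (Fin n) R) n
      (fun p => isCM_fiber_mvPolynomial R n p.asIdeal)
      (fun p P0 hP0 => equidim_fiber_mvPolynomial R n p.asIdeal P0 hP0)
      (List.ofFn F) qb𝔭 ⟨𝔭, inferInstance⟩ hq𝔭
    refine key𝔭.mpr ⟨by rw [List.length_ofFn]; exact hcn, ?_⟩
    rw [List.length_ofFn]
    have h1𝔭 := Groth.Agent.S9176.tfd_algEquiv (R := R)
      (S' := Synt.RelGCIRing R n c F)
      (S := MvPolynomial (Fin n) R ⧸ Ideal.ofList (List.ofFn F)) e.symm qb𝔭
    rw [h1𝔭]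
    apply hh2U
    show Ideal.Quotient.mk _ h2' ∉
      (PrimeSpectrum.comap (e.symm : Synt.RelGCIRing R n c F →+* _) qb𝔭).asIdeal
    intro hmem
    apply h𝔭h
    have hmem' : e.symm (Ideal.Quotient.mk (Ideal.span (Set.range F)) h2') ∈
        𝔭.map (Ideal.Quotient.mk (Ideal.ofList (List.ofFn F))) := hmem
    have : e.symm (Ideal.Quotient.mk (Ideal.span (Set.range F)) h2') =
        Ideal.Quotient.mk (Ideal.ofList (List.ofFn F)) h2' := rfl
    rw [this, Ideal.mem_quotient_iff_mem hle𝔭] at hmem'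
    exact hmem'
  refine ⟨c, F, H, ?_, hHP, ?_, ?_⟩
  · intro i
    exact hasle (hF ▸ Ideal.subset_span ⟨i, rfl⟩)
  · intro x hx
    have h1 : h * x ∈ Ideal.span (Set.range F) := by rw [hF]; exact hh x hx
    have : H * x = h2' * (h * x) := by rw [hH]; ring
    rw [this]
    exact Ideal.mul_mem_left _ _ h1
  · intro 𝔭 _ h𝔭F hH𝔭
    have h2𝔭 : h2' ∉ 𝔭 := fun hmem => hH𝔭 (by rw [hH]; exact Ideal.mul_mem_left _ _ hmem)
    exact isWeaklyRegular_atPrime_of_fibLoc R n c F 𝔭 (regAt 𝔭 h𝔭F h2𝔭).toIsWeaklyRegular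

end Groth.Agent.H66.SyntCot
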