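import Groth.Agent.H66.RelCI

/-!
# Syntomic ring maps are locally relative global complete intersections, part 2 (helper66)
-/

set_option autoImplicit false
set_option linter.style.haveILetI false
set_option linter.unusedSectionVars false
set_option linter.unusedVariables false

universe u

namespace Groth.Agent.H66.RelCI

open TensorProduct Groth.Agent.H9.FibDim Groth.Agent.H66.FibreReg Groth.Agent.H66.RelGCI
  Groth.Agent.H66.GlobalCI
open RingTheory.Sequence

/-- Replace a regular sequence generating `K·B̄` by images of elements of `K`. -/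
theorem exists_list_of_regular_fib {A Bb : Type u} [CommRing A] [CommRing Bb] [IsLocalRing Bb]
    (hCM : LocCoh.IsCohenMacaulayLocalRing Bb) (f : A →+* Bb) (K : Ideal A)
    (hlift : ∀ r ∈ K.map f, ∃ a ∈ K, ∃ u : Bb, IsUnit u ∧ f a = r * u)
    (rs : List Bb) (hrs : IsRegular Bb rs) (hrsK : Ideal.ofList rs = K.map f) :
    ∃ as : List A, (∀ a ∈ as, a ∈ K) ∧ Ideal.ofList (as.map f) = K.map f ∧
      IsRegular Bb (as.map f) := by
  classical
  haveI := hCM
  have hne := ofList_ne_top rs hrs
  let φ : Bb → A := fun r => if h : r ∈ K.map f then (hlift r h).choose else 0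
  have hφ1 : ∀ r ∈ rs, φ r ∈ K := by
    intro r hr
    have h : r ∈ K.map f := hrsK ▸ Ideal.subset_span hr
    simp only [φ, dif_pos h]
    exact (hlift r h).choose_spec.1
  have hφ2 : ∀ r ∈ rs, ∃ u : Bb, IsUnit u ∧ f (φ r) = r * u := by
    intro r hr
    have h : r ∈ K.map f := hrsK ▸ Ideal.subset_span hr
    simp only [φ, dif_pos h]
    exact (hlift r h).choose_spec.2
  have hideal : Ideal.ofList ((rs.map φ).map f) = Ideal.ofList rs := by
    apply le_antisymm
    · rw [Ideal.ofList, Ideal.span_le]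
      intro x hx
      simp only [List.map_map, Set.mem_ofPred_eq, List.mem_map, Function.comp_apply] at hx
      obtain ⟨r, hr, rfl⟩ := hx
      obtain ⟨u, hu, hru⟩ := hφ2 r hr
      rw [hru]
      exact Ideal.mul_mem_right _ _ (Ideal.subset_span hr)
    · rw [Ideal.ofList, Ideal.span_le]
      intro r hr
      obtain ⟨u, hu, hru⟩ := hφ2 r hr
      obtain ⟨v, rfl⟩ := hu
      have h1 : r = f (φ r) * (↑v⁻¹ : Bb) := by
        rw [hru, mul_assoc, Units.mul_inv, mul_one]
      rw [SetLike.mem_coe, h1]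
      apply Ideal.mul_mem_right
      apply Ideal.subset_span
      simp only [List.map_map, Set.mem_ofPred_eq, List.mem_map, Function.comp_apply]
      exact ⟨r, hr, rfl⟩
  refine ⟨rs.map φ, ?_, by rw [hideal, hrsK], ?_⟩
  · intro a ha
    obtain ⟨r, hr, rfl⟩ := List.mem_map.mp ha
    exact hφ1 r hr
  · have hmem : ∀ x ∈ (rs.map φ).map f, x ∈ IsLocalRing.maximalIdeal Bb := by
      intro x hx
      apply IsLocalRing.le_maximalIdeal hne
      rw [← hideal]
      exact Ideal.subset_span hx
    rw [isRegular_iff_dim hCM _ hmem, hideal]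
    have h1 := ringKrullDim_add_length_eq_ringKrullDim_of_isRegular rs hrs
    simpa using h1

/-- Localising twice. -/
theorem exists_away_away_equiv {S : Type u} [CommRing S] (g : S) (q : Ideal S) [hq : q.IsPrime]
    (hg : g ∉ q) (g2 : Localization.Away g)
    (hg2 : g2 ∉ q.map (algebraMap S (Localization.Away g))) :
    ∃ g3 : S, g3 ∉ q ∧ Nonempty (Localization.Away g3 ≃ₐ[S] Localization.Away g2) := by
  have hdisj : Disjoint (Submonoid.powers g : Set S) (q : Set S) :=
    (Ideal.disjoint_powers_iff_notMem_of_isPrime g).mpr hg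
  have hq' : (Ideal.map (algebraMap S (Localization.Away g)) q).IsPrime :=
    IsLocalization.isPrime_of_isPrime_disjoint (Submonoid.powers g) _ q hq hdisj
  obtain ⟨n, h, hnh⟩ := IsLocalization.Away.surj g g2
  have hau : IsUnit (algebraMap S (Localization.Away g) g) :=
    IsLocalization.Away.algebraMap_isUnit g
  have hassoc : Associated g2 (algebraMap S (Localization.Away g) h) := by
    obtain ⟨u, hu⟩ := hau.pow n
    exact ⟨u, by rw [hu, hnh]⟩
  have hh : h ∉ q := by
    intro hmem
    have h1 : algebraMap S (Localization.Away g) h ∈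
        Ideal.map (algebraMap S (Localization.Away g)) q := Ideal.mem_map_of_mem _ hmem
    rw [← hnh] at h1
    rcases hq'.mem_or_mem h1 with h2 | h2
    · exact hg2 h2
    · exact hq'.ne_top (Ideal.eq_top_of_isUnit_mem _ h2 (hau.pow n))
  refine ⟨g * h, fun hmem => (hq.mem_or_mem hmem).elim hg hh, ?_⟩
  have i1 : IsLocalization.Away (algebraMap S (Localization.Away g) h) (Localization.Away g2) :=
    IsLocalization.Away.of_associated hassoc
  have i2 : IsLocalization.Away (g * h) (Localization.Away g2) :=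
    IsLocalization.Away.mul' (Localization.Away g) (Localization.Away g2) g h
  exact ⟨IsLocalization.algEquiv (Submonoid.powers (g * h)) _ _⟩

/-- **Key**: a finitely presented algebra, flat at `q` and with complete intersection fibre local
ring at `q`, is a relative global complete intersection in a basic open neighbourhood of `q`. -/
theorem exists_relGCI_away {R S : Type u} [CommRing R] [CommRing S] [Algebra R S] {n : ℕ}
    (φ : MvPolynomial (Fin n) R →ₐ[R] S) (hφ : Function.Surjective φ)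
    (hfg : (RingHom.ker φ.toRingHom).FG) (q : Ideal S) [q.IsPrime]
    (hflat : Module.Flat R (Localization.AtPrime q))
    (hci : ∃ (R0 : Type u) (_ : CommRing R0) (_ : IsRegularLocalRing R0) (rs0 : List R0),
      IsRegular R0 rs0 ∧ Nonempty (EGA4.FibLocRing R S q ≃+* R0 ⧸ Ideal.ofList rs0)) :
    ∃ g : S, g ∉ q ∧ ∃ (n' c' : ℕ) (F' : Fin c' → MvPolynomial (Fin n') R),
      Synt.IsRelGCI R n' c' F' ∧
      Nonempty (Localization.Away g ≃ₐ[R] Synt.RelGCIRing R n' c' F') := by
  classical
  set P := q.comap φ.toRingHom with hP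
  set K := RingHom.ker φ.toRingHom with hK
  have hKP : K ≤ P := fun x hx => by
    rw [hP, Ideal.mem_comap, RingHom.mem_ker.mp hx]; exact zero_mem _
  haveI hreg : IsRegularLocalRing (EGA4.FibLocRing R (MvPolynomial (Fin n) R) P) :=
    isRegularLocalRing_fibLoc_poly R n P
  have hCM : LocCoh.IsCohenMacaulayLocalRing (EGA4.FibLocRing R (MvPolynomial (Fin n) R) P) :=
    ⟨Groth.Agent.H21.HilbertCI.isCM_of_isRegularLocalRing _⟩
  obtain ⟨R0, i1, i2, rs0, hr0, ⟨e0⟩⟩ := hci
  obtain ⟨e1⟩ := nonempty_fibLoc_equiv_quot φ hφ q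
  have hKb_ne : K.map (algebraMap _ (EGA4.FibLocRing R (MvPolynomial (Fin n) R) P)) ≠ ⊤ := by
    intro htop
    have hle : K.map (algebraMap _ (EGA4.FibLocRing R (MvPolynomial (Fin n) R) P)) ≤
        IsLocalRing.maximalIdeal (EGA4.FibLocRing R (MvPolynomial (Fin n) R) P) := by
      rw [Ideal.map_le_iff_le_comap]
      intro x hx
      exact mem_maximalIdeal_fibLoc R _ P x (hKP hx)
    exact (IsLocalRing.maximalIdeal.isMaximal _).ne_top (top_le_iff.mp (htop ▸ hle))
  obtain ⟨rs, hrs, hrsK⟩ := (regular_iff_of_ringEquiv (Ideal.ofList rs0)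
    (K.map (algebraMap _ (EGA4.FibLocRing R (MvPolynomial (Fin n) R) P)))
    (ofList_ne_top rs0 hr0) hKb_ne (e0.symm.trans e1)).mp ⟨rs0, hr0, rfl⟩
  -- (d) lifting
  have hlift : ∀ r ∈ K.map (algebraMap (MvPolynomial (Fin n) R)
      (EGA4.FibLocRing R (MvPolynomial (Fin n) R) P)), ∃ a ∈ K,
      ∃ u : EGA4.FibLocRing R (MvPolynomial (Fin n) R) P, IsUnit u ∧
        algebraMap _ (EGA4.FibLocRing R (MvPolynomial (Fin n) R) P) a = r * u := by
    intro r hr
    have hmm : K.map (algebraMap (MvPolynomial (Fin n) R)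
        (EGA4.FibLocRing R (MvPolynomial (Fin n) R) P)) =
        (K.map (algebraMap _ (Localization.AtPrime P))).map (Ideal.Quotient.mk _) := by
      rw [Ideal.map_map]; rfl
    rw [hmm] at hr
    obtain ⟨y, hy, rfl⟩ := (Ideal.mem_map_iff_of_surjective _ Ideal.Quotient.mk_surjective).mp hr
    obtain ⟨⟨x, s⟩, hx⟩ :=
      (IsLocalization.mem_map_algebraMap_iff P.primeCompl (Localization.AtPrime P)).mp hy
    refine ⟨x.1, x.2, Ideal.Quotient.mk _ (algebraMap (MvPolynomial (Fin n) R) (Localization.AtPrime P) (s : MvPolynomial (Fin n) R)),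
      (IsLocalization.map_units (Localization.AtPrime P) s).map _, ?_⟩
    show Ideal.Quotient.mk _ (algebraMap _ (Localization.AtPrime P) x.1) = _
    rw [← map_mul, hx]
  obtain ⟨as, hasK, hasmap, hasreg⟩ := exists_list_of_regular_fib hCM
    (algebraMap _ (EGA4.FibLocRing R (MvPolynomial (Fin n) R) P)) K hlift rs hrs hrsK
  -- (e) flatness + Nakayama
  obtain ⟨pR, hpR⟩ : ∃ pR : Ideal R, pR = P.comap (algebraMap R (MvPolynomial (Fin n) R)) :=
    ⟨_, rfl⟩
  obtain ⟨J, hJ⟩ : ∃ J : Ideal (Localization.AtPrime P),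
    J = K.map (algebraMap _ (Localization.AtPrime P)) := ⟨_, rfl⟩
  obtain ⟨N, hN⟩ : ∃ N : Ideal (Localization.AtPrime P),
    N = (Ideal.ofList as).map (algebraMap _ (Localization.AtPrime P)) := ⟨_, rfl⟩
  have hasle : Ideal.ofList as ≤ K := Ideal.span_le.mpr hasK
  have hNJ : N ≤ J := by rw [hN, hJ]; exact Ideal.map_mono hasle
  have hJN : J ≤ N := by
    obtain ⟨e9⟩ := nonempty_atPrime_equiv_quot φ hφ q
    rw [← hJ] at e9
    haveI : Module.Flat R (Localization.AtPrime P ⧸ J) :=
      Module.Flat.of_linearEquiv e9.symm.toLinearEquiv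
    have hJfg : J.FG := by rw [hJ]; exact Ideal.FG.map hfg _
    have hpmax : pR.map (algebraMap R (Localization.AtPrime P)) ≤
        IsLocalRing.maximalIdeal (Localization.AtPrime P) := by
      rw [Ideal.map_le_iff_le_comap]
      intro r hr
      rw [Ideal.mem_comap, IsScalarTower.algebraMap_apply R (MvPolynomial (Fin n) R)
        (Localization.AtPrime P)]
      rw [hpR] at hr
      exact (IsLocalization.AtPrime.to_map_mem_maximal_iff _ P _).mpr hr
    refine le_of_flat_of_le_sup J N hJfg pR hpmax hNJ ?_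
    have hmapeq : J.map (Ideal.Quotient.mk (pR.map (algebraMap R (Localization.AtPrime P)))) =
        N.map (Ideal.Quotient.mk (pR.map (algebraMap R (Localization.AtPrime P)))) := by
      rw [hJ, hN, Ideal.map_map, Ideal.map_map, hpR]
      have h1 : (Ideal.ofList as).map (algebraMap (MvPolynomial (Fin n) R)
          (EGA4.FibLocRing R (MvPolynomial (Fin n) R) P)) =
          K.map (algebraMap (MvPolynomial (Fin n) R)
          (EGA4.FibLocRing R (MvPolynomial (Fin n) R) P)) := by
        rw [Ideal.map_ofList]; exact hasmap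
      exact h1.symm
    have h2 := Ideal.comap_map_of_surjective
      (Ideal.Quotient.mk (pR.map (algebraMap R (Localization.AtPrime P))))
      Ideal.Quotient.mk_surjective N
    rw [← hmapeq, ← RingHom.ker_eq_comap_bot, Ideal.mk_ker] at h2
    rw [← h2]
    exact Ideal.le_comap_map
  -- (f) multiplier
  obtain ⟨h, hhP, hh⟩ := exists_notMem_mul_mem_of_fg P K (Ideal.ofList as) hfg (by
    intro x hx
    rw [← hN]
    exact hJN (hJ ▸ Ideal.mem_map_of_mem _ hx))
  -- (g) the presentation by `as`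
  obtain ⟨c, hc⟩ : ∃ c, c = as.length := ⟨_, rfl⟩
  obtain ⟨F, hFas⟩ : ∃ F : Fin c → MvPolynomial (Fin n) R, List.ofFn F = as := by
    subst hc
    exact ⟨as.get, List.ofFn_get as⟩
  have hF : Ideal.span (Set.range F) = Ideal.ofList as := by rw [← ofList_ofFn, hFas]
  have hI' := ofList_ofFn F
  have hle : Ideal.ofList (List.ofFn F) ≤ P := by rw [hFas]; exact hasle.trans hKP
  haveI : (P.map (Ideal.Quotient.mk (Ideal.ofList (List.ofFn F)))).IsPrime :=
    Ideal.map_isPrime_of_surjective Ideal.Quotient.mk_surjective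
      (by rw [Ideal.mk_ker]; exact hle)
  let qb : PrimeSpectrum (MvPolynomial (Fin n) R ⧸ Ideal.ofList (List.ofFn F)) :=
    ⟨P.map (Ideal.Quotient.mk (Ideal.ofList (List.ofFn F))), inferInstance⟩
  have hq : (⟨P, inferInstance⟩ : PrimeSpectrum (MvPolynomial (Fin n) R)) =
      PrimeSpectrum.comap (Ideal.Quotient.mk (Ideal.ofList (List.ofFn F))) qb := by
    apply PrimeSpectrum.ext
    show P = Ideal.comap _ (Ideal.map _ P)
    rw [Ideal.comap_map_of_surjective _ Ideal.Quotient.mk_surjective,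
      ← RingHom.ker_eq_comap_bot, Ideal.mk_ker, sup_eq_left.mpr hle]
  have key := isRegular_iff R (MvPolynomial (Fin n) R) n
    (fun p => isCM_fiber_mvPolynomial R n p.asIdeal)
    (fun p P0 hP0 => equidim_fiber_mvPolynomial R n p.asIdeal P0 hP0)
    (List.ofFn F) qb ⟨P, inferInstance⟩ hq
  rw [← hFas] at hasreg
  obtain ⟨hcn, htfd⟩ := key.mp hasreg
  rw [List.length_ofFn] at hcn htfd
  let e : (MvPolynomial (Fin n) R ⧸ Ideal.ofList (List.ofFn F)) ≃ₐ[R]
      Synt.RelGCIRing R n c F := Ideal.quotientEquivAlgOfEq R hI'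
  have h1 := Groth.Agent.S9176.tfd_algEquiv (R := R)
    (S' := Synt.RelGCIRing R n c F)
    (S := MvPolynomial (Fin n) R ⧸ Ideal.ofList (List.ofFn F)) e.symm qb
  rw [h1] at htfd
  obtain ⟨qT, hqT⟩ : ∃ qT : PrimeSpectrum (Synt.RelGCIRing R n c F),
    qT = PrimeSpectrum.comap (e.symm : _ →+* _) qb := ⟨_, rfl⟩
  rw [← hqT] at htfd
  have hqTmem : ∀ a : MvPolynomial (Fin n) R,
      Ideal.Quotient.mk (Ideal.span (Set.range F)) a ∈ qT.asIdeal ↔ a ∈ P := by
    intro a
    rw [hqT]
    show e.symm (Ideal.Quotient.mk _ a) ∈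
      P.map (Ideal.Quotient.mk (Ideal.ofList (List.ofFn F))) ↔ _
    have : e.symm (Ideal.Quotient.mk (Ideal.span (Set.range F)) a) =
        Ideal.Quotient.mk (Ideal.ofList (List.ofFn F)) a := rfl
    rw [this, Ideal.mem_quotient_iff_mem hle]
  have hopen := isOpen_setOf_tfd_le R (Synt.RelGCIRing R n c F) (n - c)
  obtain ⟨_, ⟨h2, rfl⟩, hqh2, hh2U⟩ :=
    PrimeSpectrum.isTopologicalBasis_basic_opens.exists_subset_of_mem_open
      (show qT ∈ {y | tfd (PrimeSpectrum.comap (algebraMap R (Synt.RelGCIRing R n c F))) y ≤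
        ((n - c : ℕ) : WithBot ℕ∞)} from htfd) hopen
  obtain ⟨h2', rfl⟩ := Ideal.Quotient.mk_surjective h2
  have hh2P : h2' ∉ P := fun hmem => hqh2 ((hqTmem h2').mpr hmem)
  obtain ⟨H, hH⟩ : ∃ H, H = h * h2' := ⟨_, rfl⟩
  have hHP : H ∉ P := by
    rw [hH]
    exact fun hmem => (Ideal.IsPrime.mem_or_mem inferInstance hmem).elim hhP hh2P
  have hrel := isRelGCI_away R n c F H hcn (by
    intro y hy
    apply hh2U
    show Ideal.Quotient.mk _ h2' ∉ y.asIdeal
    intro hmem
    apply hy
    rw [hH, map_mul]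
    exact Ideal.mul_mem_left _ _ hmem)
  obtain ⟨eA⟩ := nonempty_away_equiv R n c F H
  let ψ : Synt.RelGCIRing R n c F →ₐ[R] S :=
    Ideal.Quotient.liftₐ (Ideal.span (Set.range F)) φ
      (fun a ha => RingHom.mem_ker.mp (hasle (hF ▸ ha)))
  have hψmk : ∀ a, ψ (Ideal.Quotient.mk _ a) = φ a := fun a => rfl
  have hψ : Function.Surjective ψ := fun s => by
    obtain ⟨a, rfl⟩ := hφ s; exact ⟨Ideal.Quotient.mk _ a, hψmk a⟩
  have hkill : ∀ x, ψ x = 0 → Ideal.Quotient.mk (Ideal.span (Set.range F)) H * x = 0 := by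
    intro x hx
    obtain ⟨x', rfl⟩ := Ideal.Quotient.mk_surjective x
    rw [hψmk] at hx
    have hx'K : x' ∈ K := RingHom.mem_ker.mpr hx
    have h1 : h * x' ∈ Ideal.span (Set.range F) := by rw [hF]; exact hh x' hx'K
    rw [← map_mul, Ideal.Quotient.eq_zero_iff_mem, hH]
    have : h * h2' * x' = h2' * (h * x') := by ring
    rw [this]; exact Ideal.mul_mem_left _ _ h1
  obtain ⟨e2⟩ := nonempty_away_equiv_of_ker ψ hψ _ hkill
  refine ⟨ψ (Ideal.Quotient.mk _ H), ?_, n + 1, c + 1, _, hrel, ⟨e2.symm.trans eA⟩⟩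
  exact hHP

end Groth.Agent.H66.RelCI
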