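import Groth.Agent.H66.RelGCI

/-!
# Relative global complete intersections: reduction modulo an ideal
-/

set_option autoImplicit false
set_option linter.style.haveILetI false
set_option linter.unusedSectionVars false

universe u

namespace Groth.Agent.H66.RelGCI

open TensorProduct Groth.Agent.H9.FibDim Groth.Agent.H66.FibreReg

/-- The fibre of `R[x]/(F)` over `p` is `κ(p)[x]/(F)`. -/
theorem nonempty_fiber_equiv_pres (R : Type u) [CommRing R] (n c : ℕ)
    (F : Fin c → MvPolynomial (Fin n) R) (p : Ideal R) [p.IsPrime] :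
    Nonempty (p.Fiber (Synt.RelGCIRing R n c F) ≃+*
      Synt.RelGCIRing p.ResidueField n c
        (fun i => MvPolynomial.map (algebraMap R p.ResidueField) (F i))) := by
  let e1 := Algebra.TensorProduct.tensorQuotientEquiv (R := R) p.ResidueField
    (MvPolynomial (Fin n) R) p.ResidueField (Ideal.span (Set.range F))
  let e := MvPolynomial.algebraTensorAlgEquiv (σ := Fin n) R p.ResidueField
  have hIJ : Ideal.span (Set.range
      (fun i => MvPolynomial.map (algebraMap R p.ResidueField) (F i))) =
      ((Ideal.span (Set.range F)).map (Algebra.TensorProduct.includeRight :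
        MvPolynomial (Fin n) R →ₐ[R] p.ResidueField ⊗[R] MvPolynomial (Fin n) R)).map
        e.toRingEquiv := by
    rw [Ideal.map_span, Ideal.map_span, ← Set.range_comp, ← Set.range_comp]
    congr 2
    funext i
    show _ = e ((1 : p.ResidueField) ⊗ₜ[R] F i)
    rw [MvPolynomial.algebraTensorAlgEquiv_tmul, one_smul]
  exact ⟨e1.toRingEquiv.trans (Ideal.quotientEquiv _ _ e.toRingEquiv hIJ)⟩

/-- Presentations over isomorphic rings with corresponding equations are isomorphic. -/
theorem nonempty_pres_equiv (K1 K2 : Type u) [CommRing K1] [CommRing K2] (σ : K1 ≃+* K2)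
    (n c : ℕ) (G1 : Fin c → MvPolynomial (Fin n) K1) (G2 : Fin c → MvPolynomial (Fin n) K2)
    (h : ∀ i, G2 i = MvPolynomial.map (σ : K1 →+* K2) (G1 i)) :
    Nonempty (Synt.RelGCIRing K1 n c G1 ≃+* Synt.RelGCIRing K2 n c G2) := by
  have hIJ : Ideal.span (Set.range G2) =
      (Ideal.span (Set.range G1)).map (MvPolynomial.mapEquiv (Fin n) σ) := by
    rw [Ideal.map_span, ← Set.range_comp]
    congr 2
    funext i
    exact h i
  exact ⟨Ideal.quotientEquiv _ _ (MvPolynomial.mapEquiv (Fin n) σ) hIJ⟩

theorem exists_residueField_equiv (R : Type u) [CommRing R] (I p : Ideal R) [p.IsPrime]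
    (hIp : I ≤ p) [(p.map (Ideal.Quotient.mk I)).IsPrime] :
    ∃ τ : (p.map (Ideal.Quotient.mk I)).ResidueField ≃+* p.ResidueField,
      ∀ r : R, τ (algebraMap (R ⧸ I) _ (Ideal.Quotient.mk I r)) =
        algebraMap R p.ResidueField r := by
  let e0 := DoubleQuot.quotQuotEquivQuotOfLE hIp
  let τ := IsFractionRing.ringEquivOfRingEquiv
    (K := (p.map (Ideal.Quotient.mk I)).ResidueField) (L := p.ResidueField) e0
  refine ⟨τ, fun r => ?_⟩
  rw [IsScalarTower.algebraMap_apply (R ⧸ I) ((R ⧸ I) ⧸ p.map (Ideal.Quotient.mk I))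
    (p.map (Ideal.Quotient.mk I)).ResidueField]
  have := IsFractionRing.ringEquivOfRingEquiv_algebraMap
    (K := (p.map (Ideal.Quotient.mk I)).ResidueField) (L := p.ResidueField) e0
    (algebraMap (R ⧸ I) ((R ⧸ I) ⧸ p.map (Ideal.Quotient.mk I)) (Ideal.Quotient.mk I r))
  rw [this]
  rfl


/-- The fibre of the reduction mod `I` over `p/I` is the fibre over `p`. -/
theorem nonempty_fiber_equiv_quot (R : Type u) [CommRing R] (n c : ℕ)
    (F : Fin c → MvPolynomial (Fin n) R) (I p : Ideal R) [p.IsPrime] (hIp : I ≤ p)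
    [(p.map (Ideal.Quotient.mk I)).IsPrime] :
    Nonempty ((p.map (Ideal.Quotient.mk I)).Fiber (Synt.RelGCIRing (R ⧸ I) n c
      (fun i => MvPolynomial.map (Ideal.Quotient.mk I) (F i))) ≃+*
        p.Fiber (Synt.RelGCIRing R n c F)) := by
  obtain ⟨e1⟩ := nonempty_fiber_equiv_pres (R ⧸ I) n c
    (fun i => MvPolynomial.map (Ideal.Quotient.mk I) (F i)) (p.map (Ideal.Quotient.mk I))
  obtain ⟨e2⟩ := nonempty_fiber_equiv_pres R n c F p
  obtain ⟨τ, hτ⟩ := exists_residueField_equiv R I p hIp
  obtain ⟨e3⟩ := nonempty_pres_equiv _ _ τ n c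
    (fun i => MvPolynomial.map (algebraMap (R ⧸ I) (p.map (Ideal.Quotient.mk I)).ResidueField)
      (MvPolynomial.map (Ideal.Quotient.mk I) (F i)))
    (fun i => MvPolynomial.map (algebraMap R p.ResidueField) (F i))
    (fun i => by
      have hcomp : ((τ : _ →+* _).comp (algebraMap (R ⧸ I)
          (p.map (Ideal.Quotient.mk I)).ResidueField)).comp (Ideal.Quotient.mk I) =
          algebraMap R p.ResidueField := RingHom.ext fun r => hτ r
      rw [MvPolynomial.map_map, MvPolynomial.map_map, hcomp])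
  exact ⟨e1.trans (e3.trans e2.symm)⟩

open MvPolynomial in
/-- Variant of `isRelGCI_away` where `c ≤ n` is only known on `D(g)`. -/
theorem isRelGCI_away' (R : Type u) [CommRing R] (n c : ℕ)
    (F : Fin c → MvPolynomial (Fin n) R) (h : MvPolynomial (Fin n) R)
    (hup : ∀ q : PrimeSpectrum (Synt.RelGCIRing R n c F),
      Ideal.Quotient.mk (Ideal.span (Set.range F)) h ∉ q.asIdeal →
      c ≤ n ∧ tfd (PrimeSpectrum.comap (algebraMap R (Synt.RelGCIRing R n c F))) q ≤
        ((n - c : ℕ) : WithBot ℕ∞)) :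
    Synt.IsRelGCI R (n + 1) (c + 1)
      (Fin.snoc (fun i => rename Fin.castSucc (F i))
        (rename Fin.castSucc h * X (Fin.last n) - 1)) := by
  intro p'' hnt
  obtain ⟨e⟩ := nonempty_away_equiv R n c F h
  let eF := Algebra.TensorProduct.congr (AlgEquiv.refl (R := p''.asIdeal.ResidueField)
    (A₁ := p''.asIdeal.ResidueField)) e
  haveI : Nontrivial (p''.asIdeal.Fiber
      (Localization.Away (Ideal.Quotient.mk (Ideal.span (Set.range F)) h))) :=
    eF.toEquiv.nontrivial
  obtain ⟨Q⟩ := (inferInstance : Nonempty (PrimeSpectrum (p''.asIdeal.Fiber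
      (Localization.Away (Ideal.Quotient.mk (Ideal.span (Set.range F)) h)))))
  have hmem : PrimeSpectrum.comap (algebraMap (Synt.RelGCIRing R n c F)
      (Localization.Away (Ideal.Quotient.mk (Ideal.span (Set.range F)) h)))
      (below p''.asIdeal Q) ∈
      (PrimeSpectrum.basicOpen (Ideal.Quotient.mk (Ideal.span (Set.range F)) h) :
        Set (PrimeSpectrum (Synt.RelGCIRing R n c F))) := by
    rw [← PrimeSpectrum.localization_away_comap_range (Localization.Away
      (Ideal.Quotient.mk (Ideal.span (Set.range F)) h))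
      (Ideal.Quotient.mk (Ideal.span (Set.range F)) h)]
    exact ⟨_, rfl⟩
  have hcn := (hup _ hmem).1
  exact isRelGCI_away R n c F h hcn (fun q hq => (hup q hq).2) p'' hnt

end Groth.Agent.H66.RelGCI
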