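import Groth.Agent.H66.GlobalCI2

/-!
# Global complete intersections over a field, part 3 (helper66)

Spreading out: if the kernel of a presentation is generated by a regular sequence at a prime, a
basic open neighbourhood is a global complete intersection.
-/

set_option autoImplicit false
set_option linter.style.haveILetI false
set_option linter.unusedSectionVars false
set_option linter.unusedVariables false

universe u
namespace Groth.Agent.H66.GlobalCI
open TensorProduct Groth.Agent.H9.FibDim Groth.Agent.H66.FibreReg Groth.Agent.H66.RelGCI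
open RingTheory.Sequence

/-- Localising a surjection whose kernel is killed by `t`. -/
theorem nonempty_away_equiv_of_ker {k T S : Type u} [CommRing k] [CommRing T] [CommRing S]
    [Algebra k T] [Algebra k S] (ψ : T →ₐ[k] S) (hψ : Function.Surjective ψ) (t : T)
    (ht : ∀ x, ψ x = 0 → t * x = 0) :
    Nonempty (Localization.Away t ≃ₐ[k] Localization.Away (ψ t)) := by
  letI : Algebra T (Localization.Away (ψ t)) :=
    ((algebraMap S (Localization.Away (ψ t))).comp ψ.toRingHom).toAlgebra
  have hmap : ∀ x : T, algebraMap T (Localization.Away (ψ t)) x =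
      algebraMap S (Localization.Away (ψ t)) (ψ x) := fun _ => rfl
  haveI : IsScalarTower k T (Localization.Away (ψ t)) := IsScalarTower.of_algebraMap_eq (fun x => by
    rw [hmap, ψ.commutes, ← IsScalarTower.algebraMap_apply])
  haveI : IsLocalization.Away t (Localization.Away (ψ t)) := by
    refine ⟨?_, ?_, ?_⟩
    · rintro ⟨_, m, rfl⟩
      rw [hmap, map_pow, map_pow]
      exact (IsLocalization.Away.algebraMap_isUnit (S := Localization.Away (ψ t)) (ψ t)).pow m
    · intro z
      obtain ⟨⟨s, ⟨_, m, rfl⟩⟩, hs⟩ := IsLocalization.surj (Submonoid.powers (ψ t)) z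
      obtain ⟨s', rfl⟩ := hψ s
      refine ⟨⟨s', ⟨t ^ m, m, rfl⟩⟩, ?_⟩
      simp only [hmap, map_pow] at hs ⊢
      exact hs
    · intro x y hxy
      rw [hmap, hmap] at hxy
      obtain ⟨⟨_, m, rfl⟩, hc⟩ := IsLocalization.exists_of_eq (M := Submonoid.powers (ψ t)) hxy
      refine ⟨⟨t ^ (m + 1), m + 1, rfl⟩, ?_⟩
      have h0 : ψ (t ^ m * (x - y)) = 0 := by
        rw [map_mul, map_pow, map_sub, mul_sub, sub_eq_zero]
        exact hc
      have h1 := ht _ h0
      show t ^ (m + 1) * x = t ^ (m + 1) * y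
      rw [← sub_eq_zero, ← mul_sub, pow_succ', mul_assoc]
      exact h1
  exact ⟨(IsLocalization.algEquiv (Submonoid.powers t) (Localization.Away t)
    (Localization.Away (ψ t))).restrictScalars k⟩

section Spread

variable {k S : Type u} [Field k] [CommRing S] [Algebra k S] {n : ℕ}
  (φ : MvPolynomial (Fin n) k →ₐ[k] S) (hφ : Function.Surjective φ) (q : Ideal S) [q.IsPrime]

include hφ in
/-- If the kernel of a presentation is locally at `q` generated by a regular sequence, then some
basic open neighbourhood of `q` is a global complete intersection. -/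
theorem exists_isGlobalCI_away_of_regular
    (h : ∃ rs : List (Localization.AtPrime (q.comap φ.toRingHom)),
      IsRegular (Localization.AtPrime (q.comap φ.toRingHom)) rs ∧
      Ideal.ofList rs = (RingHom.ker φ.toRingHom).map
        (algebraMap _ (Localization.AtPrime (q.comap φ.toRingHom)))) :
    ∃ g : S, g ∉ q ∧ Synt.IsGlobalCI k (Localization.Away g) := by
  classical
  obtain ⟨rs, hrs, hrsI⟩ := h
  set P := q.comap φ.toRingHom with hP
  set K := RingHom.ker φ.toRingHom with hK
  have hKP : K ≤ P := fun x hx => by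
    rw [hP, Ideal.mem_comap, RingHom.mem_ker.mp hx]; exact zero_mem _
  obtain ⟨as, hasK, hasmap, hasreg⟩ :=
    Groth.Agent.H79.CIOpen.exists_list_of_regular P (Localization.AtPrime P) K rs hrs hrsI
  obtain ⟨c, hc⟩ : ∃ c, c = as.length := ⟨_, rfl⟩
  obtain ⟨F, hF⟩ : ∃ F : Fin c → MvPolynomial (Fin n) k,
      Ideal.span (Set.range F) = Ideal.ofList as := by
    subst hc
    exact ⟨as.get, by rw [← ofList_ofFn, List.ofFn_get]⟩
  have hFK : Ideal.span (Set.range F) ≤ K := by
    rw [hF]; exact Ideal.span_le.mpr hasK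
  obtain ⟨h, hhP, hh⟩ := Groth.Agent.H79.CIOpen.exists_notMem_mul_mem P K (Ideal.ofList as) (by
    intro x hx
    rw [Ideal.map_ofList, hasmap]
    exact Ideal.mem_map_of_mem _ hx)
  obtain ⟨I0, hI0⟩ : ∃ I0 : Ideal (MvPolynomial (Fin n) k), I0 = Ideal.span (Set.range F) :=
    ⟨_, rfl⟩
  have hI0K : I0 ≤ K := hI0 ▸ hFK
  let ψ : (MvPolynomial (Fin n) k ⧸ I0) →ₐ[k] S :=
    Ideal.Quotient.liftₐ I0 φ (fun a ha => RingHom.mem_ker.mp (hI0K ha))
  have hψmk : ∀ a, ψ (Ideal.Quotient.mk I0 a) = φ a := fun a => rfl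
  have hψ : Function.Surjective ψ := fun s => by
    obtain ⟨a, rfl⟩ := hφ s; exact ⟨Ideal.Quotient.mk I0 a, hψmk a⟩
  obtain ⟨qT, hqT⟩ : ∃ qT : Ideal (MvPolynomial (Fin n) k ⧸ I0), qT = q.comap ψ.toRingHom :=
    ⟨_, rfl⟩
  haveI hqTp : qT.IsPrime := by rw [hqT]; infer_instance
  have hqTP : qT.comap (Ideal.Quotient.mk I0) = P := by rw [hqT]; rfl
  have hI0P : I0 ≤ P := hI0K.trans hKP
  have hPmap : P.map (Ideal.Quotient.mk I0) = qT := by
    rw [← hqTP, Ideal.map_comap_of_surjective _ Ideal.Quotient.mk_surjective]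
  have hld : c ≤ n ∧ FlatMor.localDim (PrimeSpectrum (MvPolynomial (Fin n) k ⧸ I0))
      ⟨qT, inferInstance⟩ = ((n - c : ℕ) : WithBot ℕ∞) := by
    obtain ⟨d, hd, hl⟩ := localDim_eq_add k (MvPolynomial (Fin n) k ⧸ I0) qT
    rw [IsLocalization.AtPrime.ringKrullDim_eq_height qT] at hl
    have h2 := Groth.Agent.H54.height_add_ringKrullDim_quotient k (MvPolynomial (Fin n) k)
      ⟨P, inferInstance⟩
    rw [Groth.Agent.H54.ringKrullDim_mvPolynomial_field] at h2
    have hquot : ringKrullDim (MvPolynomial (Fin n) k ⧸ P) =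
        ringKrullDim ((MvPolynomial (Fin n) k ⧸ I0) ⧸ qT) := by
      let g := Ideal.quotientMap qT (Ideal.Quotient.mk I0) hqTP.ge
      have hinj : Function.Injective g := Ideal.quotientMap_injective' hqTP.le
      have hs : Function.Surjective g := Ideal.quotientMap_surjective Ideal.Quotient.mk_surjective
      exact ringKrullDim_eq_of_ringEquiv (RingEquiv.ofBijective g ⟨hinj, hs⟩)
    simp only at h2
    rw [hquot, hd] at h2
    have hreg : IsRegular (Localization.AtPrime P)
        (as.map (algebraMap _ (Localization.AtPrime P))) := by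
      refine ⟨hasreg, ?_⟩
      simp only [smul_eq_mul, Ideal.mul_top]
      rw [hasmap]
      exact fun h => map_ne_top K P hKP h.symm
    have h3 := ringKrullDim_add_length_eq_ringKrullDim_of_isRegular _ hreg
    rw [← Ideal.map_ofList, ← hF, ← hI0, dim_loc_quot _ P I0 hI0P, hPmap,
      IsLocalization.AtPrime.ringKrullDim_eq_height P, List.length_map, ← hc] at h3
    have hf1 : P.height ≠ ⊤ := Ideal.height_ne_top_of_isPrime
    have hf2 : qT.height ≠ ⊤ := Ideal.height_ne_top_of_isPrime
    obtain ⟨a, ha⟩ := ENat.ne_top_iff_exists.mp hf1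
    obtain ⟨b, hb⟩ := ENat.ne_top_iff_exists.mp hf2
    have ha' : ((P.height : ℕ∞) : WithBot ℕ∞) = ((a : ℕ) : WithBot ℕ∞) := by
      rw [← ha]; rfl
    have hb' : ((qT.height : ℕ∞) : WithBot ℕ∞) = ((b : ℕ) : WithBot ℕ∞) := by
      rw [← hb]; rfl
    rw [ha'] at h2 h3
    rw [hb'] at h3 hl
    have h2' : a + d = n := by exact_mod_cast h2
    have h3' : b + c = a := by exact_mod_cast h3
    refine ⟨by omega, ?_⟩
    rw [hl]
    have : b + d = n - c := by omega
    exact_mod_cast this
  obtain ⟨hcn, hld⟩ := hld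
  obtain ⟨h2, hh2, hdim2⟩ :=
    exists_basicOpen_dim_eq (MvPolynomial (Fin n) k ⧸ I0) ⟨qT, inferInstance⟩
  obtain ⟨h2', rfl⟩ := Ideal.Quotient.mk_surjective h2
  rw [hld] at hdim2
  obtain ⟨H, hH⟩ : ∃ H, H = h * h2' := ⟨_, rfl⟩
  have hHq : Ideal.Quotient.mk I0 H ∉ qT := by
    rw [hH, map_mul]
    intro hmem
    rcases hqTp.mem_or_mem hmem with h1 | h1
    · exact hhP (hqTP ▸ h1)
    · exact hh2 h1
  have hdimA : ringKrullDim (Localization.Away (Ideal.Quotient.mk I0 H)) =
      ((n - c : ℕ) : WithBot ℕ∞) := by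
    rw [← dim_basicOpen_eq]
    apply le_antisymm
    · rw [← hdim2]
      apply dim_mono_subset
      intro x hx
      rw [hH, map_mul, PrimeSpectrum.basicOpen_mul] at hx
      exact hx.2
    · rw [← hld]
      exact localDim_le_of_mem _ _ _ hHq
  subst hI0
  obtain ⟨e⟩ := nonempty_away_equiv k n c F H
  have hgciT : Synt.IsGlobalCI k (Localization.Away
      (Ideal.Quotient.mk (Ideal.span (Set.range F)) H)) :=
    isGlobalCI_of_algEquiv k _ (n + 1) (c + 1) (by omega) _ e.symm
      (by rw [hdimA, Nat.add_sub_add_right])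
  have hkill : ∀ x, ψ x = 0 → Ideal.Quotient.mk (Ideal.span (Set.range F)) H * x = 0 := by
    intro x hx
    obtain ⟨x', rfl⟩ := Ideal.Quotient.mk_surjective x
    rw [hψmk] at hx
    have hx'K : x' ∈ K := RingHom.mem_ker.mpr hx
    have h1 : h * x' ∈ Ideal.span (Set.range F) := by rw [hF]; exact hh x' hx'K
    rw [← map_mul, Ideal.Quotient.eq_zero_iff_mem, hH]
    have : h * h2' * x' = h2' * (h * x') := by ring
    rw [this]; exact Ideal.mul_mem_left _ _ h1
  obtain ⟨e2⟩ := nonempty_away_equiv_of_ker ψ hψ _ hkill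
  refine ⟨ψ (Ideal.Quotient.mk _ H), ?_, Groth.Agent.S9146.gci_of_algEquiv e2 hgciT⟩
  rw [hqT] at hHq
  exact hHq

end Spread

/-- In the local ring of a regular ring: generated by a regular sequence iff generated by
`c` elements, `c` the height drop. -/
theorem regular_iff_finset {A : Type u} [CommRing A] [IsRegularRing A] (I P : Ideal A) [P.IsPrime]
    (hIP : I ≤ P) (c : ℕ)
    (hc : (c : ℕ∞) + (P.map (Ideal.Quotient.mk I)).height = P.height) :
    (∃ rs : List (Localization.AtPrime P), IsRegular (Localization.AtPrime P) rs ∧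
        Ideal.ofList rs = I.map (algebraMap A (Localization.AtPrime P))) ↔
      ∃ s : Finset (Localization.AtPrime P), s.card = c ∧
        Ideal.span (s : Set (Localization.AtPrime P)) =
          I.map (algebraMap A (Localization.AtPrime P)) := by
  classical
  have hne := map_ne_top I P hIP
  obtain ⟨J, hJ⟩ : ∃ J, J = I.map (algebraMap A (Localization.AtPrime P)) := ⟨_, rfl⟩
  rw [← hJ] at hne ⊢
  have hdimq : ringKrullDim (Localization.AtPrime P ⧸ J) = _ := hJ ▸ dim_loc_quot A P I hIP
  have hdimB := IsLocalization.AtPrime.ringKrullDim_eq_height P (Localization.AtPrime P)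
  have hfin : (P.map (Ideal.Quotient.mk I)).height ≠ ⊤ := by
    intro h
    rw [h] at hc
    simp only [add_top] at hc
    exact Ideal.height_ne_top_of_isPrime hc.symm
  obtain ⟨b, hb⟩ := ENat.ne_top_iff_exists.mp hfin
  have hkrull := ringKrullDim_le_ringKrullDim_quotient_add_spanFinrank J (by
    rw [IsLocalRing.ringJacobson_eq_maximalIdeal]
    exact IsLocalRing.le_maximalIdeal hne)
  rw [Groth.Agent.H79.CIPres.regular_iff_dim J hne]
  rw [hdimq, hdimB, ← hc, ← hb] at hkrull ⊢
  have hle : c + b ≤ b + J.spanFinrank := by exact_mod_cast hkrull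
  constructor
  · intro h
    have h' : J.spanFinrank + b ≤ c + b := by exact_mod_cast h
    have heq : J.spanFinrank = c := by omega
    obtain ⟨s, hs1, hs2⟩ :=
      Submodule.FG.exists_span_finset_card_eq_spanFinrank (p := J) J.fg_of_isNoetherianRing
    exact ⟨s, hs1.trans heq, hs2⟩
  · rintro ⟨s, hs1, hs2⟩
    have h1 : J.spanFinrank ≤ c := by
      rw [← hs2, ← hs1]
      have := Submodule.spanFinrank_span_le_ncard_of_finite (R := Localization.AtPrime P)
        (s := (s : Set (Localization.AtPrime P))) s.finite_toSet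
      rwa [Set.ncard_coe_finset] at this
    have h2 : J.spanFinrank + b ≤ c + b := by omega
    exact_mod_cast h2

end Groth.Agent.H66.GlobalCI
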