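import Groth.Agent.H66.RelCI3

/-!
# Lifting syntomic algebras along `R → R/I` (helper66)
-/

set_option autoImplicit false
set_option linter.style.haveILetI false
set_option linter.unusedSectionVars false
set_option linter.unusedVariables false

universe u

namespace Groth.Agent.H66.RelCI

open TensorProduct Groth.Agent.H9.FibDim Groth.Agent.H66.FibreReg Groth.Agent.H66.RelGCI
  Groth.Agent.H66.GlobalCI

/-- A syntomic algebra is a relative global complete intersection in a basic open neighbourhood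
of every prime. -/
theorem exists_relGCI_of_isSyntomic {R S : Type u} [CommRing R] [CommRing S] [Algebra R S]
    (h : Synt.IsSyntomic R S) (q0 : PrimeSpectrum S) :
    ∃ g : S, g ∉ q0.asIdeal ∧ ∃ (n c : ℕ) (F : Fin c → MvPolynomial (Fin n) R),
      Synt.IsRelGCI R n c F ∧ Nonempty (Localization.Away g ≃ₐ[R] Synt.RelGCIRing R n c F) := by
  obtain ⟨p, hp⟩ : ∃ p : Ideal R, p = q0.asIdeal.under R := ⟨_, rfl⟩
  haveI : p.IsPrime := by rw [hp]; infer_instance
  haveI : q0.asIdeal.LiesOver p := ⟨hp⟩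
  obtain ⟨Q, hQ⟩ := exists_fiber_prime p q0.asIdeal
  have hsyn1 : Synt.IsSyntomic R (Localization.Away (1 : S)) :=
    isSyntomic_of_algEquiv
      ((IsLocalization.atOne S (Localization.Away (1 : S))).restrictScalars R) h
  have h1 : (1 : S) ∉ q0.asIdeal := fun h1 =>
    q0.isPrime.ne_top ((Ideal.eq_top_iff_one _).mpr h1)
  exact (Groth.Agent.S9169.result R S p q0.asIdeal Q.asIdeal hQ).1.mp ⟨1, h1, hsyn1⟩

/-- Reduction of a presented algebra modulo an ideal of the base. -/
theorem nonempty_relGCIRing_quot_equiv (R : Type u) [CommRing R] (I : Ideal R) (n c : ℕ)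
    (F : Fin c → MvPolynomial (Fin n) R) :
    Nonempty (Synt.RelGCIRing (R ⧸ I) n c (fun i => MvPolynomial.map (Ideal.Quotient.mk I) (F i))
      ≃ₐ[R] (Synt.RelGCIRing R n c F ⧸ I.map (algebraMap R (Synt.RelGCIRing R n c F)))) := by
  obtain ⟨Fb, hFb⟩ : ∃ Fb : Fin c → MvPolynomial (Fin n) (R ⧸ I),
    Fb = fun i => MvPolynomial.map (Ideal.Quotient.mk I) (F i) := ⟨_, rfl⟩
  rw [← hFb]
  let m : MvPolynomial (Fin n) R →ₐ[R] MvPolynomial (Fin n) (R ⧸ I) :=
    MvPolynomial.mapAlgHom (Ideal.Quotient.mkₐ R I)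
  have hm : ∀ x, m x = MvPolynomial.map (Ideal.Quotient.mk I) x := fun x => rfl
  have hmsurj : Function.Surjective m :=
    MvPolynomial.map_surjective _ Ideal.Quotient.mk_surjective
  let Φ : MvPolynomial (Fin n) R →ₐ[R] Synt.RelGCIRing (R ⧸ I) n c Fb :=
    (Ideal.Quotient.mkₐ R (Ideal.span (Set.range Fb))).comp m
  have hΦ : Function.Surjective Φ :=
    (Ideal.Quotient.mkₐ_surjective R _).comp hmsurj
  let Ψ : MvPolynomial (Fin n) R →ₐ[R]
      (Synt.RelGCIRing R n c F ⧸ I.map (algebraMap R (Synt.RelGCIRing R n c F))) :=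
    (Ideal.Quotient.mkₐ R _).comp (Ideal.Quotient.mkₐ R (Ideal.span (Set.range F)))
  have hΨ : Function.Surjective Ψ :=
    (Ideal.Quotient.mkₐ_surjective R _).comp (Ideal.Quotient.mkₐ_surjective R _)
  have hkm : RingHom.ker m = I.map (MvPolynomial.C : R →+* MvPolynomial (Fin n) R) := by
    have := MvPolynomial.ker_mapAlgHom (σ := Fin n) (Ideal.Quotient.mkₐ R I)
    rw [this]
    congr 1
    exact Ideal.Quotient.mkₐ_ker R I
  have hkΦ : RingHom.ker Φ = Ideal.span (Set.range F) ⊔
      I.map (MvPolynomial.C : R →+* MvPolynomial (Fin n) R) := by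
    have h1 : RingHom.ker Φ = (Ideal.span (Set.range Fb)).comap m := by
      ext x
      rw [RingHom.mem_ker, Ideal.mem_comap]
      show Ideal.Quotient.mk _ (m x) = 0 ↔ _
      rw [Ideal.Quotient.eq_zero_iff_mem]
    have h2 : Ideal.span (Set.range Fb) = (Ideal.span (Set.range F)).map m := by
      rw [Ideal.map_span, ← Set.range_comp, hFb]
      rfl
    rw [h1, h2, Ideal.comap_map_of_surjective m hmsurj, ← RingHom.ker_eq_comap_bot, hkm]
  have hkΨ : RingHom.ker Ψ = Ideal.span (Set.range F) ⊔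
      I.map (MvPolynomial.C : R →+* MvPolynomial (Fin n) R) := by
    have h1 : RingHom.ker Ψ = (I.map (algebraMap R (Synt.RelGCIRing R n c F))).comap
        (Ideal.Quotient.mk (Ideal.span (Set.range F))) := by
      ext x
      rw [RingHom.mem_ker, Ideal.mem_comap]
      show Ideal.Quotient.mk _ (Ideal.Quotient.mk _ x) = 0 ↔ _
      rw [Ideal.Quotient.eq_zero_iff_mem]
    have h2 : I.map (algebraMap R (Synt.RelGCIRing R n c F)) =
        (I.map (MvPolynomial.C : R →+* MvPolynomial (Fin n) R)).map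
          (Ideal.Quotient.mk (Ideal.span (Set.range F))) := by
      rw [Ideal.map_map]; rfl
    rw [h1, h2, Ideal.comap_map_of_surjective _ Ideal.Quotient.mk_surjective,
      ← RingHom.ker_eq_comap_bot, Ideal.mk_ker, sup_comm]
  exact ⟨(Ideal.quotientKerAlgEquivOfSurjective hΦ).symm.trans
    ((Ideal.quotientEquivAlgOfEq R (hkΦ.trans hkΨ.symm)).trans
      (Ideal.quotientKerAlgEquivOfSurjective hΨ))⟩

/-- Base change of an isomorphism to the quotients by `I`. -/
theorem nonempty_quot_equiv_of_algEquiv {R A A' : Type u} [CommRing R] [CommRing A] [CommRing A']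
    [Algebra R A] [Algebra R A'] (I : Ideal R) (e : A ≃ₐ[R] A') :
    Nonempty ((A ⧸ I.map (algebraMap R A)) ≃ₐ[R] (A' ⧸ I.map (algebraMap R A'))) := by
  refine ⟨Ideal.quotientEquivAlg _ _ e ?_⟩
  rw [Ideal.map_map]
  congr 1
  ext r
  exact (e.commutes r).symm

/-- Inverting an element congruent to `1` modulo `I` does not change the reduction modulo `I`. -/
theorem nonempty_quot_equiv_away {R T : Type u} [CommRing R] [CommRing T] [Algebra R T]
    (I : Ideal R) (t : T) (ht : Ideal.Quotient.mk (I.map (algebraMap R T)) t = 1) :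
    Nonempty ((T ⧸ I.map (algebraMap R T)) ≃ₐ[R]
      (Localization.Away t ⧸ I.map (algebraMap R (Localization.Away t)))) := by
  obtain ⟨IT, hIT⟩ : ∃ IT : Ideal T, IT = I.map (algebraMap R T) := ⟨_, rfl⟩
  rw [← hIT] at ht ⊢
  have hmm : I.map (algebraMap R (Localization.Away t)) =
      IT.map (algebraMap T (Localization.Away t)) := by
    rw [hIT, Ideal.map_map, ← IsScalarTower.algebraMap_eq]
  rw [hmm]
  haveI : IsLocalization (Algebra.algebraMapSubmonoid (T ⧸ IT) (Submonoid.powers t))
      (Localization.Away t ⧸ IT.map (algebraMap T (Localization.Away t))) := inferInstance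
  have hunits : Algebra.algebraMapSubmonoid (T ⧸ IT) (Submonoid.powers t) ≤
      IsUnit.submonoid (T ⧸ IT) := by
    rintro _ ⟨_, ⟨k, rfl⟩, rfl⟩
    show IsUnit (algebraMap T (T ⧸ IT) (t ^ k))
    rw [map_pow]
    have : algebraMap T (T ⧸ IT) t = 1 := ht
    rw [this, one_pow]
    exact isUnit_one
  haveI : IsScalarTower R (T ⧸ IT)
      (Localization.Away t ⧸ IT.map (algebraMap T (Localization.Away t))) := by
    refine IsScalarTower.of_algebraMap_eq' ?_
    rw [IsScalarTower.algebraMap_eq R T (T ⧸ IT), ← RingHom.comp_assoc,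
      ← IsScalarTower.algebraMap_eq T (T ⧸ IT), ← IsScalarTower.algebraMap_eq R T]
  exact ⟨(IsLocalization.atUnits (T ⧸ IT)
    (Algebra.algebraMapSubmonoid (T ⧸ IT) (Submonoid.powers t)) hunits).restrictScalars R⟩

end Groth.Agent.H66.RelCI
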