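import Mathlib
import Groth.Prelude.Def_RegImm
import Groth.Agent.H66.RelCI4
import Groth.Agent.S9169

/-!
# Syntomic in a neighbourhood of a prime of the special fibre, given flatness (helper66)

Provider lemma (ES1) for S6826: if `A` is a finitely presented `R`-algebra whose reduction
`A/IA = A₀` is syntomic over `R/I`, and `A_q` is flat over `R` for a prime `q ⊇ IA`, then `A_g` is
syntomic over `R` for some `g ∉ q`.
-/

set_option autoImplicit false
set_option linter.style.haveILetI false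
set_option linter.unusedSectionVars false
set_option linter.unusedVariables false

universe u

namespace Groth.Agent.H66.SyntAwayFlat

open TensorProduct Groth.Agent.H9.FibDim Groth.Agent.H66.FibreReg Groth.Agent.H66.RelGCI
  Groth.Agent.H66.GlobalCI Groth.Agent.H66.RelCI

/-- The fibre local ring of a syntomic algebra at any prime is a regular local ring modulo a
regular sequence. -/
theorem exists_fibLoc_equiv_of_isSyntomic {R S : Type u} [CommRing R] [CommRing S] [Algebra R S]
    (h : Synt.IsSyntomic R S) (q : Ideal S) [q.IsPrime] :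
    ∃ (R0 : Type u) (_ : CommRing R0) (_ : IsRegularLocalRing R0) (rs0 : List R0),
      RingTheory.Sequence.IsRegular R0 rs0 ∧
        Nonempty (EGA4.FibLocRing R S q ≃+* R0 ⧸ Ideal.ofList rs0) := by
  obtain ⟨p, hp⟩ : ∃ p : Ideal R, p = q.under R := ⟨_, rfl⟩
  haveI : p.IsPrime := by rw [hp]; infer_instance
  haveI : q.LiesOver p := ⟨hp⟩
  obtain ⟨Q, hQ⟩ := exists_fiber_prime p q
  have hsyn1 : Synt.IsSyntomic R (Localization.Away (1 : S)) :=
    isSyntomic_of_algEquiv
      ((IsLocalization.atOne S (Localization.Away (1 : S))).restrictScalars R) h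
  have h1 : (1 : S) ∉ q := fun h1 =>
    (inferInstance : q.IsPrime).ne_top ((Ideal.eq_top_iff_one _).mpr h1)
  obtain ⟨g, hg, hfp, hfl, R0, i1, i2, i3, hess, rs, hrs, hreg, ⟨e⟩⟩ :=
    (Groth.Agent.S9169.result R S p q Q.asIdeal hQ).2.mp ⟨1, h1, hsyn1⟩
  obtain ⟨e'⟩ := nonempty_loc_fiber_equiv p Q.asIdeal q hQ
  exact ⟨R0, i1, i2, rs, hreg, ⟨e'.symm.trans e.toRingEquiv⟩⟩

/-- Auxiliary form of (ES1), with the prime given downstairs. -/
theorem exists_syntomic_away_aux {R A A₀ : Type u} [CommRing R] [CommRing A] [Algebra R A]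
    (I : Ideal R) [CommRing A₀] [Algebra (R ⧸ I) A₀] [Algebra R A₀] [IsScalarTower R (R ⧸ I) A₀]
    (h : Synt.IsSyntomic (R ⧸ I) A₀) [Algebra.FinitePresentation R A] (π : A →ₐ[R] A₀)
    (hπ : Function.Surjective π) (hker : RingHom.ker π.toRingHom = I.map (algebraMap R A))
    (Q₀ : Ideal A₀) [Q₀.IsPrime]
    (hflat : Module.Flat R (Localization.AtPrime (Q₀.comap π.toRingHom))) :
    ∃ g : A, g ∉ Q₀.comap π.toRingHom ∧ Synt.IsSyntomic R (Localization.Away g) := by
  obtain ⟨R0, i1, i2, rs0, hreg, ⟨e0⟩⟩ := exists_fibLoc_equiv_of_isSyntomic h Q₀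
  -- step 2 : the fibre local ring does not see the change of base `R → R/I`
  have hJ : (Q₀.comap (algebraMap (R ⧸ I) A₀)).map
      (algebraMap (R ⧸ I) (Localization.AtPrime Q₀)) =
      (Q₀.comap (algebraMap R A₀)).map (algebraMap R (Localization.AtPrime Q₀)) := by
    have htower : algebraMap R (Localization.AtPrime Q₀) =
        (algebraMap (R ⧸ I) (Localization.AtPrime Q₀)).comp (Ideal.Quotient.mk I) := by
      ext r
      simp only [RingHom.comp_apply]
      rw [IsScalarTower.algebraMap_apply R A₀ (Localization.AtPrime Q₀),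
        IsScalarTower.algebraMap_apply (R ⧸ I) A₀ (Localization.AtPrime Q₀),
        IsScalarTower.algebraMap_apply R (R ⧸ I) A₀]
      rfl
    have hcomap : Q₀.comap (algebraMap R A₀) =
        (Q₀.comap (algebraMap (R ⧸ I) A₀)).comap (Ideal.Quotient.mk I) := by
      rw [Ideal.comap_comap]
      congr 1
      exact IsScalarTower.algebraMap_eq R (R ⧸ I) A₀
    rw [hcomap, htower, ← Ideal.map_map,
      Ideal.map_comap_of_surjective _ Ideal.Quotient.mk_surjective]
  let e2 : EGA4.FibLocRing (R ⧸ I) A₀ Q₀ ≃+* EGA4.FibLocRing R A₀ Q₀ := Ideal.quotEquivOfEq hJ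
  -- step 3
  obtain ⟨e3⟩ := nonempty_fibLoc_equiv_quot π hπ Q₀
  -- step 4
  have hq : I.map (algebraMap R A) ≤ Q₀.comap π.toRingHom := by
    rw [← hker]
    intro x hx
    rw [Ideal.mem_comap, RingHom.mem_ker.mp hx]
    exact zero_mem _
  have hbot : (RingHom.ker π.toRingHom).map
      (algebraMap A (EGA4.FibLocRing R A (Q₀.comap π.toRingHom))) = ⊥ := by
    rw [hker, Ideal.map_map, ← IsScalarTower.algebraMap_eq, Ideal.map_eq_bot_iff_le_ker]
    intro r hr
    rw [RingHom.mem_ker,
      IsScalarTower.algebraMap_apply R (Localization.AtPrime (Q₀.comap π.toRingHom))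
        (EGA4.FibLocRing R A (Q₀.comap π.toRingHom)),
      Ideal.Quotient.algebraMap_eq, Ideal.Quotient.eq_zero_iff_mem]
    refine Ideal.mem_map_of_mem _ ?_
    rw [Ideal.mem_comap]
    exact hq (Ideal.mem_map_of_mem _ hr)
  -- step 5
  let e : EGA4.FibLocRing R A (Q₀.comap π.toRingHom) ≃+* R0 ⧸ Ideal.ofList rs0 :=
    ((RingEquiv.quotientBot _).symm.trans (Ideal.quotEquivOfEq hbot.symm)).trans
      (e3.symm.trans (e2.symm.trans e0))
  -- step 6
  obtain ⟨n, φ, hφ, hfg⟩ := Algebra.FinitePresentation.out (R := R) (A := A)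
  obtain ⟨g, hg, n', c', F', hrel, ⟨eg⟩⟩ :=
    exists_relGCI_away φ hφ hfg (Q₀.comap π.toRingHom) hflat ⟨R0, i1, i2, rs0, hreg, ⟨e⟩⟩
  exact ⟨g, hg, isSyntomic_of_algEquiv eg.symm (isSyntomic_of_isRelGCI R n' c' F' hrel)⟩

/-- **(ES1)** If `A` is a finitely presented `R`-algebra whose reduction `A/IA ≅ A₀` is syntomic
over `R/I`, and `A_q` is flat over `R` for a prime `q ⊇ IA`, then `A_g` is syntomic over `R` for
some `g ∉ q`. -/
theorem exists_syntomic_away_of_flat {R A A₀ : Type u} [CommRing R] [CommRing A] [Algebra R A]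
    (I : Ideal R) [CommRing A₀] [Algebra (R ⧸ I) A₀] [Algebra R A₀] [IsScalarTower R (R ⧸ I) A₀]
    (h : Synt.IsSyntomic (R ⧸ I) A₀) [Algebra.FinitePresentation R A] (π : A →ₐ[R] A₀)
    (hπ : Function.Surjective π) (hker : RingHom.ker π.toRingHom = I.map (algebraMap R A))
    (q : Ideal A) [q.IsPrime] (hq : I.map (algebraMap R A) ≤ q)
    (hflat : Module.Flat R (Localization.AtPrime q)) :
    ∃ g : A, g ∉ q ∧ Synt.IsSyntomic R (Localization.Away g) := by
  have hkq : RingHom.ker π.toRingHom ≤ q := hker ▸ hq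
  have hπ' : Function.Surjective π.toRingHom := hπ
  obtain ⟨Q₀, hQ₀, hQ₀q⟩ : ∃ Q₀ : Ideal A₀, Q₀.IsPrime ∧ Q₀.comap π.toRingHom = q := by
    refine ⟨q.map π.toRingHom, Ideal.map_isPrime_of_surjective hπ' hkq, ?_⟩
    rw [Ideal.comap_map_of_surjective _ hπ', sup_eq_left]
    exact hkq
  subst hQ₀q
  exact exists_syntomic_away_aux I h π hπ hker Q₀ hflat

end Groth.Agent.H66.SyntAwayFlat
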