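import Mathlib
import Groth.Agent.H57.RelAssGen.Defs
import Groth.Agent.H51.RA_B1
import Groth.Agent.H83.RA_B2a

/-!
# (AV) for helper57's S5872/S5873 squad: fibre-generic points of `V(q₀)` avoid `V(J)` near the
generic point if `q₀ ∉ V(J)`.
-/

set_option autoImplicit false
universe u

open Groth.Agent.H57.RelAssGen

namespace Groth.Agent.H66.SU_AV

section Domain

variable {A B M : Type u} [CommRing A] [IsDomain A] [CommRing B] [Algebra A B]
  [Algebra.FiniteType A B] [AddCommGroup M] [Module B M] [Module A M] [IsScalarTower A B M]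
  [Module.Finite B M]

/-- (AV) the fibre-generic points of `V(q₀)` avoid `V(J)` near the generic point if `q₀ ∉ V(J)`. -/
theorem avoid_of_fibMin (q₀ : Ideal B) [q₀.IsPrime] (hq₀ : q₀.comap (algebraMap A B) = ⊥)
    (J : Ideal B) (hJ : ¬ J ≤ q₀) :
    ∃ a : A, a ≠ 0 ∧ ∀ q : Ideal B, q.IsPrime → algebraMap A B a ∉ q → q₀ ≤ q →
      (∀ q' : Ideal B, q'.IsPrime → q₀ ≤ q' → q' ≤ q →
        q'.comap (algebraMap A B) = q.comap (algebraMap A B) → q' = q) →
      ¬ J ≤ q := by
  classical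
  have hq₀prime : q₀.IsPrime := inferInstance
  have hfib0 : fibI A q₀ = ⊥ := by unfold fibI; rw [hq₀, Ideal.map_bot]
  have hsm : ∀ s m' : B, s • (Ideal.Quotient.mk q₀ m') = Ideal.Quotient.mk q₀ (s * m') :=
    fun s m' => rfl
  have hav : ∀ q : Ideal B, q.IsPrime → q.comap (algebraMap A B) = ⊥ →
      SocAt (fibI A q) q (B ⧸ q₀) → ¬ J ≤ q := by
    intro q hq hqc hsoc hJq
    have hfib : fibI A q = ⊥ := by unfold fibI; rw [hqc, Ideal.map_bot]
    obtain ⟨m, h1, h2⟩ := hsoc
    rw [hfib] at h1 h2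
    simp only [Submodule.bot_smul, Submodule.mem_bot] at h1 h2
    obtain ⟨m', rfl⟩ := Ideal.Quotient.mk_surjective m
    have hle : q₀ ≤ q := by
      intro b hb
      by_contra hbq
      apply h1 b hbq
      rw [hsm, Ideal.Quotient.eq_zero_iff_mem]
      exact Ideal.mul_mem_right _ _ hb
    have hm' : m' ∉ q₀ := by
      intro hm
      apply h1 1 (fun h => hq.ne_top ((Ideal.eq_top_iff_one _).2 h))
      rw [hsm, Ideal.Quotient.eq_zero_iff_mem, one_mul]
      exact hm
    have hge : q ≤ q₀ := by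
      intro b hb
      obtain ⟨s, hs, hsb⟩ := h2 b hb
      rw [hsm, Ideal.Quotient.eq_zero_iff_mem] at hsb
      rcases hq₀prime.mem_or_mem hsb with h | h
      · rcases hq₀prime.mem_or_mem h with h' | h'
        · exact absurd (hle h') hs
        · exact h'
      · exact absurd h hm'
    have hqq : q = q₀ := le_antisymm hge hle
    exact hJ (hqq ▸ hJq)
  obtain ⟨a₁, ha₁, hA⟩ :=
    Groth.Agent.H51.RA_B1.core_avoid (A := A) (B := B) (M := B ⧸ q₀) J hav
  have h₀ : SocAt (fibI A q₀) q₀ (B ⧸ q₀) := by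
    refine ⟨Ideal.Quotient.mk q₀ 1, ?_, ?_⟩
    · intro s hs
      rw [hfib0]
      simp only [Submodule.bot_smul, Submodule.mem_bot]
      rw [hsm, mul_one, Ideal.Quotient.eq_zero_iff_mem]
      exact hs
    · intro b hb
      refine ⟨1, fun h => hq₀prime.ne_top ((Ideal.eq_top_iff_one _).2 h), ?_⟩
      rw [hfib0]
      simp only [Submodule.bot_smul, Submodule.mem_bot]
      rw [hsm, one_mul, mul_one, Ideal.Quotient.eq_zero_iff_mem]
      exact hb
  obtain ⟨a₂, ha₂, hB⟩ :=
    Groth.Agent.H83.RA.core_generic_min (A := A) (B := B) (M := B ⧸ q₀) q₀ hq₀ h₀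
  refine ⟨a₁ * a₂, mul_ne_zero ha₁ ha₂, fun q hq haq hle hmin => ?_⟩
  have h1 : algebraMap A B a₁ ∉ q := fun h =>
    haq (by rw [map_mul]; exact Ideal.mul_mem_right _ _ h)
  have h2 : algebraMap A B a₂ ∉ q := fun h =>
    haq (by rw [map_mul]; exact Ideal.mul_mem_left _ _ h)
  exact hA q hq h1 (hB q hq hle h2 hmin)

end Domain

end Groth.Agent.H66.SU_AV
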