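import Mathlib
import Groth.Agent.H57.RelAssGen.Defs
import Groth.Agent.H11.NoetherDomain2

/-!
# (C1) for helper57's S5872/S5873 squad: generic Noether normalization modulo an ideal `𝔞` with
`𝔞 ∩ A = 0`.
-/

set_option autoImplicit false
universe u

open Groth.Agent.H57.RelAssGen

namespace Groth.Agent.H66.SU_C1

section Domain

variable {A B M : Type u} [CommRing A] [IsDomain A] [CommRing B] [Algebra A B]
  [Algebra.FiniteType A B] [AddCommGroup M] [Module B M] [Module A M] [IsScalarTower A B M]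
  [Module.Finite B M]

/-- (C1) generic Noether normalization modulo an ideal `𝔞` with `𝔞 ∩ A = 0`. -/
theorem exists_noether_normalization (𝔞 : Ideal B) (h𝔞 : 𝔞.comap (algebraMap A B) = ⊥) :
    ∃ (d : ℕ) (φ : MvPolynomial (Fin d) A →ₐ[A] B) (a₁ : A), a₁ ≠ 0 ∧
      (∀ c : MvPolynomial (Fin d) A, φ c ∈ 𝔞 → c = 0) ∧
      ∀ b : B, ∃ k : ℕ,
        ((Ideal.Quotient.mk 𝔞).comp (φ : MvPolynomial (Fin d) A →+* B)).IsIntegralElem
          (Ideal.Quotient.mk 𝔞 (algebraMap A B (a₁ ^ k) * b)) := by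
  classical
  haveI : Algebra.FiniteType A (B ⧸ 𝔞) :=
    Algebra.FiniteType.of_surjective (Ideal.Quotient.mkₐ A 𝔞) (Ideal.Quotient.mkₐ_surjective A 𝔞)
  have hmap : ∀ x : A, algebraMap A (B ⧸ 𝔞) x = Ideal.Quotient.mk 𝔞 (algebraMap A B x) :=
    fun x => rfl
  have hinj : Function.Injective (algebraMap A (B ⧸ 𝔞)) := by
    rw [injective_iff_map_eq_zero]
    intro x hx
    rw [hmap, Ideal.Quotient.eq_zero_iff_mem] at hx
    have hx' : x ∈ 𝔞.comap (algebraMap A B) := hx
    rw [h𝔞] at hx'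
    exact (Ideal.mem_bot).1 hx'
  obtain ⟨d, y, S', hai, hyS', -, hint, f, hf0, hf⟩ :=
    Groth.Agent.H11.noether_normalization_over_domain (R := A) (S := B ⧸ 𝔞) hinj
  choose t ht using fun i => Ideal.Quotient.mk_surjective (y i)
  let φ : MvPolynomial (Fin d) A →ₐ[A] B := MvPolynomial.aeval t
  have hcomp : ∀ c : MvPolynomial (Fin d) A,
      Ideal.Quotient.mk 𝔞 (φ c) = MvPolynomial.aeval y c := by
    intro c
    have h1 := MvPolynomial.comp_aeval_apply (f := t) (Ideal.Quotient.mkₐ A 𝔞) c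
    have h2 : (fun i => Ideal.Quotient.mkₐ A 𝔞 (t i)) = y := funext ht
    rw [h2] at h1
    exact h1
  refine ⟨d, φ, f, hf0, ?_, ?_⟩
  · intro c hc
    have h1 : MvPolynomial.aeval y c = 0 := by
      rw [← hcomp, Ideal.Quotient.eq_zero_iff_mem]
      exact hc
    have hinj' := (algebraicIndependent_iff_injective_aeval).1 hai
    exact hinj' (by rw [h1, map_zero])
  · intro b
    obtain ⟨k, hk⟩ := hf (Ideal.Quotient.mk 𝔞 b)
    refine ⟨k, ?_⟩
    have hz : IsIntegral (Algebra.adjoin A (Set.range y)) (f ^ k • Ideal.Quotient.mk 𝔞 b) :=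
      hint _ hk
    have hzeq : f ^ k • Ideal.Quotient.mk 𝔞 b =
        Ideal.Quotient.mk 𝔞 (algebraMap A B (f ^ k) * b) := by
      rw [Algebra.smul_def, hmap, ← map_mul]
    rw [hzeq] at hz
    obtain ⟨P, hPm, hP0⟩ := hz
    let f₀ : MvPolynomial (Fin d) A →ₐ[A] Algebra.adjoin A (Set.range y) :=
      (MvPolynomial.aeval y).codRestrict _ (fun p => by
        rw [Algebra.adjoin_range_eq_range_aeval]; exact ⟨p, rfl⟩)
    have hf₀surj : Function.Surjective
        (f₀ : MvPolynomial (Fin d) A →+* Algebra.adjoin A (Set.range y)) := by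
      rintro ⟨z, hz⟩
      have hz' : z ∈ (MvPolynomial.aeval y : MvPolynomial (Fin d) A →ₐ[A] B ⧸ 𝔞).range := by
        rw [← Algebra.adjoin_range_eq_range_aeval]; exact hz
      obtain ⟨p, hp⟩ := hz'
      exact ⟨p, Subtype.ext hp⟩
    obtain ⟨Q, hQmap, -, hQm⟩ := Polynomial.lifts_and_natDegree_eq_and_monic
      (Polynomial.mem_lifts_of_surjective hf₀surj P) hPm
    have hg : ((Ideal.Quotient.mk 𝔞).comp (φ : MvPolynomial (Fin d) A →+* B)) =
        (algebraMap (Algebra.adjoin A (Set.range y)) (B ⧸ 𝔞)).comp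
          (f₀ : MvPolynomial (Fin d) A →+* Algebra.adjoin A (Set.range y)) :=
      RingHom.ext fun c => hcomp c
    unfold RingHom.IsIntegralElem
    refine ⟨Q, hQm, ?_⟩
    rw [hg, ← Polynomial.eval₂_map, hQmap]
    exact hP0

end Domain

end Groth.Agent.H66.SU_C1
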