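import Mathlib
import Groth.Prelude.Def_FlatCA

/-!
# Localizations away from compatible elements (helper66)

Provider lemmas (X3), (X4a), (X4b) for helper20's S12246/S12247 squad, in the exact requested
forms.
-/

set_option autoImplicit false
set_option linter.unusedVariables false

universe u

open TensorProduct

namespace Groth.Agent.H66.ShrinkAway

/-- If `c` divides a power of `a`, then inverting `a * c` is the same as inverting `a`. -/
theorem away_mul_of_away (A A' : Type u) [CommRing A] [CommRing A'] [Algebra A A'] (a : A)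
    [IsLocalization.Away a A'] (c d : A) (k : ℕ) (h2 : c * d = a ^ k) :
    IsLocalization.Away (a * c) A' := by
  have hN : IsLocalization (Submonoid.powers a ⊔ Submonoid.powers (a * c)) A' := by
    refine IsLocalization.of_le_of_exists_dvd (Submonoid.powers a) _ le_sup_left ?_
    intro n hn
    obtain ⟨y, ⟨i, rfl⟩, z, ⟨j, rfl⟩, rfl⟩ := Submonoid.mem_sup.mp hn
    refine ⟨a ^ (i + j + k * j), ⟨_, rfl⟩, d ^ j, ?_⟩
    have h3 : a ^ (k * j) = c ^ j * d ^ j := by rw [pow_mul, ← h2, mul_pow]
    rw [pow_add, pow_add, h3]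
    ring
  refine (IsLocalization.iff_of_le_of_exists_dvd (Submonoid.powers (a * c))
    (Submonoid.powers a ⊔ Submonoid.powers (a * c)) le_sup_right ?_).mpr hN
  intro n hn
  obtain ⟨y, ⟨i, rfl⟩, z, ⟨j, rfl⟩, rfl⟩ := Submonoid.mem_sup.mp hn
  exact ⟨(a * c) ^ (i + j), ⟨_, rfl⟩, c ^ i, by ring⟩

/-- (X3) -/
theorem isPushout_of_away (B B' A A' : Type u) [CommRing B] [CommRing B'] [CommRing A]
    [CommRing A'] [Algebra B B'] [Algebra B A] [Algebra A A'] [Algebra B' A'] [Algebra B A']
    [IsScalarTower B B' A'] [IsScalarTower B A A'] (b : B) (a : A)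
    [IsLocalization.Away b B'] [IsLocalization.Away a A'] (c d : A) (k : ℕ)
    (h1 : algebraMap B A b = a * c) (h2 : c * d = a ^ k) : Algebra.IsPushout B B' A A' := by
  have h3 : IsLocalization.Away (a * c) A' := away_mul_of_away A A' a c d k h2
  have : IsLocalization (Algebra.algebraMapSubmonoid A (Submonoid.powers b)) A' := by
    rw [Algebra.algebraMapSubmonoid_powers, h1]
    exact h3
  exact (Algebra.isPushout_of_isLocalization (Submonoid.powers b) B' A A').symm

/-- (X4a) -/
theorem comap_map_away (B B' A A' : Type u) [CommRing B] [CommRing B'] [CommRing A]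
    [CommRing A'] [Algebra B B'] [Algebra B A] [Algebra A A'] [Algebra B' A'] [Algebra B A']
    [IsScalarTower B B' A'] [IsScalarTower B A A'] (b : B) (a : A)
    [IsLocalization.Away b B'] [IsLocalization.Away a A']
    (P : Ideal B) [P.IsPrime] (Q : Ideal A) [Q.IsPrime] (hb : b ∉ P) (ha : a ∉ Q)
    (h : Q.comap (algebraMap B A) = P) :
    (Q.map (algebraMap A A')).comap (algebraMap B' A') = P.map (algebraMap B B') := by
  have hdisj : Disjoint (Submonoid.powers a : Set A) (Q : Set A) := by
    rw [Set.disjoint_left]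
    rintro x ⟨n, rfl⟩ hx
    exact ha (Ideal.IsPrime.mem_of_pow_mem inferInstance n hx)
  have hQ : (Q.map (algebraMap A A')).comap (algebraMap A A') = Q :=
    IsLocalization.under_map_of_isPrime_disjoint (Submonoid.powers a) A' inferInstance hdisj
  have hJ : ((Q.map (algebraMap A A')).comap (algebraMap B' A')).comap (algebraMap B B') = P := by
    rw [Ideal.comap_comap, ← IsScalarTower.algebraMap_eq, IsScalarTower.algebraMap_eq B A A',
      ← Ideal.comap_comap, hQ, h]
  have hmu := IsLocalization.map_under (Submonoid.powers b) B'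
    ((Q.map (algebraMap A A')).comap (algebraMap B' A'))
  rw [Ideal.under_def, hJ] at hmu
  exact hmu.symm

/-- (X4b) -/
theorem uniq_map_away (B B' A A' : Type u) [CommRing B] [CommRing B'] [CommRing A]
    [CommRing A'] [Algebra B B'] [Algebra B A] [Algebra A A'] [Algebra B' A'] [Algebra B A']
    [IsScalarTower B B' A'] [IsScalarTower B A A'] (b : B) (a : A)
    [IsLocalization.Away b B'] [IsLocalization.Away a A']
    (P : Ideal B) [P.IsPrime] (Q : Ideal A) [Q.IsPrime] (hb : b ∉ P) (ha : a ∉ Q)
    (huniq : ∀ (Q₁ : Ideal A) [Q₁.IsPrime], Q₁.LiesOver P → Q₁ = Q)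
    (Q' : Ideal A') [Q'.IsPrime] (hQ' : Q'.LiesOver (P.map (algebraMap B B'))) :
    Q' = Q.map (algebraMap A A') := by
  have hdisj : Disjoint (Submonoid.powers b : Set B) (P : Set B) := by
    rw [Set.disjoint_left]
    rintro x ⟨n, rfl⟩ hx
    exact hb (Ideal.IsPrime.mem_of_pow_mem inferInstance n hx)
  have hP : (P.map (algebraMap B B')).comap (algebraMap B B') = P :=
    IsLocalization.under_map_of_isPrime_disjoint (Submonoid.powers b) B' inferInstance hdisj
  have : (Q'.comap (algebraMap A A')).IsPrime := Ideal.comap_isPrime _ Q'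
  have hover : (Q'.comap (algebraMap A A')).LiesOver P := by
    constructor
    show P = (Q'.comap (algebraMap A A')).comap (algebraMap B A)
    rw [Ideal.comap_comap, ← IsScalarTower.algebraMap_eq, IsScalarTower.algebraMap_eq B B' A',
      ← Ideal.comap_comap]
    have h1 : Q'.comap (algebraMap B' A') = P.map (algebraMap B B') := hQ'.over.symm
    rw [h1, hP]
  have hQ1 : Q'.comap (algebraMap A A') = Q := huniq _ hover
  rw [← hQ1]
  exact (IsLocalization.map_under (Submonoid.powers a) A' Q').symm

end Groth.Agent.H66.ShrinkAway
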