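import Mathlib
import Groth.Prelude.Def_PBC
import Groth.Prelude.Def_ProEtS

/-! (F2) for helper23's S0721 squad: an epimorphism of abelian pro-etale sheaves is surjective on
sections over a weakly contractible object. -/

set_option autoImplicit false
set_option backward.isDefEq.respectTransparency.types false
universe u

open CategoryTheory CategoryTheory.Limits AlgebraicGeometry Opposite

namespace Groth.Agent.H66.WC_F2

theorem surjective_of_epi_of_isWC {X : Scheme.{u}} (U : X.ProEt) (hU : ProEtS.IsWC U)
    {F G : ProEtS.AbP X} (φ : F ⟶ G) [Epi φ] : Function.Surjective (φ.hom.app (op U)) := by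
  have h1 : Sheaf.IsLocallySurjective φ := (Sheaf.isLocallySurjective_iff_epi' _ φ).2 inferInstance
  have h2 : Sheaf.IsLocallySurjective
      ((sheafCompose (Scheme.ProEt.topology X) (forget AddCommGrpCat.{u + 1})).map φ) :=
    inferInstance
  have h3 : Epi ((sheafCompose (Scheme.ProEt.topology X) (forget AddCommGrpCat.{u + 1})).map φ) :=
    inferInstance
  intro y
  obtain ⟨x, hx⟩ := hU _ _ _ h3 y
  exact ⟨x, hx⟩

end Groth.Agent.H66.WC_F2
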