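import Mathlib
import Groth.Prelude.Def_PBC
import Groth.Prelude.Def_ProEtS

/-! (E1) for helper23's S0732 squad: sheafification vanishes at `V` if every covering sieve of `V`
contains a covering family of objects where the presheaf vanishes. -/

set_option autoImplicit false
set_option backward.isDefEq.respectTransparency.types false
universe u

open CategoryTheory CategoryTheory.Limits AlgebraicGeometry Opposite

namespace Groth.Agent.H66.WC_E1

theorem subsingleton_sheafify_of_forall_cover {X : Scheme.{u}}
    (P : X.ProEtᵒᵖ ⥤ AddCommGrpCat.{u + 1}) (V : X.ProEt)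
    (h : ∀ R ∈ Scheme.ProEt.topology X V, ∃ (ι : Type) (Z : ι → X.ProEt) (g : ∀ k, Z k ⟶ V),
      (∀ k, R.arrows (g k)) ∧ Sieve.generate (Presieve.ofArrows Z g) ∈ Scheme.ProEt.topology X V ∧
      ∀ k, Subsingleton (P.obj (op (Z k)))) :
    Subsingleton ((sheafify (Scheme.ProEt.topology X) P).obj (op V)) := by
  set J := Scheme.ProEt.topology X with hJ
  refine ⟨fun s t => ?_⟩
  have hls : Presheaf.IsLocallySurjective J (toSheafify J P) := inferInstance
  have hR : Presheaf.imageSieve (toSheafify J P) s ⊓ Presheaf.imageSieve (toSheafify J P) t ∈ J V :=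
    J.intersection_covering (Presheaf.imageSieve_mem J (toSheafify J P) s)
      (Presheaf.imageSieve_mem J (toSheafify J P) t)
  obtain ⟨ι, Z, g, hg, hcov, hsub⟩ := h _ hR
  have hsheaf : Presheaf.IsSheaf J (sheafify J P) := ((presheafToSheaf J _).obj P).cond
  have hsh2 : Presieve.IsSheaf J (sheafify J P ⋙ forget AddCommGrpCat.{u + 1}) :=
    (isSheaf_iff_isSheaf_of_type J _).1
      ((Presheaf.isSheaf_iff_isSheaf_forget J (sheafify J P) (forget AddCommGrpCat.{u + 1})).1 hsheaf)
  have key : ∀ k, (sheafify J P).map (g k).op s = (sheafify J P).map (g k).op t := by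
    intro k
    obtain ⟨⟨a, ha⟩, ⟨b, hb⟩⟩ := hg k
    have hab : a = b := (hsub k).elim a b
    rw [← ha, ← hb, hab]
  refine (hsh2 _ hcov).isSeparatedFor.ext ?_
  rintro Y f ⟨W, e, _, ⟨k⟩, rfl⟩
  change (sheafify J P).map (e ≫ g k).op s = (sheafify J P).map (e ≫ g k).op t
  rw [op_comp, Functor.map_comp]
  change (sheafify J P).map e.op ((sheafify J P).map (g k).op s) =
    (sheafify J P).map e.op ((sheafify J P).map (g k).op t)
  rw [key k]

end Groth.Agent.H66.WC_E1
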