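import Mathlib
import Groth.Prelude.Def_PBC
import Groth.Prelude.Def_ProEtS

/-! (E2) for helper23's S0732 squad: the left Kan extension along `compP j` vanishes at objects
with no map to the image. -/

set_option autoImplicit false
set_option backward.isDefEq.respectTransparency.types false
universe u

open CategoryTheory CategoryTheory.Limits AlgebraicGeometry Opposite

namespace Groth.Agent.H66.WC_E2

theorem subsingleton_lan_of_isEmpty {U X : Scheme.{u}} (j : U ⟶ X) [WeaklyEtale j]
    (Q : U.ProEtᵒᵖ ⥤ AddCommGrpCat.{u + 1}) (Z : X.ProEt)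
    (hZ : ∀ V' : U.ProEt, IsEmpty (Z ⟶ (ProEtS.compP j).obj V')) :
    Subsingleton (((ProEtS.compP j).op.lan.obj Q).obj (op Z)) := by
  have hc := Functor.isPointwiseLeftKanExtensionLeftKanExtensionUnit (ProEtS.compP j).op Q (op Z)
  haveI : IsEmpty (CostructuredArrow (ProEtS.compP j).op (op Z)) :=
    ⟨fun f => (hZ f.left.unop).false f.hom.unop⟩
  have h0 : 𝟙 (((ProEtS.compP j).op.leftKanExtension Q).obj (op Z)) = 0 :=
    IsColimit.hom_ext hc (fun f => isEmptyElim f)
  have hz : IsZero (((ProEtS.compP j).op.leftKanExtension Q).obj (op Z)) :=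
    (IsZero.iff_id_eq_zero _).2 h0
  exact AddCommGrpCat.subsingleton_of_isZero hz

end Groth.Agent.H66.WC_E2
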