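import Mathlib
import Groth.Prelude.Def_PBC
import Groth.Prelude.Def_ProEtS
import Groth.Agent.S0679
import Groth.Agent.H23.WCMain

/-! (F1) for helper23's S0721 squad: the base change of a w-contractible affine along a finite,
finitely presented morphism is weakly contractible. -/

set_option autoImplicit false
set_option backward.isDefEq.respectTransparency.types false
universe u

open CategoryTheory CategoryTheory.Limits AlgebraicGeometry Opposite

namespace Groth.Agent.H66.WC_F1

theorem isWC_bcP_of_finite {Z X : Scheme.{u}} (f : Z ⟶ X) [IsFinite f]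
    [LocallyOfFinitePresentation f] (W : X.ProEt) [IsAffine W.left]
    (hW : EtPBC.IsWContractible ↥(Γ(W.left, ⊤))) : ProEtS.IsWC ((ProEtS.bcP f).obj W) := by
  haveI hW0 : IsAffine ((𝟭 Scheme).obj W.left) := ‹IsAffine W.left›
  haveI hfinp : IsFinite (pullback.fst W.hom f) := inferInstance
  haveI hfpp : LocallyOfFinitePresentation (pullback.fst W.hom f) := inferInstance
  haveI hY : IsAffine (pullback W.hom f) := isAffine_of_isAffineHom (pullback.fst W.hom f)
  haveI hY' : IsAffine ((ProEtS.bcP f).obj W).left := hY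
  have hfin := (HasAffineProperty.iff_of_isAffine (P := @IsFinite)).1 hfinp
  have hfp := (HasRingHomProperty.iff_of_isAffine (P := @LocallyOfFinitePresentation)).1 hfpp
  letI : Algebra ↥(Γ(W.left, ⊤)) ↥(Γ(pullback W.hom f, ⊤)) :=
    (pullback.fst W.hom f).appTop.hom.toAlgebra
  haveI : Module.Finite ↥(Γ(W.left, ⊤)) ↥(Γ(pullback W.hom f, ⊤)) := hfin.2
  haveI : Algebra.FinitePresentation ↥(Γ(W.left, ⊤)) ↥(Γ(pullback W.hom f, ⊤)) := hfp
  have hwc : EtPBC.IsWContractible ↥(Γ(pullback W.hom f, ⊤)) :=
    Groth.Agent.S0679.result _ _ hW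
  exact (Groth.Agent.H23.WCStmts.S0715 ((ProEtS.bcP f).obj W)).1 hwc

end Groth.Agent.H66.WC_F1
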