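import Mathlib
import Groth.Agent.H37.GeomSepClosed
import Groth.Agent.H38.GeomIrrDescent

/-! (GICRIT) for helper38's S0420 squad: geometric irreducibility of the generic fibre can be
tested on one separably closed geometric generic point. -/

set_option autoImplicit false
universe u

open TensorProduct AlgebraicGeometry CategoryTheory Limits

namespace Groth.Agent.H66.ConnGICRIT

theorem geometricallyIrreducible_fiber_of_irreducibleSpace_pullback {T Y : Scheme.{u}}
    (g : T ⟶ Y) [IrreducibleSpace ↑Y] {L : Type u} [Field L] [IsSepClosed L]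
    (q : Spec (CommRingCat.of L) ⟶ Y) (hq : ∀ t, q t = genericPoint ↑Y) (Z : Scheme.{u})
    (fst : Z ⟶ T) (snd : Z ⟶ Spec (CommRingCat.of L)) (hZ : IsPullback fst snd g q)
    [IrreducibleSpace ↑Z] :
    GeometricallyIrreducible (g.fiberToSpecResidueField (genericPoint ↑Y)) := by
  have hy : q (IsLocalRing.closedPoint L) = genericPoint ↑Y := hq _
  rw [← hy]
  let q' : Spec (CommRingCat.of L) ⟶ Spec (Y.residueField (q (IsLocalRing.closedPoint L))) :=
    Spec.map (Scheme.descResidueField (Scheme.stalkClosedPointTo q))
  have hfac : q' ≫ Y.fromSpecResidueField (q (IsLocalRing.closedPoint L)) = q :=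
    Scheme.descResidueField_stalkClosedPointTo_fromSpecResidueField L Y q
  have hw : fst ≫ g =
      (snd ≫ q') ≫ Y.fromSpecResidueField (q (IsLocalRing.closedPoint L)) := by
    rw [Category.assoc, hfac]
    exact hZ.w
  let e : Z ⟶ g.fiber (q (IsLocalRing.closedPoint L)) := pullback.lift fst (snd ≫ q') hw
  have he1 : e ≫ g.fiberι (q (IsLocalRing.closedPoint L)) = fst := pullback.lift_fst _ _ _
  have he2 : e ≫ g.fiberToSpecResidueField (q (IsLocalRing.closedPoint L)) = snd ≫ q' :=
    pullback.lift_snd _ _ _
  have hbig : IsPullback (e ≫ g.fiberι (q (IsLocalRing.closedPoint L))) snd g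
      (q' ≫ Y.fromSpecResidueField (q (IsLocalRing.closedPoint L))) := by
    rw [he1, hfac]
    exact hZ
  have hright : IsPullback (g.fiberι (q (IsLocalRing.closedPoint L)))
      (g.fiberToSpecResidueField (q (IsLocalRing.closedPoint L))) g
      (Y.fromSpecResidueField (q (IsLocalRing.closedPoint L))) :=
    IsPullback.of_hasPullback _ _
  have sq : IsPullback e snd (g.fiberToSpecResidueField (q (IsLocalRing.closedPoint L))) q' :=
    IsPullback.of_right hbig he2 hright
  haveI : Surjective q' :=
    ⟨fun x => ⟨IsLocalRing.closedPoint L, Subsingleton.elim (α := PrimeSpectrum _) _ _⟩⟩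
  exact Groth.Agent.H38.GeomIrrDescent.geometricallyIrreducible_of_isPullback_of_surjective sq
    (Groth.Agent.H37.geomIrr_of_isSepClosed snd)

end Groth.Agent.H66.ConnGICRIT
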