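import Mathlib
import Groth.Agent.H54.AffineTrdeg

/-!
# Noether normalization with perturbations by `N`-th powers

`nnf`: over a field `F`, for a finitely generated algebra `B` in which any `d + 1` elements are
algebraically dependent, and generators `head : Fin d → B`, `tail : Fin e → B` with the tail
generators in a set `W` closed under subtraction and multiplication, one can perturb the head
generators by elements of any additive subgroup `Y` containing the `N`-th powers of `W` so that
`B` becomes finite over the polynomial ring on the perturbed head generators.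
-/

set_option autoImplicit false
universe u

namespace Groth.Agent.H66.NoethPowers

open MvPolynomial
open private T T_leadingcoeff_isUnit from Mathlib.RingTheory.NoetherNormalization

/-- In a finitely generated algebra of dimension `≤ d` over a field, any `d + 1` elements are
algebraically dependent. -/
theorem not_algebraicIndependent_of_dim_le {F : Type u} [Field F] {B : Type u} [CommRing B]
    [Algebra F B] [Algebra.FiniteType F B] {d : ℕ} (hdim : ringKrullDim B ≤ d)
    (g : Fin (d + 1) → B) : ¬ AlgebraicIndependent F g := by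
  intro hg
  have hinj : Function.Injective (aeval g : MvPolynomial (Fin (d + 1)) F →ₐ[F] B) := hg
  have hker : (⊥ : Ideal B).comap (aeval g : MvPolynomial (Fin (d + 1)) F →ₐ[F] B).toRingHom = ⊥ := by
    rw [← RingHom.ker_eq_comap_bot]
    exact (RingHom.injective_iff_ker_eq_bot _).mp hinj
  have hmin : (⊥ : Ideal (MvPolynomial (Fin (d + 1)) F)) ∈
      ((⊥ : Ideal B).comap
        (aeval g : MvPolynomial (Fin (d + 1)) F →ₐ[F] B).toRingHom).minimalPrimes := by
    rw [hker]
    exact ⟨⟨Ideal.isPrime_bot, le_rfl⟩, fun _ _ _ => bot_le⟩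
  obtain ⟨p', hp', -, hcomap⟩ := Ideal.exists_comap_eq_of_mem_minimalPrimes
    (aeval g : MvPolynomial (Fin (d + 1)) F →ₐ[F] B).toRingHom ⊥ hmin
  haveI := hp'
  haveI : Algebra.FiniteType F (B ⧸ p') :=
    Algebra.FiniteType.of_surjective (Ideal.Quotient.mkₐ F p') Ideal.Quotient.mk_surjective
  obtain ⟨n, htr, hdimA⟩ := Groth.Agent.H54.exists_ringKrullDim_eq_trdeg F (B ⧸ p')
  have hind : AlgebraicIndependent F (fun i => (Ideal.Quotient.mk p' (g i) : B ⧸ p')) := by
    rw [algebraicIndependent_iff]
    intro q hq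
    have h1 : aeval (fun i => (Ideal.Quotient.mk p' (g i) : B ⧸ p')) q =
        Ideal.Quotient.mkₐ F p' (aeval g q) :=
      (comp_aeval_apply g (Ideal.Quotient.mkₐ F p') q).symm
    rw [h1, Ideal.Quotient.mkₐ_eq_mk, Ideal.Quotient.eq_zero_iff_mem] at hq
    have h2 : q ∈ p'.comap (aeval g : MvPolynomial (Fin (d + 1)) F →ₐ[F] B).toRingHom := hq
    rw [hcomap] at h2
    exact h2
  have hcard := hind.lift_cardinalMk_le_trdeg
  rw [htr, Cardinal.mk_fin, Cardinal.lift_natCast, Cardinal.lift_natCast, Nat.cast_le] at hcard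
  have h3 : ringKrullDim (B ⧸ p') ≤ ringKrullDim B := ringKrullDim_quotient_le p'
  rw [hdimA] at h3
  have h4 : ((n : ℕ) : WithBot ℕ∞) ≤ ((d : ℕ) : WithBot ℕ∞) := h3.trans hdim
  have h5 : n ≤ d := by exact_mod_cast h4
  omega

/-- Powers of integral elements (for a ring hom) are integral. -/
lemma isIntegralElem_pow {A B : Type*} [CommRing A] [CommRing B] (f : A →+* B) {x : B}
    (hx : f.IsIntegralElem x) (s : ℕ) : f.IsIntegralElem (x ^ s) := by
  induction s with
  | zero =>
    rw [pow_zero, ← map_one f]
    exact f.isIntegralElem_map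
  | succ s ih =>
    rw [pow_succ]
    exact RingHom.IsIntegralElem.mul f ih hx

/-- Noether normalization with perturbations in a prescribed additive subgroup containing the
`N`-th powers of a multiplicatively and subtractively closed set containing the tail generators. -/
theorem nnf {F : Type u} [Field F] (N : ℕ) (hN : 1 ≤ N) (d : ℕ) :
    ∀ (e : ℕ) (B : Type u) [CommRing B] [Algebra F B] (W : Set B) (Y : AddSubgroup B),
    (∀ a ∈ W, ∀ b ∈ W, a - b ∈ W) → (∀ a ∈ W, ∀ b ∈ W, a * b ∈ W) →
    (∀ w ∈ W, w ^ N ∈ Y) →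
    (∀ g : Fin (d + 1) → B, ¬ AlgebraicIndependent F g) →
    ∀ (head : Fin d → B) (tail : Fin e → B), (∀ j, tail j ∈ W) →
    Algebra.adjoin F (Set.range head ∪ Set.range tail) = ⊤ →
    ∃ y : Fin d → B, (∀ i, y i ∈ Y) ∧
      (aeval (fun i => head i + y i) : MvPolynomial (Fin d) F →ₐ[F] B).toRingHom.Finite := by
  intro e
  induction e with
  | zero =>
    intro B _ _ W Y hsub hmul hY hdep head tail htail hgen
    refine ⟨fun _ => 0, fun _ => Y.zero_mem, ?_⟩
    apply RingHom.Finite.of_surjective
    have h1 : Set.range tail = ∅ := Set.range_eq_empty _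
    rw [h1, Set.union_empty, Algebra.adjoin_range_eq_range_aeval] at hgen
    have h2 : (aeval (fun i => head i + (0 : B)) : MvPolynomial (Fin d) F →ₐ[F] B) =
        aeval head := by simp
    rw [h2]
    exact (AlgHom.range_eq_top _).mp hgen
  | succ e ih =>
    intro B _ _ W Y hsub hmul hY hdep head tail htail hgen
    classical
    obtain ⟨t, ht⟩ : ∃ t, t = tail 0 := ⟨_, rfl⟩
    have htW : t ∈ W := ht ▸ htail 0
    have hpowW : ∀ s : ℕ, 1 ≤ s → t ^ s ∈ W := by
      intro s hs
      induction s, hs using Nat.le_induction with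
      | base => simpa using htW
      | succ s hs ih' => rw [pow_succ]; exact hmul _ ih' _ htW
    obtain ⟨rest, hrest⟩ : ∃ rest : Fin (e + d) → B,
        rest = Fin.append (fun j : Fin e => tail j.succ) head := ⟨_, rfl⟩
    have hrestL : ∀ j : Fin e, rest (Fin.castAdd d j) = tail j.succ := by
      intro j; rw [hrest, Fin.append_left]
    have hrestR : ∀ i : Fin d, rest (Fin.natAdd e i) = head i := by
      intro i; rw [hrest, Fin.append_right]
    obtain ⟨G, hG0, hGs⟩ : ∃ G : Fin (e + d + 1) → B, G 0 = t ∧ ∀ i : Fin (e + d), G i.succ = rest i :=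
      ⟨Fin.cons t rest, Fin.cons_zero _ _, fun i => Fin.cons_succ _ _ i⟩
    -- algebraic dependence
    have hnot : ¬ AlgebraicIndependent F G := by
      intro hG'
      exact hdep _ (hG'.comp (Fin.castLE (by omega : d + 1 ≤ e + d + 1)) (Fin.castLE_injective _))
    obtain ⟨P, hP0, hPne⟩ : ∃ P : MvPolynomial (Fin (e + d + 1)) F, aeval G P = 0 ∧ P ≠ 0 := by
      rw [algebraicIndependent_iff] at hnot
      push Not at hnot
      exact hnot
    obtain ⟨u₀, hu₀⟩ : ∃ u₀ : ℕ, u₀ = 2 + P.totalDegree := ⟨_, rfl⟩
    have hu₀pos : 1 ≤ u₀ := by omega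
    obtain ⟨f', hf'⟩ : ∃ f' : MvPolynomial (Fin (e + d + 1)) F, f' = P * X 0 ^ ((N - 1) * u₀) :=
      ⟨_, rfl⟩
    have hX0 : (X 0 ^ ((N - 1) * u₀) : MvPolynomial (Fin (e + d + 1)) F) ≠ 0 :=
      pow_ne_zero _ (X_ne_zero 0)
    have hf'ne : f' ≠ 0 := by rw [hf']; exact mul_ne_zero hPne hX0
    have hf'0 : aeval G f' = 0 := by rw [hf', map_mul, hP0, zero_mul]
    obtain ⟨up, hupdef⟩ : ∃ up : ℕ, up = 2 + f'.totalDegree := ⟨_, rfl⟩
    have hup : up = N * u₀ := by
      rw [hupdef, hf', totalDegree_mul_of_isDomain hPne hX0, totalDegree_X_pow]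
      obtain ⟨N', rfl⟩ : ∃ N', N = N' + 1 := ⟨N - 1, by omega⟩
      rw [hu₀, Nat.add_sub_cancel]
      ring
    have huppos : 1 ≤ up := by omega
    -- perturbed family
    obtain ⟨G', hG'0, hG's⟩ : ∃ G' : Fin (e + d + 1) → B, G' 0 = t ∧
        ∀ i : Fin (e + d + 1), i ≠ 0 → G' i = G i - t ^ (up ^ i.1) :=
      ⟨fun i => if i = 0 then t else G i - t ^ (up ^ i.1), if_pos rfl, fun i hi => if_neg hi⟩
    have hcomp : (aeval G' : MvPolynomial (Fin (e + d + 1)) F →ₐ[F] B).comp
        (NoetherNormalization.T1 f' 1) = aeval G := by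
      apply MvPolynomial.algHom_ext
      intro i
      rw [AlgHom.comp_apply, NoetherNormalization.T1, aeval_X, aeval_X]
      by_cases hi : i = 0
      · rw [if_pos hi, aeval_X, hi, hG'0, hG0]
      · rw [if_neg hi, one_smul, map_add, map_pow, aeval_X, aeval_X, hG'0, hG's i hi, ← hupdef,
          sub_add_cancel]
    obtain ⟨Q, hQ⟩ : ∃ Q : Polynomial (MvPolynomial (Fin (e + d)) F),
        Q = finSuccEquiv F (e + d) (T f' f') := ⟨_, rfl⟩
    have hQu : IsUnit Q.leadingCoeff := by rw [hQ]; exact T_leadingcoeff_isUnit f' hf'ne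
    obtain ⟨φ, hφ⟩ : ∃ φ : MvPolynomial (Fin (e + d)) F →ₐ[F] B,
        φ = aeval (fun i : Fin (e + d) => G' i.succ) := ⟨_, rfl⟩
    have hφX : ∀ i : Fin (e + d), φ (X i) = rest i - t ^ (up ^ (i.1 + 1)) := by
      intro i
      rw [hφ, aeval_X, hG's _ (Fin.succ_ne_zero i), hGs, Fin.val_succ]
    have hfs : ∀ q : MvPolynomial (Fin (e + d + 1)) F,
        aeval G' q = Polynomial.eval₂ (φ : MvPolynomial (Fin (e + d)) F →+* B) t
          (finSuccEquiv F (e + d) q) := by
      intro q
      have hhom : (aeval G' : MvPolynomial (Fin (e + d + 1)) F →ₐ[F] B).toRingHom =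
          (Polynomial.eval₂RingHom (φ : MvPolynomial (Fin (e + d)) F →+* B) t).comp
            ((finSuccEquiv F (e + d) : MvPolynomial (Fin (e + d + 1)) F ≃ₐ[F] _) :
              MvPolynomial (Fin (e + d + 1)) F →+* _) := by
        apply MvPolynomial.ringHom_ext
        · intro c
          simp [finSuccEquiv_apply]
        · intro i
          refine Fin.cases ?_ (fun j => ?_) i
          · simp [finSuccEquiv_X_zero, hG'0]
          · simp [finSuccEquiv_X_succ, hφ]
      exact DFunLike.congr_fun hhom q
    have hQ0 : Polynomial.eval₂ (φ : MvPolynomial (Fin (e + d)) F →+* B) t Q = 0 := by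
      rw [hQ, ← hfs]
      have h1 : (T f') f' = NoetherNormalization.T1 f' 1 f' := rfl
      rw [h1, ← AlgHom.comp_apply, hcomp, hf'0]
    have hint : (φ : MvPolynomial (Fin (e + d)) F →+* B).IsIntegralElem t :=
      ⟨hQu.unit⁻¹ • Q, Polynomial.monic_of_isUnit_leadingCoeff_inv_smul hQu, by
        rw [Units.smul_def, Polynomial.eval₂_smul, hQ0, mul_zero]⟩
    -- the new ring
    obtain ⟨φ', hφ'⟩ : ∃ φ' : MvPolynomial (Fin (e + d)) F →ₐ[F] φ.range,
        φ' = φ.rangeRestrict := ⟨_, rfl⟩
    have hφ'val : ∀ q, ((φ' q : φ.range) : B) = φ q := by intro q; rw [hφ']; rfl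
    have hφ'surj : Function.Surjective φ' := by rw [hφ']; exact φ.rangeRestrict_surjective
    -- apply the induction hypothesis
    have hgen' : Algebra.adjoin F (Set.range (fun i : Fin d => φ' (X (Fin.natAdd e i))) ∪
        Set.range (fun j : Fin e => φ' (X (Fin.castAdd d j)))) = ⊤ := by
      have h1 : Algebra.adjoin F (Set.range fun k => φ' (X k)) = ⊤ := by
        rw [Algebra.adjoin_range_eq_range_aeval]
        have h2 : aeval (fun k => φ' (X k)) = φ' := (aeval_unique φ').symm
        rw [h2]
        exact (AlgHom.range_eq_top _).mpr hφ'surj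
      rw [eq_top_iff, ← h1]
      apply Algebra.adjoin_mono
      rintro _ ⟨k, rfl⟩
      induction k using Fin.addCases with
      | left j => exact Or.inr ⟨j, rfl⟩
      | right i => exact Or.inl ⟨i, rfl⟩
    obtain ⟨y', hy'Y, hy'fin⟩ := ih φ.range (φ.range.val ⁻¹' W)
      (Y.comap φ.range.val.toRingHom.toAddMonoidHom)
      (fun a ha b hb => hsub _ ha _ hb) (fun a ha b hb => hmul _ ha _ hb)
      (fun w hw => hY _ hw)
      (fun g hg => hdep _ (hg.map' (f := φ.range.val) Subtype.val_injective))
      (fun i : Fin d => φ' (X (Fin.natAdd e i)))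
      (fun j : Fin e => φ' (X (Fin.castAdd d j)))
      (by
        intro j
        change ((φ' (X (Fin.castAdd d j)) : φ.range) : B) ∈ W
        rw [hφ'val, hφX, hrestL]
        exact hsub _ (htail _) _ (hpowW _ (Nat.one_le_pow _ _ huppos)))
      hgen'
    -- the perturbation
    have hpowY : ∀ s : ℕ, t ^ (up ^ (s + 1)) ∈ Y := by
      intro s
      have h1 : up ^ (s + 1) = (up ^ s * u₀) * N := by rw [pow_succ, hup]; ring
      rw [h1, pow_mul]
      exact hY _ (hpowW _ (Nat.one_le_iff_ne_zero.mpr
        (Nat.mul_ne_zero (Nat.one_le_iff_ne_zero.mp (Nat.one_le_pow _ _ huppos))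
          (Nat.one_le_iff_ne_zero.mp hu₀pos))))
    refine ⟨fun i => ((y' i : φ.range) : B) - t ^ (up ^ (e + i.1 + 1)),
      fun i => Y.sub_mem (hy'Y i) (hpowY _), ?_⟩
    have hfun : (fun i : Fin d => head i + (((y' i : φ.range) : B) - t ^ (up ^ (e + i.1 + 1)))) =
        fun i => φ.range.val (φ' (X (Fin.natAdd e i)) + y' i) := by
      funext i
      rw [map_add]
      change _ = ((φ' (X (Fin.natAdd e i)) : φ.range) : B) + ((y' i : φ.range) : B)
      rw [hφ'val, hφX, hrestR, Fin.val_natAdd]
      ring
    rw [hfun, ← comp_aeval]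
    -- finiteness of the inclusion
    have hft0 : Algebra.FiniteType F B :=
      ⟨Subalgebra.fg_def.mpr ⟨_, (Set.finite_range head).union (Set.finite_range tail), hgen⟩⟩
    have hι_ft : φ.range.val.toRingHom.FiniteType := by
      have h1 : (φ.range.val.toRingHom.comp (algebraMap F φ.range)).FiniteType := by
        have h2 : φ.range.val.toRingHom.comp (algebraMap F φ.range) = algebraMap F B := by
          ext c; rfl
        rw [h2]
        exact RingHom.finiteType_algebraMap.mpr hft0
      exact RingHom.FiniteType.of_comp_finiteType h1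
    have htι : φ.range.val.toRingHom.IsIntegralElem t := by
      have h1 : φ.range.val.toRingHom.comp (φ' : MvPolynomial (Fin (e + d)) F →+* φ.range) =
          (φ : MvPolynomial (Fin (e + d)) F →+* B) := by
        ext q <;> simp [hφ'val]
      exact RingHom.IsIntegralElem.of_comp (f := (φ' : MvPolynomial (Fin (e + d)) F →+* φ.range))
        (h1 ▸ hint)
    have hι_int : φ.range.val.toRingHom.IsIntegral := by
      intro b
      have hb : b ∈ Algebra.adjoin F (Set.range head ∪ Set.range tail) := hgen ▸ Algebra.mem_top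
      induction hb using Algebra.adjoin_induction with
      | mem x hx =>
        have hrestint : ∀ k : Fin (e + d), φ.range.val.toRingHom.IsIntegralElem (rest k) := by
          intro k
          have h1 : rest k = φ.range.val.toRingHom (φ' (X k)) + t ^ (up ^ (k.1 + 1)) := by
            change rest k = ((φ' (X k) : φ.range) : B) + _
            rw [hφ'val, hφX, sub_add_cancel]
          rw [h1]
          exact RingHom.IsIntegralElem.add _ (RingHom.isIntegralElem_map _)
            (isIntegralElem_pow _ htι _)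
        rcases hx with ⟨i, rfl⟩ | ⟨j, rfl⟩
        · rw [← hrestR]; exact hrestint _
        · refine Fin.cases ?_ (fun j' => ?_) j
          · rw [← ht]; exact htι
          · rw [← hrestL]; exact hrestint _
      | algebraMap c =>
        have h1 : algebraMap F B c = φ.range.val.toRingHom (algebraMap F φ.range c) := rfl
        rw [h1]
        exact RingHom.isIntegralElem_map _
      | add x y _ _ hx hy => exact RingHom.IsIntegralElem.add _ hx hy
      | mul x y _ _ hx hy => exact RingHom.IsIntegralElem.mul _ hx hy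
    have hι_fin : φ.range.val.toRingHom.Finite := RingHom.IsIntegral.to_finite hι_int hι_ft
    exact RingHom.Finite.comp hι_fin hy'fin

end Groth.Agent.H66.NoethPowers
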