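import Mathlib

/-!
# (RA) for helper53's S10943 squad: abstract resolution builder

If `P` is a class of objects of an abelian category closed under kernels and every object of `P`
is a quotient of an object of a subclass `Q`, then every object of `P` has a left resolution by
objects of `Q`.
-/

set_option autoImplicit false

open CategoryTheory CategoryTheory.Limits

namespace Groth.Agent.H66.ResBuild

universe v u'

variable {C : Type u'} [Category.{v} C] [Abelian C]

theorem comp_ker_zero {A B Z : C} (g : B ⟶ Z) (e : A ⟶ kernel g) :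
    (e ≫ kernel.ι g) ≫ g = 0 := by simp

theorem exact_of_epi_kernel₀ {A B Z : C} (g : B ⟶ Z) (e : A ⟶ kernel g) [Epi e]
    (w : (e ≫ kernel.ι g) ≫ g = 0) :
    (ShortComplex.mk (e ≫ kernel.ι g) g w).Exact := by
  rw [ShortComplex.exact_iff_epi_kernel_lift]
  have h : kernel.lift g (e ≫ kernel.ι g) w = e := by
    apply (cancel_mono (kernel.ι g)).1
    simp
  dsimp
  rw [h]
  infer_instance

theorem exact_of_epi_kernel {A B Z : C} (g : B ⟶ Z) (e : A ⟶ kernel g) [Epi e]
    (f' : A ⟶ B) (g' : B ⟶ Z) (hf : f' = e ≫ kernel.ι g) (hg : g' = g) (w : f' ≫ g' = 0) :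
    (ShortComplex.mk f' g' w).Exact := by
  subst hf hg
  exact exact_of_epi_kernel₀ _ _ _

/-- One step of the resolution: a map `d : A ⟶ B` with `A` in `Q` and `B` in `P`. -/
structure Stage (P Q : C → Prop) where
  A : C
  B : C
  d : A ⟶ B
  hA : Q A
  hB : P B

section

variable {P Q : C → Prop} (hQP : ∀ A, Q A → P A)
    (hker : ∀ {A B : C} (f : A ⟶ B), P A → P B → P (kernel f))
    (ov : C → C) (pr : ∀ Z, ov Z ⟶ Z) (hov : ∀ Z, P Z → Q (ov Z) ∧ Epi (pr Z))

/-- The next stage: cover the kernel. -/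
noncomputable def Stage.next (s : Stage P Q) : Stage P Q where
  A := ov (kernel s.d)
  B := s.A
  d := pr (kernel s.d) ≫ kernel.ι s.d
  hA := (hov _ (hker s.d (hQP _ s.hA) s.hB)).1
  hB := hQP _ s.hA

include hQP hker hov in
theorem Stage.epi_pr (s : Stage P Q) : Epi (pr (kernel s.d)) :=
  (hov _ (hker s.d (hQP _ s.hA) s.hB)).2

/-- The stages. -/
noncomputable def stage (s0 : Stage P Q) : ℕ → Stage P Q
  | 0 => s0
  | n + 1 => Stage.next hQP @hker ov pr hov (stage s0 n)

/-- The objects of the resolution. -/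
noncomputable def cxX (s0 : Stage P Q) (n : ℕ) : C := (stage hQP @hker ov pr hov s0 n).A

/-- The differentials of the resolution. -/
noncomputable def cxD (s0 : Stage P Q) (n : ℕ) :
    cxX hQP @hker ov pr hov s0 (n + 1) ⟶ cxX hQP @hker ov pr hov s0 n :=
  (stage hQP @hker ov pr hov s0 (n + 1)).d

theorem cxD_succ (s0 : Stage P Q) (n : ℕ) :
    cxD hQP @hker ov pr hov s0 (n + 1) =
      pr (kernel (cxD hQP @hker ov pr hov s0 n)) ≫ kernel.ι (cxD hQP @hker ov pr hov s0 n) :=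
  rfl

theorem cxD_zero (s0 : Stage P Q) :
    cxD hQP @hker ov pr hov s0 0 = pr (kernel s0.d) ≫ kernel.ι s0.d :=
  rfl

theorem cxD_comp (s0 : Stage P Q) (n : ℕ) :
    cxD hQP @hker ov pr hov s0 (n + 1) ≫ cxD hQP @hker ov pr hov s0 n = 0 :=
  comp_ker_zero (cxD hQP @hker ov pr hov s0 n) (pr (kernel (cxD hQP @hker ov pr hov s0 n)))

/-- The resolution. -/
noncomputable def cx (s0 : Stage P Q) : ChainComplex C ℕ :=
  ChainComplex.of (cxX hQP @hker ov pr hov s0) (cxD hQP @hker ov pr hov s0)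
    (cxD_comp hQP @hker ov pr hov s0)

theorem cx_d (s0 : Stage P Q) (n : ℕ) :
    (cx hQP @hker ov pr hov s0).d (n + 1) n = cxD hQP @hker ov pr hov s0 n :=
  ChainComplex.of_d _ _ n

theorem cx_exactAt (s0 : Stage P Q) (j : ℕ) :
    (cx hQP @hker ov pr hov s0).ExactAt (j + 1) := by
  rw [HomologicalComplex.exactAt_iff' _ (j + 2) (j + 1) j (by simp) (by simp)]
  haveI : Epi (pr (kernel (cxD hQP @hker ov pr hov s0 j))) :=
    Stage.epi_pr hQP @hker ov pr hov (stage hQP @hker ov pr hov s0 (j + 1))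
  exact exact_of_epi_kernel (cxD hQP @hker ov pr hov s0 j)
    (pr (kernel (cxD hQP @hker ov pr hov s0 j))) _ _
    ((cx_d hQP @hker ov pr hov s0 (j + 1)).trans (cxD_succ hQP @hker ov pr hov s0 j))
    (cx_d hQP @hker ov pr hov s0 j) _

end

theorem exists_resolution_of_enough {C : Type*} [Category C] [Abelian C] (P Q : C → Prop)
    (hQP : ∀ A, Q A → P A)
    (hker : ∀ {A B : C} (f : A ⟶ B), P A → P B → P (kernel f))
    (hen : ∀ Z, P Z → ∃ (A : C) (π : A ⟶ Z), Q A ∧ Epi π) (F : C) (hF : P F) :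
    ∃ (E : ChainComplex C ℕ) (π : E.X 0 ⟶ F) (hπ : E.d 1 0 ≫ π = 0), Epi π ∧
      (ShortComplex.mk (E.d 1 0) π hπ).Exact ∧ (∀ j : ℕ, E.ExactAt (j + 1)) ∧
      ∀ j, Q (E.X j) := by
  classical
  have hen' : ∀ Z : C, ∃ (A : C) (π : A ⟶ Z), P Z → (Q A ∧ Epi π) := by
    intro Z
    by_cases hZ : P Z
    · obtain ⟨A, π, h⟩ := hen Z hZ
      exact ⟨A, π, fun _ => h⟩
    · exact ⟨Z, 𝟙 Z, fun h => absurd h hZ⟩
  choose ov pr hov using hen'
  let s0 : Stage P Q := ⟨ov F, F, pr F, (hov F hF).1, hF⟩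
  haveI : Epi (pr (kernel (pr F))) := Stage.epi_pr hQP @hker ov pr hov s0
  have hd : (cx hQP @hker ov pr hov s0).d 1 0 = pr (kernel (pr F)) ≫ kernel.ι (pr F) :=
    (cx_d hQP @hker ov pr hov s0 0).trans (cxD_zero hQP @hker ov pr hov s0)
  have hπ : (cx hQP @hker ov pr hov s0).d 1 0 ≫ pr F = 0 :=
    (congrArg (· ≫ pr F) hd).trans (comp_ker_zero (pr F) (pr (kernel (pr F))))
  refine ⟨cx hQP @hker ov pr hov s0, pr F, hπ, (hov F hF).2, ?_, ?_, ?_⟩
  · exact exact_of_epi_kernel (pr F) (pr (kernel (pr F))) _ _ hd rfl _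
  · exact cx_exactAt hQP @hker ov pr hov s0
  · intro j
    exact (stage hQP @hker ov pr hov s0 j).hA

end Groth.Agent.H66.ResBuild
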