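import Mathlib

/-!
# Row reduction of polynomial matrices over a field (helper66)

Provider lemma (RR) for helper88's S7797 squad, in the exact requested form: a square polynomial
matrix with nonzero determinant can be made row reduced by an invertible polynomial matrix.
-/

set_option autoImplicit false

universe u

open Polynomial

namespace Groth.Agent.H66.P1RowReduce

section Aux

variable {k : Type u} [Field k] {r : ℕ}

/-- The degree of the `i`-th row. -/
noncomputable def rd (A : Matrix (Fin r) (Fin r) k[X]) (i : Fin r) : ℕ :=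
  Finset.univ.sup (fun j => (A i j).natDegree)

theorem natDegree_le_rd (A : Matrix (Fin r) (Fin r) k[X]) (i j : Fin r) :
    (A i j).natDegree ≤ rd A i :=
  Finset.le_sup (f := fun j => (A i j).natDegree) (Finset.mem_univ j)

/-- The matrix of leading row coefficients. -/
noncomputable def lc (A : Matrix (Fin r) (Fin r) k[X]) : Matrix (Fin r) (Fin r) k :=
  Matrix.of fun i j => (A i j).coeff (rd A i)

theorem det_updateRow_one (i₀ : Fin r) (v : Fin r → k[X]) :
    (Matrix.updateRow (1 : Matrix (Fin r) (Fin r) k[X]) i₀ v).det = v i₀ := by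
  have h1 : Matrix.updateRow (1 : Matrix (Fin r) (Fin r) k[X]) i₀ v =
      (Matrix.updateCol (1 : Matrix (Fin r) (Fin r) k[X]) i₀ v).transpose := by
    rw [← Matrix.updateRow_transpose, Matrix.transpose_one]
  rw [h1, Matrix.det_transpose, ← Matrix.cramer_apply, Matrix.cramer_one]
  rfl

/-- One step of the reduction: if the leading matrix is singular, an elementary row operation
lowers the sum of the row degrees. -/
theorem step (A : Matrix (Fin r) (Fin r) k[X]) (hA : A.det ≠ 0) (hlc : ¬ IsUnit (lc A)) :
    ∃ E : Matrix (Fin r) (Fin r) k[X], IsUnit E ∧ (∑ i, rd (E * A) i) < ∑ i, rd A i := by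
  classical
  have hdet : (lc A).det = 0 := by
    by_contra h
    exact hlc ((Matrix.isUnit_iff_isUnit_det _).mpr (isUnit_iff_ne_zero.mpr h))
  obtain ⟨w, hw0, hw⟩ := Matrix.exists_vecMul_eq_zero_iff.mpr hdet
  have hS : (Finset.univ.filter (fun i => w i ≠ 0)).Nonempty := by
    by_contra hne
    apply hw0
    funext i
    by_contra hi
    exact hne ⟨i, by simpa using hi⟩
  obtain ⟨i₀, hi₀S, hmax⟩ := Finset.exists_max_image _ (rd A) hS
  have hwi₀ : w i₀ ≠ 0 := (Finset.mem_filter.mp hi₀S).2
  have hmax' : ∀ i, w i ≠ 0 → rd A i ≤ rd A i₀ := fun i hi => hmax i (by simp [hi])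
  -- the row operation
  let v : Fin r → k[X] := fun i => C (w i) * X ^ (rd A i₀ - rd A i)
  have hvi₀ : v i₀ = C (w i₀) := by simp [v]
  refine ⟨Matrix.updateRow 1 i₀ v, ?_, ?_⟩
  · rw [Matrix.isUnit_iff_isUnit_det, det_updateRow_one, hvi₀]
    exact isUnit_C.mpr (isUnit_iff_ne_zero.mpr hwi₀)
  · have hEA : Matrix.updateRow (1 : Matrix (Fin r) (Fin r) k[X]) i₀ v * A =
        Matrix.updateRow A i₀ (Matrix.vecMul v A) := by
      rw [Matrix.updateRow_mul, one_mul]
    have hdetEA : (Matrix.updateRow A i₀ (Matrix.vecMul v A)).det ≠ 0 := by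
      rw [← hEA, Matrix.det_mul, det_updateRow_one, hvi₀]
      exact mul_ne_zero (C_ne_zero.mpr hwi₀) hA
    rw [hEA]
    have hentry : ∀ j, Matrix.vecMul v A j =
        ∑ i, C (w i) * X ^ (rd A i₀ - rd A i) * A i j := by
      intro j
      rfl
    have hdeg : ∀ j, (Matrix.vecMul v A j).natDegree ≤ rd A i₀ := by
      intro j
      rw [hentry]
      refine natDegree_sum_le_of_forall_le _ _ (fun i _ => ?_)
      by_cases hi : w i = 0
      · simp [hi]
      · calc (C (w i) * X ^ (rd A i₀ - rd A i) * A i j).natDegree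
            ≤ (C (w i) * X ^ (rd A i₀ - rd A i)).natDegree + (A i j).natDegree :=
              natDegree_mul_le
          _ ≤ (rd A i₀ - rd A i) + rd A i :=
              add_le_add (natDegree_C_mul_X_pow_le _ _) (natDegree_le_rd A i j)
          _ = rd A i₀ := Nat.sub_add_cancel (hmax' i hi)
    have hcoeff : ∀ j, (Matrix.vecMul v A j).coeff (rd A i₀) = 0 := by
      intro j
      rw [hentry, finsetSum_coeff]
      have h1 : ∀ i, (C (w i) * X ^ (rd A i₀ - rd A i) * A i j).coeff (rd A i₀) =
          w i * lc A i j := by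
        intro i
        by_cases hi : w i = 0
        · simp [hi]
        · rw [mul_assoc, coeff_C_mul, coeff_X_pow_mul', if_pos (Nat.sub_le _ _),
            Nat.sub_sub_self (hmax' i hi)]
          rfl
      simp_rw [h1]
      exact congrFun hw j
    have hd₀ : 0 < rd A i₀ := by
      by_contra h0
      have h0' : rd A i₀ = 0 := by omega
      apply hdetEA
      refine Matrix.det_eq_zero_of_row_eq_zero i₀ (fun j => ?_)
      rw [Matrix.updateRow_self]
      have h1 := hdeg j
      rw [h0'] at h1
      have h2 := hcoeff j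
      rw [h0'] at h2
      rw [eq_C_of_natDegree_le_zero h1, h2, C_0]
    have hdeg' : ∀ j, (Matrix.vecMul v A j).natDegree ≤ rd A i₀ - 1 := by
      intro j
      rw [natDegree_le_iff_coeff_eq_zero]
      intro N hN
      rcases Nat.lt_or_ge (rd A i₀) N with h | h
      · exact coeff_eq_zero_of_natDegree_lt (lt_of_le_of_lt (hdeg j) h)
      · have hNeq : N = rd A i₀ := by omega
        rw [hNeq]
        exact hcoeff j
    have hrow : rd (Matrix.updateRow A i₀ (Matrix.vecMul v A)) i₀ ≤ rd A i₀ - 1 := by
      unfold rd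
      refine Finset.sup_le (fun j _ => ?_)
      rw [Matrix.updateRow_self]
      exact hdeg' j
    refine Finset.sum_lt_sum (fun i _ => ?_) ⟨i₀, Finset.mem_univ _, ?_⟩
    · by_cases hi : i = i₀
      · rw [hi]
        exact le_trans hrow (Nat.sub_le _ _)
      · unfold rd
        rw [Matrix.updateRow_ne hi]
    · exact lt_of_le_of_lt hrow (Nat.sub_lt hd₀ Nat.one_pos)

end Aux

/-- (RR) row reduction of polynomial matrices. -/
theorem row_reduce {k : Type u} [Field k] {r : ℕ} (A : Matrix (Fin r) (Fin r) k[X]) (hA : A.det ≠ 0) : ∃ (U : Matrix (Fin r) (Fin r) k[X]) (δ : Fin r → ℕ), IsUnit U ∧ (∀ i j, ((U * A) i j).natDegree ≤ δ i) ∧ IsUnit (Matrix.of fun i j => ((U * A) i j).coeff (δ i)) := by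
  classical
  induction' hN : (∑ i, rd A i) using Nat.strong_induction_on with N ih generalizing A
  by_cases hlc : IsUnit (lc A)
  · refine ⟨1, rd A, isUnit_one, ?_, ?_⟩
    · intro i j
      rw [one_mul]
      exact natDegree_le_rd A i j
    · rw [one_mul]
      exact hlc
  · obtain ⟨E, hE, hlt⟩ := step A hA hlc
    have hdet' : (E * A).det ≠ 0 := by
      rw [Matrix.det_mul]
      exact mul_ne_zero ((Matrix.isUnit_iff_isUnit_det E).mp hE).ne_zero hA
    obtain ⟨U', δ, hU', hdeg, hunit⟩ := ih _ (hN ▸ hlt) (E * A) hdet' rfl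
    refine ⟨U' * E, δ, hU'.mul hE, ?_, ?_⟩
    · intro i j
      rw [Matrix.mul_assoc]
      exact hdeg i j
    · rw [Matrix.mul_assoc]
      exact hunit

end Groth.Agent.H66.P1RowReduce
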