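import Groth.Agent.H66.GlobalCI4
import Groth.Agent.Lead.NodeIso

/-!
# Syntomic ring maps are locally relative global complete intersections (helper66)

Commutative algebra toolkit: fibre local rings of quotients, flatness + Nakayama, lifting regular
sequences from the fibre local ring.
-/

set_option autoImplicit false
set_option linter.style.haveILetI false
set_option linter.unusedSectionVars false
set_option linter.unusedVariables false

universe u

namespace Groth.Agent.H66.RelCI

open TensorProduct Groth.Agent.H9.FibDim Groth.Agent.H66.FibreReg Groth.Agent.H66.RelGCI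
  Groth.Agent.H66.GlobalCI
open RingTheory.Sequence

/-- `IsLCIOver` is invariant under algebra isomorphisms. -/
theorem isLCIOver_of_algEquiv {k A A' : Type u} [Field k] [CommRing A] [CommRing A']
    [Algebra k A] [Algebra k A'] (e : A ≃ₐ[k] A') (h : Synt.IsLCIOver k A) :
    Synt.IsLCIOver k A' := by
  haveI := h.1
  refine ⟨Algebra.FiniteType.equiv h.1 e, fun P' => ?_⟩
  obtain ⟨g1, hg1, hgci⟩ := h.2 ⟨Ideal.comap (e : A →+* A') P'.asIdeal, inferInstance⟩
  refine ⟨e g1, hg1, ?_⟩
  have hmap : Submonoid.map e (Submonoid.powers g1) = Submonoid.powers (e g1) :=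
    Submonoid.map_powers _ _
  exact Groth.Agent.S9146.gci_of_algEquiv (IsLocalization.algEquivOfAlgEquiv
    (M := Submonoid.powers g1) (Localization.Away g1) (T := Submonoid.powers (e g1))
    (Localization.Away (e g1)) e hmap) hgci

/-- `IsSyntomic` is invariant under algebra isomorphisms. -/
theorem isSyntomic_of_algEquiv {R A A' : Type u} [CommRing R] [CommRing A] [CommRing A']
    [Algebra R A] [Algebra R A'] (e : A ≃ₐ[R] A') (h : Synt.IsSyntomic R A) :
    Synt.IsSyntomic R A' := by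
  obtain ⟨hflat, hfp, hfib⟩ := h
  refine ⟨Module.Flat.of_linearEquiv e.symm.toLinearEquiv, Algebra.FinitePresentation.equiv e,
    fun p => ?_⟩
  exact isLCIOver_of_algEquiv (Algebra.TensorProduct.congr (AlgEquiv.refl
    (R := p.asIdeal.ResidueField) (A₁ := p.asIdeal.ResidueField)) e) (hfib p)

/-- Fibre local rings along an isomorphism of local rings. -/
theorem nonempty_fibLoc_equiv_of_algEquiv {R S1 S2 : Type u} [CommRing R] [CommRing S1]
    [CommRing S2] [Algebra R S1] [Algebra R S2] (q1 : Ideal S1) [q1.IsPrime] (q2 : Ideal S2)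
    [q2.IsPrime] (e : Localization.AtPrime q1 ≃ₐ[R] Localization.AtPrime q2)
    (hp : q1.comap (algebraMap R S1) = q2.comap (algebraMap R S2)) :
    Nonempty (EGA4.FibLocRing R S1 q1 ≃+* EGA4.FibLocRing R S2 q2) := by
  refine ⟨Ideal.quotientEquiv _ _ e.toRingEquiv ?_⟩
  rw [← hp, Ideal.map_map]
  congr 1
  ext r
  exact (e.commutes r).symm

/-- The fibre local ring of a quotient. -/
theorem nonempty_fibLoc_equiv_quot {R A T : Type u} [CommRing R] [CommRing A] [CommRing T]
    [Algebra R A] [Algebra R T] (φ : A →ₐ[R] T) (hφ : Function.Surjective φ) (Q : Ideal T)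
    [Q.IsPrime] :
    Nonempty (EGA4.FibLocRing R T Q ≃+*
      (EGA4.FibLocRing R A (Q.comap φ.toRingHom) ⧸
        (RingHom.ker φ.toRingHom).map
          (algebraMap A (EGA4.FibLocRing R A (Q.comap φ.toRingHom))))) := by
  obtain ⟨e⟩ := nonempty_atPrime_equiv_quot φ hφ Q
  set P := Q.comap φ.toRingHom with hP
  set K := RingHom.ker φ.toRingHom with hK
  have hpp : Q.comap (algebraMap R T) = P.comap (algebraMap R A) := by
    rw [hP, Ideal.comap_comap]
    congr 1
    ext r
    exact (φ.commutes r).symm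
  obtain ⟨pR, hpR⟩ : ∃ pR : Ideal R, pR = P.comap (algebraMap R A) := ⟨_, rfl⟩
  obtain ⟨KB, hKB⟩ : ∃ KB : Ideal (Localization.AtPrime P),
    KB = K.map (algebraMap A (Localization.AtPrime P)) := ⟨_, rfl⟩
  obtain ⟨pB, hpB⟩ : ∃ pB : Ideal (Localization.AtPrime P),
    pB = pR.map (algebraMap R (Localization.AtPrime P)) := ⟨_, rfl⟩
  show Nonempty ((Localization.AtPrime Q ⧸
    (Q.comap (algebraMap R T)).map (algebraMap R (Localization.AtPrime Q))) ≃+*
    ((Localization.AtPrime P ⧸ (P.comap (algebraMap R A)).map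
      (algebraMap R (Localization.AtPrime P))) ⧸
      K.map (algebraMap A (Localization.AtPrime P ⧸ (P.comap (algebraMap R A)).map
      (algebraMap R (Localization.AtPrime P))))))
  rw [hpp, ← hpR, ← hpB]
  rw [← hKB] at e
  -- step 1
  have h1 : pB.map (Ideal.Quotient.mk KB) =
      (pR.map (algebraMap R (Localization.AtPrime Q))).map (e.toRingEquiv : _ →+* _) := by
    rw [Ideal.map_map, hpB, Ideal.map_map]
    congr 1
    ext r
    exact (e.commutes r).symm
  let e1 := Ideal.quotientEquiv _ _ e.toRingEquiv h1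
  -- step 2, 3, 4
  let e2 := DoubleQuot.quotQuotEquivQuotSup KB pB
  let e3 := Ideal.quotEquivOfEq (sup_comm KB pB)
  let e4 := (DoubleQuot.quotQuotEquivQuotSup pB KB).symm
  have h5 : KB.map (Ideal.Quotient.mk pB) =
      K.map (algebraMap A (Localization.AtPrime P ⧸ pB)) := by
    rw [hKB, Ideal.map_map]
    rfl
  exact ⟨((e1.trans e2).trans e3).trans (e4.trans (Ideal.quotEquivOfEq h5))⟩

/-- Fibre local rings of polynomial rings are regular. -/
theorem isRegularLocalRing_fibLoc_poly (R : Type u) [CommRing R] (n : ℕ)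
    (P : Ideal (MvPolynomial (Fin n) R)) [P.IsPrime] :
    IsRegularLocalRing (EGA4.FibLocRing R (MvPolynomial (Fin n) R) P) := by
  obtain ⟨p, hp⟩ : ∃ p : Ideal R, p = P.under R := ⟨_, rfl⟩
  haveI : p.IsPrime := by rw [hp]; infer_instance
  haveI : P.LiesOver p := ⟨hp⟩
  obtain ⟨Q, hQ⟩ := exists_fiber_prime p P
  obtain ⟨e⟩ := nonempty_loc_fiber_equiv p Q.asIdeal P hQ
  haveI : IsRegularRing (p.Fiber (MvPolynomial (Fin n) R)) :=
    IsRegularRing.of_ringEquiv
      (MvPolynomial.algebraTensorAlgEquiv (σ := Fin n) R p.ResidueField).symm.toRingEquiv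
  exact IsRegularLocalRing.of_ringEquiv (R := Localization.AtPrime Q.asIdeal) e

/-- Flatness of `B/J`: `J ∩ pB = pJ` (no finiteness assumption on `p`). -/
theorem inf_map_le_of_flat {R B : Type u} [CommRing R] [CommRing B] [Algebra R B] (J : Ideal B)
    [Module.Flat R (B ⧸ J)] (p : Ideal R) :
    J ⊓ p.map (algebraMap R B) ≤ p.map (algebraMap R B) * J := by
  have key : ∀ z ∈ p.map (algebraMap R B), ∃ p₀ : Ideal R, p₀ ≤ p ∧ p₀.FG ∧
      z ∈ p₀.map (algebraMap R B) := by
    intro z hz
    induction hz using Submodule.span_induction with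
    | mem z hz =>
      obtain ⟨a, ha, rfl⟩ := hz
      refine ⟨Ideal.span {a}, (Ideal.span_singleton_le_iff_mem _).mpr ha,
        ⟨{a}, by simp⟩, Ideal.mem_map_of_mem _ (Ideal.subset_span rfl)⟩
    | zero => exact ⟨⊥, bot_le, Submodule.fg_bot, zero_mem _⟩
    | add x y _ _ hx hy =>
      obtain ⟨p1, h1, h1fg, hx1⟩ := hx
      obtain ⟨p2, h2, h2fg, hy2⟩ := hy
      exact ⟨p1 ⊔ p2, sup_le h1 h2, Submodule.FG.sup h1fg h2fg,
        Ideal.add_mem _ (Ideal.map_mono le_sup_left hx1) (Ideal.map_mono le_sup_right hy2)⟩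
    | smul b x _ hx =>
      obtain ⟨p1, h1, h1fg, hx1⟩ := hx
      exact ⟨p1, h1, h1fg, Ideal.mul_mem_left _ _ hx1⟩
  rintro z ⟨hzJ, hzp⟩
  obtain ⟨p₀, hp₀, hfg, hz⟩ := key z hzp
  have h := Groth.Agent.Lead.NodePS.ker_inf_map_le_of_flat (Ideal.Quotient.mkₐ R J)
    (Ideal.Quotient.mkₐ_surjective R J) p₀ hfg
  have hker : RingHom.ker (Ideal.Quotient.mkₐ R J) = J := Ideal.Quotient.mkₐ_ker R J
  rw [hker] at h
  exact Ideal.mul_mono_left (Ideal.map_mono hp₀) (h ⟨hzJ, hz⟩)

/-- Flatness + Nakayama: generators of `J` modulo `pB` generate `J`. -/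
theorem le_of_flat_of_le_sup {R B : Type u} [CommRing R] [CommRing B] [IsLocalRing B]
    [Algebra R B] (J N : Ideal B) (hJ : J.FG) [Module.Flat R (B ⧸ J)] (p : Ideal R)
    (hp : p.map (algebraMap R B) ≤ IsLocalRing.maximalIdeal B) (hNJ : N ≤ J)
    (h : J ≤ N ⊔ p.map (algebraMap R B)) : J ≤ N := by
  refine Submodule.le_of_le_smul_of_le_jacobson_bot (I := p.map (algebraMap R B)) hJ ?_ ?_
  · rw [IsLocalRing.jacobson_eq_maximalIdeal _ bot_ne_top]
    exact hp
  · intro y hy
    obtain ⟨n, hn, z, hz, rfl⟩ := Submodule.mem_sup.mp (h hy)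
    have hzJ : z ∈ J := by
      have : z = (n + z) - n := by ring
      rw [this]
      exact J.sub_mem hy (hNJ hn)
    exact Submodule.add_mem_sup hn (inf_map_le_of_flat J p ⟨hzJ, hz⟩)

/-- Multiplier clearing a finitely generated ideal into another one locally. -/
theorem exists_notMem_mul_mem_of_fg {B : Type u} [CommRing B] (P₀ : Ideal B) [P₀.IsPrime]
    (I K : Ideal B) (hI : I.FG)
    (h : ∀ x ∈ I, algebraMap B (Localization.AtPrime P₀) x ∈
      K.map (algebraMap B (Localization.AtPrime P₀))) :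
    ∃ g, g ∉ P₀ ∧ ∀ x ∈ I, g * x ∈ K := by
  classical
  obtain ⟨s, hs⟩ := hI
  have h1 : ∀ c ∈ s, ∃ t, t ∉ P₀ ∧ t * c ∈ K := by
    intro c hc
    have hcI : c ∈ I := hs ▸ Ideal.subset_span hc
    obtain ⟨t, ht, htc⟩ :=
      (IsLocalization.algebraMap_mem_map_algebraMap_iff P₀.primeCompl
        (Localization.AtPrime P₀) K c).mp (h c hcI)
    exact ⟨t, ht, htc⟩
  choose! t ht1 ht2 using h1
  refine ⟨∏ c ∈ s, t c, ?_, ?_⟩
  · intro hmem
    obtain ⟨c, hc, hcP⟩ := Ideal.IsPrime.prod_mem_iff.mp hmem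
    exact ht1 c hc hcP
  · intro x hx
    rw [← hs] at hx
    induction hx using Submodule.span_induction with
    | mem c hc =>
      rw [← Finset.mul_prod_erase s t hc, mul_assoc, mul_comm, mul_assoc]
      exact Ideal.mul_mem_left _ _ (by rw [mul_comm]; exact ht2 c hc)
    | zero => simp
    | add a b _ _ ha hb => rw [mul_add]; exact Ideal.add_mem _ ha hb
    | smul r a _ ha =>
      rw [smul_eq_mul, mul_left_comm]
      exact Ideal.mul_mem_left _ _ ha

end Groth.Agent.H66.RelCI
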