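import Groth.Agent.H9.FibDimTop
import Groth.Agent.S9180
import Groth.Agent.S9159
import Groth.Agent.S5758
import Groth.Agent.H29.FlatCM

/-!
# Fibre local rings, fibre dimension and regular sequences on Cohen–Macaulay fibres
-/

set_option autoImplicit false
set_option linter.style.haveILetI false
set_option linter.unusedSectionVars false

universe u

namespace Groth.Agent.H66.FibreReg

open TensorProduct Groth.Agent.H9.FibDim

/-- Dimension of a quotient of a localization at a prime. -/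
theorem dim_loc_quot (B : Type u) [CommRing B] (Q : Ideal B) [Q.IsPrime] (I : Ideal B)
    (hIQ : I ≤ Q) :
    ringKrullDim (Localization.AtPrime Q ⧸ I.map (algebraMap B (Localization.AtPrime Q))) =
      ((Q.map (Ideal.Quotient.mk I)).height : WithBot ℕ∞) := by
  haveI : (Q.map (Ideal.Quotient.mk I)).IsPrime :=
    Ideal.map_isPrime_of_surjective Ideal.Quotient.mk_surjective
      (by rw [Ideal.mk_ker]; exact hIQ)
  have hM : Algebra.algebraMapSubmonoid (B ⧸ I) Q.primeCompl =
      (Q.map (Ideal.Quotient.mk I)).primeCompl := by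
    ext x
    obtain ⟨b, rfl⟩ := Ideal.Quotient.mk_surjective x
    constructor
    · rintro ⟨b', hb', hbb'⟩
      show Ideal.Quotient.mk I b ∉ Q.map (Ideal.Quotient.mk I)
      rw [Ideal.mem_quotient_iff_mem hIQ]
      intro hb
      apply hb'
      have h1 : b' - b ∈ I := by
        rw [← Ideal.Quotient.eq]
        exact hbb'
      have : b' = (b' - b) + b := by ring
      rw [SetLike.mem_coe, this]
      exact Q.add_mem (hIQ h1) hb
    · intro hb
      have hb' : Ideal.Quotient.mk I b ∉ Q.map (Ideal.Quotient.mk I) := hb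
      rw [Ideal.mem_quotient_iff_mem hIQ] at hb'
      exact ⟨b, hb', rfl⟩
  haveI : IsLocalization.AtPrime
      (Localization.AtPrime Q ⧸ I.map (algebraMap B (Localization.AtPrime Q)))
      (Q.map (Ideal.Quotient.mk I)) := by
    unfold IsLocalization.AtPrime
    rw [← hM]
    infer_instance
  exact IsLocalization.AtPrime.ringKrullDim_eq_height (Q.map (Ideal.Quotient.mk I))
    (Localization.AtPrime Q ⧸ I.map (algebraMap B (Localization.AtPrime Q)))

/-- Local dimension at a prime of a finite type algebra over a field. -/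
theorem localDim_eq_add (k F : Type u) [Field k] [CommRing F] [Algebra k F]
    [Algebra.FiniteType k F] (Q : Ideal F) [Q.IsPrime] :
    ∃ c : ℕ, ringKrullDim (F ⧸ Q) = c ∧
      FlatMor.localDim (PrimeSpectrum F) ⟨Q, inferInstance⟩ =
        ringKrullDim (Localization.AtPrime Q) + (c : WithBot ℕ∞) := by
  obtain ⟨r, hr⟩ := Groth.Agent.S9159.exists_trdeg_nat k F Q
  exact ⟨r, Groth.Agent.S2141.dim_quot_eq_trdeg k F Q r hr, Groth.Agent.S2141.result' Q r hr⟩

theorem localDim_eq_of_equidim (k F : Type u) [Field k] [CommRing F] [Algebra k F]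
    [Algebra.FiniteType k F] (d : ℕ)
    (heq : ∀ P ∈ minimalPrimes F, ringKrullDim (F ⧸ P) = (d : WithBot ℕ∞))
    (Q : PrimeSpectrum F) : FlatMor.localDim (PrimeSpectrum F) Q = d := by
  rw [Groth.Agent.H9.LocalDimField.localDim_eq_iSup k F Q]
  obtain ⟨P0, hP0, hP0le⟩ := Ideal.exists_minimalPrimes_le (I := ⊥) (J := Q.asIdeal) bot_le
  haveI : Nonempty {q0 : PrimeSpectrum F // q0.asIdeal ∈ minimalPrimes F ∧ q0 ≤ Q} :=
    ⟨⟨⟨P0, hP0.1.1⟩, hP0, hP0le⟩⟩
  have : ∀ q0 : {q0 : PrimeSpectrum F // q0.asIdeal ∈ minimalPrimes F ∧ q0 ≤ Q},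
      ringKrullDim (F ⧸ q0.1.asIdeal) = (d : WithBot ℕ∞) := fun q0 => heq _ q0.2.1
  simp only [this]
  exact ciSup_const

/-- The local ring of the fibre at a point is the fibre local ring. -/
theorem nonempty_loc_fiber_equiv {R S : Type u} [CommRing R] [CommRing S] [Algebra R S]
    (p : Ideal R) [p.IsPrime] (Q : Ideal (p.Fiber S)) [Q.IsPrime] (q : Ideal S) [q.IsPrime]
    (hQ : Q.comap (Algebra.TensorProduct.includeRight : S →ₐ[R] p.Fiber S) = q) :
    Nonempty (Localization.AtPrime Q ≃+* EGA4.FibLocRing R S q) := by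
  subst hQ
  have e := Ideal.Fiber.algEquivAux₂ p Q
  have hp : (Q.comap (Algebra.TensorProduct.includeRight : S →ₐ[R] p.Fiber S)).comap
      (algebraMap R S) = p := by
    have h := Ideal.over_def Q p
    refine Eq.trans ?_ h.symm
    ext r
    simp only [Ideal.mem_comap, Ideal.under_def]
    rw [← (Algebra.TensorProduct.includeRight : S →ₐ[R] p.Fiber S).commutes r]
  have hJ : (p.map (algebraMap R S)).map (algebraMap S (Localization.AtPrime
      (Q.comap (Algebra.TensorProduct.includeRight : S →ₐ[R] p.Fiber S)))) =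
      ((Q.comap (Algebra.TensorProduct.includeRight : S →ₐ[R] p.Fiber S)).comap
        (algebraMap R S)).map (algebraMap R (Localization.AtPrime
      (Q.comap (Algebra.TensorProduct.includeRight : S →ₐ[R] p.Fiber S)))) := by
    rw [hp, Ideal.map_map, ← IsScalarTower.algebraMap_eq]
  exact ⟨e.toRingEquiv.trans (Ideal.quotEquivOfEq hJ)⟩

theorem fiber_prime_unique {R S : Type u} [CommRing R] [CommRing S] [Algebra R S]
    (p : Ideal R) [p.IsPrime] (Q1 Q2 : PrimeSpectrum (p.Fiber S))
    (h : Q1.asIdeal.comap (Algebra.TensorProduct.includeRight.toRingHom : S →+* p.Fiber S) =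
      Q2.asIdeal.comap (Algebra.TensorProduct.includeRight.toRingHom : S →+* p.Fiber S)) :
    Q1 = Q2 := by
  apply (PrimeSpectrum.preimageEquivFiber R S ⟨p, inferInstance⟩).symm.injective
  exact Subtype.ext (PrimeSpectrum.ext h)

theorem exists_nat_of_le {x : WithBot ℕ∞} (h0 : 0 ≤ x) {d : ℕ}
    (hd : x ≤ (d : WithBot ℕ∞)) : ∃ n : ℕ, x = n := by
  induction x using WithBot.recBotCoe with
  | bot => simp at h0
  | coe y =>
    have hy : y ≤ (d : ℕ∞) := by exact_mod_cast hd
    have : y ≠ ⊤ := fun h => by rw [h] at hy; simp at hy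
    obtain ⟨n, hn⟩ := ENat.ne_top_iff_exists.mp this
    exact ⟨n, by rw [← hn]; rfl⟩


/-- Fibre dimension at a point is the dimension of the fibre local ring plus the dimension of the
closure of the point in its fibre. -/
theorem tfd_eq_add {R S : Type u} [CommRing R] [CommRing S] [Algebra R S] [Algebra.FiniteType R S]
    (p : Ideal R) [p.IsPrime] (q : PrimeSpectrum S) (hp : q.asIdeal.under R = p)
    (Q : PrimeSpectrum (p.Fiber S))
    (hQ : Q.asIdeal.comap Algebra.TensorProduct.includeRight.toRingHom = q.asIdeal) :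
    ∃ c : ℕ, ringKrullDim (p.Fiber S ⧸ Q.asIdeal) = c ∧
      tfd (PrimeSpectrum.comap (algebraMap R S)) q =
        ringKrullDim (EGA4.FibLocRing R S q.asIdeal) + (c : WithBot ℕ∞) := by
  obtain ⟨c, hc, hl⟩ := localDim_eq_add p.ResidueField (p.Fiber S) Q.asIdeal
  obtain ⟨e⟩ := nonempty_loc_fiber_equiv p Q.asIdeal q.asIdeal hQ
  refine ⟨c, hc, ?_⟩
  rw [← localDim_fiber_eq_tfd p q hp Q hQ, ← ringKrullDim_eq_of_ringEquiv e]
  exact hl

/-- The residue ring at a point of the fibre of a closed subscheme. -/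
theorem dim_fiber_quot_eq {R S : Type u} [CommRing R] [CommRing S] [Algebra R S]
    (p : Ideal R) [p.IsPrime] (I : Ideal S) (Qb : Ideal (p.Fiber (S ⧸ I))) [Qb.IsPrime] :
    ringKrullDim (p.Fiber S ⧸ Qb.comap (Algebra.TensorProduct.map
      (AlgHom.id p.ResidueField p.ResidueField) (Ideal.Quotient.mkₐ R I))) =
      ringKrullDim (p.Fiber (S ⧸ I) ⧸ Qb) := by
  obtain ⟨π, hπ⟩ : ∃ π : p.Fiber S →ₐ[p.ResidueField] p.Fiber (S ⧸ I), π =
    Algebra.TensorProduct.map
      (AlgHom.id p.ResidueField p.ResidueField) (Ideal.Quotient.mkₐ R I) := ⟨_, rfl⟩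
  rw [← hπ]
  have hsurj : Function.Surjective π := by
    rw [hπ]
    exact Algebra.TensorProduct.map_surjective _ _ (fun x => ⟨x, rfl⟩)
      (Ideal.Quotient.mkₐ_surjective R I)
  let g := Ideal.quotientMap Qb π.toRingHom (le_refl (Qb.comap π.toRingHom))
  have hinj : Function.Injective g := Ideal.quotientMap_injective' (le_refl _)
  have hs : Function.Surjective g := Ideal.quotientMap_surjective hsurj
  exact ringKrullDim_eq_of_ringEquiv (RingEquiv.ofBijective g ⟨hinj, hs⟩)

/-- Dimension of the quotient of a fibre local ring by the extension of an ideal. -/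
theorem dim_fibLoc_quot (R S : Type u) [CommRing R] [CommRing S] [Algebra R S] (q : Ideal S)
    [q.IsPrime] (I : Ideal S) (hIq : I ≤ q) (K : Ideal S)
    (hK : K = I ⊔ (q.comap (algebraMap R S)).map (algebraMap R S)) :
    ringKrullDim (EGA4.FibLocRing R S q ⧸ I.map (algebraMap S (EGA4.FibLocRing R S q))) =
      ((q.map (Ideal.Quotient.mk K)).height : WithBot ℕ∞) := by
  obtain ⟨p, hp⟩ : ∃ p : Ideal R, p = q.comap (algebraMap R S) := ⟨_, rfl⟩
  obtain ⟨J1, hJ1⟩ : ∃ J1 : Ideal (Localization.AtPrime q),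
    J1 = p.map (algebraMap R (Localization.AtPrime q)) := ⟨_, rfl⟩
  have hKq : K ≤ q := by
    rw [hK]
    exact sup_le hIq Ideal.map_comap_le
  show ringKrullDim ((Localization.AtPrime q ⧸
      (q.comap (algebraMap R S)).map (algebraMap R (Localization.AtPrime q))) ⧸
      I.map (algebraMap S (Localization.AtPrime q ⧸
      (q.comap (algebraMap R S)).map (algebraMap R (Localization.AtPrime q))))) = _
  rw [← hp, ← hJ1]
  have h1 : I.map (algebraMap S (Localization.AtPrime q ⧸ J1)) =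
      (I.map (algebraMap S (Localization.AtPrime q))).map (Ideal.Quotient.mk J1) := by
    rw [Ideal.map_map]; rfl
  refine (Groth.Agent.S9180.ringKrullDim_quot_congr _ _ h1).trans ?_
  rw [ringKrullDim_eq_of_ringEquiv (DoubleQuot.quotQuotEquivQuotSup J1
    (I.map (algebraMap S (Localization.AtPrime q))))]
  have h2 : J1 ⊔ I.map (algebraMap S (Localization.AtPrime q)) =
      K.map (algebraMap S (Localization.AtPrime q)) := by
    rw [hK, Ideal.map_sup, Ideal.map_map, ← IsScalarTower.algebraMap_eq, hJ1, hp, sup_comm]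
  refine (Groth.Agent.S9180.ringKrullDim_quot_congr _ _ h2).trans ?_
  exact dim_loc_quot S q K hKq

theorem comp_eq {S : Type u} [CommRing S] (I pS : Ideal S) :
    ((DoubleQuot.quotQuotEquivQuotSup I pS : _ →+* _)).comp
          ((Ideal.Quotient.mk (Ideal.map (Ideal.Quotient.mk I) pS)).comp
        (Ideal.Quotient.mk I)) = Ideal.Quotient.mk (I ⊔ pS) :=
  RingHom.ext fun x => DoubleQuot.quotQuotEquivQuotSup_quotQuotMk I pS x

theorem height_map_quot_quot {S : Type u} [CommRing S] (I pS q : Ideal S) :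
    ((q.map (Ideal.Quotient.mk I)).map (Ideal.Quotient.mk (pS.map (Ideal.Quotient.mk I)))).height =
      (q.map (Ideal.Quotient.mk (I ⊔ pS))).height := by
  have h := RingEquiv.height_map (DoubleQuot.quotQuotEquivQuotSup I pS)
    ((q.map (Ideal.Quotient.mk I)).map (Ideal.Quotient.mk (pS.map (Ideal.Quotient.mk I))))
  rw [← h]
  have h2 : Ideal.map (DoubleQuot.quotQuotEquivQuotSup I pS)
      (Ideal.map (Ideal.Quotient.mk (Ideal.map (Ideal.Quotient.mk I) pS))
      (Ideal.map (Ideal.Quotient.mk I) q)) = q.map (Ideal.Quotient.mk (I ⊔ pS)) := by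
    rw [← comp_eq, ← Ideal.map_map, ← Ideal.map_map]
    rfl
  rw [h2]

/-- Dimension of the fibre local ring of a closed subscheme. -/
theorem dim_fibLoc_of_quot (R S : Type u) [CommRing R] [CommRing S] [Algebra R S] (q : Ideal S)
    [q.IsPrime] (I : Ideal S) (qb : Ideal (S ⧸ I)) [qb.IsPrime]
    (hqb : qb.comap (Ideal.Quotient.mk I) = q) (K : Ideal S)
    (hK : K = I ⊔ (q.comap (algebraMap R S)).map (algebraMap R S)) :
    ringKrullDim (EGA4.FibLocRing R (S ⧸ I) qb) =
      ((q.map (Ideal.Quotient.mk K)).height : WithBot ℕ∞) := by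
  obtain ⟨p, hp⟩ : ∃ p : Ideal R, p = q.comap (algebraMap R S) := ⟨_, rfl⟩
  have hpb : qb.comap (algebraMap R (S ⧸ I)) = p := by
    rw [hp, ← hqb, Ideal.comap_comap]; rfl
  rw [Groth.Agent.S9180.dim_fibLoc R (S ⧸ I) p qb hpb]
  have hmap : p.map (algebraMap R (S ⧸ I)) =
      (p.map (algebraMap R S)).map (Ideal.Quotient.mk I) := by
    rw [Ideal.map_map]; rfl
  obtain ⟨pS, hpS⟩ : ∃ pS : Ideal S, pS = p.map (algebraMap R S) := ⟨_, rfl⟩
  rw [← hp, ← hpS] at hK
  rw [← hpS] at hmap
  obtain ⟨J, hJ⟩ : ∃ J : Ideal (S ⧸ I), J = p.map (algebraMap R (S ⧸ I)) := ⟨_, rfl⟩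
  rw [← hJ]
  rw [← hJ] at hmap
  subst hmap
  subst hK
  have hqbm : qb = q.map (Ideal.Quotient.mk I) := by
    rw [← hqb, Ideal.map_comap_of_surjective _ Ideal.Quotient.mk_surjective]
  rw [hqbm, height_map_quot_quot]

theorem spanFinrank_ofList_le {A : Type u} [CommRing A] (xs : List A) :
    (Ideal.ofList xs).spanFinrank ≤ xs.length := by
  classical
  have h1 : (Ideal.ofList xs).spanFinrank ≤ ({x | x ∈ xs} : Set A).ncard :=
    Submodule.spanFinrank_span_le_ncard_of_finite (List.finite_toSet xs)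
  refine h1.trans ?_
  have : ({x | x ∈ xs} : Set A) = ↑xs.toFinset := by
    ext x; simp
  rw [this, Set.ncard_coe_finset]
  exact List.toFinset_card_le xs

theorem mem_maximalIdeal_fibLoc (R S : Type u) [CommRing R] [CommRing S] [Algebra R S] (q : Ideal S)
    [q.IsPrime] [IsLocalRing (EGA4.FibLocRing R S q)] (s : S) (hs : s ∈ q) :
    algebraMap S (EGA4.FibLocRing R S q) s ∈ IsLocalRing.maximalIdeal (EGA4.FibLocRing R S q) := by
  have hle : (q.comap (algebraMap R S)).map (algebraMap R (Localization.AtPrime q)) ≤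
      IsLocalRing.maximalIdeal (Localization.AtPrime q) := by
    rw [Ideal.map_le_iff_le_comap]
    intro r hr
    rw [Ideal.mem_comap, IsScalarTower.algebraMap_apply R S (Localization.AtPrime q)]
    exact (IsLocalization.AtPrime.to_map_mem_maximal_iff _ q _).mpr hr
  rw [IsLocalRing.mem_maximalIdeal, mem_nonunits_iff]
  intro hu
  have hu2 := hu.map (Ideal.Quotient.factor hle)
  have h0 : Ideal.Quotient.factor hle (algebraMap S (EGA4.FibLocRing R S q) s) = 0 := by
    show Ideal.Quotient.factor hle (Ideal.Quotient.mk _ (algebraMap S (Localization.AtPrime q) s)) = 0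
    rw [Ideal.Quotient.factor_mk, Ideal.Quotient.eq_zero_iff_mem]
    exact (IsLocalization.AtPrime.to_map_mem_maximal_iff _ q _).mpr hs
  rw [h0] at hu2
  exact not_isUnit_zero hu2

/-- numerical criterion for regular sequences in a CM local ring -/
theorem isRegular_iff_dim {A : Type u} [CommRing A] [IsLocalRing A]
    (hA : LocCoh.IsCohenMacaulayLocalRing A) (xs : List A)
    (hxs : ∀ x ∈ xs, x ∈ IsLocalRing.maximalIdeal A) :
    RingTheory.Sequence.IsRegular A xs ↔
      ringKrullDim (A ⧸ Ideal.ofList xs) + (xs.length : WithBot ℕ∞) = ringKrullDim A := by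
  haveI := hA
  rw [IsLocalRing.isRegular_iff_isWeaklyRegular_of_subset_maximalIdeal hxs,
    (Groth.Agent.S5758.result A A hA.supportDim_eq_depth xs hxs).1,
    Module.supportDim_self_eq_ringKrullDim]
  have h : Ideal.ofList xs • (⊤ : Submodule A A) = Ideal.ofList xs := by
    rw [smul_eq_mul, Ideal.mul_top]
  rw [Module.supportDim_eq_of_equiv (Submodule.quotEquivOfEq _ _ h),
    Module.supportDim_quotient_eq_ringKrullDim]

theorem isRegular_iff (R S : Type u) [CommRing R] [CommRing S] [Algebra R S]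
    [Algebra.FiniteType R S] (d : ℕ)
    (hCM : ∀ p : PrimeSpectrum R, LocCoh.IsCohenMacaulayRing (p.asIdeal.Fiber S))
    (heq : ∀ p : PrimeSpectrum R, ∀ P ∈ minimalPrimes (p.asIdeal.Fiber S),
      ringKrullDim (p.asIdeal.Fiber S ⧸ P) = (d : WithBot ℕ∞))
    (f : List S) (qb : PrimeSpectrum (S ⧸ Ideal.ofList f)) (q : PrimeSpectrum S)
    (hq : q = PrimeSpectrum.comap (Ideal.Quotient.mk (Ideal.ofList f)) qb) :
    RingTheory.Sequence.IsRegular (EGA4.FibLocRing R S q.asIdeal)
        (f.map (algebraMap S (EGA4.FibLocRing R S q.asIdeal))) ↔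
      (f.length ≤ d ∧ tfd (PrimeSpectrum.comap (algebraMap R (S ⧸ Ideal.ofList f))) qb ≤
        ((d - f.length : ℕ) : WithBot ℕ∞)) := by
  classical
  obtain ⟨I, hI⟩ : ∃ I : Ideal S, I = Ideal.ofList f := ⟨_, rfl⟩
  have hfI : ∀ s ∈ f, s ∈ I := fun s hs => by
    rw [hI]; exact Ideal.subset_span hs
  subst hI
  revert qb
  intro qb hq
  have hqI : qb.asIdeal.comap (Ideal.Quotient.mk (Ideal.ofList f)) = q.asIdeal := by rw [hq]; rfl
  have hIq : Ideal.ofList f ≤ q.asIdeal := by
    rw [← hqI]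
    intro x hx
    rw [Ideal.mem_comap, Ideal.Quotient.eq_zero_iff_mem.mpr hx]
    exact zero_mem _
  obtain ⟨p, hp⟩ : ∃ p : Ideal R, p = q.asIdeal.under R := ⟨_, rfl⟩
  haveI : p.IsPrime := by rw [hp]; infer_instance
  have hpb : qb.asIdeal.under R = p := by
    rw [hp, ← hqI]; rfl
  haveI : qb.asIdeal.LiesOver p := ⟨hpb.symm⟩
  obtain ⟨Qb, hQb⟩ := exists_fiber_prime p qb.asIdeal
  obtain ⟨π, hπ⟩ : ∃ π : p.Fiber S →ₐ[p.ResidueField] p.Fiber (S ⧸ Ideal.ofList f), π =
    Algebra.TensorProduct.map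
      (AlgHom.id p.ResidueField p.ResidueField) (Ideal.Quotient.mkₐ R (Ideal.ofList f)) := ⟨_, rfl⟩
  have hπi : ∀ s : S, π ((1 : p.ResidueField) ⊗ₜ[R] s) =
      (1 : p.ResidueField) ⊗ₜ[R] (Ideal.Quotient.mk (Ideal.ofList f) s) := by
    intro s; rw [hπ]; rfl
  let Q : PrimeSpectrum (p.Fiber S) := ⟨Qb.asIdeal.comap π, inferInstance⟩
  have hQ : Q.asIdeal.comap Algebra.TensorProduct.includeRight.toRingHom = q.asIdeal := by
    rw [← hqI, ← hQb]
    ext s
    simp only [Ideal.mem_comap]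
    show π ((1 : p.ResidueField) ⊗ₜ[R] s) ∈ Qb.asIdeal ↔ _
    rw [hπi]
    rfl
  -- numbers
  obtain ⟨c, hc, htfd⟩ := tfd_eq_add p q hp.symm Q hQ
  obtain ⟨cb, hcb, htfdb⟩ := tfd_eq_add p qb hpb Qb hQb
  have hccb : c = cb := by
    have := dim_fiber_quot_eq p (Ideal.ofList f) Qb.asIdeal
    rw [hcb, ← hπ] at this
    have h2 : (c : WithBot ℕ∞) = cb := hc.symm.trans this
    exact_mod_cast h2
  subst hccb
  have htd : tfd (PrimeSpectrum.comap (algebraMap R S)) q = d := by
    rw [← localDim_fiber_eq_tfd p q hp.symm Q hQ]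
    exact localDim_eq_of_equidim p.ResidueField (p.Fiber S) d (heq ⟨p, inferInstance⟩) Q
  rw [htd] at htfd
  obtain ⟨e⟩ := nonempty_loc_fiber_equiv p Q.asIdeal q.asIdeal hQ
  haveI : IsLocalRing (EGA4.FibLocRing R S q.asIdeal) := e.isLocalRing
  have hcm : LocCoh.IsCohenMacaulayLocalRing (EGA4.FibLocRing R S q.asIdeal) :=
    Groth.Agent.H29.FlatCM.isCM_ringEquiv e
      ((hCM ⟨p, inferInstance⟩).isCohenMacaulayLocalRing_localization Q.asIdeal)
  haveI : IsNoetherianRing (EGA4.FibLocRing R S q.asIdeal) := by haveI := hcm; infer_instance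
  have hxs : ∀ x ∈ f.map (algebraMap S (EGA4.FibLocRing R S q.asIdeal)),
      x ∈ IsLocalRing.maximalIdeal (EGA4.FibLocRing R S q.asIdeal) := by
    intro x hx
    obtain ⟨s, hs, rfl⟩ := List.mem_map.mp hx
    exact mem_maximalIdeal_fibLoc R S q.asIdeal s (hIq (hfI s hs))
  rw [isRegular_iff_dim hcm _ hxs, List.length_map]
  -- dimension of the quotient
  have hY : ringKrullDim (EGA4.FibLocRing R S q.asIdeal ⧸
      Ideal.ofList (f.map (algebraMap S (EGA4.FibLocRing R S q.asIdeal)))) =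
      ringKrullDim (EGA4.FibLocRing R (S ⧸ Ideal.ofList f) qb.asIdeal) := by
    rw [dim_fibLoc_of_quot R S q.asIdeal (Ideal.ofList f) qb.asIdeal hqI _ rfl,
      ← dim_fibLoc_quot R S q.asIdeal (Ideal.ofList f) hIq _ rfl]
    exact Groth.Agent.S9180.ringKrullDim_quot_congr _ _ (Ideal.map_ofList _ _).symm
  have hkrull := ringKrullDim_le_ringKrullDim_quotient_add_spanFinrank
    (Ideal.ofList (f.map (algebraMap S (EGA4.FibLocRing R S q.asIdeal))))
    (by
      rw [IsLocalRing.ringJacobson_eq_maximalIdeal]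
      exact Ideal.span_le.mpr hxs)
  have hquot := ringKrullDim_quotient_le
    (Ideal.ofList (f.map (algebraMap S (EGA4.FibLocRing R S q.asIdeal))))
  have hsf := spanFinrank_ofList_le (f.map (algebraMap S (EGA4.FibLocRing R S q.asIdeal)))
  rw [List.length_map] at hsf
  rw [hY] at hkrull hquot ⊢
  rw [htfdb]
  obtain ⟨X, hX⟩ : ∃ X, X = ringKrullDim (EGA4.FibLocRing R S q.asIdeal) := ⟨_, rfl⟩
  obtain ⟨Y, hY'⟩ : ∃ Y, Y = ringKrullDim (EGA4.FibLocRing R (S ⧸ Ideal.ofList f) qb.asIdeal) :=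
    ⟨_, rfl⟩
  obtain ⟨n, hn⟩ : ∃ n, n = Submodule.spanFinrank
    (Ideal.ofList (List.map (⇑(algebraMap S (EGA4.FibLocRing R S q.asIdeal))) f)) := ⟨_, rfl⟩
  have hX0 : 0 ≤ X := by rw [hX]; exact ringKrullDim_nonneg_of_nontrivial
  rw [← hX] at htfd hkrull hquot ⊢
  rw [← hY'] at hkrull hquot ⊢
  rw [← hn] at hkrull hsf
  have hXd : X ≤ d := by
    rw [htfd]; exact le_add_of_nonneg_right (by exact_mod_cast Nat.zero_le c)
  obtain ⟨a, rfl⟩ := exists_nat_of_le hX0 hXd
  have hY0 : 0 ≤ Y := by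
    induction Y using WithBot.recBotCoe with
    | bot => simp at hkrull
    | coe y' => exact_mod_cast bot_le
  obtain ⟨y, rfl⟩ := exists_nat_of_le hY0 hquot
  have h1 : d = a + c := by exact_mod_cast htfd
  have h2 : a ≤ y + n := by exact_mod_cast hkrull
  have h3 : y ≤ a := by exact_mod_cast hquot
  constructor
  · intro h
    have h4 : y + f.length = a := by exact_mod_cast h
    refine ⟨by omega, ?_⟩
    have : y + c ≤ d - f.length := by omega
    exact_mod_cast this
  · rintro ⟨h5, h6⟩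
    have h7 : y + c ≤ d - f.length := by exact_mod_cast h6
    have : y + f.length = a := by omega
    exact_mod_cast this

end Groth.Agent.H66.FibreReg
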