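import Groth.Agent.H1.Hyp_F2
import Groth.Agent.H18.ProjSubD
import Groth.Prelude.Def_RefHull
import Groth.Prelude.Def_CohB1

/-!
# Piece (HFB) for S12261 (helper61): finiteness of `H⁰` on closed subschemes of `ProjSpaceOver n (Spec k)`
-/

set_option autoImplicit false
universe u
open CategoryTheory CategoryTheory.Limits AlgebraicGeometry TopologicalSpace Opposite

namespace Groth.Agent.H66.LocHilbHfin_HFB

theorem HFB {k : Type u} [Field k] (X : Scheme.{u}) [X.Over (Spec (CommRingCat.of k))] (n : ℕ)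
    (c : X ⟶ CohB1.ProjSpaceOver n (Spec (CommRingCat.of k))) [IsClosedImmersion c]
    (hc : c ≫ CohB1.ProjSpaceOver.toBase n (Spec (CommRingCat.of k)) =
      X ↘ (Spec (CommRingCat.of k)))
    (G : X.Modules) (hG : Coh.IsCoh G) : Module.Finite k (Coh.HH X G 0) := by
  obtain ⟨θ, hθ⟩ := Groth.Agent.H18.ProjSubD.nonempty_projSpaceOver_iso n k
  haveI : IsClosedImmersion (c ≫ θ.hom) := inferInstance
  refine Groth.Agent.H1.Hyp_F2.finite_HH_zero_of_closedImmersion k X n (c ≫ θ.hom) ?_ G hG
  rw [Category.assoc, hθ]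
  exact hc

end Groth.Agent.H66.LocHilbHfin_HFB
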