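import Groth.Agent.H65.GalCycDefs

/-!
# Piece (F) for S13083 (helper65): closed points of `X_{k̄}` vs closed points of `X`

`π : X_{k̄} ⟶ X` is integral; so it is a closed map and its fibres are spectra of algebras
integral over a field, hence all their points are closed.
-/

set_option autoImplicit false
set_option linter.style.haveILetI false
universe u
open CategoryTheory CategoryTheory.Limits AlgebraicGeometry
open Groth.Agent.H65.GalCyc

namespace Groth.Agent.H66.GalCyc_F

/-- Over a field, every prime of an integral algebra is maximal (ring-hom form, `IsField`). -/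
theorem isMaximal_of_isIntegral_isField {K B : Type*} [CommRing K] [CommRing B] (hK : IsField K)
    (φ : K →+* B) (hφ : φ.IsIntegral) (P : Ideal B) [P.IsPrime] : P.IsMaximal := by
  refine Ideal.isMaximal_of_isIntegral_of_isMaximal_comap' φ hφ P ?_
  have hprime : (P.comap φ).IsPrime := inferInstance
  haveI : IsSimpleOrder (Ideal K) := Ring.isField_iff_isSimpleOrder_ideal.mp hK
  rcases eq_bot_or_eq_top (P.comap φ) with h0 | h1
  · rw [h0]; exact Ideal.isMaximal_def.mpr isCoatom_bot
  · exact absurd h1 hprime.ne_top

/-- All points of a scheme integral over the spectrum of a field are closed. -/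
theorem isClosed_singleton_of_isIntegralHom {Z : Scheme.{u}} {K : CommRingCat.{u}}
    (hK : IsField K) (h : Z ⟶ Spec K) [IsIntegralHom h] (z : Z) : IsClosed ({z} : Set Z) := by
  haveI : IsAffine Z := isAffine_of_isAffineHom h
  let e : Z ≃ₜ Spec Γ(Z, ⊤) := Scheme.homeoOfIso Z.isoSpec
  have hψ : (h.app ⊤).hom.IsIntegral := IsIntegralHom.isIntegral_app h ⊤ (isAffineOpen_top (Spec K))
  have hsurj : Function.Surjective (Scheme.ΓSpecIso K).inv.hom :=
    (ConcreteCategory.bijective_of_isIso (C := CommRingCat) (Scheme.ΓSpecIso K).inv).2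
  have hφ : ((h.app ⊤).hom.comp (Scheme.ΓSpecIso K).inv.hom).IsIntegral :=
    RingHom.IsIntegral.trans _ _ (RingHom.isIntegral_of_surjective _ hsurj) hψ
  have hmax : (e z : PrimeSpectrum Γ(Z, ⊤)).asIdeal.IsMaximal :=
    @isMaximal_of_isIntegral_isField _ _ _ _ hK _ hφ _ (e z : PrimeSpectrum Γ(Z, ⊤)).isPrime
  have hc : IsClosed ({e z} : Set (Spec Γ(Z, ⊤))) :=
    (PrimeSpectrum.isClosed_singleton_iff_isMaximal _).mpr hmax
  have := hc.preimage e.continuous
  have hpre : e ⁻¹' {e z} = {z} := by
    ext w
    simp only [Set.mem_preimage, Set.mem_singleton_iff]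
    exact e.injective.eq_iff
  rwa [hpre] at this

variable {k : Type u} [Field k] {X : Scheme.{u}} (f : X ⟶ Spec (CommRingCat.of k))

instance isIntegralHom_jK : IsIntegralHom (jK k) := by
  rw [IsIntegralHom.SpecMap_iff]
  exact algebraMap_isIntegral_iff.mpr inferInstance

/-- Piece (F). (`LocallyOfFiniteType f` is not needed.) -/
theorem closed_iff [LocallyOfFiniteType f] (y : ↥(pullback f (jK k))) :
    IsClosed ({y} : Set ↥(pullback f (jK k))) ↔
      IsClosed ({(pullback.fst f (jK k)).base y} : Set X) := by
  haveI : IsIntegralHom (pullback.fst f (jK k)) := inferInstance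
  constructor
  · intro hy
    have := (pullback.fst f (jK k)).isClosedMap _ hy
    rwa [Set.image_singleton] at this
  · intro hx
    haveI : IsClosedImmersion (X.fromSpecResidueField ((pullback.fst f (jK k)).base y)) :=
      isClosed_singleton_iff_isClosedImmersion.mp hx
    haveI : IsClosedImmersion
        ((pullback.fst f (jK k)).fiberι ((pullback.fst f (jK k)).base y)) :=
      MorphismProperty.pullback_fst _ _ inferInstance
    haveI : IsIntegralHom
        ((pullback.fst f (jK k)).fiberToSpecResidueField ((pullback.fst f (jK k)).base y)) :=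
      MorphismProperty.pullback_snd _ _ inferInstance
    have hzc : IsClosed ({(pullback.fst f (jK k)).asFiber y} :
        Set ((pullback.fst f (jK k)).fiber ((pullback.fst f (jK k)).base y))) :=
      isClosed_singleton_of_isIntegralHom (Field.toIsField _)
        ((pullback.fst f (jK k)).fiberToSpecResidueField ((pullback.fst f (jK k)).base y)) _
    have := ((pullback.fst f (jK k)).fiberι
      ((pullback.fst f (jK k)).base y)).isClosedEmbedding.isClosedMap _ hzc
    rwa [Set.image_singleton, Scheme.Hom.fiberι_asFiber] at this

end Groth.Agent.H66.GalCyc_F
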