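import Mathlib

/-!
# (D1) for helper15's S9298 squad: the determinant trick for `τ ^ c • J ≤ J ^ 2`.
-/

set_option autoImplicit false
universe u

namespace Groth.Agent.H66.ALG_D1

theorem exists_kill {P : Type u} [CommRing P] [IsNoetherianRing P] (J : Ideal P) (τ : P) (c : ℕ)
    (h : Ideal.span {τ ^ c} * J ≤ J ^ 2) :
    ∃ (M : ℕ) (j : P), j ∈ J ∧ ∀ x ∈ J, (τ ^ M - j) * x = 0 := by
  classical
  let f : Module.End P J := algebraMap P (Module.End P J) (τ ^ c)
  have hfx : ∀ x : J, ((f x : J) : P) = τ ^ c * (x : P) := fun x => rfl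
  have hmap : (J • (⊤ : Submodule P J)).map J.subtype = J * J := by
    rw [Submodule.map_smul'', Submodule.map_top, Submodule.range_subtype]
    rfl
  have hrange : LinearMap.range f ≤ J • (⊤ : Submodule P J) := by
    rintro _ ⟨x, rfl⟩
    have h1 : τ ^ c * (x : P) ∈ J * J := by
      rw [← pow_two]
      exact h (Ideal.mul_mem_mul (Ideal.mem_span_singleton_self _) x.2)
    rw [← hmap] at h1
    obtain ⟨z, hz, hzx⟩ := h1
    have hzf : z = f x := Subtype.ext (by rw [hfx]; exact hzx)
    rw [← hzf]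
    exact hz
  obtain ⟨p, hpm, -, hpc, hp0⟩ :=
    LinearMap.exists_monic_and_natDegree_eq_and_coeff_mem_pow_and_aeval_eq_zero P f J hrange
  have hev : ∀ x : J, (p.eval (τ ^ c)) * (x : P) = 0 := by
    intro x
    have h1 : (Polynomial.aeval f p) x = 0 := by rw [hp0]; rfl
    have h2 : Polynomial.aeval f p = algebraMap P (Module.End P J) (p.eval (τ ^ c)) :=
      Polynomial.aeval_algebraMap_apply_eq_algebraMap_eval (τ ^ c) p
    rw [h2, Module.algebraMap_end_apply] at h1
    have h3 : ((p.eval (τ ^ c) • x : J) : P) = 0 := by rw [h1]; rfl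
    rw [Submodule.coe_smul, smul_eq_mul] at h3
    exact h3
  refine ⟨c * p.natDegree, -(∑ i ∈ Finset.range p.natDegree, p.coeff i * (τ ^ c) ^ i), ?_, ?_⟩
  · refine neg_mem ?_
    refine Ideal.sum_mem _ ?_
    intro i hi
    apply Ideal.mul_mem_right
    have hi' : i < p.natDegree := Finset.mem_range.1 hi
    exact Ideal.pow_le_self (by omega) (hpc i)
  · intro x hx
    have h4 := hev ⟨x, hx⟩
    rw [Polynomial.eval_eq_sum_range, Finset.sum_range_succ, hpm.coeff_natDegree, one_mul] at h4
    have e : τ ^ (c * p.natDegree) -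
        -(∑ i ∈ Finset.range p.natDegree, p.coeff i * (τ ^ c) ^ i) =
        (∑ i ∈ Finset.range p.natDegree, p.coeff i * (τ ^ c) ^ i) + (τ ^ c) ^ p.natDegree := by
      rw [pow_mul]; ring
    rw [e]
    exact h4

end Groth.Agent.H66.ALG_D1
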