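import Mathlib

/-!
# (D3) for helper15's S9298 squad: a complete ring with the right truncations is the completion.
-/

set_option autoImplicit false
universe u

namespace Groth.Agent.H66.ALG_D3

open AdicCompletion

theorem factorPow_evalₐ {R : Type*} [CommRing R] (I : Ideal R) {m n : ℕ} (hle : m ≤ n)
    (x : AdicCompletion I R) :
    Ideal.Quotient.factorPow I hle (evalₐ I n x) = evalₐ I m x := by
  obtain ⟨r, rfl⟩ := AdicCompletion.mk_surjective I R x
  rw [evalₐ_mk, evalₐ_mk, Ideal.Quotient.factor_mk]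
  exact AdicCompletion.Ideal.mk_eq_mk I hle r

theorem aux {T T' : Type u} [CommRing T] [CommRing T'] (K : Ideal T) (ι : T →+* T')
    (K' : Ideal T') [IsAdicComplete K' T'] (hpow : ∀ n : ℕ, (K ^ n).map ι = K' ^ n)
    (hlev : ∀ n : ℕ, Function.Bijective
      (Ideal.quotientMap ((K ^ n).map ι) ι Ideal.le_comap_map)) :
    ∃ e : AdicCompletion K T ≃+* T', ∀ x : T, e (algebraMap T (AdicCompletion K T) x) = ι x := by
  classical
  have hle : ∀ n : ℕ, K ^ n ≤ (K' ^ n).comap ι := fun n => by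
    rw [← hpow n]; exact Ideal.le_comap_map
  let q : ∀ n : ℕ, T ⧸ K ^ n →+* T' ⧸ K' ^ n := fun n => Ideal.quotientMap (K' ^ n) ι (hle n)
  have hq_mk : ∀ (n : ℕ) (t : T),
      q n (Ideal.Quotient.mk (K ^ n) t) = Ideal.Quotient.mk (K' ^ n) (ι t) :=
    fun n t => Ideal.quotientMap_mk
  have hqbij : ∀ n, Function.Bijective (q n) := by
    intro n
    have h1 : (q n : T ⧸ K ^ n → T' ⧸ K' ^ n) =
        (Ideal.quotEquivOfEq (hpow n)) ∘
          (Ideal.quotientMap ((K ^ n).map ι) ι Ideal.le_comap_map) := by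
      funext x
      obtain ⟨t, rfl⟩ := Ideal.Quotient.mk_surjective x
      rw [hq_mk, Function.comp_apply, Ideal.quotientMap_mk, Ideal.quotEquivOfEq_mk]
    rw [h1]
    exact (Ideal.quotEquivOfEq (hpow n)).bijective.comp (hlev n)
  let qe : ∀ n : ℕ, T ⧸ K ^ n ≃+* T' ⧸ K' ^ n := fun n => RingEquiv.ofBijective (q n) (hqbij n)
  have hqe : ∀ (n : ℕ) (x : T ⧸ K ^ n), qe n x = q n x := fun n x => rfl
  have hnat : ∀ (m n : ℕ) (hmn : m ≤ n) (x : T ⧸ K ^ n),
      q m (Ideal.Quotient.factorPow K hmn x) = Ideal.Quotient.factorPow K' hmn (q n x) := by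
    intro m n hmn x
    obtain ⟨t, rfl⟩ := Ideal.Quotient.mk_surjective x
    rw [Ideal.Quotient.factor_mk, hq_mk, hq_mk, Ideal.Quotient.factor_mk]
  have hT'ext : ∀ a b : T',
      (∀ n, Ideal.Quotient.mk (K' ^ n) a = Ideal.Quotient.mk (K' ^ n) b) → a = b := by
    intro a b hab
    apply (AdicCompletion.ofAlgEquiv K').injective
    rw [AdicCompletion.ofAlgEquiv_apply, AdicCompletion.ofAlgEquiv_apply]
    refine AdicCompletion.ext_evalₐ fun n => ?_
    rw [evalₐ_of, evalₐ_of]
    exact hab n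
  have hcompat : ∀ (m n : ℕ) (hmn : m ≤ n),
      (Ideal.Quotient.factorPow K' hmn).comp ((q n).comp (evalₐ K n).toRingHom) =
        (q m).comp (evalₐ K m).toRingHom := by
    intro m n hmn
    refine RingHom.ext fun x => ?_
    show Ideal.Quotient.factorPow K' hmn (q n (evalₐ K n x)) = q m (evalₐ K m x)
    rw [← hnat m n hmn, factorPow_evalₐ]
  let g : AdicCompletion K T →+* T' :=
    IsAdicComplete.liftRingHom K' (fun n => (q n).comp (evalₐ K n).toRingHom)
      (fun {m n} hmn => hcompat m n hmn)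
  have hg : ∀ (n : ℕ) (x : AdicCompletion K T),
      Ideal.Quotient.mk (K' ^ n) (g x) = q n (evalₐ K n x) := fun n x =>
    IsAdicComplete.mk_liftRingHom K' (fun n => (q n).comp (evalₐ K n).toRingHom)
      (fun {m n} hmn => hcompat m n hmn) n x
  have hcompat' : ∀ (m n : ℕ) (hmn : m ≤ n),
      (Ideal.Quotient.factorPow K hmn).comp
        (((qe n).symm : T' ⧸ K' ^ n →+* T ⧸ K ^ n).comp (Ideal.Quotient.mk (K' ^ n))) =
        ((qe m).symm : T' ⧸ K' ^ m →+* T ⧸ K ^ m).comp (Ideal.Quotient.mk (K' ^ m)) := by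
    intro m n hmn
    refine RingHom.ext fun z => ?_
    show Ideal.Quotient.factorPow K hmn ((qe n).symm (Ideal.Quotient.mk (K' ^ n) z)) =
      (qe m).symm (Ideal.Quotient.mk (K' ^ m) z)
    apply (qe m).injective
    rw [RingEquiv.apply_symm_apply, hqe, hnat m n hmn, ← hqe n, RingEquiv.apply_symm_apply,
      Ideal.Quotient.factor_mk]
  let g' : T' →+* AdicCompletion K T :=
    AdicCompletion.liftRingHom K
      (fun n => ((qe n).symm : T' ⧸ K' ^ n →+* T ⧸ K ^ n).comp (Ideal.Quotient.mk (K' ^ n)))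
      (fun {m n} hmn => hcompat' m n hmn)
  have hg' : ∀ (n : ℕ) (z : T'),
      evalₐ K n (g' z) = (qe n).symm (Ideal.Quotient.mk (K' ^ n) z) := fun n z =>
    AdicCompletion.evalₐ_liftRingHom K _ (fun {m n} hmn => hcompat' m n hmn) n z
  have h1 : ∀ x, g' (g x) = x := by
    intro x
    refine AdicCompletion.ext_evalₐ fun n => ?_
    rw [hg', hg, ← hqe, RingEquiv.symm_apply_apply]
  have h2 : ∀ z, g (g' z) = z := by
    intro z
    apply hT'ext
    intro n
    rw [hg, hg', ← hqe, RingEquiv.apply_symm_apply]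
  have hbij : Function.Bijective g :=
    ⟨Function.LeftInverse.injective h1, Function.RightInverse.surjective h2⟩
  refine ⟨RingEquiv.ofBijective g hbij, fun x => ?_⟩
  rw [RingEquiv.ofBijective_apply]
  apply hT'ext
  intro n
  rw [hg]
  have h3 : evalₐ K n (algebraMap T (AdicCompletion K T) x) = Ideal.Quotient.mk (K ^ n) x :=
    (evalₐ K n).commutes x
  rw [h3, hq_mk]

/-- (D3) a complete ring with the right truncations is the completion. -/
theorem adicCompletion_equiv_of_levelwise {T T' : Type u} [CommRing T] [CommRing T']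
    (K : Ideal T) (hK : K.FG) (ι : T →+* T') [IsAdicComplete (K.map ι) T']
    (hlev : ∀ n : ℕ, Function.Bijective
      (Ideal.quotientMap ((K ^ n).map ι) ι Ideal.le_comap_map)) :
    ∃ e : AdicCompletion K T ≃+* T', ∀ x : T, e (algebraMap T (AdicCompletion K T) x) = ι x :=
  aux K ι (K.map ι) (fun n => Ideal.map_pow ι K n) hlev

end Groth.Agent.H66.ALG_D3
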