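import Mathlib

set_option autoImplicit false
universe u
open TensorProduct

namespace Groth.Agent.H66.AwayTensor

/-- Localization away from the image of a base-level element is the base change of the
localization. -/
theorem exists_away_tensor_equiv (B R C S : Type u) [CommRing B] [CommRing R] [CommRing C]
    [CommRing S] [Algebra B R] [Algebra B C] [Algebra R S] [Algebra B S] [IsScalarTower B R S]
    (θ : R ⊗[B] C ≃ₐ[R] S) (g : C) :
    Nonempty (Localization.Away (θ ((1 : R) ⊗ₜ[B] g)) ≃ₐ[R] R ⊗[B] Localization.Away g) := by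
  obtain ⟨s, hs⟩ : ∃ s : S, s = θ ((1 : R) ⊗ₜ[B] g) := ⟨_, rfl⟩
  rw [← hs]
  let f : S →ₐ[R] R ⊗[B] Localization.Away g :=
    (Algebra.TensorProduct.map (AlgHom.id R R)
      (IsScalarTower.toAlgHom B C (Localization.Away g))).comp θ.symm.toAlgHom
  have hfθ : ∀ (x : R) (c : C), f (θ (x ⊗ₜ[B] c)) =
      x ⊗ₜ[B] algebraMap C (Localization.Away g) c := by
    intro x c
    simp [f]
  have hunit : ∀ y : Submonoid.powers s, IsUnit (f y) := by
    rintro ⟨_, n, rfl⟩
    rw [map_pow, hs, hfθ]
    apply IsUnit.pow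
    exact (IsLocalization.Away.algebraMap_isUnit (S := Localization.Away g) g).map
      (Algebra.TensorProduct.includeRight : Localization.Away g →ₐ[B] R ⊗[B] Localization.Away g)
  let Φ : Localization.Away s →ₐ[R] R ⊗[B] Localization.Away g :=
    IsLocalization.liftAlgHom (M := Submonoid.powers s) (f := f) hunit
  have hΦ : ∀ x : S, Φ (algebraMap S (Localization.Away s) x) = f x := fun x =>
    IsLocalization.lift_eq _ x
  -- the backward map
  let ψ₀ : C →ₐ[B] Localization.Away s :=
    ((IsScalarTower.toAlgHom B S (Localization.Away s))).comp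
      ((θ.toAlgHom.restrictScalars B).comp Algebra.TensorProduct.includeRight)
  have hψ₀ : ∀ c, ψ₀ c = algebraMap S (Localization.Away s) (θ ((1 : R) ⊗ₜ[B] c)) := fun c => rfl
  have hunit' : ∀ y : Submonoid.powers g, IsUnit (ψ₀ y) := by
    rintro ⟨_, n, rfl⟩
    rw [map_pow, hψ₀, ← hs]
    apply IsUnit.pow
    exact IsLocalization.Away.algebraMap_isUnit s
  let ψ : Localization.Away g →ₐ[B] Localization.Away s :=
    IsLocalization.liftAlgHom (M := Submonoid.powers g) (f := ψ₀) hunit'
  have hψ : ∀ c : C, ψ (algebraMap C (Localization.Away g) c) = ψ₀ c := fun c =>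
    IsLocalization.lift_eq _ c
  let Ψ : R ⊗[B] Localization.Away g →ₐ[R] Localization.Away s :=
    Algebra.TensorProduct.lift (Algebra.ofId R (Localization.Away s)) ψ
      (fun _ _ => Commute.all _ _)
  have hΨ : ∀ (x : R) (l : Localization.Away g), Ψ (x ⊗ₜ[B] l) = x • ψ l := by
    intro x l
    rw [Algebra.TensorProduct.lift_tmul, Algebra.ofId_apply, Algebra.smul_def]
  -- compositions
  have h1 : ∀ z : S, Ψ (f z) = algebraMap S (Localization.Away s) z := by
    intro z
    obtain ⟨y, rfl⟩ := θ.surjective z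
    induction y using TensorProduct.induction_on with
    | zero => simp
    | tmul x c =>
      have h3 : θ (x ⊗ₜ[B] c) = algebraMap R S x * θ ((1 : R) ⊗ₜ[B] c) := by
        rw [← Algebra.smul_def, ← map_smul, TensorProduct.smul_tmul', smul_eq_mul, mul_one]
      rw [hfθ, hΨ, hψ, hψ₀, h3, map_mul, ← IsScalarTower.algebraMap_apply, Algebra.smul_def]
    | add y₁ y₂ h₁ h₂ => simp only [map_add, h₁, h₂]
  have h2 : ∀ l : Localization.Away g, Φ (ψ l) = (1 : R) ⊗ₜ[B] l := by
    have h3 : (Φ.toRingHom.comp ψ.toRingHom) =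
        (Algebra.TensorProduct.includeRight :
          Localization.Away g →ₐ[B] R ⊗[B] Localization.Away g).toRingHom := by
      apply IsLocalization.ringHom_ext (Submonoid.powers g)
      ext c
      simp only [RingHom.comp_apply, AlgHom.toRingHom_eq_coe, RingHom.coe_coe,
        Algebra.TensorProduct.includeRight_apply]
      rw [hψ, hψ₀, hΦ, hfθ]
    intro l
    exact RingHom.congr_fun h3 l
  have hΨΦ : Ψ.comp Φ = AlgHom.id R _ := by
    apply AlgHom.coe_ringHom_injective
    apply IsLocalization.ringHom_ext (Submonoid.powers s)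
    ext z
    simp only [RingHom.comp_apply, AlgHom.coe_toRingHom, AlgHom.comp_apply, AlgHom.id_apply]
    rw [hΦ, h1]
  have hΦΨ : Φ.comp Ψ = AlgHom.id R _ := by
    apply AlgHom.ext
    intro z
    induction z using TensorProduct.induction_on with
    | zero => simp
    | tmul x l =>
      rw [AlgHom.comp_apply, hΨ, map_smul, h2, AlgHom.id_apply, TensorProduct.smul_tmul',
        smul_eq_mul, mul_one]
    | add z₁ z₂ h₁ h₂ => simp only [map_add, h₁, h₂]
  exact ⟨AlgEquiv.ofAlgHom Φ Ψ hΦΨ hΨΦ⟩

end Groth.Agent.H66.AwayTensor
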