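import Mathlib

/-!
# (A2) for helper17's Brodmann–Sharp squad: if `dim R/J ≥ 1` there is `x ∈ 𝔪` with
`dim R/(J + (x)) + 1 ≤ dim R/J` (prime avoidance on the minimal primes of `J`).
-/

set_option autoImplicit false
universe u

namespace Groth.Agent.H66.BS_A2

set_option backward.isDefEq.respectTransparency false in
theorem exists_mem_dim_quotient_lt (R : Type u) [CommRing R] [IsNoetherianRing R] [IsLocalRing R]
    (J : Ideal R) (hJ : 1 ≤ ringKrullDim (R ⧸ J)) :
    ∃ x ∈ IsLocalRing.maximalIdeal R,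
      ringKrullDim (R ⧸ (J ⊔ Ideal.span {x})) + 1 ≤ ringKrullDim (R ⧸ J) := by
  classical
  have hJtop : J ≠ ⊤ := by
    rintro rfl
    have : Subsingleton (R ⧸ (⊤ : Ideal R)) := Ideal.Quotient.subsingleton_iff.2 rfl
    rw [ringKrullDim_eq_bot_of_subsingleton] at hJ
    exact absurd hJ (by simp)
  have hfin : (J.minimalPrimes).Finite := Ideal.finite_minimalPrimes_of_isNoetherianRing R J
  have hm : IsLocalRing.maximalIdeal R ∉ J.minimalPrimes := by
    intro hmin
    have hall : ∀ P : PrimeSpectrum.zeroLocus (R := R) (J : Set R),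
        P.1.asIdeal = IsLocalRing.maximalIdeal R := by
      intro P
      have h1 : J ≤ P.1.asIdeal := by
        have h0 := P.2
        rw [PrimeSpectrum.mem_zeroLocus] at h0
        exact h0
      have h2 : P.1.asIdeal ≤ IsLocalRing.maximalIdeal R :=
        IsLocalRing.le_maximalIdeal P.1.isPrime.ne_top
      exact le_antisymm h2 (hmin.2 ⟨P.1.isPrime, h1⟩ h2)
    have hle : ringKrullDim (R ⧸ J) ≤ 0 := by
      rw [ringKrullDim_quotient]
      have : Subsingleton (PrimeSpectrum.zeroLocus (R := R) (J : Set R)) :=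
        ⟨fun P Q => Subtype.ext (PrimeSpectrum.ext ((hall P).trans (hall Q).symm))⟩
      exact Order.krullDim_nonpos_of_subsingleton
    have h01 : (1 : WithBot ℕ∞) ≤ 0 := hJ.trans hle
    exact absurd h01 (by simp)
  obtain ⟨x, hxm, hxnot⟩ : ∃ x ∈ IsLocalRing.maximalIdeal R, ∀ p ∈ J.minimalPrimes, x ∉ p := by
    by_contra hcon
    push_neg at hcon
    have key := (Ideal.subset_union_prime (R := R) (s := hfin.toFinset) (f := fun p => p)
      (I := IsLocalRing.maximalIdeal R) (IsLocalRing.maximalIdeal R) (IsLocalRing.maximalIdeal R)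
      (fun i hi _ _ => ((hfin.mem_toFinset.1 hi).1.1))).1 (by
        intro x hx
        obtain ⟨p, hp, hxp⟩ := hcon x hx
        simp only [Set.mem_iUnion]
        exact ⟨p, Finset.mem_coe.2 (hfin.mem_toFinset.2 hp), hxp⟩)
    obtain ⟨p, hp, hle⟩ := key
    have hp' : p ∈ J.minimalPrimes := hfin.mem_toFinset.1 hp
    have hpm : p = IsLocalRing.maximalIdeal R :=
      le_antisymm (IsLocalRing.le_maximalIdeal hp'.1.1.ne_top) hle
    exact hm (hpm ▸ hp')
  refine ⟨x, hxm, ?_⟩
  by_cases htop : J ⊔ Ideal.span {x} = ⊤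
  · rw [htop]
    have : Subsingleton (R ⧸ (⊤ : Ideal R)) := Ideal.Quotient.subsingleton_iff.2 rfl
    rw [ringKrullDim_eq_bot_of_subsingleton]
    simp
  have ne1 : Nonempty (PrimeSpectrum.zeroLocus (R := R)
      ((J ⊔ Ideal.span {x} : Ideal R) : Set R)) := by
    rwa [Set.nonempty_coe_sort, Set.nonempty_iff_ne_empty, ne_eq,
      PrimeSpectrum.zeroLocus_empty_iff_eq_top]
  have ne2 : Nonempty (PrimeSpectrum.zeroLocus (R := R) (J : Set R)) := by
    rwa [Set.nonempty_coe_sort, Set.nonempty_iff_ne_empty, ne_eq,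
      PrimeSpectrum.zeroLocus_empty_iff_eq_top]
  rw [ringKrullDim_quotient, Order.krullDim_eq_iSup_length, ringKrullDim_quotient,
    Order.krullDim_eq_iSup_length, ← WithBot.coe_one, ← WithBot.coe_add,
    ENat.iSup_add, WithBot.coe_le_coe, iSup_le_iff]
  intro l
  have hJl : J ≤ l.head.1.asIdeal := by
    have h0 := l.head.2
    rw [PrimeSpectrum.mem_zeroLocus] at h0
    exact (le_sup_left : J ≤ J ⊔ Ideal.span {x}).trans h0
  have hxl : x ∈ l.head.1.asIdeal := by
    have h0 := l.head.2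
    rw [PrimeSpectrum.mem_zeroLocus] at h0
    exact h0 (Ideal.mem_sup_right (Ideal.mem_span_singleton_self x))
  obtain ⟨p, hp, hp'⟩ := Ideal.exists_minimalPrimes_le (I := J) (J := l.head.1.asIdeal) hJl
  let p' : PrimeSpectrum.zeroLocus (R := R) (J : Set R) := ⟨⟨p, hp.1.1⟩, by
    rw [PrimeSpectrum.mem_zeroLocus]; exact hp.1.2⟩
  let f : PrimeSpectrum.zeroLocus (R := R) ((J ⊔ Ideal.span {x} : Ideal R) : Set R) →
      PrimeSpectrum.zeroLocus (R := R) (J : Set R) :=
    fun P => ⟨P.1, PrimeSpectrum.zeroLocus_anti_mono_ideal le_sup_left P.2⟩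
  have hf : StrictMono f := fun _ _ h => h
  have hlt : p' < (l.map f hf).head := by
    rw [LTSeries.head_map]
    refine lt_of_le_of_ne hp' ?_
    intro h
    apply hxnot p hp
    have h6 : p = l.head.1.asIdeal :=
      congrArg (fun q : PrimeSpectrum.zeroLocus (R := R) (J : Set R) => q.1.asIdeal) h
    rw [h6]
    exact hxl
  refine le_trans ?_ (le_iSup _ ((l.map f hf).cons p' hlt))
  simp

end Groth.Agent.H66.BS_A2
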