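import Mathlib

/-!
# (A3) for helper17's Brodmann–Sharp squad: `dim R/a ≤ dim R/(a + (x)) + 1` for `x ∈ 𝔪`.
-/

set_option autoImplicit false
universe u

namespace Groth.Agent.H66.BS_A3

theorem ringKrullDim_quotient_le_sup_span_add_one (R : Type u) [CommRing R] [IsNoetherianRing R]
    [IsLocalRing R] (a : Ideal R) (x : R) (hx : x ∈ IsLocalRing.maximalIdeal R) :
    ringKrullDim (R ⧸ a) ≤ ringKrullDim (R ⧸ (a ⊔ Ideal.span {x})) + 1 := by
  classical
  by_cases ha : a = ⊤
  · subst ha
    haveI : Subsingleton (R ⧸ (⊤ : Ideal R)) := Ideal.Quotient.subsingleton_iff.2 rfl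
    rw [ringKrullDim_eq_bot_of_subsingleton]
    exact bot_le
  · haveI : Nontrivial (R ⧸ a) := Ideal.Quotient.nontrivial_iff.2 ha
    haveI : IsLocalRing (R ⧸ a) :=
      IsLocalRing.of_surjective' (Ideal.Quotient.mk a) Ideal.Quotient.mk_surjective
    have hnu : ¬ IsUnit (Ideal.Quotient.mk a x) := by
      intro hu
      obtain ⟨y, hy⟩ := hu.exists_right_inv
      obtain ⟨y', rfl⟩ := Ideal.Quotient.mk_surjective y
      rw [← map_mul, ← map_one (Ideal.Quotient.mk a), Ideal.Quotient.eq] at hy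
      have h2 : x * y' - 1 ∈ IsLocalRing.maximalIdeal R := IsLocalRing.le_maximalIdeal ha hy
      have h3 : x * y' ∈ IsLocalRing.maximalIdeal R := Ideal.mul_mem_right _ _ hx
      have h4 : (1 : R) ∈ IsLocalRing.maximalIdeal R := by
        have h5 := Ideal.sub_mem _ h3 h2
        simpa using h5
      exact (Ideal.ne_top_iff_one _).1 (IsLocalRing.maximalIdeal.isMaximal R).ne_top h4
    have hj : ((({Ideal.Quotient.mk a x} : Finset (R ⧸ a)) : Set (R ⧸ a))) ⊆
        Ring.jacobson (R ⧸ a) := by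
      intro y hy
      rw [Finset.coe_singleton, Set.mem_singleton_iff] at hy
      subst hy
      rw [IsLocalRing.ringJacobson_eq_maximalIdeal]
      exact (IsLocalRing.mem_maximalIdeal _).2 hnu
    have h1 := ringKrullDim_le_ringKrullDim_quotient_add_card
      ({Ideal.Quotient.mk a x} : Finset (R ⧸ a)) hj
    rw [Finset.card_singleton, Finset.coe_singleton] at h1
    have h5 : Ideal.span {Ideal.Quotient.mk a x} =
        (Ideal.span {x}).map (Ideal.Quotient.mk a) := by
      rw [Ideal.map_span, Set.image_singleton]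
    have e : ((R ⧸ a) ⧸ Ideal.span {Ideal.Quotient.mk a x}) ≃+* R ⧸ (a ⊔ Ideal.span {x}) :=
      (Ideal.quotEquivOfEq h5).trans (DoubleQuot.quotQuotEquivQuotSup a (Ideal.span {x}))
    rw [ringKrullDim_eq_of_ringEquiv e] at h1
    simpa using h1

end Groth.Agent.H66.BS_A3
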