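import Mathlib

/-!
# (B5) for helper17's Brodmann–Sharp squad: `dim R/a` is attained on `R/(a + p)` for some
minimal prime `p` of `R`.
-/

set_option autoImplicit false
universe u

namespace Groth.Agent.H66.BS_B5

theorem exists_minimalPrime_dim_quotient_sup_eq (R : Type u) [CommRing R] [IsNoetherianRing R]
    [IsLocalRing R] (a : Ideal R) (ha : a ≠ ⊤) :
    ∃ p ∈ minimalPrimes R, ringKrullDim (R ⧸ (a ⊔ p)) = ringKrullDim (R ⧸ a) := by
  classical
  have : Nontrivial (R ⧸ a) := Ideal.Quotient.nontrivial_iff.2 ha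
  have hlt : ringKrullDim (R ⧸ a) < ⊤ :=
    lt_of_le_of_lt (ringKrullDim_quotient_le a) ringKrullDim_lt_top
  have hnn : 0 ≤ ringKrullDim (R ⧸ a) := ringKrullDim_nonneg_of_nontrivial
  obtain ⟨N, hN⟩ : ∃ N : ℕ, ringKrullDim (R ⧸ a) = N := by
    generalize ringKrullDim (R ⧸ a) = d at hlt hnn
    induction d using WithBot.recBotCoe with
    | bot => exact absurd hnn (by simp)
    | coe d =>
      induction d using ENat.recTopCoe with
      | top => exact absurd hlt (by simp)
      | coe n => exact ⟨n, rfl⟩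
  have hch : ∃ l : LTSeries (PrimeSpectrum.zeroLocus (R := R) (a : Set R)), l.length = N := by
    have h1 : ((N : ℕ) : WithBot ℕ∞) ≤
        Order.krullDim (PrimeSpectrum.zeroLocus (R := R) (a : Set R)) := by
      rw [← ringKrullDim_quotient, hN]
    exact Order.le_krullDim_iff.1 h1
  obtain ⟨l, hl⟩ := hch
  have hal : a ≤ l.head.1.asIdeal := by
    have h0 := l.head.2
    rw [PrimeSpectrum.mem_zeroLocus] at h0
    exact h0
  obtain ⟨p, hp, hpl⟩ := Ideal.exists_minimalPrimes_le (I := ⊥) (J := l.head.1.asIdeal) bot_le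
  refine ⟨p, hp, le_antisymm ?_ ?_⟩
  · exact ringKrullDim_le_of_surjective (Ideal.Quotient.factor (le_sup_left : a ≤ a ⊔ p))
      (Ideal.Quotient.factor_surjective _)
  · rw [hN, ringKrullDim_quotient]
    let l' : LTSeries (PrimeSpectrum.zeroLocus (R := R) ((a ⊔ p : Ideal R) : Set R)) :=
      { length := l.length
        toFun := fun i => ⟨(l i).1, by
          rw [PrimeSpectrum.mem_zeroLocus]
          have h1 : l.head ≤ l i := LTSeries.head_le l i
          have h2 : l.head.1.asIdeal ≤ (l i).1.asIdeal := h1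
          exact SetLike.coe_subset_coe.2 ((sup_le hal hpl).trans h2)⟩
        step := fun i => l.step i }
    calc ((N : ℕ) : WithBot ℕ∞) = ((l'.length : ℕ) : WithBot ℕ∞) := by rw [← hl]
      _ ≤ _ := Order.LTSeries.length_le_krullDim l'

end Groth.Agent.H66.BS_B5
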