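import Mathlib

/-!
# (B6) for helper17's Brodmann–Sharp squad: dimension of `R ⧸ I` when `V(I) ⊆ V(J₁) ∪ V(J₂)`.
-/

set_option autoImplicit false
universe u

namespace Groth.Agent.H66.BS_B6

theorem ringKrullDim_quotient_le_max_of_forall_prime (R : Type u) [CommRing R]
    (I J₁ J₂ : Ideal R)
    (h : ∀ P : Ideal R, P.IsPrime → I ≤ P → J₁ ≤ P ∨ J₂ ≤ P) :
    ringKrullDim (R ⧸ I) ≤ max (ringKrullDim (R ⧸ J₁)) (ringKrullDim (R ⧸ J₂)) := by
  rw [ringKrullDim_quotient, ringKrullDim_quotient, ringKrullDim_quotient]
  have key : ∀ q : LTSeries (PrimeSpectrum.zeroLocus (R := R) (I : Set R)),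
      ((q.length : ℕ) : WithBot ℕ∞) ≤
        max (Order.krullDim (PrimeSpectrum.zeroLocus (R := R) (J₁ : Set R)))
          (Order.krullDim (PrimeSpectrum.zeroLocus (R := R) (J₂ : Set R))) := by
    intro q
    have hhead : I ≤ (q.head).1.asIdeal := by
      have h0 := (q.head).2
      rw [PrimeSpectrum.mem_zeroLocus] at h0
      exact h0
    rcases h _ (q.head).1.isPrime hhead with h1 | h1
    · refine le_trans ?_ (le_max_left _ _)
      let q' : LTSeries (PrimeSpectrum.zeroLocus (R := R) (J₁ : Set R)) :=
        { length := q.length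
          toFun := fun i => ⟨(q i).1, by
            rw [PrimeSpectrum.mem_zeroLocus]
            have h2 : q.head ≤ q i := LTSeries.head_le q i
            have h3 : (q.head).1.asIdeal ≤ (q i).1.asIdeal := h2
            exact SetLike.coe_subset_coe.2 (h1.trans h3)⟩
          step := fun i => q.step i }
      exact Order.LTSeries.length_le_krullDim q'
    · refine le_trans ?_ (le_max_right _ _)
      let q' : LTSeries (PrimeSpectrum.zeroLocus (R := R) (J₂ : Set R)) :=
        { length := q.length
          toFun := fun i => ⟨(q i).1, by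
            rw [PrimeSpectrum.mem_zeroLocus]
            have h2 : q.head ≤ q i := LTSeries.head_le q i
            have h3 : (q.head).1.asIdeal ≤ (q i).1.asIdeal := h2
            exact SetLike.coe_subset_coe.2 (h1.trans h3)⟩
          step := fun i => q.step i }
      exact Order.LTSeries.length_le_krullDim q'
  have hdef : Order.krullDim (PrimeSpectrum.zeroLocus (R := R) (I : Set R)) =
      ⨆ p : LTSeries (PrimeSpectrum.zeroLocus (R := R) (I : Set R)),
        ((p.length : ℕ) : WithBot ℕ∞) := rfl
  rw [hdef]
  exact iSup_le key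

end Groth.Agent.H66.BS_B6
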