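import Mathlib

/-!
# Completions along a flat local homomorphism with trivial closed fibre (helper66)

Provider lemma (A1) for helper84's S7203 squad, in the exact requested form.  The map on
completions `cplMap` and its basic properties are copied from helper20's
`Groth/Agent/H20/CTensorDom.lean` (to avoid importing that heavy file).
-/

set_option autoImplicit false
set_option linter.style.haveILetI false
set_option linter.unusedVariables false
set_option linter.unusedSectionVars false

universe u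

open AlgebraicGeometry CategoryTheory Limits IsLocalRing

namespace Groth.Agent.H66.CAV_A1

section CplMap

variable {R R' : Type*} [CommRing R] [CommRing R'] (I : Ideal R) (I' : Ideal R') (f : R →+* R')

theorem pow_le_comap_pow (hf : I ≤ I'.comap f) (n : ℕ) : I ^ n ≤ (I' ^ n).comap f :=
  (Ideal.pow_right_mono hf n).trans (Ideal.le_comap_pow f n)

theorem cplMap_compat (hf : I ≤ I'.comap f) {m n : ℕ} (hle : m ≤ n) :
    (Ideal.Quotient.factorPow I' hle).comp
      ((Ideal.quotientMap (I' ^ n) f (pow_le_comap_pow I I' f hf n)).comp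
        (AdicCompletion.evalₐ I n : AdicCompletion I R →+* R ⧸ I ^ n)) =
    (Ideal.quotientMap (I' ^ m) f (pow_le_comap_pow I I' f hf m)).comp
      (AdicCompletion.evalₐ I m : AdicCompletion I R →+* R ⧸ I ^ m) := by
  refine RingHom.ext fun x => ?_
  obtain ⟨c, rfl⟩ := AdicCompletion.mk_surjective I R x
  simp only [RingHom.comp_apply, RingHom.coe_coe, AdicCompletion.evalₐ_mk,
    Ideal.quotientMap_mk, Ideal.Quotient.factor_mk]
  rw [Ideal.Quotient.eq]
  have h1 : c.val m - c.val n ∈ (I ^ m • ⊤ : Ideal R) := SModEq.sub_mem.mp (c.2 hle)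
  rw [smul_eq_mul, Ideal.mul_top] at h1
  have h2 := pow_le_comap_pow I I' f hf m h1
  rw [Ideal.mem_comap, map_sub] at h2
  have h3 := (I' ^ m).neg_mem h2
  rwa [neg_sub] at h3

/-- The ring homomorphism induced on adic completions by a ring homomorphism `f` with
`f(I) ⊆ I'`. -/
noncomputable def cplMap (hf : I ≤ I'.comap f) : AdicCompletion I R →+* AdicCompletion I' R' :=
  AdicCompletion.liftRingHom I'
    (fun n => (Ideal.quotientMap (I' ^ n) f (pow_le_comap_pow I I' f hf n)).comp
      (AdicCompletion.evalₐ I n : AdicCompletion I R →+* R ⧸ I ^ n))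
    (fun hle => cplMap_compat I I' f hf hle)

theorem evalₐ_cplMap (hf : I ≤ I'.comap f) (n : ℕ) (c : AdicCompletion.AdicCauchySequence I R) :
    AdicCompletion.evalₐ I' n (cplMap I I' f hf (AdicCompletion.mk I R c)) =
      Ideal.Quotient.mk (I' ^ n) (f (c.val n)) := by
  have h := AdicCompletion.evalₐ_liftRingHom I'
    (fun n => (Ideal.quotientMap (I' ^ n) f (pow_le_comap_pow I I' f hf n)).comp
      (AdicCompletion.evalₐ I n : AdicCompletion I R →+* R ⧸ I ^ n))
    (fun hle => cplMap_compat I I' f hf hle) n (AdicCompletion.mk I R c)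
  refine h.trans ?_
  simp only [RingHom.comp_apply, RingHom.coe_coe, AdicCompletion.evalₐ_mk, Ideal.quotientMap_mk]

theorem cplMap_injective (hf : I ≤ I'.comap f)
    (hcof : ∀ n, ∃ N, (I' ^ N).comap f ≤ I ^ n) : Function.Injective (cplMap I I' f hf) := by
  rw [injective_iff_map_eq_zero]
  intro x hx
  obtain ⟨c, rfl⟩ := AdicCompletion.mk_surjective I R x
  have hc : ∀ N, f (c.val N) ∈ I' ^ N := by
    intro N
    have h1 : AdicCompletion.evalₐ I' N (cplMap I I' f hf (AdicCompletion.mk I R c)) = 0 := by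
      rw [hx]; exact map_zero _
    rw [evalₐ_cplMap, Ideal.Quotient.eq_zero_iff_mem] at h1
    exact h1
  apply AdicCompletion.ext_evalₐ
  intro n
  rw [map_zero, AdicCompletion.evalₐ_mk, Ideal.Quotient.eq_zero_iff_mem]
  obtain ⟨N, hN⟩ := hcof n
  have h2 : c.val (max N n) ∈ I ^ n :=
    hN (Ideal.mem_comap.mpr (Ideal.pow_le_pow_right (le_max_left N n) (hc _)))
  have h3 : c.val n - c.val (max N n) ∈ (I ^ n • ⊤ : Ideal R) :=
    SModEq.sub_mem.mp (c.2 (le_max_right N n))
  rw [smul_eq_mul, Ideal.mul_top] at h3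
  have h4 := (I ^ n).add_mem h3 h2
  rwa [sub_add_cancel] at h4

theorem cplMap_surjective (hf : I ≤ I'.comap f)
    (hsurj : ∀ n (s : R'), ∃ t : R, s - f t ∈ I' ^ n)
    (hcof : ∀ n, (I' ^ n).comap f ≤ I ^ n) : Function.Surjective (cplMap I I' f hf) := by
  intro y
  obtain ⟨d, rfl⟩ := AdicCompletion.mk_surjective I' R' y
  choose c hc using fun n => hsurj n (d.val n)
  have hcauchy : ∀ n, c n ≡ c (n + 1) [SMOD (I ^ n • ⊤ : Submodule R R)] := by
    intro n
    rw [SModEq.sub_mem, smul_eq_mul, Ideal.mul_top]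
    apply hcof n
    rw [Ideal.mem_comap, map_sub]
    have h1 : d.val n - d.val (n + 1) ∈ I' ^ n := by
      have h0 : d.val n - d.val (n + 1) ∈ (I' ^ n • ⊤ : Ideal R') :=
        SModEq.sub_mem.mp (d.2 (Nat.le_succ n))
      rwa [smul_eq_mul, Ideal.mul_top] at h0
    have h2 : d.val (n + 1) - f (c (n + 1)) ∈ I' ^ n :=
      Ideal.pow_le_pow_right (Nat.le_succ n) (hc (n + 1))
    have h3 := (I' ^ n).add_mem ((I' ^ n).add_mem ((I' ^ n).neg_mem (hc n)) h1) h2
    convert h3 using 1
    ring
  refine ⟨AdicCompletion.mk I R (AdicCompletion.AdicCauchySequence.mk I R c hcauchy), ?_⟩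
  apply AdicCompletion.ext_evalₐ
  intro n
  rw [evalₐ_cplMap, AdicCompletion.evalₐ_mk, Ideal.Quotient.eq]
  show f (c n) - d.val n ∈ I' ^ n
  have h4 := (I' ^ n).neg_mem (hc n)
  rwa [neg_sub] at h4

end CplMap

/-- (A1) a flat local homomorphism of Noetherian local rings with `𝔪_T S = 𝔪_S` and trivial residue
field extension induces an isomorphism of completions. -/
theorem completion_equiv_of_etale {T S : Type u} [CommRing T] [CommRing S] [IsLocalRing T]
    [IsLocalRing S] [IsNoetherianRing T] [IsNoetherianRing S]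
    (α : T →+* S) [IsLocalHom α] (hαflat : α.Flat)
    (hαmax : (maximalIdeal T).map α = maximalIdeal S)
    (hαres : Function.Bijective (ResidueField.map α)) :
    ∃ αh : AdicCompletion (maximalIdeal T) T ≃+* AdicCompletion (maximalIdeal S) S,
      ∀ (n : ℕ) (x : AdicCompletion (maximalIdeal T) T) (t : T),
        AdicCompletion.evalₐ (maximalIdeal T) n x = Ideal.Quotient.mk (maximalIdeal T ^ n) t →
        AdicCompletion.evalₐ (maximalIdeal S) n (αh x) =
          Ideal.Quotient.mk (maximalIdeal S ^ n) (α t) := by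
  have hf : maximalIdeal T ≤ (maximalIdeal S).comap α := by
    rw [← hαmax]
    exact Ideal.le_comap_map
  have hcof : ∀ n, (maximalIdeal S ^ n).comap α ≤ maximalIdeal T ^ n := by
    intro n
    letI := α.toAlgebra
    haveI : Module.Flat T S := hαflat
    haveI : IsLocalHom (algebraMap T S) := ‹IsLocalHom α›
    haveI : Module.FaithfullyFlat T S := Module.FaithfullyFlat.of_flat_of_isLocalHom
    have h1 := Ideal.comap_map_eq_self_of_faithfullyFlat (B := S) (maximalIdeal T ^ n)
    rw [← hαmax, ← Ideal.map_pow]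
    exact h1.le
  have hres1 : ∀ s : S, ∃ t : T, s - α t ∈ maximalIdeal S := by
    intro s
    obtain ⟨x, hx⟩ := hαres.2 (residue S s)
    obtain ⟨t, rfl⟩ := residue_surjective x
    refine ⟨t, ?_⟩
    rw [ResidueField.map_residue] at hx
    rw [← residue_eq_zero_iff, map_sub, ← hx, sub_self]
  have hstep : ∀ n, ∀ z ∈ (maximalIdeal T ^ n).map α,
      ∃ t ∈ maximalIdeal T ^ n, z - α t ∈ maximalIdeal S ^ (n + 1) := by
    intro n z hz
    refine Submodule.span_induction
      (p := fun z _ => ∃ t ∈ maximalIdeal T ^ n, z - α t ∈ maximalIdeal S ^ (n + 1))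
      ?_ ?_ ?_ ?_ hz
    · rintro _ ⟨a, ha, rfl⟩
      exact ⟨a, ha, by rw [sub_self]; exact Ideal.zero_mem _⟩
    · exact ⟨0, Ideal.zero_mem _, by rw [map_zero, sub_zero]; exact Ideal.zero_mem _⟩
    · rintro x y _ _ ⟨t1, ht1, h1⟩ ⟨t2, ht2, h2⟩
      refine ⟨t1 + t2, Ideal.add_mem _ ht1 ht2, ?_⟩
      have h3 := Ideal.add_mem _ h1 h2
      convert h3 using 1
      rw [map_add]
      ring
    · rintro r x hx ⟨t, ht, h1⟩
      obtain ⟨tr, htr⟩ := hres1 r
      refine ⟨tr * t, Ideal.mul_mem_left _ _ ht, ?_⟩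
      have hx' : x ∈ maximalIdeal S ^ n := by
        rw [← hαmax, ← Ideal.map_pow]
        exact hx
      have h2 : (r - α tr) * x ∈ maximalIdeal S ^ (n + 1) := by
        rw [pow_succ']
        exact Ideal.mul_mem_mul htr hx'
      have h3 : α tr * (x - α t) ∈ maximalIdeal S ^ (n + 1) := Ideal.mul_mem_left _ _ h1
      have h4 := Ideal.add_mem _ h2 h3
      convert h4 using 1
      rw [smul_eq_mul, map_mul]
      ring
  have hsurj : ∀ n (s : S), ∃ t : T, s - α t ∈ maximalIdeal S ^ n := by
    intro n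
    induction n with
    | zero =>
      intro s
      exact ⟨0, by rw [pow_zero, Ideal.one_eq_top]; exact Submodule.mem_top⟩
    | succ n ih =>
      intro s
      obtain ⟨t, ht⟩ := ih s
      have hz : s - α t ∈ (maximalIdeal T ^ n).map α := by
        rw [Ideal.map_pow, hαmax]
        exact ht
      obtain ⟨t', _, ht'⟩ := hstep n _ hz
      refine ⟨t + t', ?_⟩
      convert ht' using 1
      rw [map_add]
      ring
  have hbij : Function.Bijective (cplMap (maximalIdeal T) (maximalIdeal S) α hf) :=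
    ⟨cplMap_injective _ _ α hf (fun n => ⟨n, hcof n⟩),
      cplMap_surjective _ _ α hf hsurj hcof⟩
  refine ⟨RingEquiv.ofBijective _ hbij, ?_⟩
  intro n x t hx
  obtain ⟨c, rfl⟩ := AdicCompletion.mk_surjective (maximalIdeal T) T x
  show AdicCompletion.evalₐ (maximalIdeal S) n
    (cplMap (maximalIdeal T) (maximalIdeal S) α hf (AdicCompletion.mk _ T c)) = _
  rw [evalₐ_cplMap, Ideal.Quotient.eq]
  rw [AdicCompletion.evalₐ_mk, Ideal.Quotient.eq] at hx
  have h5 := pow_le_comap_pow (maximalIdeal T) (maximalIdeal S) α hf n hx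
  rwa [Ideal.mem_comap, map_sub] at h5

end Groth.Agent.H66.CAV_A1
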