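import Mathlib

set_option linter.style.haveILetI false

/-!
# Algebraic points of a dense open of `X_K` (ring-level core of S16363)

For a finite type `k`-algebra `A`, a field extension `K/k` and an ideal `I'` of `A ⊗[k] K` whose zero
locus is nowhere dense, we produce an ideal `J` of `A`, not contained in all primes, which is
contained in every prime `p` of `A` with algebraic residue field lying under a prime containing `I'`.
-/

namespace Groth.Agent.H66.DensePts

open TensorProduct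

universe u

/-- In a Noetherian ring, every minimal prime `p` has `h ∉ p` with `D(h) ⊆ V(p)`. -/
lemma exists_notMem_forall_le {R : Type*} [CommRing R] [IsNoetherianRing R]
    {p : Ideal R} (hp : p ∈ minimalPrimes R) :
    ∃ h : R, h ∉ p ∧ ∀ P : Ideal R, P.IsPrime → h ∉ P → p ≤ P := by
  classical
  have hfin := minimalPrimes.finite_of_isNoetherianRing R
  have hpprime : p.IsPrime := hp.1.1
  set S : Finset (Ideal R) := hfin.toFinset.erase p with hS
  have hnot : ¬ S.inf id ≤ p := by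
    intro hle
    obtain ⟨q, hqS, hqp⟩ := (Ideal.IsPrime.inf_le' hpprime).mp hle
    have hq : q ∈ minimalPrimes R := by
      have := Finset.mem_of_mem_erase hqS
      simpa using this
    have hqne : q ≠ p := Finset.ne_of_mem_erase hqS
    have hq' : q.IsPrime := hq.1.1
    exact hqne (le_antisymm hqp (hp.2 ⟨hq', bot_le⟩ hqp))
  obtain ⟨h, hhS, hhp⟩ := SetLike.not_le_iff_exists.mp hnot
  refine ⟨h, hhp, fun P hP hhP => ?_⟩
  haveI := hP
  obtain ⟨q, hq, hqP⟩ := Ideal.exists_minimalPrimes_le (I := ⊥) (J := P) bot_le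
  by_cases hqp : q = p
  · exact hqp ▸ hqP
  · exfalso
    apply hhP
    apply hqP
    have hqS : q ∈ S := Finset.mem_erase.mpr ⟨hqp, by simpa using hq⟩
    exact (Finset.inf_le hqS : S.inf id ≤ id q) hhS

section Core

variable (k : Type u) [Field k] (A : Type u) [CommRing A] [Algebra k A]
variable (kb Ω : Type u) [Field kb] [Field Ω] [Algebra k kb] [Algebra k Ω] [Algebra kb Ω]
  [IsScalarTower k kb Ω]

/-- `A ⊗ kb → A ⊗ Ω`. -/
noncomputable abbrev incl : A ⊗[k] kb →ₐ[k] A ⊗[k] Ω :=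
  Algebra.TensorProduct.map (AlgHom.id k A) (IsScalarTower.toAlgHom k kb Ω)

/-- The coefficient map `A ⊗ Ω → A ⊗ kb` attached to a `kb`-linear functional on `Ω`. -/
noncomputable abbrev coef (φ : Ω →ₗ[kb] kb) : A ⊗[k] Ω →ₗ[k] A ⊗[k] kb :=
  LinearMap.lTensor A (φ.restrictScalars k)

lemma incl_injective : Function.Injective (incl k A kb Ω) := by
  have h0 : ∀ t, incl k A kb Ω t =
      LinearMap.lTensor A (IsScalarTower.toAlgHom k kb Ω).toLinearMap t := by
    intro t
    induction t using TensorProduct.induction_on with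
    | zero => simp
    | tmul a c => simp
    | add x y hx hy => simp only [map_add, hx, hy]
  have hinj : Function.Injective (IsScalarTower.toAlgHom k kb Ω).toLinearMap :=
    (algebraMap kb Ω).injective
  intro x y hxy
  apply Module.Flat.lTensor_preserves_injective_linearMap (M := A) _ hinj
  rw [← h0 x, ← h0 y]
  exact hxy

lemma expansion {ι : Type*} (b : Module.Basis ι kb Ω) (t : A ⊗[k] Ω) :
    ∃ s : Finset ι, ∀ s' : Finset ι, s ⊆ s' →
      t = ∑ i ∈ s', incl k A kb Ω (coef k A kb Ω (b.coord i) t) * (1 ⊗ₜ[k] b i) := by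
  classical
  induction t using TensorProduct.induction_on with
  | zero => exact ⟨∅, fun s' _ => by simp⟩
  | tmul a ω =>
    refine ⟨(b.repr ω).support, fun s' hs' => ?_⟩
    have h1 : ∀ i, incl k A kb Ω (coef k A kb Ω (b.coord i) (a ⊗ₜ ω)) * (1 ⊗ₜ[k] b i)
        = a ⊗ₜ[k] ((b.repr ω i) • b i) := by
      intro i
      simp [Algebra.TensorProduct.tmul_mul_tmul, Algebra.smul_def]
    simp only [h1]
    rw [← TensorProduct.tmul_sum]
    congr 1
    conv_lhs => rw [← b.linearCombination_repr ω]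
    rw [Finsupp.linearCombination_apply]
    exact Finsupp.sum_of_support_subset _ hs' _ (fun i _ => by simp)
  | add t₁ t₂ h₁ h₂ =>
    obtain ⟨s₁, h₁⟩ := h₁
    obtain ⟨s₂, h₂⟩ := h₂
    refine ⟨s₁ ∪ s₂, fun s' hs' => ?_⟩
    have e1 := h₁ s' (Finset.union_subset_left hs')
    have e2 := h₂ s' (Finset.union_subset_right hs')
    simp only [map_add, add_mul, Finset.sum_add_distrib]
    rw [← e1, ← e2]

/-- The coefficient ideal. -/
noncomputable def coefIdeal (I'' : Ideal (A ⊗[k] Ω)) : Ideal (A ⊗[k] kb) :=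
  Ideal.span {z | ∃ t ∈ I'', ∃ φ : Ω →ₗ[kb] kb, z = coef k A kb Ω φ t}

variable {k A kb Ω}

lemma le_map_coefIdeal (I'' : Ideal (A ⊗[k] Ω)) :
    I'' ≤ Ideal.map (incl k A kb Ω) (coefIdeal k A kb Ω I'') := by
  intro t ht
  obtain ⟨s, hs⟩ := expansion k A kb Ω (Module.Free.chooseBasis kb Ω) t
  rw [hs s subset_rfl]
  refine Ideal.sum_mem _ fun i _ => Ideal.mul_mem_right _ _
    (Ideal.mem_map_of_mem _ (Ideal.subset_span ⟨t, ht, _, rfl⟩))

lemma prod_coef (f : A →ₐ[k] Ω) (hf : ∀ a, f a ∈ (algebraMap kb Ω).range)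
    (φ : Ω →ₗ[kb] kb) (t : A ⊗[k] Ω) :
    Algebra.TensorProduct.productMap f (IsScalarTower.toAlgHom k kb Ω) (coef k A kb Ω φ t) =
      algebraMap kb Ω (φ (Algebra.TensorProduct.productMap f (AlgHom.id k Ω) t)) := by
  induction t using TensorProduct.induction_on with
  | zero => simp
  | tmul a ω =>
    obtain ⟨c, hc⟩ := hf a
    have h2 : (algebraMap kb Ω c) * ω = c • ω := (Algebra.smul_def c ω).symm
    simp only [LinearMap.lTensor_tmul, LinearMap.coe_restrictScalars,
      Algebra.TensorProduct.productMap_apply_tmul, IsScalarTower.coe_toAlgHom', AlgHom.coe_id, id_eq]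
    rw [← hc, h2, map_smul, smul_eq_mul, map_mul]
  | add t₁ t₂ h₁ h₂ => simp only [map_add, h₁, h₂]

lemma coefIdeal_le_ker (f : A →ₐ[k] Ω) (hf : ∀ a, f a ∈ (algebraMap kb Ω).range)
    (I'' : Ideal (A ⊗[k] Ω))
    (hI : ∀ t ∈ I'', Algebra.TensorProduct.productMap f (AlgHom.id k Ω) t = 0) :
    ∀ z ∈ coefIdeal k A kb Ω I'',
      Algebra.TensorProduct.productMap f (IsScalarTower.toAlgHom k kb Ω) z = 0 := by
  intro z hz
  have hle : coefIdeal k A kb Ω I'' ≤ RingHom.ker
      (Algebra.TensorProduct.productMap f (IsScalarTower.toAlgHom k kb Ω)).toRingHom := by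
    refine Ideal.span_le.mpr ?_
    rintro _ ⟨t, ht, φ, rfl⟩
    rw [SetLike.mem_coe, RingHom.mem_ker]
    exact (prod_coef f hf φ t).trans (by rw [hI t ht, map_zero, map_zero])
  exact hle hz

lemma coefIdeal_nowhereDense (I'' : Ideal (A ⊗[k] Ω))
    (hI'' : ∀ h : A ⊗[k] Ω, (∀ q : Ideal (A ⊗[k] Ω), q.IsPrime → h ∉ q → I'' ≤ q) →
      IsNilpotent h)
    (g : A ⊗[k] kb)
    (H : ∀ P : Ideal (A ⊗[k] kb), P.IsPrime → g ∉ P → coefIdeal k A kb Ω I'' ≤ P) :
    IsNilpotent g := by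
  rw [← IsNilpotent.map_iff (incl_injective k A kb Ω)]
  refine hI'' _ fun q hq hg => ?_
  haveI := hq
  have h1 := H (q.comap (incl k A kb Ω)) (Ideal.comap_isPrime _ _)
    (by simpa [Ideal.mem_comap] using hg)
  exact (le_map_coefIdeal I'').trans (Ideal.map_le_iff_le_comap.mpr h1)

lemma exists_prime_not_le [Algebra.FiniteType k A] [Nontrivial A] [Algebra.IsAlgebraic k kb]
    (J₁ : Ideal (A ⊗[k] kb))
    (hJ₁ : ∀ g : A ⊗[k] kb, (∀ P : Ideal (A ⊗[k] kb), P.IsPrime → g ∉ P → J₁ ≤ P) →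
      IsNilpotent g) :
    ∃ p : Ideal A, p.IsPrime ∧ ¬ J₁.comap (algebraMap A (A ⊗[k] kb)) ≤ p := by
  by_contra hcon
  push Not at hcon
  haveI : IsNoetherianRing (kb ⊗[k] A) := Algebra.FiniteType.isNoetherianRing kb (kb ⊗[k] A)
  haveI : IsNoetherianRing (A ⊗[k] kb) :=
    isNoetherianRing_of_ringEquiv (kb ⊗[k] A) (Algebra.TensorProduct.comm k kb A).toRingEquiv
  haveI : Algebra.IsIntegral k kb := Algebra.IsAlgebraic.isIntegral
  obtain ⟨m, hm⟩ := Ideal.exists_maximal A
  haveI := hm.isPrime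
  obtain ⟨p₀, hp₀, -⟩ := Ideal.exists_minimalPrimes_le (I := ⊥) (J := m) bot_le
  haveI hp₀' : p₀.IsPrime := hp₀.1.1
  obtain ⟨Q, hJQ, hQ, hQp⟩ := Ideal.exists_ideal_over_prime_of_isIntegral p₀ J₁ (hcon p₀ hp₀')
  haveI := hQ
  obtain ⟨Q', hQ', hQ'Q⟩ := Ideal.exists_minimalPrimes_le (I := ⊥) (J := Q) bot_le
  haveI hQ'p : Q'.IsPrime := hQ'.1.1
  have hcomap : Q'.comap (algebraMap A (A ⊗[k] kb)) = Q.comap (algebraMap A (A ⊗[k] kb)) := by
    refine le_antisymm (Ideal.comap_mono hQ'Q) ?_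
    rw [hQp]
    exact hp₀.2 ⟨Ideal.comap_isPrime _ _, bot_le⟩ (hQp ▸ Ideal.comap_mono hQ'Q)
  have hQQ' : Q' = Q := by
    by_contra hne
    have hlt : Q' < Q := lt_of_le_of_ne hQ'Q hne
    obtain ⟨x, hxQ, hxQ'⟩ := SetLike.exists_of_lt hlt
    have := Ideal.comap_lt_comap_of_integral_mem_sdiff hQ'Q ⟨hxQ, hxQ'⟩
      (Algebra.IsIntegral.isIntegral (R := A) x)
    exact (ne_of_lt this) hcomap
  subst hQQ'
  obtain ⟨h, hhQ, hh⟩ := exists_notMem_forall_le hQ'
  obtain ⟨n, hn⟩ := hJ₁ h (fun P hP hhP => hJQ.trans (hh P hP hhP))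
  exact hhQ (hQ'p.mem_of_pow_mem n (hn ▸ Q'.zero_mem))

variable (k A Ω)

lemma isOpenMap_comap_incl (K : Type u) [Field K] [Algebra k K] [Algebra K Ω]
    [IsScalarTower k K Ω] :
    IsOpenMap (PrimeSpectrum.comap (incl k A K Ω).toRingHom) := by
  let eR : A ⊗[k] K ≃+* K ⊗[k] A := (Algebra.TensorProduct.comm k A K).toRingEquiv
  let eT : (K ⊗[k] A) ⊗[K] Ω ≃+* A ⊗[k] Ω :=
    (Algebra.TensorProduct.comm K (K ⊗[k] A) Ω).toRingEquiv.trans
      ((Algebra.TensorProduct.cancelBaseChange k K K Ω A).toRingEquiv.trans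
        (Algebra.TensorProduct.comm k Ω A).toRingEquiv)
  have hfac : (incl k A K Ω).toRingHom =
      eT.toRingHom.comp ((algebraMap (K ⊗[k] A) ((K ⊗[k] A) ⊗[K] Ω)).comp eR.toRingHom) := by
    refine RingHom.ext fun t => ?_
    induction t using TensorProduct.induction_on with
    | zero => simp
    | tmul a c =>
      simp [eT, eR, Algebra.TensorProduct.cancelBaseChange_tmul,
        Algebra.TensorProduct.algebraMap_apply]
      rw [Algebra.algebraMap_eq_smul_one]
    | add x y hx hy => simp only [map_add, hx, hy]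
  rw [hfac, PrimeSpectrum.comap_comp, PrimeSpectrum.comap_comp]
  refine IsOpenMap.comp (IsOpenMap.comp ?_ ?_) ?_
  · exact (PrimeSpectrum.homeomorphOfRingEquiv eR).symm.isOpenMap
  · exact PrimeSpectrum.isOpenMap_comap_algebraMap_tensorProduct_of_field
  · exact (PrimeSpectrum.homeomorphOfRingEquiv eT).symm.isOpenMap

end Core

/-- **Ring-level core.** -/
theorem exists_ideal (k K A : Type u) [Field k] [Field K] [Algebra k K] [CommRing A] [Algebra k A]
    [Algebra.FiniteType k A] [Nontrivial A] (I' : Ideal (A ⊗[k] K))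
    (hI' : ∀ h : A ⊗[k] K, (∀ q : Ideal (A ⊗[k] K), q.IsPrime → h ∉ q → I' ≤ q) →
      IsNilpotent h) :
    ∃ J : Ideal A, (∃ p : Ideal A, p.IsPrime ∧ ¬ J ≤ p) ∧
      ∀ (Ω : Type u) [Field Ω] [Algebra k Ω] [Algebra K Ω] [IsScalarTower k K Ω]
        (y : A ⊗[k] K →ₐ[k] Ω), (∀ c : K, y (1 ⊗ₜ c) = algebraMap K Ω c) →
        (∀ a : A, IsAlgebraic k (y (a ⊗ₜ 1))) → (∀ t ∈ I', y t = 0) →
        ∀ a ∈ J, y (a ⊗ₜ 1) = 0 := by
  classical
  let kb := AlgebraicClosure k
  let Ω₀ := AlgebraicClosure K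
  let ℓ₀ : kb →ₐ[k] Ω₀ := IsAlgClosed.lift
  letI : Algebra kb Ω₀ := ℓ₀.toRingHom.toAlgebra
  haveI : IsScalarTower k kb Ω₀ := IsScalarTower.of_algebraMap_eq fun r => (ℓ₀.commutes r).symm
  let θ := incl k A K Ω₀
  let I'' : Ideal (A ⊗[k] Ω₀) := Ideal.map θ I'
  have hI'' : ∀ h : A ⊗[k] Ω₀,
      (∀ q : Ideal (A ⊗[k] Ω₀), q.IsPrime → h ∉ q → I'' ≤ q) → IsNilpotent h := by
    intro h H
    rw [← PrimeSpectrum.basicOpen_eq_bot_iff]
    have hopen : IsOpen (PrimeSpectrum.comap θ.toRingHom ''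
        (PrimeSpectrum.basicOpen h : Set (PrimeSpectrum (A ⊗[k] Ω₀)))) :=
      isOpenMap_comap_incl k A Ω₀ K _ (PrimeSpectrum.basicOpen h).isOpen
    have hempty : PrimeSpectrum.comap θ.toRingHom ''
        (PrimeSpectrum.basicOpen h : Set (PrimeSpectrum (A ⊗[k] Ω₀))) = ∅ := by
      by_contra hne
      obtain ⟨q, hq⟩ := Set.nonempty_iff_ne_empty.mpr hne
      obtain ⟨_, ⟨h', rfl⟩, hqh', hsub⟩ :=
        PrimeSpectrum.isTopologicalBasis_basic_opens.exists_subset_of_mem_open hq hopen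
      have hnil : IsNilpotent h' := by
        refine hI' h' (fun q' hq' hh'q' => ?_)
        obtain ⟨P₂, hP₂, hP₂q⟩ := hsub (show (⟨q', hq'⟩ : PrimeSpectrum _) ∈ _ from hh'q')
        have h3 : I'' ≤ P₂.asIdeal := H P₂.asIdeal P₂.isPrime hP₂
        have h4 : q' = Ideal.comap θ.toRingHom P₂.asIdeal := by
          have := congrArg PrimeSpectrum.asIdeal hP₂q
          simpa using this.symm
        rw [h4]
        intro x hx
        exact Ideal.map_le_iff_le_comap.mp h3 hx
      obtain ⟨n, hn⟩ := hnil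
      exact hqh' (q.isPrime.mem_of_pow_mem n (hn ▸ q.asIdeal.zero_mem))
    ext P
    simp only [TopologicalSpace.Opens.coe_bot, Set.mem_empty_iff_false, iff_false]
    intro hP
    have : PrimeSpectrum.comap θ.toRingHom P ∈ (∅ : Set _) := hempty ▸ Set.mem_image_of_mem _ hP
    exact this
  let J₁ := coefIdeal k A kb Ω₀ I''
  have hJ₁ := coefIdeal_nowhereDense (k := k) (A := A) (kb := kb) (Ω := Ω₀) I'' hI''
  refine ⟨J₁.comap (algebraMap A (A ⊗[k] kb)), exists_prime_not_le J₁ hJ₁, ?_⟩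
  intro Ω _ _ _ _ y hyK hyalg hyI a ha
  let S : Subalgebra K Ω := Algebra.adjoin K (Set.range fun a : A => y (a ⊗ₜ 1))
  have hyS : ∀ t, y t ∈ S := by
    intro t
    induction t using TensorProduct.induction_on with
    | zero => simp
    | tmul a c =>
      have : y (a ⊗ₜ[k] c) = y (a ⊗ₜ 1) * algebraMap K Ω c := by
        rw [← hyK c, ← map_mul, Algebra.TensorProduct.tmul_mul_tmul, mul_one, one_mul]
      rw [this]
      exact S.mul_mem (Algebra.subset_adjoin ⟨a, rfl⟩) (S.algebraMap_mem c)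
    | add x z hx hz => rw [map_add]; exact S.add_mem hx hz
  haveI : Algebra.IsIntegral K S := Algebra.IsIntegral.adjoin (by
    rintro _ ⟨a, rfl⟩
    exact ((hyalg a).tower_top K).isIntegral)
  haveI : Algebra.IsAlgebraic K S := Algebra.IsIntegral.isAlgebraic
  let ℓ : S →ₐ[K] Ω₀ := IsAlgClosed.lift
  have hℓinj : Function.Injective ℓ := by
    rw [injective_iff_map_eq_zero]
    intro s hs
    have hker : RingHom.ker ℓ.toRingHom = ⊥ := by
      apply Ideal.eq_bot_of_comap_eq_bot (R := K)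
      rw [eq_bot_iff]
      intro c hc
      rw [Ideal.mem_comap, RingHom.mem_ker] at hc
      have h5 : algebraMap K Ω₀ c = 0 := by
        rw [← ℓ.commutes c]; exact hc
      rw [Ideal.mem_bot]
      exact (map_eq_zero_iff _ (algebraMap K Ω₀).injective).mp h5
    have h6 : s ∈ RingHom.ker ℓ.toRingHom := hs
    rw [hker] at h6
    exact h6
  let g : A ⊗[k] K →+* Ω₀ := ℓ.toRingHom.comp (y.toRingHom.codRestrict S hyS)
  have hg_apply : ∀ t, g t = ℓ ⟨y t, hyS t⟩ := fun t => rfl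
  have hgk : ∀ r : k, g (algebraMap k _ r) = algebraMap k Ω₀ r := by
    intro r
    rw [hg_apply]
    have h7 : (⟨y (algebraMap k _ r), hyS _⟩ : S) = algebraMap K S (algebraMap k K r) := by
      apply Subtype.ext
      show y (algebraMap k _ r) = algebraMap K Ω (algebraMap k K r)
      rw [y.commutes, ← IsScalarTower.algebraMap_apply]
    rw [h7, ℓ.commutes, ← IsScalarTower.algebraMap_apply]
  let f : A →ₐ[k] Ω₀ :=
    { toRingHom := g.comp (Algebra.TensorProduct.includeLeftRingHom)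
      commutes' := fun r => by
        show g (algebraMap k A r ⊗ₜ 1) = _
        rw [← Algebra.TensorProduct.algebraMap_apply]; exact hgk r }
  have hfa : ∀ a, f a = g (a ⊗ₜ 1) := fun a => rfl
  have hf_alg : ∀ a, IsAlgebraic k (f a) := by
    intro a
    obtain ⟨p, hp0, hp⟩ := hyalg a
    refine ⟨p, hp0, ?_⟩
    have h1 : Polynomial.aeval (f a) p = g (Polynomial.aeval (a ⊗ₜ[k] (1:K)) p) := by
      rw [Polynomial.aeval_def, Polynomial.aeval_def, Polynomial.hom_eval₂]
      congr 1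
      ext r; exact (hgk r).symm
    rw [h1, hg_apply]
    have h2 : y (Polynomial.aeval (a ⊗ₜ[k] (1:K)) p) = 0 := by
      rw [← Polynomial.aeval_algHom_apply]; exact hp
    have h3 : (⟨y (Polynomial.aeval (a ⊗ₜ[k] (1:K)) p), hyS _⟩ : S) = 0 := Subtype.ext h2
    rw [h3, map_zero]
  have hf_range : ∀ a, f a ∈ (algebraMap kb Ω₀).range := by
    intro a
    have hint : IsIntegral kb (f a) := (hf_alg a).isIntegral.tower_top
    apply minpoly.mem_range_of_degree_eq_one
    exact IsAlgClosed.degree_eq_one_of_irreducible kb (minpoly.irreducible hint)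
  have hy₂ : ∀ t : A ⊗[k] K,
      Algebra.TensorProduct.productMap f (AlgHom.id k Ω₀) (θ t) = g t := by
    intro t
    induction t using TensorProduct.induction_on with
    | zero => simp
    | tmul a c =>
      have hc : g (1 ⊗ₜ c) = algebraMap K Ω₀ c := by
        rw [hg_apply]
        have h8 : (⟨y (1 ⊗ₜ[k] c), hyS _⟩ : S) = algebraMap K S c := Subtype.ext (hyK c)
        rw [h8, ℓ.commutes]
      have e1 : Algebra.TensorProduct.productMap f (AlgHom.id k Ω₀) (θ (a ⊗ₜ[k] c)) =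
          f a * algebraMap K Ω₀ c := by
        simp [θ]
      have e2 : g (a ⊗ₜ[k] c) = g (a ⊗ₜ 1) * g (1 ⊗ₜ c) := by
        rw [← map_mul, Algebra.TensorProduct.tmul_mul_tmul, mul_one, one_mul]
      rw [e1, e2, hc, hfa]
    | add x z hx hz => simp only [map_add, hx, hz]
  have hI''0 : ∀ t ∈ I'', Algebra.TensorProduct.productMap f (AlgHom.id k Ω₀) t = 0 := by
    intro t ht
    have hle : I'' ≤ RingHom.ker (Algebra.TensorProduct.productMap f (AlgHom.id k Ω₀)).toRingHom := by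
      refine Ideal.map_le_iff_le_comap.mpr fun t' ht' => ?_
      rw [Ideal.mem_comap, RingHom.mem_ker]
      show Algebra.TensorProduct.productMap f (AlgHom.id k Ω₀) (θ t') = 0
      rw [hy₂, hg_apply]
      have h9 : (⟨y t', hyS _⟩ : S) = 0 := Subtype.ext (hyI t' ht')
      rw [h9, map_zero]
    exact hle ht
  have key := coefIdeal_le_ker f hf_range I'' hI''0 (algebraMap A (A ⊗[k] kb) a) ha
  have hfa0 : f a = 0 := by
    rw [Algebra.TensorProduct.algebraMap_apply, Algebra.TensorProduct.productMap_apply_tmul] at key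
    simpa using key
  have h10 : (⟨y (a ⊗ₜ 1), hyS _⟩ : S) = 0 := hℓinj (by rw [map_zero]; exact hfa0)
  exact congrArg Subtype.val h10

end Groth.Agent.H66.DensePts
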