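import Mathlib
import Groth.Agent.H7.DvrLenSkel

/-!
# (M3) for helper7's S4980 squad: sum of the lengths at the maximal points of the generic fibre
specializing to `z` is at most the length at `z` on the closed fibre.

Mid-level piece: cites the leaf stubs of `Groth.Agent.H7.DvrLenSkel` by name.
-/

set_option autoImplicit false
set_option linter.style.haveILetI false
universe u
open CategoryTheory CategoryTheory.Limits AlgebraicGeometry TopologicalSpace Opposite TensorProduct
open IsLocalRing

namespace Groth.Agent.H66.DvrLen_M3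

open Groth.Agent.H7.DvrLen (MaxSupp)
open Groth.Agent.H7.DvrLenSkel

theorem length_stalk_congr {X : Scheme.{u}} (F : X.Modules) {a b : X} (h : a = b) :
    Module.length (X.presheaf.stalk a) (F.presheaf.stalk a) =
      Module.length (X.presheaf.stalk b) (F.presheaf.stalk b) := by
  subst h; rfl

/-- the stalk of `Spec A` (`A` a DVR) at the closed point is a DVR -/
theorem stalk_dvr {A : Type u} [CommRing A] [IsDomain A] [IsDiscreteValuationRing A]
    (y : ↥(Spec (CommRingCat.of A))) (hy : y = closedPoint A) :
    ∃ (_ : IsDomain ((Spec (CommRingCat.of A)).presheaf.stalk y)),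
      IsDiscreteValuationRing ((Spec (CommRingCat.of A)).presheaf.stalk y) := by
  subst hy
  letI k : Algebra A ((Spec (CommRingCat.of A)).presheaf.stalk (closedPoint A)) :=
    StructureSheaf.stalkAlgebra A (closedPoint A)
  haveI hloc : IsLocalization.AtPrime
      ((Spec (CommRingCat.of A)).presheaf.stalk (closedPoint A)) (closedPoint A).asIdeal :=
    StructureSheaf.IsLocalization.to_stalk A (closedPoint A)
  haveI hdom : IsDomain ((Spec (CommRingCat.of A)).presheaf.stalk (closedPoint A)) :=
    IsLocalization.isDomain_of_atPrime _ (closedPoint A).asIdeal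
  refine ⟨hdom, ?_⟩
  have hne : (closedPoint A).asIdeal ≠ ⊥ := IsDiscreteValuationRing.not_a_field A
  exact IsLocalization.AtPrime.isDiscreteValuationRing_of_dedekind_domain A hne _

theorem generic_ne_closed {A : Type u} [CommRing A] [IsDomain A] [IsDiscreteValuationRing A] :
    genericPoint ↥(Spec (CommRingCat.of A)) ≠ closedPoint A := by
  intro h
  have h2 : (closedPoint A).asIdeal = (⊥ : PrimeSpectrum A).asIdeal :=
    congrArg PrimeSpectrum.asIdeal (h.symm.trans (genericPoint_eq_bot_of_affine (CommRingCat.of A)))
  exact IsDiscreteValuationRing.not_a_field A h2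

theorem core {A : Type u} [CommRing A] [IsDomain A]
    [IsDiscreteValuationRing A] {X : Scheme.{u}} (f : X ⟶ Spec (CommRingCat.of A)) [IsProper f]
    (F : X.Modules) (hF : Coh.IsCoh F) (hflat : FlatMod.IsFlatOver f F)
    (x : X) (hfx : f x = closedPoint A)
    (T : Finset {v : ↥(f.fiber (genericPoint ↥(Spec (CommRingCat.of A)))) //
      MaxSupp ((Scheme.Modules.pullback
        (f.fiberι (genericPoint ↥(Spec (CommRingCat.of A))))).obj F) v})
    (hT : ∀ z' ∈ T, f.fiberι (genericPoint ↥(Spec (CommRingCat.of A))) z'.1 ⤳ x) :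
    ∑ z' ∈ T, Module.length
        ((f.fiber (genericPoint ↥(Spec (CommRingCat.of A)))).presheaf.stalk z'.1)
        (((Scheme.Modules.pullback
          (f.fiberι (genericPoint ↥(Spec (CommRingCat.of A))))).obj F).presheaf.stalk z'.1) ≤
      Module.length (X.presheaf.stalk x)
        ((F.presheaf.stalk x) ⧸
          ((Ideal.map (f.stalkMap x).hom
              (maximalIdeal ((Spec (CommRingCat.of A)).presheaf.stalk (f x)))) •
            (⊤ : Submodule (X.presheaf.stalk x) (F.presheaf.stalk x)))) := by
  classical
  haveI : F.IsQuasicoherent := hF.1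
  haveI : IsLocallyNoetherian X := LocallyOfFiniteType.isLocallyNoetherian f
  have hfη : ∀ v : ↥(f.fiber (genericPoint ↥(Spec (CommRingCat.of A)))),
      f (f.fiberι (genericPoint ↥(Spec (CommRingCat.of A))) v) =
        genericPoint ↥(Spec (CommRingCat.of A)) := by
    intro v
    have h1 : f.fiberι (genericPoint ↥(Spec (CommRingCat.of A))) v ∈
        Set.range (f.fiberι (genericPoint ↥(Spec (CommRingCat.of A)))) := ⟨v, rfl⟩
    rw [Scheme.Hom.range_fiberι] at h1
    exact h1
  -- module structures
  letI algAR : Algebra ((Spec (CommRingCat.of A)).presheaf.stalk (f x)) (X.presheaf.stalk x) :=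
    (f.stalkMap x).hom.toAlgebra
  letI modAM : Module ((Spec (CommRingCat.of A)).presheaf.stalk (f x)) (F.presheaf.stalk x) :=
    FlatMod.moduleStalkOver f F x
  haveI tower : IsScalarTower ((Spec (CommRingCat.of A)).presheaf.stalk (f x))
      (X.presheaf.stalk x) (F.presheaf.stalk x) :=
    IsScalarTower.of_algebraMap_smul fun _ _ => rfl
  haveI : IsLocalHom (algebraMap ((Spec (CommRingCat.of A)).presheaf.stalk (f x))
      (X.presheaf.stalk x)) := (inferInstance : IsLocalHom (f.stalkMap x).hom)
  haveI : Module.Flat ((Spec (CommRingCat.of A)).presheaf.stalk (f x)) (F.presheaf.stalk x) :=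
    hflat x
  haveI : Module.Finite (X.presheaf.stalk x) (F.presheaf.stalk x) :=
    Groth.Agent.H8.finite_stalk_of_isCoh F hF x
  obtain ⟨hdom, hdvr⟩ := stalk_dvr (f x) hfx
  haveI := hdom
  haveI := hdvr
  -- the primes
  have hex : ∀ z' : {v : ↥(f.fiber (genericPoint ↥(Spec (CommRingCat.of A)))) //
      MaxSupp ((Scheme.Modules.pullback
        (f.fiberι (genericPoint ↥(Spec (CommRingCat.of A))))).obj F) v}, z' ∈ T →
      ∃ p : PrimeSpectrum (X.presheaf.stalk x),
        (X.fromSpecStalk x) p = f.fiberι (genericPoint ↥(Spec (CommRingCat.of A))) z'.1 := by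
    intro z' hz'
    have h1 : f.fiberι (genericPoint ↥(Spec (CommRingCat.of A))) z'.1 ∈
        Set.range (X.fromSpecStalk x) := by
      rw [Scheme.range_fromSpecStalk]
      exact hT z' hz'
    exact h1
  choose! P hP using hex
  have hinj : Set.InjOn P (T : Set _) := by
    intro a ha b hb hab
    have h1 : f.fiberι (genericPoint ↥(Spec (CommRingCat.of A))) a.1 =
        f.fiberι (genericPoint ↥(Spec (CommRingCat.of A))) b.1 := by
      rw [← hP a ha, ← hP b hb, hab]
    exact Subtype.ext
      ((f.fiberι (genericPoint ↥(Spec (CommRingCat.of A)))).isEmbedding.injective h1)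
  -- lengths
  have hlen : ∀ z' ∈ T, Module.length
        ((f.fiber (genericPoint ↥(Spec (CommRingCat.of A)))).presheaf.stalk z'.1)
        (((Scheme.Modules.pullback
          (f.fiberι (genericPoint ↥(Spec (CommRingCat.of A))))).obj F).presheaf.stalk z'.1) =
      Module.length (Localization.AtPrime (P z').asIdeal)
        (LocalizedModule (P z').asIdeal.primeCompl (F.presheaf.stalk x)) := by
    intro z' hz'
    rw [length_stalk_genericFibre f F z'.1, length_stalk_congr F (hP z' hz').symm,
      length_stalk_fromSpecStalk X F x (P z')]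
  rw [Finset.sum_congr rfl hlen, ← Finset.sum_image hinj
    (f := fun p : PrimeSpectrum (X.presheaf.stalk x) =>
      Module.length (Localization.AtPrime p.asIdeal)
        (LocalizedModule p.asIdeal.primeCompl (F.presheaf.stalk x)))]
  refine sum_length_localization_le
    (A' := (Spec (CommRingCat.of A)).presheaf.stalk (f x)) (R := X.presheaf.stalk x)
    (M := F.presheaf.stalk x) (T.image P) ?_
  intro p hp
  obtain ⟨z', hz', rfl⟩ := Finset.mem_image.1 hp
  constructor
  · intro hle
    have h1 : f ((X.fromSpecStalk x) (P z')) = f x :=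
      (map_maximalIdeal_le_iff f x (P z')).1 hle
    rw [hP z' hz', hfη, hfx] at h1
    exact generic_ne_closed h1
  · intro q hq
    have hqs : q ⤳ P z' := (PrimeSpectrum.le_iff_specializes q (P z')).1 hq.le
    have hws : (X.fromSpecStalk x) q ⤳ (X.fromSpecStalk x) (P z') :=
      hqs.map (X.fromSpecStalk x).continuous
    have hwne : (X.fromSpecStalk x) q ≠ (X.fromSpecStalk x) (P z') := fun h =>
      hq.ne ((X.fromSpecStalk x).isEmbedding.injective h)
    rw [hP z' hz'] at hws hwne
    have hfw : f ((X.fromSpecStalk x) q) = genericPoint ↥(Spec (CommRingCat.of A)) := by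
      have h1 : f ((X.fromSpecStalk x) q) ⤳
          f (f.fiberι (genericPoint ↥(Spec (CommRingCat.of A))) z'.1) := hws.map f.continuous
      rw [hfη] at h1
      exact (h1.antisymm (genericPoint_specializes _)).eq
    have hwr : (X.fromSpecStalk x) q ∈
        Set.range (f.fiberι (genericPoint ↥(Spec (CommRingCat.of A)))) := by
      rw [Scheme.Hom.range_fiberι]
      exact hfw
    obtain ⟨v, hv⟩ := hwr
    have hvne : v ≠ z'.1 := by
      intro h
      apply hwne
      rw [← hv, h]
    have hvs : v ⤳ z'.1 := by
      rw [← (f.fiberι (genericPoint ↥(Spec (CommRingCat.of A)))).isEmbedding.isInducing.specializes_iff,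
        hv]
      exact hws
    have hsub : Subsingleton (((Scheme.Modules.pullback
        (f.fiberι (genericPoint ↥(Spec (CommRingCat.of A))))).obj F).presheaf.stalk v) := by
      rw [← not_nontrivial_iff_subsingleton]
      intro hnt
      exact hvne (z'.2.2 v hnt (specializes_iff_mem_closure.1 hvs))
    have h0 : Module.length ((f.fiber (genericPoint ↥(Spec (CommRingCat.of A)))).presheaf.stalk v)
        (((Scheme.Modules.pullback
          (f.fiberι (genericPoint ↥(Spec (CommRingCat.of A))))).obj F).presheaf.stalk v) = 0 :=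
      Module.length_eq_zero_iff.2 hsub
    rw [length_stalk_genericFibre f F v, length_stalk_congr F hv,
      length_stalk_fromSpecStalk X F x q] at h0
    exact Module.length_eq_zero_iff.1 h0

/-- (M3) -/
theorem sum_length_le {A : Type u} [CommRing A] [IsDomain A]
    [IsDiscreteValuationRing A] {X : Scheme.{u}} (f : X ⟶ Spec (CommRingCat.of A)) [IsProper f]
    (F : X.Modules) (hF : Coh.IsCoh F) (hflat : FlatMod.IsFlatOver f F)
    (z : ↥(f.fiber (closedPoint A)))
    (T : Finset {v : ↥(f.fiber (genericPoint ↥(Spec (CommRingCat.of A)))) //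
      MaxSupp ((Scheme.Modules.pullback
        (f.fiberι (genericPoint ↥(Spec (CommRingCat.of A))))).obj F) v})
    (hT : ∀ z' ∈ T, f.fiberι (genericPoint ↥(Spec (CommRingCat.of A))) z'.1 ⤳
      f.fiberι (closedPoint A) z) :
    ∑ z' ∈ T, Module.length
        ((f.fiber (genericPoint ↥(Spec (CommRingCat.of A)))).presheaf.stalk z'.1)
        (((Scheme.Modules.pullback
          (f.fiberι (genericPoint ↥(Spec (CommRingCat.of A))))).obj F).presheaf.stalk z'.1) ≤
      Module.length ((f.fiber (closedPoint A)).presheaf.stalk z)
        (((Scheme.Modules.pullback (f.fiberι (closedPoint A))).obj F).presheaf.stalk z) := by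
  haveI : F.IsQuasicoherent := hF.1
  have hfx : f (f.fiberι (closedPoint A) z) = closedPoint A := by
    have h1 : f.fiberι (closedPoint A) z ∈ Set.range (f.fiberι (closedPoint A)) := ⟨z, rfl⟩
    rw [Scheme.Hom.range_fiberι] at h1
    exact h1
  rw [length_stalk_fibre f F (closedPoint A) z]
  exact core f F hF hflat (f.fiberι (closedPoint A) z) hfx T hT

end Groth.Agent.H66.DvrLen_M3
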