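import Mathlib.GroupTheory.OrderOfElement
import Mathlib.GroupTheory.Exponent
import Mathlib.Data.ZMod.QuotientGroup
import Mathlib.Data.Nat.Factors
import Mathlib.Data.Nat.Factorization.Basic
import Mathlib.GroupTheory.SpecificGroups.Cyclic
import Mathlib.GroupTheory.Coset.Card

set_option autoImplicit false
universe u

namespace Groth.Agent.H66

open AddSubgroup

section
variable {A : Type u} [AddCommGroup A] (a : A) (ha : a ≠ 0)
  (h : ∀ B : AddSubgroup A, B ≠ ⊥ → a ∈ B)

include ha h

/-- a prime-order multiple: if `q` is a prime dividing the order of `x`, then `q • a = 0`. -/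
theorem ess_smul_eq_zero_of_prime_dvd (x : A) (hx : IsOfFinAddOrder x) (q : ℕ) (hq : q.Prime)
    (hqx : q ∣ addOrderOf x) : q • a = 0 := by
  set m := addOrderOf x with hm
  have hmpos : 0 < m := hx.addOrderOf_pos
  obtain ⟨r, hr⟩ := hqx
  have hrpos : 0 < r := by
    rcases Nat.eq_zero_or_pos r with h0 | h0
    · rw [h0, mul_zero] at hr; omega
    · exact h0
  have hy0 : r • x ≠ 0 := by
    intro h0
    have : m ∣ r := addOrderOf_dvd_of_nsmul_eq_zero h0
    have hle := Nat.le_of_dvd hrpos this
    have : r < m := by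
      rw [hr]
      calc r = 1 * r := (one_mul r).symm
        _ < q * r := Nat.mul_lt_mul_of_pos_right hq.one_lt hrpos
    omega
  have hqy : q • (r • x) = 0 := by
    rw [← mul_smul, ← hr]; exact addOrderOf_nsmul_eq_zero x
  have hne : zmultiples (r • x) ≠ ⊥ := by
    rw [Ne, zmultiples_eq_bot]; exact hy0
  obtain ⟨j, hj⟩ := mem_zmultiples_iff.mp (h _ hne)
  rw [← hj, smul_comm, hqy, smul_zero]

theorem ess_addOrderOf_prime (hfin : IsOfFinAddOrder a) : (addOrderOf a).Prime := by
  set m := addOrderOf a with hm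
  have hm1 : m ≠ 1 := by
    intro h1
    exact ha (AddMonoid.addOrderOf_eq_one_iff.mp h1)
  have hp := Nat.minFac_prime hm1
  have h0 := ess_smul_eq_zero_of_prime_dvd a ha h a hfin _ hp (Nat.minFac_dvd m)
  have hdvd : m ∣ m.minFac := addOrderOf_dvd_of_nsmul_eq_zero h0
  have : m = m.minFac := by
    rcases (Nat.dvd_prime hp).mp hdvd with h1 | h1
    · exact absurd h1 hm1
    · exact h1
  rw [this]; exact hp

/-- every element of finite order has `p`-power order, `p = addOrderOf a`. -/
theorem ess_exists_pow_smul_eq_zero (hfin : IsOfFinAddOrder a) (x : A) (hx : IsOfFinAddOrder x) :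
    ∃ k : ℕ, addOrderOf x = addOrderOf a ^ k := by
  have hp := ess_addOrderOf_prime a ha h hfin
  refine ⟨(addOrderOf x).primeFactorsList.length, ?_⟩
  apply Nat.eq_prime_pow_of_unique_prime_dvd hx.addOrderOf_pos.ne'
  intro q hq hqx
  have h0 := ess_smul_eq_zero_of_prime_dvd a ha h x hx q hq hqx
  have hdvd : addOrderOf a ∣ q := addOrderOf_dvd_of_nsmul_eq_zero h0
  exact ((Nat.prime_dvd_prime_iff_eq hp hq).mp hdvd).symm

/-- the `p`-torsion is generated by `a`. -/
theorem ess_mem_zmultiples_of_smul_eq_zero (hfin : IsOfFinAddOrder a) (x : A)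
    (hx : addOrderOf a • x = 0) : x ∈ zmultiples a := by
  have hp := ess_addOrderOf_prime a ha h hfin
  set p := addOrderOf a with hpdef
  by_cases hx0 : x = 0
  · rw [hx0]; exact zero_mem _
  have hne : zmultiples x ≠ ⊥ := by rw [Ne, zmultiples_eq_bot]; exact hx0
  obtain ⟨j, hj⟩ := mem_zmultiples_iff.mp (h _ hne)
  have hndvd : ¬ (p : ℤ) ∣ j := by
    rintro ⟨t, ht⟩
    apply ha
    rw [← hj, ht, mul_comm, mul_smul, natCast_zsmul, hx, smul_zero]
  have hg : Int.gcd j (p : ℤ) = 1 := by
    have h1 : ¬ p ∣ j.natAbs := fun hd => hndvd (Int.natCast_dvd.mpr hd)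
    have h2 : Nat.Coprime p j.natAbs := (Nat.Prime.coprime_iff_not_dvd hp).mpr h1
    show Nat.gcd j.natAbs (p : ℤ).natAbs = 1
    rw [Int.natAbs_natCast]
    exact h2.symm
  have hbez := Int.gcd_eq_gcd_ab j (p : ℤ)
  rw [hg] at hbez
  have : x = (Int.gcdA j (p : ℤ)) • a := by
    have h1 : (j * Int.gcdA j (p : ℤ) + (p : ℤ) * Int.gcdB j (p : ℤ)) • x = x := by
      rw [← hbez]; simp
    rw [add_smul, mul_comm j, mul_smul, mul_comm (p : ℤ), mul_smul, hj, natCast_zsmul, hx,
      smul_zero, add_zero] at h1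
    exact h1.symm
  rw [this]
  exact zsmul_mem (mem_zmultiples a) _

theorem ess_fiber_finite (hfin : IsOfFinAddOrder a) (z : A) :
    ((fun x : A => addOrderOf a • x) ⁻¹' {z}).Finite := by
  rcases Set.eq_empty_or_nonempty ((fun x : A => addOrderOf a • x) ⁻¹' {z}) with he | ⟨x₀, hx₀⟩
  · rw [he]; exact Set.finite_empty
  · have hfz : (zmultiples a : Set A).Finite := finite_zmultiples.mpr hfin
    refine (hfz.image (fun t => x₀ + t)).subset ?_
    intro x hx
    refine ⟨x - x₀, ?_, by simp⟩
    apply ess_mem_zmultiples_of_smul_eq_zero a ha h hfin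
    have h1 : addOrderOf a • x = z := hx
    have h2 : addOrderOf a • x₀ = z := hx₀
    rw [smul_sub, h1, h2, sub_self]

theorem ess_torsion_finite (hfin : IsOfFinAddOrder a) (k : ℕ) :
    {x : A | addOrderOf a ^ k • x = 0}.Finite := by
  induction k with
  | zero =>
    have : {x : A | addOrderOf a ^ 0 • x = 0} = {0} := by
      ext x; simp
    rw [this]; exact Set.finite_singleton 0
  | succ k ih =>
    refine (Set.Finite.preimage' ih (fun z _ => ess_fiber_finite a ha h hfin z)).subset ?_
    intro x hx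
    show addOrderOf a ^ k • (addOrderOf a • x) = 0
    rw [← mul_smul, ← pow_succ]
    exact hx

theorem ess_finite_of_exponent (hA : AddMonoid.exponent A ≠ 0) : Finite A := by
  have hall : ∀ x : A, IsOfFinAddOrder x := fun x =>
    isOfFinAddOrder_iff_nsmul_eq_zero.mpr
      ⟨AddMonoid.exponent A, Nat.pos_of_ne_zero hA, AddMonoid.exponent_nsmul_eq_zero x⟩
  have hfin := hall a
  have hp := ess_addOrderOf_prime a ha h hfin
  set N := AddMonoid.exponent A with hN
  have huniv : (Set.univ : Set A) ⊆ {x : A | addOrderOf a ^ N • x = 0} := by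
    intro x _
    obtain ⟨k, hk⟩ := ess_exists_pow_smul_eq_zero a ha h hfin x (hall x)
    have hdvd : addOrderOf a ^ k ∣ N := hk ▸ AddMonoid.addOrder_dvd_exponent x
    have hle : addOrderOf a ^ k ≤ N := Nat.le_of_dvd (Nat.pos_of_ne_zero hA) hdvd
    have hkN : k ≤ N := le_trans (Nat.lt_pow_self hp.one_lt).le hle
    show addOrderOf a ^ N • x = 0
    obtain ⟨r, hr⟩ := Nat.exists_eq_add_of_le hkN
    rw [hr, pow_add, mul_comm, mul_smul, ← hk, addOrderOf_nsmul_eq_zero, smul_zero]
  exact Set.finite_univ_iff.mp ((ess_torsion_finite a ha h hfin N).subset huniv)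

end

section Finite
variable {A : Type u} [AddCommGroup A] [Fintype A] [DecidableEq A] (a : A) (ha : a ≠ 0)
  (h : ∀ B : AddSubgroup A, B ≠ ⊥ → a ∈ B)

include ha h

open Finset

theorem ess_card_torsion_le (k : ℕ) :
    #{x : A | addOrderOf a ^ k • x = 0} ≤ addOrderOf a ^ k := by
  have hfin : IsOfFinAddOrder a := isOfFinAddOrder_of_finite a
  set p := addOrderOf a with hpdef
  induction k with
  | zero =>
    have : ({x : A | p ^ 0 • x = 0} : Finset A) = {0} := by
      ext x; simp
    rw [this]; simp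
  | succ k ih =>
    have hmaps : ∀ x ∈ ({x : A | p ^ (k + 1) • x = 0} : Finset A),
        (fun x => p • x) x ∈ ({x : A | p ^ k • x = 0} : Finset A) := by
      intro x hx
      simp only [mem_filter, mem_univ, true_and] at hx ⊢
      rw [← mul_smul, ← pow_succ]; exact hx
    have hfib : ∀ b ∈ ({x : A | p ^ k • x = 0} : Finset A),
        #{x ∈ ({x : A | p ^ (k + 1) • x = 0} : Finset A) | (fun x => p • x) x = b} ≤ p := by
      intro b _
      rcases Finset.eq_empty_or_nonempty
        {x ∈ ({x : A | p ^ (k + 1) • x = 0} : Finset A) | (fun x => p • x) x = b} with he | ⟨x₀, hx₀⟩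
      · rw [he]; simp
      · have hx₀' : p • x₀ = b := (mem_filter.mp hx₀).2
        calc #{x ∈ ({x : A | p ^ (k + 1) • x = 0} : Finset A) | (fun x => p • x) x = b}
            ≤ #(((Finset.range p).image (· • a)).image (fun t => x₀ + t)) := by
              apply Finset.card_le_card
              intro x hx
              have hx' : p • x = b := (mem_filter.mp hx).2
              rw [mem_image]
              refine ⟨x - x₀, ?_, by simp⟩
              rw [← hfin.mem_zmultiples_iff_mem_range_addOrderOf]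
              apply ess_mem_zmultiples_of_smul_eq_zero a ha h hfin
              rw [← hpdef, smul_sub, hx', hx₀', sub_self]
          _ ≤ #((Finset.range p).image (· • a)) := Finset.card_image_le
          _ ≤ #(Finset.range p) := Finset.card_image_le
          _ = p := Finset.card_range p
    calc #{x : A | p ^ (k + 1) • x = 0} ≤ p * #{x : A | p ^ k • x = 0} :=
          Finset.card_le_mul_card_image_of_maps_to hmaps p hfib
      _ ≤ p * p ^ k := Nat.mul_le_mul_left p ih
      _ = p ^ (k + 1) := by rw [pow_succ, mul_comm]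

theorem ess_card_nsmul_eq_zero_le (n : ℕ) (hn : 0 < n) : #{x : A | n • x = 0} ≤ n := by
  have hfin : IsOfFinAddOrder a := isOfFinAddOrder_of_finite a
  have hp := ess_addOrderOf_prime a ha h hfin
  set p := addOrderOf a with hpdef
  set j := n.factorization p with hj
  have hpj : p ^ j ∣ n := Nat.ordProj_dvd n p
  calc #{x : A | n • x = 0} ≤ #{x : A | p ^ j • x = 0} := by
        apply Finset.card_le_card
        intro x hx
        simp only [mem_filter, mem_univ, true_and] at hx ⊢
        obtain ⟨k, hk⟩ := ess_exists_pow_smul_eq_zero a ha h hfin x (isOfFinAddOrder_of_finite x)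
        have hdvd : p ^ k ∣ n := hk ▸ addOrderOf_dvd_of_nsmul_eq_zero hx
        have hkj : k ≤ j := (hp.pow_dvd_iff_le_factorization hn.ne').mp hdvd
        obtain ⟨r, hr⟩ := Nat.exists_eq_add_of_le hkj
        rw [hr, pow_add, mul_comm, mul_smul, ← hk, addOrderOf_nsmul_eq_zero, smul_zero]
    _ ≤ p ^ j := ess_card_torsion_le a ha h j
    _ ≤ n := Nat.le_of_dvd hn hpj

theorem ess_exists_addEquiv_zmod :
    ∃ p n : ℕ, p.Prime ∧ Nonempty (A ≃+ ZMod (p ^ n)) := by
  have hfin : IsOfFinAddOrder a := isOfFinAddOrder_of_finite a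
  have hp := ess_addOrderOf_prime a ha h hfin
  have hcyc : IsAddCyclic A :=
    isAddCyclic_of_card_nsmul_eq_zero_le (fun n hn => ess_card_nsmul_eq_zero_le a ha h n hn)
  obtain ⟨g, hg⟩ := hcyc.exists_generator
  obtain ⟨k, hk⟩ := ess_exists_pow_smul_eq_zero a ha h hfin g (isOfFinAddOrder_of_finite g)
  have hcard : Nat.card A = addOrderOf a ^ k := by
    rw [← hk]
    exact (addOrderOf_eq_card_of_forall_mem_zmultiples hg).symm
  exact ⟨addOrderOf a, k, hp,
    ⟨(zmodAddCyclicAddEquiv hcyc).symm.trans (ZMod.ringEquivCongr hcard).toAddEquiv⟩⟩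

end Finite

end Groth.Agent.H66
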