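import Mathlib
import Groth.Prelude.Def_RegImm

/-!
# The `p`-th power endomorphism of a polynomial ring is syntomic and faithfully flat

* `syntomic_of_root_basis`: an `R`-algebra `S` which is free with basis the monomials
  `∏ y_i ^ e_i` (`e_i < p`) in elements `y_i` with `y_i ^ p ∈ R` is syntomic and faithfully flat.
* `Tgt A m p`: the polynomial ring `A[T_1..T_m]` as an algebra over itself via `expand p`,
  with the basis `basisExpand`.
-/

set_option autoImplicit false
universe u

namespace Groth.Agent.H66.ExpandSyntomic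

open MvPolynomial TensorProduct

section General

/-- Reduction of a polynomial over a field modulo the relations `Y_i ^ p - t_i`. -/
lemma reduction {κ : Type u} [Field κ] (p m : ℕ) (hp : 0 < p) (tb : Fin m → κ)
    (q : MvPolynomial (Fin m) κ) :
    ∃ c : (Fin m → Fin p) → κ,
      q - ∑ e, c e • ∏ i, (X i : MvPolynomial (Fin m) κ) ^ (e i : ℕ) ∈
        Ideal.span (Set.range fun i : Fin m => (X i : MvPolynomial (Fin m) κ) ^ p - C (tb i)) := by
  classical
  obtain ⟨J, hJ⟩ : ∃ J : Ideal (MvPolynomial (Fin m) κ),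
      J = Ideal.span (Set.range fun i : Fin m => (X i : MvPolynomial (Fin m) κ) ^ p - C (tb i)) :=
    ⟨_, rfl⟩
  rw [← hJ]
  obtain ⟨π, hπ⟩ : ∃ π : MvPolynomial (Fin m) κ →ₐ[κ] MvPolynomial (Fin m) κ ⧸ J,
      π = Ideal.Quotient.mkₐ κ J := ⟨_, rfl⟩
  have hπ0 : ∀ x, π x = 0 ↔ x ∈ J := by
    intro x; rw [hπ, Ideal.Quotient.mkₐ_eq_mk, Ideal.Quotient.eq_zero_iff_mem]
  have hπX : ∀ i, π (X i) ^ p = algebraMap κ _ (tb i) := by
    intro i
    have h1 : π (X i ^ p - C (tb i)) = 0 := by
      rw [hπ0, hJ]; exact Ideal.subset_span ⟨i, rfl⟩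
    rw [map_sub, map_pow, sub_eq_zero] at h1
    rw [h1]
    exact π.commutes (tb i)
  have key : ∀ q : MvPolynomial (Fin m) κ, π q ∈ Submodule.span κ
      (Set.range fun e : Fin m → Fin p => π (∏ i, (X i : MvPolynomial (Fin m) κ) ^ (e i : ℕ))) := by
    intro q
    induction q using MvPolynomial.induction_on' with
    | monomial d a =>
      have h0 : π (monomial d a) = algebraMap κ _ (a * ∏ i, tb i ^ (d i / p)) *
          π (∏ i, (X i : MvPolynomial (Fin m) κ) ^
            ((⟨d i % p, Nat.mod_lt _ hp⟩ : Fin p) : ℕ)) := by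
        rw [monomial_eq, Finsupp.prod_fintype _ _ (fun i => pow_zero _), map_mul, map_prod,
          map_prod, map_mul, map_prod]
        have h2 : π (C a) = algebraMap κ _ a := π.commutes a
        rw [h2, mul_assoc, ← Finset.prod_mul_distrib]
        congr 1
        refine Finset.prod_congr rfl fun i _ => ?_
        rw [map_pow, map_pow, map_pow, ← hπX]
        conv_lhs => rw [← Nat.div_add_mod (d i) p]
        rw [pow_add, pow_mul]
      have h1 : π (monomial d a) = (a * ∏ i, tb i ^ (d i / p)) •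
          π (∏ i, (X i : MvPolynomial (Fin m) κ) ^
            ((⟨d i % p, Nat.mod_lt _ hp⟩ : Fin p) : ℕ)) := by
        rw [h0]; exact (Algebra.smul_def _ _).symm
      rw [h1]
      exact Submodule.smul_mem _ _ (Submodule.subset_span ⟨_, rfl⟩)
    | add q₁ q₂ h₁ h₂ =>
      rw [map_add]; exact Submodule.add_mem _ h₁ h₂
  obtain ⟨c, hc⟩ := (Submodule.mem_span_range_iff_exists_fun κ).mp (key q)
  refine ⟨c, ?_⟩
  rw [← hπ0, map_sub, map_sum]
  simp_rw [map_smul]
  rw [hc, sub_self]

variable {R S : Type u} [CommRing R] [CommRing S] [Algebra R S]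

/-- The presentation of the fibre of `S` over a field `κ`. -/
lemma fibre_presentation {κ : Type u} [Field κ] [Algebra R κ] (p m : ℕ) (hp : 0 < p)
    (y : Fin m → S) (t : Fin m → R) (hy : ∀ i, y i ^ p = algebraMap R S (t i))
    (b : Module.Basis (Fin m → Fin p) R S) (hb : ∀ e, b e = ∏ i, y i ^ (e i : ℕ)) :
    Function.Surjective
      (aeval (fun i => (1 : κ) ⊗ₜ[R] y i) : MvPolynomial (Fin m) κ →ₐ[κ] κ ⊗[R] S) ∧
    RingHom.ker
      (aeval (fun i => (1 : κ) ⊗ₜ[R] y i) : MvPolynomial (Fin m) κ →ₐ[κ] κ ⊗[R] S).toRingHom =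
      Ideal.span (Set.range fun i : Fin m =>
        (X i : MvPolynomial (Fin m) κ) ^ p - C (algebraMap R κ (t i))) := by
  classical
  obtain ⟨ψ₀, hψ₀⟩ : ∃ ψ₀ : MvPolynomial (Fin m) κ →ₐ[κ] κ ⊗[R] S,
      ψ₀ = aeval (fun i => (1 : κ) ⊗ₜ[R] y i) := ⟨_, rfl⟩
  rw [← hψ₀]
  have hψX : ∀ i, ψ₀ (X i) = Algebra.TensorProduct.includeRight (R := R) (A := κ) (y i) := by
    intro i; rw [hψ₀, aeval_X]; rfl
  have hψv : ∀ e : Fin m → Fin p,
      ψ₀ (∏ i, (X i : MvPolynomial (Fin m) κ) ^ (e i : ℕ)) = (b.baseChange κ) e := by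
    intro e
    rw [Module.Basis.baseChange_apply, hb, map_prod]
    simp_rw [map_pow, hψX]
    rw [← Algebra.TensorProduct.includeRight_apply, map_prod]
    simp_rw [map_pow]
  refine ⟨?_, ?_⟩
  · intro z
    refine ⟨∑ e, (b.baseChange κ).repr z e • ∏ i, (X i : MvPolynomial (Fin m) κ) ^ (e i : ℕ), ?_⟩
    rw [map_sum]
    simp_rw [map_smul, hψv]
    exact (b.baseChange κ).sum_repr z
  · apply le_antisymm
    · intro q hq
      have hq' : ψ₀ q = 0 := hq
      obtain ⟨c, hc⟩ := reduction p m hp (fun i => algebraMap R κ (t i)) q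
      have hJker : ∀ x ∈ Ideal.span (Set.range fun i : Fin m =>
          (X i : MvPolynomial (Fin m) κ) ^ p - C (algebraMap R κ (t i))), ψ₀ x = 0 := by
        intro x hx
        have hle : Ideal.span (Set.range fun i : Fin m =>
            (X i : MvPolynomial (Fin m) κ) ^ p - C (algebraMap R κ (t i))) ≤
            RingHom.ker ψ₀.toRingHom := by
          rw [Ideal.span_le]
          rintro _ ⟨i, rfl⟩
          change ψ₀ (X i ^ p - C (algebraMap R κ (t i))) = 0
          rw [map_sub, map_pow, hψX, ← map_pow, hy]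
          have h1 : ψ₀ (C (algebraMap R κ (t i))) = algebraMap κ _ (algebraMap R κ (t i)) :=
            ψ₀.commutes _
          rw [h1, Algebra.TensorProduct.includeRight_apply, Algebra.TensorProduct.algebraMap_apply,
            Algebra.algebraMap_eq_smul_one (t i), Algebra.algebraMap_eq_smul_one (t i),
            Algebra.algebraMap_self, RingHom.id_apply, TensorProduct.smul_tmul, sub_self]
        exact hle hx
      have h2 : ψ₀ (∑ e, c e • ∏ i, (X i : MvPolynomial (Fin m) κ) ^ (e i : ℕ)) = 0 := by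
        have h3 := hJker _ hc
        rw [map_sub, hq', zero_sub, neg_eq_zero] at h3
        exact h3
      rw [map_sum] at h2
      simp_rw [map_smul, hψv] at h2
      have hc0 := Fintype.linearIndependent_iff.mp (b.baseChange κ).linearIndependent c h2
      have h4 : (∑ e, c e • ∏ i, (X i : MvPolynomial (Fin m) κ) ^ (e i : ℕ)) = 0 :=
        Finset.sum_eq_zero fun e _ => by rw [hc0 e, zero_smul]
      rw [h4, sub_zero] at hc
      exact hc
    · rw [Ideal.span_le]
      rintro _ ⟨i, rfl⟩
      change ψ₀ (X i ^ p - C (algebraMap R κ (t i))) = 0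
      rw [map_sub, map_pow, hψX, ← map_pow, hy]
      have h1 : ψ₀ (C (algebraMap R κ (t i))) = algebraMap κ _ (algebraMap R κ (t i)) :=
        ψ₀.commutes _
      rw [h1, Algebra.TensorProduct.includeRight_apply, Algebra.TensorProduct.algebraMap_apply,
        Algebra.algebraMap_eq_smul_one (t i), Algebra.algebraMap_eq_smul_one (t i),
        Algebra.algebraMap_self, RingHom.id_apply, TensorProduct.smul_tmul, sub_self]

/-- An algebra which is free on the monomials `∏ y_i ^ e_i`, `e_i < p`, with `y_i ^ p ∈ R`, is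
syntomic and faithfully flat. -/
theorem syntomic_of_root_basis [IsNoetherianRing R] (p m : ℕ) (hp : 0 < p) (y : Fin m → S)
    (t : Fin m → R) (hy : ∀ i, y i ^ p = algebraMap R S (t i))
    (b : Module.Basis (Fin m → Fin p) R S) (hb : ∀ e, b e = ∏ i, y i ^ (e i : ℕ)) :
    Synt.IsSyntomic R S ∧ (algebraMap R S).FaithfullyFlat := by
  classical
  have : Module.Free R S := Module.Free.of_basis b
  have : Module.Finite R S := Module.Finite.of_basis b
  have : Nonempty (Fin m → Fin p) := ⟨fun _ => ⟨0, hp⟩⟩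
  refine ⟨⟨inferInstance, ?_, ?_⟩, ?_⟩
  · exact Algebra.FinitePresentation.of_finiteType.mp inferInstance
  · intro 𝔭
    refine ⟨inferInstance, fun q => ⟨1, ?_, ?_⟩⟩
    · exact (Ideal.ne_top_iff_one _).mp q.2.ne_top
    · right
      obtain ⟨hsurj, hker⟩ := fibre_presentation (κ := 𝔭.asIdeal.ResidueField) p m hp y t hy b hb
      -- the localization at `1` is the fibre itself
      obtain ⟨θ₀⟩ : Nonempty (𝔭.asIdeal.Fiber S ≃ₐ[𝔭.asIdeal.Fiber S]
          Localization.Away (1 : 𝔭.asIdeal.Fiber S)) :=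
        ⟨IsLocalization.atUnits (𝔭.asIdeal.Fiber S) (Submonoid.powers (1 : 𝔭.asIdeal.Fiber S))
          (by rintro _ ⟨n, rfl⟩; simp)⟩
      obtain ⟨θ, hθ⟩ : ∃ θ : 𝔭.asIdeal.Fiber S ≃ₐ[𝔭.asIdeal.ResidueField]
          Localization.Away (1 : 𝔭.asIdeal.Fiber S), ∀ x, θ x = θ₀ x :=
        ⟨θ₀.restrictScalars 𝔭.asIdeal.ResidueField, fun _ => rfl⟩
      refine ⟨m, m, le_rfl,
        θ.toAlgHom.comp (aeval (fun i => (1 : 𝔭.asIdeal.ResidueField) ⊗ₜ[R] y i)),
        fun i => (X i : MvPolynomial (Fin m) 𝔭.asIdeal.ResidueField) ^ p -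
          C (algebraMap R 𝔭.asIdeal.ResidueField (t i)), ?_, ?_, ?_⟩
      · exact θ.surjective.comp hsurj
      · rw [← hker]
        ext x
        simp only [RingHom.mem_ker, AlgHom.toRingHom_eq_coe, RingHom.coe_coe, AlgHom.comp_apply]
        exact ⟨fun h => θ.injective (h.trans (map_zero θ).symm),
          fun h => by rw [h]; exact map_zero _⟩
      · have : Nontrivial (𝔭.asIdeal.Fiber S) :=
          ⟨⟨(b.baseChange 𝔭.asIdeal.ResidueField) (fun _ => ⟨0, hp⟩), 0,
            (b.baseChange 𝔭.asIdeal.ResidueField).ne_zero _⟩⟩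
        have : IsArtinianRing (𝔭.asIdeal.Fiber S) :=
          IsArtinianRing.of_finite 𝔭.asIdeal.ResidueField _
        rw [Nat.sub_self, Nat.cast_zero, ← ringKrullDim_eq_of_ringEquiv θ.toRingEquiv,
          ← ringKrullDimZero_iff_ringKrullDim_eq_zero]
        infer_instance
  · rw [RingHom.faithfullyFlat_algebraMap_iff]
    rcases subsingleton_or_nontrivial R with hR | hR
    · refine ⟨fun 𝔪 h𝔪 => ?_⟩
      exact absurd (Subsingleton.elim _ _) h𝔪.ne_top
    · have : Nontrivial S := ⟨⟨b (fun _ => ⟨0, hp⟩), 0, b.ne_zero _⟩⟩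
      infer_instance

end General

section Expand

/-- The polynomial ring `A[T_1..T_m]`, as an algebra over itself through `expand p`. -/
def Tgt (A : Type u) [CommRing A] (m p : ℕ) : Type u :=
  (fun _ : ℕ => MvPolynomial (Fin m) A) p

variable (A : Type u) [CommRing A] (m p : ℕ)

noncomputable instance : CommRing (Tgt A m p) :=
  inferInstanceAs (CommRing (MvPolynomial (Fin m) A))

noncomputable instance : Algebra (MvPolynomial (Fin m) A) (Tgt A m p) :=
  (expand p : MvPolynomial (Fin m) A →ₐ[A] MvPolynomial (Fin m) A).toRingHom.toAlgebra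

/-- the identity map into the synonym. -/
noncomputable def toT : MvPolynomial (Fin m) A →+* Tgt A m p := RingHom.id _

variable {A m p}

lemma toT_surjective : Function.Surjective (toT A m p) := fun x => ⟨x, rfl⟩

lemma toT_injective : Function.Injective (toT A m p) := fun _ _ h => h

lemma smul_toT (f g : MvPolynomial (Fin m) A) :
    f • toT A m p g = toT A m p (expand p f * g) := by
  rw [Algebra.smul_def]; rfl

lemma algebraMap_eq (f : MvPolynomial (Fin m) A) :
    algebraMap (MvPolynomial (Fin m) A) (Tgt A m p) f = toT A m p (expand p f) := rfl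

/-- exponent vector of a reduced monomial. -/
noncomputable def dE (e : Fin m → Fin p) : Fin m →₀ ℕ :=
  Finsupp.equivFunOnFinite.symm (fun i => (e i : ℕ))

lemma dE_apply (e : Fin m → Fin p) (i : Fin m) : dE e i = (e i : ℕ) := rfl

lemma not_dvd_aux (hp : 0 < p) (bj k : ℕ) (ej ej' : Fin p) (hne : ej' ≠ ej)
    (hle : (ej' : ℕ) ≤ p * bj + ej) (hk : p * bj + (ej : ℕ) - (ej' : ℕ) = p * k) : False := by
  have h1 : ((ej : ℕ) : ℤ) - ((ej' : ℕ) : ℤ) = (p : ℤ) * ((k : ℤ) - (bj : ℤ)) := by
    have h2 : ((p * bj + (ej : ℕ) - (ej' : ℕ) : ℕ) : ℤ) = ((p * k : ℕ) : ℤ) := by rw [hk]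
    rw [Nat.cast_sub hle] at h2
    push_cast at h2
    linarith
  have h3 : ((ej : ℕ) : ℤ) - ((ej' : ℕ) : ℤ) = 0 := by
    apply Int.eq_zero_of_abs_lt_dvd (m := (p : ℤ)) ⟨_, h1⟩
    have h4 : ((ej : ℕ) : ℤ) < p := by exact_mod_cast ej.2
    have h5 : ((ej' : ℕ) : ℤ) < p := by exact_mod_cast ej'.2
    have h6 : (0 : ℤ) ≤ ((ej : ℕ) : ℤ) := Int.natCast_nonneg _
    have h7 : (0 : ℤ) ≤ ((ej' : ℕ) : ℤ) := Int.natCast_nonneg _
    rw [abs_lt]; constructor <;> linarith
  apply hne
  apply Fin.ext
  have : ((ej' : ℕ) : ℤ) = ((ej : ℕ) : ℤ) := by linarith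
  exact_mod_cast this

lemma linearIndependent_monomials (hp : 0 < p) :
    LinearIndependent (MvPolynomial (Fin m) A)
      (fun e : Fin m → Fin p => toT A m p (monomial (dE e) 1)) := by
  classical
  rw [Fintype.linearIndependent_iff]
  intro g hg e
  simp_rw [smul_toT] at hg
  rw [← map_sum] at hg
  have hg' : ∑ e' : Fin m → Fin p, expand p (g e') * monomial (dE e') (1 : A) = 0 :=
    toT_injective (by rw [hg, map_zero])
  ext bb
  have h1 := congrArg (coeff (p • bb + dE e)) hg'
  rw [coeff_sum, coeff_zero] at h1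
  rw [coeff_zero, ← h1]
  symm
  rw [Finset.sum_eq_single e]
  · rw [coeff_mul_monomial', if_pos (le_add_self), add_tsub_cancel_right, mul_one,
      coeff_expand_smul p hp.ne']
  · intro e' _ hne
    rw [coeff_mul_monomial']
    split_ifs with hle
    · obtain ⟨j, hj⟩ := Function.ne_iff.mp hne
      rw [mul_one]
      apply coeff_expand_of_not_dvd (i := j)
      rintro ⟨k, hk⟩
      have hlej := hle j
      rw [Finsupp.tsub_apply, Finsupp.add_apply, Finsupp.smul_apply, dE_apply, dE_apply,
        smul_eq_mul] at hk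
      rw [Finsupp.add_apply, Finsupp.smul_apply, dE_apply, dE_apply, smul_eq_mul] at hlej
      exact not_dvd_aux hp (bb j) k (e j) (e' j) hj hlej hk
    · rfl
  · intro h; exact absurd (Finset.mem_univ e) h

lemma span_monomials (hp : 0 < p) :
    ⊤ ≤ Submodule.span (MvPolynomial (Fin m) A)
      (Set.range fun e : Fin m → Fin p => toT A m p (monomial (dE e) 1)) := by
  classical
  intro s _
  obtain ⟨q, rfl⟩ := toT_surjective s
  rw [← q.support_sum_monomial_coeff, map_sum]
  refine Submodule.sum_mem _ fun d _ => ?_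
  have h1 : toT A m p (monomial d (coeff d q)) =
      (monomial (Finsupp.equivFunOnFinite.symm (fun i => d i / p)) (coeff d q)) •
        toT A m p (monomial (dE (fun i => (⟨d i % p, Nat.mod_lt _ hp⟩ : Fin p))) 1) := by
    have hd : p • (Finsupp.equivFunOnFinite.symm fun i => d i / p) +
        dE (fun i => (⟨d i % p, Nat.mod_lt _ hp⟩ : Fin p)) = d := by
      ext i
      rw [Finsupp.add_apply, Finsupp.smul_apply, dE_apply, smul_eq_mul]
      exact Nat.div_add_mod (d i) p
    rw [smul_toT, expand_monomial, monomial_mul, mul_one, hd]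
  rw [h1]
  exact Submodule.smul_mem _ _ (Submodule.subset_span ⟨_, rfl⟩)

/-- The basis of reduced monomials of `A[T]` over `A[T^p]`. -/
noncomputable def basisExpand (hp : 0 < p) :
    Module.Basis (Fin m → Fin p) (MvPolynomial (Fin m) A) (Tgt A m p) :=
  Module.Basis.mk (linearIndependent_monomials hp) (span_monomials hp)

lemma basisExpand_apply (hp : 0 < p) (e : Fin m → Fin p) :
    basisExpand (A := A) hp e = ∏ i, toT A m p (X i) ^ (e i : ℕ) := by
  classical
  rw [basisExpand, Module.Basis.mk_apply, monomial_eq, C_1, one_mul,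
    Finsupp.prod_fintype _ _ (fun i => pow_zero _), map_prod]
  simp_rw [map_pow, dE_apply]

/-- The `p`-th power endomorphism of a polynomial ring over a Noetherian ring is syntomic and
faithfully flat. -/
theorem expand_syntomic [IsNoetherianRing A] (hp : 0 < p) :
    Synt.IsSyntomic (MvPolynomial (Fin m) A) (Tgt A m p) ∧
      (algebraMap (MvPolynomial (Fin m) A) (Tgt A m p)).FaithfullyFlat :=
  syntomic_of_root_basis p m hp (fun i => toT A m p (X i)) (fun i => X i)
    (fun i => by rw [algebraMap_eq, expand_X, map_pow])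
    (basisExpand hp) (basisExpand_apply hp)

end Expand

end Groth.Agent.H66.ExpandSyntomic
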