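import Mathlib
import Groth.Agent.H15.FPA.Defs

/-! (UNR) for helper15's S8826 squad: a presented algebra which is formally unramified after
inverting `a` satisfies the Jacobian condition `UnramAt f a`. -/

set_option autoImplicit false
universe u

open MvPolynomial
open Groth.Agent.H15.FPA

namespace Groth.Agent.H66.FPA_UNR

open KaehlerDifferential in
theorem unramAt_of_formallyUnramified_away {A B : Type u} [CommRing A] [CommRing B] [Algebra A B]
    {n m : ℕ} (π : MvPolynomial (Fin n) A →ₐ[A] B) (hπ : Function.Surjective π)
    (f : Fin m → MvPolynomial (Fin n) A)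
    (hker : RingHom.ker π.toRingHom = Ideal.span (Set.range f)) (a : A)
    [Algebra.FormallyUnramified A (Localization.Away (algebraMap A B a))] : UnramAt f a := by
  classical
  -- Step 1: every differential of `B` is killed by a power of `b`
  have hkill : ∀ ω : Ω[B⁄A], ∃ e : ℕ, (algebraMap A B a) ^ e • ω = 0 := by
    intro ω
    haveI := KaehlerDifferential.isLocalizedModule_map (R := A) (S := B)
      (T := Localization.Away (algebraMap A B a)) (Submonoid.powers (algebraMap A B a))
    have h0 : KaehlerDifferential.map A A B (Localization.Away (algebraMap A B a)) ω =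
        KaehlerDifferential.map A A B (Localization.Away (algebraMap A B a)) 0 :=
      Subsingleton.elim _ _
    obtain ⟨⟨c, e, rfl⟩, hc⟩ :=
      IsLocalizedModule.exists_of_eq (S := Submonoid.powers (algebraMap A B a)) h0
    refine ⟨e, ?_⟩
    simpa [Submonoid.smul_def] using hc
  choose ep hep using fun p : Fin n => hkill (KaehlerDifferential.D A B (π (X p)))
  have hkill' : ∀ p, (algebraMap A B a) ^ (∑ p, ep p) • KaehlerDifferential.D A B (π (X p)) = 0 := by
    intro p
    have hle : ep p ≤ ∑ p, ep p :=
      Finset.single_le_sum (fun _ _ => Nat.zero_le _) (Finset.mem_univ p)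
    obtain ⟨d, hd⟩ := Nat.exists_eq_add_of_le hle
    rw [hd, pow_add, mul_comm, mul_smul, hep, smul_zero]
  -- Step 2: generators
  have haeval : aeval (R := A) (fun k : Fin n => π (X k)) = π := by
    apply MvPolynomial.algHom_ext
    intro i
    simp
  have hsurj : Function.Surjective (aeval (R := A) (fun k : Fin n => π (X k))) := by
    rw [haeval]
    exact hπ
  let P : Algebra.Generators A B (Fin n) :=
    Algebra.Generators.ofSurjective (fun k => π (X k)) hsurj
  have hPval : aeval (R := A) P.val = π := haeval
  have hPker : ∀ h : MvPolynomial (Fin n) A, h ∈ P.ker → h ∈ Ideal.span (Set.range f) := by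
    intro h hh
    rw [Algebra.Generators.ker_eq_ker_aeval_val, hPval] at hh
    rw [← hker]
    exact hh
  -- Step 3
  have key : ∀ p : Fin n, ∃ h : MvPolynomial (Fin n) A, h ∈ Ideal.span (Set.range f) ∧
      ∀ k, π (pderiv k h) = (algebraMap A B a) ^ (∑ p, ep p) * (if p = k then 1 else 0) := by
    intro p
    have h1 : P.toExtension.toKaehler
        ((algebraMap A B a) ^ (∑ p, ep p) • P.cotangentSpaceBasis p) = 0 := by
      rw [map_smul, Algebra.Generators.toKaehler_cotangentSpaceBasis]
      exact hkill' p
    obtain ⟨x, hx⟩ := (P.toExtension.exact_cotangentComplex_toKaehler _).1 h1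
    obtain ⟨h, rfl⟩ := Algebra.Extension.Cotangent.mk_surjective x
    refine ⟨h.1, hPker _ h.2, fun k => ?_⟩
    have h2 := congrArg (fun y => P.cotangentSpaceBasis.repr y k) hx
    simp only [Algebra.Extension.cotangentComplex_mk,
      Algebra.Generators.cotangentSpaceBasis_repr_one_tmul, map_smul, Module.Basis.repr_self,
      Finsupp.smul_apply, Finsupp.single_apply, smul_eq_mul] at h2
    rw [← hPval]
    exact h2
  choose h hmem hder using key
  have hc : ∀ p, ∃ c : Fin m → MvPolynomial (Fin n) A, ∑ j, c j * f j = h p :=
    fun p => Ideal.mem_span_range_iff_exists_fun.1 (hmem p)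
  choose c hc using hc
  refine ⟨∑ p, ep p, c, fun p k => ?_⟩
  rw [← hker, RingHom.mem_ker]
  change π (_ - _) = 0
  have hf0 : ∀ j, π (f j) = 0 := fun j => by
    have h3 : f j ∈ RingHom.ker π.toRingHom := hker ▸ Ideal.subset_span ⟨j, rfl⟩
    exact h3
  have h3 : π (pderiv k (h p)) = π (∑ j, c p j * pderiv k (f j)) := by
    rw [← hc p, map_sum, map_sum, map_sum]
    apply Finset.sum_congr rfl
    intro j _
    rw [Derivation.leibniz, map_add, smul_eq_mul, smul_eq_mul, map_mul, map_mul, hf0, zero_mul,
      add_zero]
  have h4 : π (C (a ^ (∑ p, ep p))) = (algebraMap A B a) ^ (∑ p, ep p) := by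
    rw [← MvPolynomial.algebraMap_eq, AlgHom.commutes, map_pow]
  rw [map_sub, ← h3, hder, map_mul, h4, apply_ite π, map_one, map_zero, sub_self]

end Groth.Agent.H66.FPA_UNR
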