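import Mathlib
import Groth.Prelude.Def_CohB1
import Groth.Prelude.Def_Coh
import Groth.Agent.H22.QCohLimits
import Groth.Agent.H8.FinType
import Groth.Agent.H8.CohAffine
import Groth.Agent.H8.FPAffine
import Groth.Agent.H8.SectionsExact
import Groth.Agent.H21.EpiPush
import Groth.Agent.H49.InjCokerOpen
import Groth.Agent.H77.FPExt_P1

/-!
# Piece (R1) for S9820 (helper22): the kernel of `G₀ ↠ F` is of finite type where `F` is f.p.
-/

set_option autoImplicit false
set_option linter.style.haveILetI false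
universe u v w v' w'
open CategoryTheory CategoryTheory.Limits AlgebraicGeometry TopologicalSpace Opposite
open AlgebraicGeometry.Scheme.Modules

namespace Groth.Agent.H66.FPExt_R1

/-- Finiteness transfers along a ring isomorphism and a semilinear additive equivalence. -/
theorem finite_of_semilinear {R S : Type*} [CommRing R] [CommRing S] (σ : S ≃+* R)
    {N N' : Type*} [AddCommGroup N] [Module S N] [AddCommGroup N'] [Module R N']
    (φ : N ≃+ N') (hφ : ∀ (s : S) (n : N), φ (s • n) = σ s • φ n)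
    [Module.Finite S N] : Module.Finite R N' := by
  classical
  obtain ⟨s, hs⟩ := (Module.finite_def (R := S) (M := N)).mp inferInstance
  refine Module.finite_def.mpr ⟨s.image φ, ?_⟩
  rw [eq_top_iff]
  rintro n' -
  obtain ⟨n, rfl⟩ := φ.surjective n'
  have hn : n ∈ Submodule.span S (s : Set N) := by rw [hs]; trivial
  induction hn using Submodule.span_induction with
  | mem x hx =>
    exact Submodule.subset_span (by
      rw [Finset.coe_image]; exact ⟨x, hx, rfl⟩)
  | zero => rw [map_zero]; exact Submodule.zero_mem _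
  | add x y _ _ hx hy => rw [map_add]; exact Submodule.add_mem _ hx hy
  | smul a x _ hx => rw [hφ]; exact Submodule.smul_mem _ _ hx

variable {X : Scheme.{u}}

theorem isFT_restrict_kernel {G₀ F : X.Modules} [G₀.IsQuasicoherent] [F.IsQuasicoherent]
    (φ₀ : G₀ ⟶ F) [Epi φ₀] (hG₀ : CohB1.IsFT G₀) (U : X.Opens)
    (hFU : CohB1.IsFP (F.restrict U.ι)) : CohB1.IsFT ((kernel φ₀).restrict U.ι) := by
  haveI : (kernel φ₀).IsQuasicoherent := Groth.Agent.H22.QCohLimits.isQuasicoherent_kernel φ₀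
  haveI : ((kernel φ₀).restrict U.ι).IsQuasicoherent := inferInstance
  refine Groth.Agent.H8.isFiniteType_of_forall_affine_finite
    (M := (kernel φ₀).restrict U.ι) (fun O' => ?_)
  obtain ⟨O', hO'⟩ := O'
  have hO : IsAffineOpen (U.ι ''ᵁ O') := hO'.image_of_isOpenImmersion U.ι
  haveI := hG₀
  haveI : Module.Finite Γ(X, U.ι ''ᵁ O') Γ(G₀, U.ι ''ᵁ O') :=
    Groth.Agent.H8.finite_sections_of_isAffineOpen G₀ hO
  haveI := hFU
  haveI : Module.FinitePresentation Γ(U.toScheme, O') Γ(F.restrict U.ι, O') :=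
    Groth.Agent.H8.finitePresentation_sections_of_isAffineOpen (F.restrict U.ι) hO'
  haveI : Module.FinitePresentation Γ(X, U.ι ''ᵁ O') Γ(F, U.ι ''ᵁ O') :=
    Groth.Agent.H77.FPExt_P1.fp_of_semilinear (S := Γ(U.toScheme, O'))
      (R := Γ(X, U.ι ''ᵁ O')) (N := Γ(F.restrict U.ι, O')) (N' := Γ(F, U.ι ''ᵁ O'))
      (U.ι.appIso O').symm.commRingCatIsoToRingEquiv (AddEquiv.refl _) (fun s n => rfl)
  have hsurj : Function.Surjective (Groth.Agent.H8.appₗ φ₀ (U.ι ''ᵁ O')) :=
    Groth.Agent.H21.EpiPush.app_surjective_of_epi φ₀ hO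
  have hker : (LinearMap.ker (Groth.Agent.H8.appₗ φ₀ (U.ι ''ᵁ O'))).FG :=
    Module.FinitePresentation.fg_ker _ hsurj
  have hinj : Function.Injective (Groth.Agent.H8.appₗ (kernel.ι φ₀) (U.ι ''ᵁ O')) :=
    Groth.Agent.H49.InjCoker.kernel_app_injective φ₀
  have hrange : LinearMap.range (Groth.Agent.H8.appₗ (kernel.ι φ₀) (U.ι ''ᵁ O')) =
      LinearMap.ker (Groth.Agent.H8.appₗ φ₀ (U.ι ''ᵁ O')) := by
    ext y
    constructor
    · rintro ⟨k, rfl⟩
      exact Groth.Agent.H49.InjCoker.app_app_kernel φ₀ k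
    · intro hy
      obtain ⟨k, hk⟩ := Groth.Agent.H49.InjCoker.exists_kernel_app_eq φ₀ y hy
      exact ⟨k, hk⟩
  haveI : Module.Finite Γ(X, U.ι ''ᵁ O') Γ(kernel φ₀, U.ι ''ᵁ O') := by
    have e := LinearEquiv.ofInjective _ hinj
    haveI : Module.Finite Γ(X, U.ι ''ᵁ O')
        ↥(LinearMap.range (Groth.Agent.H8.appₗ (kernel.ι φ₀) (U.ι ''ᵁ O'))) :=
      Module.Finite.iff_fg.mpr (hrange ▸ hker)
    exact Module.Finite.equiv e.symm
  exact finite_of_semilinear (S := Γ(X, U.ι ''ᵁ O')) (R := Γ(U.toScheme, O'))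
    (N := Γ(kernel φ₀, U.ι ''ᵁ O')) (N' := Γ((kernel φ₀).restrict U.ι, O'))
    (U.ι.appIso O').commRingCatIsoToRingEquiv (AddEquiv.refl _)
    (fun s n => by
      show s • n = ((U.ι.appIso O').inv ((U.ι.appIso O').hom s)) • n
      rw [Iso.hom_inv_id_apply])

end Groth.Agent.H66.FPExt_R1
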