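import Mathlib
import Groth.Prelude.Def_CohB1
import Groth.Prelude.Def_Coh

/-!
# Piece (R2) for S9820 (helper22): an exact functor inverting `K' ⟶ ker φ₀` inverts `coker(K' → G₀) ⟶ F`
-/

set_option autoImplicit false
universe u v w v' w'
open CategoryTheory CategoryTheory.Limits AlgebraicGeometry TopologicalSpace Opposite

namespace Groth.Agent.H66.FPExt_R2

theorem isIso_map_cokernel_desc {C : Type v} [Category.{w} C] [Abelian C] {D : Type v'}
    [Category.{w'} D] [Abelian D] (R : C ⥤ D) [R.Additive] [PreservesFiniteLimits R]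
    [PreservesFiniteColimits R] {G₀ F K' : C} (φ₀ : G₀ ⟶ F) [Epi φ₀] (i : K' ⟶ kernel φ₀)
    (hi : IsIso (R.map i)) :
    IsIso (R.map (cokernel.desc (i ≫ kernel.ι φ₀) φ₀ (by simp))) := by
  have := hi
  -- `F` is a cokernel of `kernel.ι φ₀`
  have h₁ := Abelian.epiIsCokernelOfKernel _ (kernelIsKernel φ₀)
  have h₁' := CokernelCofork.mapIsColimit _ h₁ R
  have hu : R.map (i ≫ kernel.ι φ₀) = R.map i ≫ R.map (kernel.ι φ₀) := R.map_comp _ _
  have h₂ := isCokernelEpiComp h₁' (R.map i) hu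
  have h₃ := cokernelIsCokernel (i ≫ kernel.ι φ₀)
  have h₃' := CokernelCofork.mapIsColimit _ h₃ R
  have he : R.map (cokernel.desc (i ≫ kernel.ι φ₀) φ₀ (by simp)) =
      (IsColimit.coconePointUniqueUpToIso h₃' h₂).hom := by
    apply Cofork.IsColimit.hom_ext h₃'
    have h4 := IsColimit.comp_coconePointUniqueUpToIso_hom h₃' h₂ WalkingParallelPair.one
    have h5 : R.map (cokernel.π (i ≫ kernel.ι φ₀)) ≫
        R.map (cokernel.desc (i ≫ kernel.ι φ₀) φ₀ (by simp)) = R.map φ₀ := by
      rw [← R.map_comp, cokernel.π_desc]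
    exact h5.trans h4.symm
  rw [he]
  infer_instance

end Groth.Agent.H66.FPExt_R2
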