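import Groth.Agent.H66.RelCI4

/-!
# Syntomic over a ring isomorphic to a field vs. complete intersections over the field (helper66)
-/

set_option autoImplicit false
set_option linter.style.haveILetI false
set_option linter.unusedSectionVars false
set_option linter.unusedVariables false

universe u

namespace Groth.Agent.H66.FieldBase

open TensorProduct Groth.Agent.H9.FibDim Groth.Agent.H66.FibreReg Groth.Agent.H66.RelGCI
  Groth.Agent.H66.GlobalCI Groth.Agent.H66.RelCI

variable {k k' : Type u} [Field k] [CommRing k'] (σ : k ≃+* k')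

/-- Residue fields of a ring isomorphic to a field. -/
theorem exists_equiv_residueField (𝔭 : Ideal k') [hp : 𝔭.IsPrime] :
    ∃ ρ : k ≃+* 𝔭.ResidueField, ∀ a, ρ a = algebraMap k' 𝔭.ResidueField (σ a) := by
  have hunit : ∀ x : k', x ≠ 0 → IsUnit x := fun x hx => by
    obtain ⟨a, rfl⟩ := σ.surjective x
    exact (IsUnit.mk0 a (by rintro rfl; exact hx (map_zero σ))).map σ
  haveI hmax : 𝔭.IsMaximal := by
    refine ⟨⟨hp.ne_top, fun J hlt => ?_⟩⟩
    obtain ⟨x, hxJ, hxp⟩ := SetLike.exists_of_lt hlt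
    have hx0 : x ≠ 0 := fun h0 => hxp (h0 ▸ zero_mem _)
    exact Ideal.eq_top_of_isUnit_mem _ hxJ (hunit x hx0)
  let f : k →+* 𝔭.ResidueField := (algebraMap k' 𝔭.ResidueField).comp (σ : k →+* k')
  have hsurj : Function.Surjective f :=
    (Ideal.algebraMap_residueField_surjective 𝔭).comp σ.surjective
  exact ⟨RingEquiv.ofBijective f ⟨f.injective, hsurj⟩, fun a => rfl⟩

variable {A : Type u} [CommRing A] [Algebra k A] [Algebra k' A]
  (hA : ∀ a, algebraMap k' A (σ a) = algebraMap k A a)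

/-- The presentation over `k'` corresponding to a presentation over `k`. -/
theorem exists_pres_equiv (n c : ℕ) (F0 : Fin c → MvPolynomial (Fin n) k)
    (F : Fin c → MvPolynomial (Fin n) k') (hF : ∀ i, F i = MvPolynomial.map (σ : k →+* k') (F0 i)) :
    ∃ θ : Synt.RelGCIRing k n c F0 ≃+* Synt.RelGCIRing k' n c F,
      ∀ a, θ (algebraMap k _ a) = algebraMap k' _ (σ a) := by
  have hIJ : Ideal.span (Set.range F) =
      (Ideal.span (Set.range F0)).map (MvPolynomial.mapEquiv (Fin n) σ) := by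
    rw [Ideal.map_span, ← Set.range_comp]
    congr 2
    funext i
    exact hF i
  refine ⟨Ideal.quotientEquiv _ _ (MvPolynomial.mapEquiv (Fin n) σ) hIJ, fun a => ?_⟩
  show Ideal.quotientEquiv _ _ (MvPolynomial.mapEquiv (Fin n) σ) hIJ
    (Ideal.Quotient.mk _ (MvPolynomial.C a)) = Ideal.Quotient.mk _ (MvPolynomial.C (σ a))
  rw [Ideal.quotientEquiv_mk]
  congr 1
  show MvPolynomial.map (σ : k →+* k') (MvPolynomial.C a) = _
  rw [MvPolynomial.map_C]
  rfl

/-- Dimension of the fibres of a presentation over `k'`. -/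
theorem dim_fiber_pres (n c : ℕ) (F0 : Fin c → MvPolynomial (Fin n) k)
    (F : Fin c → MvPolynomial (Fin n) k') (hF : ∀ i, F i = MvPolynomial.map (σ : k →+* k') (F0 i))
    (𝔭 : Ideal k') [𝔭.IsPrime] :
    Nonempty (𝔭.Fiber (Synt.RelGCIRing k' n c F) ≃+* Synt.RelGCIRing k n c F0) := by
  obtain ⟨e1⟩ := nonempty_fiber_equiv_pres k' n c F 𝔭
  obtain ⟨ρ, hρ⟩ := exists_equiv_residueField σ 𝔭
  obtain ⟨e2⟩ := nonempty_pres_equiv k 𝔭.ResidueField ρ n c F0
    (fun i => MvPolynomial.map (algebraMap k' 𝔭.ResidueField) (F i)) (fun i => by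
      have hcomp : (algebraMap k' 𝔭.ResidueField).comp (σ : k →+* k') =
          (ρ : k →+* 𝔭.ResidueField) := RingHom.ext fun a => (hρ a).symm
      rw [hF i, MvPolynomial.map_map, hcomp])
  exact ⟨e1.trans e2.symm⟩

include hA in
/-- A presented `k`-algebra of the right dimension is syntomic over `k'`. -/
theorem isSyntomic_of_pres (n c : ℕ) (hcn : c ≤ n) (φ : MvPolynomial (Fin n) k →ₐ[k] A)
    (r : Fin c → MvPolynomial (Fin n) k) (hφ : Function.Surjective φ)
    (hker : RingHom.ker φ.toRingHom = Ideal.span (Set.range r))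
    (hdim : ringKrullDim A = ((n - c : ℕ) : WithBot ℕ∞)) : Synt.IsSyntomic k' A := by
  let e0 : Synt.RelGCIRing k n c r ≃ₐ[k] A :=
    (Ideal.quotientEquivAlgOfEq k hker.symm).trans (Ideal.quotientKerAlgEquivOfSurjective hφ)
  obtain ⟨θ, hθ⟩ := exists_pres_equiv σ n c r
    (fun i => MvPolynomial.map (σ : k →+* k') (r i)) (fun i => rfl)
  have hrel : Synt.IsRelGCI k' n c (fun i => MvPolynomial.map (σ : k →+* k') (r i)) := by
    intro 𝔭 hnt
    refine ⟨hcn, ?_⟩
    obtain ⟨e3⟩ := dim_fiber_pres σ n c r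
      (fun i => MvPolynomial.map (σ : k →+* k') (r i)) (fun i => rfl) 𝔭.asIdeal
    rw [ringKrullDim_eq_of_ringEquiv e3, ringKrullDim_eq_of_ringEquiv e0.toRingEquiv, hdim]
  let ψ : Synt.RelGCIRing k' n c (fun i => MvPolynomial.map (σ : k →+* k') (r i)) ≃ₐ[k'] A :=
    AlgEquiv.ofRingEquiv (f := θ.symm.trans e0.toRingEquiv) (fun b => by
      obtain ⟨a, rfl⟩ := σ.surjective b
      show e0 (θ.symm (algebraMap k' _ (σ a))) = _
      rw [← hθ a, θ.symm_apply_apply, e0.commutes, hA])
  exact isSyntomic_of_algEquiv ψ (isSyntomic_of_isRelGCI k' n c _ hrel)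

include hA in
theorem finiteType_of_equiv [Algebra.FiniteType k' A] : Algebra.FiniteType k A := by
  obtain ⟨m, ψ, hψ⟩ := Algebra.FiniteType.iff_quotient_mvPolynomial''.mp
    (inferInstance : Algebra.FiniteType k' A)
  let ψ' : MvPolynomial (Fin m) k →ₐ[k] A :=
    { (ψ.toRingHom.comp (MvPolynomial.mapEquiv (Fin m) σ).toRingHom) with
      commutes' := fun a => by
        show ψ (MvPolynomial.map (σ : k →+* k') (MvPolynomial.C a)) = _
        rw [MvPolynomial.map_C]
        exact (ψ.commutes (σ a)).trans (hA a) }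
  refine Algebra.FiniteType.of_surjective ψ' ?_
  exact hψ.comp (MvPolynomial.mapEquiv (Fin m) σ).surjective

include hA in
/-- A syntomic `k'`-algebra is a local complete intersection over `k`. -/
theorem isLCIOver_of_isSyntomic (h : Synt.IsSyntomic k' A) : Synt.IsLCIOver k A := by
  haveI := h.2.1
  have hft : Algebra.FiniteType k A := by
    obtain ⟨m, ψ, hψ⟩ := Algebra.FiniteType.iff_quotient_mvPolynomial''.mp
      (inferInstance : Algebra.FiniteType k' A)
    let ψ' : MvPolynomial (Fin m) k →ₐ[k] A :=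
      { (ψ.toRingHom.comp (MvPolynomial.mapEquiv (Fin m) σ).toRingHom) with
        commutes' := fun a => by
          show ψ (MvPolynomial.map (σ : k →+* k') (MvPolynomial.C a)) = _
          rw [MvPolynomial.map_C]
          exact (ψ.commutes (σ a)).trans (hA a) }
    refine Algebra.FiniteType.of_surjective ψ' ?_
    exact hψ.comp (MvPolynomial.mapEquiv (Fin m) σ).surjective
  refine ⟨hft, fun q => ?_⟩
  obtain ⟨g, hg, n, c, F, hrel, ⟨e⟩⟩ := exists_relGCI_of_isSyntomic h q
  refine ⟨g, hg, ?_⟩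
  obtain ⟨F0, hF0⟩ : ∃ F0 : Fin c → MvPolynomial (Fin n) k,
    F0 = fun i => MvPolynomial.map (σ.symm : k' →+* k) (F i) := ⟨_, rfl⟩
  have hF : ∀ i, F i = MvPolynomial.map (σ : k →+* k') (F0 i) := fun i => by
    rw [hF0, MvPolynomial.map_map]
    have : (σ : k →+* k').comp (σ.symm : k' →+* k) = RingHom.id k' := by
      ext x; simp
    rw [this, MvPolynomial.map_id]
  obtain ⟨θ, hθ⟩ := exists_pres_equiv σ n c F0 F hF
  haveI : Nontrivial (Localization.Away g) := by
    have hdisj : Disjoint (Submonoid.powers g : Set A) (q.asIdeal : Set A) :=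
      (Ideal.disjoint_powers_iff_notMem_of_isPrime g).mpr hg
    have hQ : (Ideal.map (algebraMap A (Localization.Away g)) q.asIdeal).IsPrime :=
      IsLocalization.isPrime_of_isPrime_disjoint (Submonoid.powers g) _ q.asIdeal q.isPrime hdisj
    exact (PrimeSpectrum.nonempty_iff_nontrivial).mp ⟨⟨_, hQ⟩⟩
  let ψ : Synt.RelGCIRing k n c F0 ≃ₐ[k] Localization.Away g :=
    AlgEquiv.ofRingEquiv (f := θ.trans e.symm.toRingEquiv) (fun a => by
      show e.symm (θ (algebraMap k _ a)) = _
      rw [hθ a, e.symm.commutes, IsScalarTower.algebraMap_apply k' A (Localization.Away g), hA,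
        ← IsScalarTower.algebraMap_apply])
  obtain ⟨𝔭, h𝔭⟩ : ∃ 𝔭 : Ideal k', 𝔭 = q.asIdeal.comap (algebraMap k' A) := ⟨_, rfl⟩
  haveI : 𝔭.IsPrime := by rw [h𝔭]; infer_instance
  obtain ⟨e3⟩ := dim_fiber_pres σ n c F0 F hF 𝔭
  haveI : Nontrivial (𝔭.Fiber (Synt.RelGCIRing k' n c F)) :=
    (e3.trans ψ.toRingEquiv).toEquiv.nontrivial
  obtain ⟨hcn, hdim⟩ := hrel ⟨𝔭, inferInstance⟩ inferInstance
  refine isGlobalCI_of_algEquiv k _ n c hcn F0 ψ ?_
  rw [← hdim]
  exact (ringKrullDim_eq_of_ringEquiv (e3.trans ψ.toRingEquiv)).symm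

end Groth.Agent.H66.FieldBase
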