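import Mathlib.FieldTheory.KrullTopology
import Mathlib.FieldTheory.Galois.Basic
import Mathlib.FieldTheory.IsSepClosed
import Mathlib.Topology.LocallyConstant.Basic
import Mathlib.LinearAlgebra.LinearIndependent.Basic
import Mathlib.RingTheory.Trace.Basic

set_option autoImplicit false
universe u v

namespace Groth.Agent.H66

variable {K : Type u} {L : Type v} [Field K] [Field L] [Algebra K L]

open IntermediateField

theorem exists_finite_normal_const {X : Type*} [Normal K L] (a : (L ≃ₐ[K] L) → X)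
    (hlc : IsLocallyConstant a) :
    ∃ N : IntermediateField K L, FiniteDimensional K N ∧ Normal K N ∧
      ∀ h ∈ N.fixingSubgroup, a h = a 1 := by
  have hopen : IsOpen (a ⁻¹' {a 1}) := hlc.isOpen_fiber (a 1)
  have hmem : a ⁻¹' {a 1} ∈ nhds (1 : L ≃ₐ[K] L) := hopen.mem_nhds rfl
  obtain ⟨N, h1, h2, h3⟩ := (krullTopology_mem_nhds_one_iff_of_normal K L _).mp hmem
  exact ⟨N, h1, h2, fun h hh => h3 hh⟩

section Section

variable [Normal K L] (N : IntermediateField K L) [FiniteDimensional K N] [Normal K N]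

/-- a set-theoretic section of the restriction map `Gal(L/K) → Gal(N/K)` -/
noncomputable def gsec : (N ≃ₐ[K] N) → (L ≃ₐ[K] L) :=
  Function.surjInv (AlgEquiv.restrictNormalHom_surjective (F := K) (K₁ := N) L)

theorem restrict_gsec (g : N ≃ₐ[K] N) : AlgEquiv.restrictNormalHom N (gsec N g) = g :=
  Function.surjInv_eq _ g

theorem gsec_apply (g : N ≃ₐ[K] N) (x : N) : gsec N g (x : L) = ((g x : N) : L) := by
  rw [← AlgEquiv.restrictNormalHom_apply N (gsec N g) x, restrict_gsec]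

theorem sum_comp_mul_gsec {M : Type*} [AddCommMonoid M] (F : (L ≃ₐ[K] L) → M)
    (hF : ∀ σ, ∀ h ∈ N.fixingSubgroup, F (σ * h) = F σ) (τ : L ≃ₐ[K] L) :
    ∑ g : N ≃ₐ[K] N, F (τ * gsec N g) = ∑ g : N ≃ₐ[K] N, F (gsec N g) := by
  have key : ∀ g : N ≃ₐ[K] N,
      F (τ * gsec N g) = F (gsec N (AlgEquiv.restrictNormalHom N τ * g)) := by
    intro g
    set σ₂ := gsec N (AlgEquiv.restrictNormalHom N τ * g) with hσ₂
    have hh : σ₂⁻¹ * (τ * gsec N g) ∈ N.fixingSubgroup := by
      rw [← N.restrictNormalHom_ker, MonoidHom.mem_ker, map_mul, map_inv, map_mul, hσ₂,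
        restrict_gsec, restrict_gsec, inv_mul_cancel]
    have := hF σ₂ _ hh
    rw [mul_inv_cancel_left] at this
    exact this
  rw [Finset.sum_congr rfl (fun g _ => key g)]
  exact Equiv.sum_comp (Equiv.mulLeft (AlgEquiv.restrictNormalHom N τ)) (fun g => F (gsec N g))

/-- Dedekind: the twisted Poincare sum with unit coefficients does not vanish identically. -/
theorem exists_sum_gsec_ne_zero (c : (N ≃ₐ[K] N) → L) (hc : ∃ g, c g ≠ 0) :
    ∃ θ : N, ∑ g : N ≃ₐ[K] N, c g * gsec N g (θ : L) ≠ 0 := by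
  classical
  let χ : (N ≃ₐ[K] N) → (N →* L) := fun g =>
    { toFun := fun x => ((g x : N) : L)
      map_one' := by simp
      map_mul' := by intro x y; simp }
  have hχ : Function.Injective χ := by
    intro g g' h
    ext x
    have := DFunLike.congr_fun h x
    exact this
  have hli : LinearIndependent L (fun g : N ≃ₐ[K] N => ((χ g : N →* L) : N → L)) :=
    (linearIndependent_monoidHom N L).comp χ hχ
  by_contra hcon
  have hall : ∀ θ : N, ∑ g : N ≃ₐ[K] N, c g * gsec N g (θ : L) = 0 := by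
    intro θ
    by_contra h
    exact hcon ⟨θ, h⟩
  have hzero : ∑ g : N ≃ₐ[K] N, c g • ((χ g : N →* L) : N → L) = 0 := by
    funext θ
    rw [Finset.sum_apply]
    simp only [Pi.smul_apply, smul_eq_mul, Pi.zero_apply]
    rw [← hall θ]
    refine Finset.sum_congr rfl fun g _ => ?_
    rw [gsec_apply]
    rfl
  have := Fintype.linearIndependent_iff.mp hli c hzero
  obtain ⟨g, hg⟩ := hc
  exact hg (this g)

end Section

/-- Hilbert 90 for locally constant cocycles of an infinite Galois group. -/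
theorem hilbert90_locallyConstant [Normal K L] (a : (L ≃ₐ[K] L) → Lˣ)
    (ha : ∀ σ τ : L ≃ₐ[K] L, a (σ * τ) = a σ * σ • a τ) (hlc : IsLocallyConstant a) :
    ∃ c : Lˣ, ∀ σ : L ≃ₐ[K] L, a σ = c⁻¹ * σ • c := by
  have ha1 : a 1 = 1 := by
    have := ha 1 1
    rw [one_smul, mul_one] at this
    exact mul_eq_left.mp this.symm
  obtain ⟨N, hfin, hnor, hN⟩ := exists_finite_normal_const a hlc
  obtain ⟨θ, hθ⟩ := exists_sum_gsec_ne_zero N (fun g => (a (gsec N g) : L))
    ⟨1, Units.ne_zero _⟩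
  set F : (L ≃ₐ[K] L) → L := fun τ => (a τ : L) * τ (θ : L) with hFdef
  have hF : ∀ σ, ∀ h ∈ N.fixingSubgroup, F (σ * h) = F σ := by
    intro σ h hh
    have h1 : a h = 1 := (hN h hh).trans ha1
    have h2 : h (θ : L) = θ := (mem_fixingSubgroup_iff _ _).mp hh θ θ.2
    simp only [hFdef, ha σ h, h1, smul_one, mul_one, AlgEquiv.mul_apply, h2]
  have hmain : ∀ σ : L ≃ₐ[K] L, σ (∑ g : N ≃ₐ[K] N, (a (gsec N g) : L) * gsec N g (θ : L)) =
      ((a σ)⁻¹ : Lˣ) * ∑ g : N ≃ₐ[K] N, (a (gsec N g) : L) * gsec N g (θ : L) := by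
    intro σ
    rw [map_sum]
    have := sum_comp_mul_gsec N F hF σ
    rw [show (∑ g : N ≃ₐ[K] N, (a (gsec N g) : L) * gsec N g (θ : L)) =
      ∑ g : N ≃ₐ[K] N, F (gsec N g) from rfl, ← this, Finset.mul_sum]
    refine Finset.sum_congr rfl fun g _ => ?_
    simp only [hFdef, ha σ (gsec N g), map_mul, AlgEquiv.mul_apply, Units.val_mul,
      AlgEquiv.smul_units_def, Units.coe_map, MonoidHom.coe_coe]
    rw [← mul_assoc, ← mul_assoc, ← Units.val_mul, inv_mul_cancel, Units.val_one, one_mul]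
  refine ⟨(Units.mk0 _ hθ)⁻¹, fun σ => ?_⟩
  apply Units.ext
  have h3 := hmain σ
  simp only [AlgEquiv.smul_units_def, Units.val_mul, inv_inv, Units.val_mk0, map_inv,
    Units.coe_map, MonoidHom.coe_coe, Units.val_inv_eq_inv_val, h3]
  have hne : (∑ g : N ≃ₐ[K] N, (a (gsec N g) : L) * gsec N g (θ : L)) ≠ 0 := hθ
  have hane : (a σ : L) ≠ 0 := Units.ne_zero _
  field_simp


/-- Additive Hilbert 90 for locally constant cocycles of an infinite Galois group. -/
theorem additive_hilbert90_locallyConstant [IsGalois K L] (a : (L ≃ₐ[K] L) → L)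
    (ha : ∀ σ τ : L ≃ₐ[K] L, a (σ * τ) = a σ + σ (a τ)) (hlc : IsLocallyConstant a) :
    ∃ y : L, ∀ σ : L ≃ₐ[K] L, a σ = σ y - y := by
  have ha1 : a 1 = 0 := by
    have := ha 1 1
    rw [AlgEquiv.one_apply, mul_one] at this
    exact left_eq_add.mp this
  obtain ⟨N, hfin, hnor, hN⟩ := exists_finite_normal_const a hlc
  have : Algebra.IsSeparable K N := Algebra.isSeparable_tower_bot_of_isSeparable K N L
  have : IsGalois K N := ⟨⟩
  obtain ⟨θ, hθ⟩ := Algebra.trace_surjective K N 1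
  have htr : ∑ g : N ≃ₐ[K] N, gsec N g (θ : L) = 1 := by
    have h1 := trace_eq_sum_automorphisms (K := K) (L := N) θ
    rw [hθ, map_one] at h1
    have h2 : ((∑ g : N ≃ₐ[K] N, g θ : N) : L) = 1 := by rw [← h1]; rfl
    rw [← h2]
    push_cast
    exact Finset.sum_congr rfl fun g _ => gsec_apply N g θ
  set F : (L ≃ₐ[K] L) → L := fun τ => a τ * τ (θ : L) with hFdef
  set G : (L ≃ₐ[K] L) → L := fun τ => τ (θ : L) with hGdef
  have hG : ∀ σ, ∀ h ∈ N.fixingSubgroup, G (σ * h) = G σ := by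
    intro σ h hh
    have h2 : h (θ : L) = θ := (mem_fixingSubgroup_iff _ _).mp hh θ θ.2
    simp only [hGdef, AlgEquiv.mul_apply, h2]
  have hF : ∀ σ, ∀ h ∈ N.fixingSubgroup, F (σ * h) = F σ := by
    intro σ h hh
    have h1 : a h = 0 := (hN h hh).trans ha1
    have h2 : h (θ : L) = θ := (mem_fixingSubgroup_iff _ _).mp hh θ θ.2
    simp only [hFdef, ha σ h, h1, map_zero, add_zero, AlgEquiv.mul_apply, h2]
  refine ⟨-∑ g : N ≃ₐ[K] N, a (gsec N g) * gsec N g (θ : L), fun σ => ?_⟩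
  have hmain : σ (∑ g : N ≃ₐ[K] N, a (gsec N g) * gsec N g (θ : L)) =
      (∑ g : N ≃ₐ[K] N, a (gsec N g) * gsec N g (θ : L)) - a σ := by
    rw [map_sum]
    have e1 := sum_comp_mul_gsec N F hF σ
    have e2 := sum_comp_mul_gsec N G hG σ
    have e3 : ∑ g : N ≃ₐ[K] N, σ (a (gsec N g) * gsec N g (θ : L)) =
        ∑ g : N ≃ₐ[K] N, F (σ * gsec N g) - a σ * ∑ g : N ≃ₐ[K] N, G (σ * gsec N g) := by
      rw [Finset.mul_sum, ← Finset.sum_sub_distrib]
      refine Finset.sum_congr rfl fun g _ => ?_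
      simp only [hFdef, hGdef, ha σ (gsec N g), map_mul, AlgEquiv.mul_apply]
      ring
    rw [e3, e1, e2]
    simp only [hGdef, htr, mul_one]
    rfl
  rw [map_neg, hmain]
  ring

end Groth.Agent.H66
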