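import Groth.Agent.H66.RelGCI5
import Groth.Agent.H79.CIOpen
import Groth.Agent.H71.CMOpen
import Groth.Agent.S9146

/-!
# Global complete intersections over a field (helper66)

Dimension theory of presentations `k[x_1..x_m]/(r_1..r_c)` of dimension `m - c`, regular sequences
in the local rings of the polynomial ring, Cohen–Macaulayness.
-/

set_option autoImplicit false
set_option linter.style.haveILetI false
set_option linter.unusedSectionVars false
set_option linter.unusedVariables false

universe u

namespace Groth.Agent.H66.GlobalCI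

open TensorProduct Groth.Agent.H9.FibDim Groth.Agent.H66.FibreReg Groth.Agent.H66.RelGCI

section Pres

variable {k : Type u} [Field k] {m c : ℕ} {T : Type u} [CommRing T] [Algebra k T]
  [Algebra.FiniteType k T]
  (φ : MvPolynomial (Fin m) k →+* T) (hφ : Function.Surjective φ)
  (r : Fin c → MvPolynomial (Fin m) k) (hker : RingHom.ker φ = Ideal.span (Set.range r))

include hφ hker in
/-- every point of `Spec k[x]/(r_1..r_c)` has local dimension at least `m - c`. -/
theorem le_localDim (Q : PrimeSpectrum T) :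
    ((m - c : ℕ) : WithBot ℕ∞) ≤ FlatMor.localDim (PrimeSpectrum T) Q := by
  rw [Groth.Agent.H9.LocalDimField.localDim_eq_iSup k T Q]
  obtain ⟨P0, hP0, hP0le⟩ := Ideal.exists_minimalPrimes_le (I := ⊥) (J := Q.asIdeal) bot_le
  have h1 := le_dim_quot_minimal k (MvPolynomial (Fin m) k) T m c
    (Groth.Agent.H54.ringKrullDim_mvPolynomial_field k m) φ hφ r hker P0 hP0
  refine (sub_le_of_le_add h1).trans ?_
  exact le_iSup (fun q0 : {q0 : PrimeSpectrum T // q0.asIdeal ∈ minimalPrimes T ∧ q0 ≤ Q} =>
    ringKrullDim (T ⧸ q0.1.asIdeal)) ⟨⟨P0, hP0.1.1⟩, hP0, hP0le⟩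

include hφ hker in
theorem localDim_pres (hdim : ringKrullDim T = ((m - c : ℕ) : WithBot ℕ∞))
    (Q : PrimeSpectrum T) :
    FlatMor.localDim (PrimeSpectrum T) Q = ((m - c : ℕ) : WithBot ℕ∞) := by
  apply le_antisymm _ (le_localDim φ hφ r hker Q)
  have h1 := localDim_le_dim (PrimeSpectrum T) Q
  rw [PrimeSpectrum.topologicalKrullDim_eq_ringKrullDim, hdim] at h1
  exact h1

include hφ in
/-- height formula at a point of local dimension `m - c`. -/
theorem height_comap_eq (hcm : c ≤ m) (Q : Ideal T) [Q.IsPrime]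
    (hQ : FlatMor.localDim (PrimeSpectrum T) ⟨Q, inferInstance⟩ =
      ((m - c : ℕ) : WithBot ℕ∞)) :
    (Q.comap φ).height = Q.height + c := by
  haveI : IsNoetherianRing T := Algebra.FiniteType.isNoetherianRing k T
  obtain ⟨d, hd, hl⟩ := localDim_eq_add k T Q
  rw [hQ, IsLocalization.AtPrime.ringKrullDim_eq_height Q] at hl
  have h2 := Groth.Agent.H54.height_add_ringKrullDim_quotient k (MvPolynomial (Fin m) k)
    ⟨Q.comap φ, inferInstance⟩
  rw [Groth.Agent.H54.ringKrullDim_mvPolynomial_field] at h2
  have hquot : ringKrullDim (MvPolynomial (Fin m) k ⧸ Q.comap φ) = ringKrullDim (T ⧸ Q) := by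
    let g := Ideal.quotientMap Q φ (le_refl (Q.comap φ))
    have hinj : Function.Injective g := Ideal.quotientMap_injective' (le_refl _)
    have hs : Function.Surjective g := Ideal.quotientMap_surjective hφ
    exact ringKrullDim_eq_of_ringEquiv (RingEquiv.ofBijective g ⟨hinj, hs⟩)
  simp only at h2
  rw [hquot, hd] at h2
  have hf1 : (Q.comap φ).height ≠ ⊤ := Ideal.height_ne_top_of_isPrime
  have hf2 : Q.height ≠ ⊤ := Ideal.height_ne_top_of_isPrime
  obtain ⟨a, ha⟩ := ENat.ne_top_iff_exists.mp hf1
  obtain ⟨b, hb⟩ := ENat.ne_top_iff_exists.mp hf2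
  have ha' : (((Q.comap φ).height : ℕ∞) : WithBot ℕ∞) = ((a : ℕ) : WithBot ℕ∞) := by
    rw [← ha]; rfl
  have hb' : ((Q.height : ℕ∞) : WithBot ℕ∞) = ((b : ℕ) : WithBot ℕ∞) := by
    rw [← hb]; rfl
  rw [ha'] at h2
  rw [hb'] at hl
  have h2' : a + d = m := by exact_mod_cast h2
  have hl' : m - c = b + d := by exact_mod_cast hl
  have : a = b + c := by omega
  rw [← ha, ← hb]
  exact_mod_cast this

end Pres

/-- In a regular ring, an ideal locally generated by at most `c` elements where `c` is the drop in
height is locally generated by a regular sequence. -/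
theorem exists_regular_of_height {A : Type u} [CommRing A] [IsRegularRing A] (I Q : Ideal A)
    [Q.IsPrime] (hIQ : I ≤ Q) (c : ℕ)
    (hμ : (I.map (algebraMap A (Localization.AtPrime Q))).spanFinrank ≤ c)
    (hht : Q.height = (Q.map (Ideal.Quotient.mk I)).height + c) :
    ∃ rs : List (Localization.AtPrime Q),
      RingTheory.Sequence.IsRegular (Localization.AtPrime Q) rs ∧
      Ideal.ofList rs = I.map (algebraMap A (Localization.AtPrime Q)) := by
  have hne : I.map (algebraMap A (Localization.AtPrime Q)) ≠ ⊤ := by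
    intro h
    have h1 := Ideal.map_mono (f := algebraMap A (Localization.AtPrime Q)) hIQ
    rw [h, Localization.AtPrime.map_eq_maximalIdeal] at h1
    exact (IsLocalRing.maximalIdeal.isMaximal _).ne_top (top_le_iff.mp h1)
  rw [Groth.Agent.H79.CIPres.regular_iff_dim _ hne, dim_loc_quot A Q I hIQ,
    IsLocalization.AtPrime.ringKrullDim_eq_height Q, hht, WithBot.coe_add, add_comm]
  refine add_le_add_right ?_ _
  have : ((I.map (algebraMap A (Localization.AtPrime Q))).spanFinrank : ℕ∞) ≤ (c : ℕ∞) := by
    exact_mod_cast hμ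
  exact WithBot.coe_le_coe.mpr this

section Pres2

variable {k : Type u} [Field k] {m c : ℕ} {T : Type u} [CommRing T] [Algebra k T]
  [Algebra.FiniteType k T]
  (φ : MvPolynomial (Fin m) k →+* T) (hφ : Function.Surjective φ)
  (r : Fin c → MvPolynomial (Fin m) k) (hker : RingHom.ker φ = Ideal.span (Set.range r))

include hφ hker in
/-- At a point of local dimension `m - c` of `k[x]/(r_1..r_c)`, the ideal `(r)` is generated by a
regular sequence in the local ring of the polynomial ring. -/
theorem exists_regular_pres (hcm : c ≤ m) (Q : Ideal T) [Q.IsPrime]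
    (hQ : FlatMor.localDim (PrimeSpectrum T) ⟨Q, inferInstance⟩ =
      ((m - c : ℕ) : WithBot ℕ∞)) :
    ∃ rs : List (Localization.AtPrime (Q.comap φ)),
      RingTheory.Sequence.IsRegular (Localization.AtPrime (Q.comap φ)) rs ∧
      Ideal.ofList rs =
        (RingHom.ker φ).map (algebraMap _ (Localization.AtPrime (Q.comap φ))) := by
  have hIQ : RingHom.ker φ ≤ Q.comap φ := fun x hx => by
    rw [Ideal.mem_comap, RingHom.mem_ker.mp hx]; exact zero_mem _
  refine exists_regular_of_height (RingHom.ker φ) (Q.comap φ) hIQ c ?_ ?_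
  · rw [hker, Ideal.map_span, ← Set.range_comp]
    refine (Submodule.spanFinrank_span_le_ncard_of_finite (Set.finite_range _)).trans ?_
    rw [← Set.image_univ]
    refine (Set.ncard_image_le Set.finite_univ).trans ?_
    rw [Set.ncard_univ, Nat.card_fin]
  · rw [height_comap_eq φ hφ hcm Q hQ]
    congr 1
    let e := RingHom.quotientKerEquivOfSurjective hφ
    have h1 : (Q.comap φ).map (Ideal.Quotient.mk (RingHom.ker φ)) = Q.comap (e : _ →+* T) := by
      ext x
      obtain ⟨a, rfl⟩ := Ideal.Quotient.mk_surjective x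
      rw [Ideal.mem_quotient_iff_mem hIQ, Ideal.mem_comap, Ideal.mem_comap]
      rfl
    rw [h1]
    exact (RingEquiv.height_comap e Q).symm

end Pres2

/-- The quotient of a regular local ring by a regular sequence is Cohen–Macaulay. -/
theorem isCM_quot_regular (B : Type u) [CommRing B] [IsRegularLocalRing B] (rs : List B)
    (hrs : RingTheory.Sequence.IsRegular B rs) :
    LocCoh.IsCohenMacaulayLocalRing (B ⧸ Ideal.ofList rs) := by
  have hne : Ideal.ofList rs ≠ ⊤ := by
    have := hrs.2
    simp only [smul_eq_mul, Ideal.mul_top] at this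
    exact fun h => this h.symm
  haveI : Nontrivial (B ⧸ Ideal.ofList rs) := Ideal.Quotient.nontrivial_iff.mpr hne
  haveI : IsLocalRing (B ⧸ Ideal.ofList rs) := inferInstance
  have hmem : ∀ x ∈ rs, x ∈ IsLocalRing.maximalIdeal B := fun x hx =>
    IsLocalRing.le_maximalIdeal hne (Ideal.subset_span hx)
  have hCM0 := Groth.Agent.H21.HilbertCI.isCM_of_isRegularLocalRing B
  have hCM := (Groth.Agent.S5758.result B B hCM0 rs hmem).2 hrs.1
  have h : Ideal.ofList rs • (⊤ : Submodule B B) = Ideal.ofList rs := by
    rw [smul_eq_mul, Ideal.mul_top]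
  have hCM' := Groth.Agent.H29.CM.isCM_of_equiv (Submodule.quotEquivOfEq _ _ h) hCM
  exact (Groth.Agent.H71.CMOpen.isCMLocalRing_iff_isCMModule
    (R := B) (T := B ⧸ Ideal.ofList rs) Ideal.Quotient.mk_surjective).mpr hCM'

end Groth.Agent.H66.GlobalCI
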