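import Groth.Agent.H66.GlobalCI3

/-!
# Complete intersections over a field: essentially finite type local algebras (helper66)
-/

set_option autoImplicit false
set_option linter.style.haveILetI false
set_option linter.unusedSectionVars false
set_option linter.unusedVariables false

universe u

namespace Groth.Agent.H66.GlobalCI

open RingTheory.Sequence

/-- A local algebra essentially of finite type is the local ring of a finite type algebra at a
prime. -/
theorem exists_atPrime_equiv_of_essFiniteType (k S : Type u) [CommRing k] [CommRing S]
    [IsLocalRing S] [Algebra k S] [Algebra.EssFiniteType k S] :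
    ∃ (A : Type u) (_ : CommRing A) (_ : Algebra k A) (a : Ideal A) (_ : a.IsPrime),
      Algebra.FiniteType k A ∧ Nonempty (S ≃ₐ[k] Localization.AtPrime a) := by
  let A := Algebra.EssFiniteType.subalgebra k S
  let a : Ideal A := (IsLocalRing.maximalIdeal S).comap (algebraMap A S)
  haveI ha : a.IsPrime := Ideal.comap_isPrime _ _
  have hsub : Algebra.EssFiniteType.submonoid k S = a.primeCompl := by
    ext x
    show IsUnit (algebraMap A S x) ↔ ¬ (algebraMap A S x ∈ IsLocalRing.maximalIdeal S)
    rw [IsLocalRing.mem_maximalIdeal, mem_nonunits_iff, not_not]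
  haveI : IsLocalization a.primeCompl S := by
    rw [← hsub]; infer_instance
  exact ⟨A, inferInstance, inferInstance, a, ha, inferInstance,
    ⟨(IsLocalization.algEquiv a.primeCompl S (Localization.AtPrime a)).restrictScalars k⟩⟩

/-- A local algebra essentially of finite type over a field is a quotient of a regular local
algebra essentially of finite type. -/
theorem exists_regular_surjective (k S : Type u) [Field k] [CommRing S]
    [IsLocalRing S] [Algebra k S] [Algebra.EssFiniteType k S] :
    ∃ (R : Type u) (_ : CommRing R) (_ : IsRegularLocalRing R) (_ : Algebra k R),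
      Algebra.EssFiniteType k R ∧ ∃ π : R →ₐ[k] S, Function.Surjective π := by
  obtain ⟨A, i1, i2, a, i3, hft, ⟨e⟩⟩ := exists_atPrime_equiv_of_essFiniteType k S
  obtain ⟨n, φ, hφ⟩ := Algebra.FiniteType.iff_quotient_mvPolynomial''.mp hft
  obtain ⟨e2⟩ := nonempty_atPrime_equiv_quot φ hφ a
  refine ⟨Localization.AtPrime (a.comap φ.toRingHom), inferInstance, inferInstance, inferInstance,
    inferInstance, ((e.trans e2).symm.toAlgHom).comp (Ideal.Quotient.mkₐ k _), ?_⟩
  exact (e.trans e2).symm.surjective.comp (Ideal.Quotient.mkₐ_surjective k _)

/-- A quotient of a regular local algebra essentially of finite type by a regular sequence is a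
complete intersection over `k`. -/
theorem isCIOver_of_surjective {k S R : Type u} [Field k] [CommRing S] [IsLocalRing S]
    [Algebra k S] [CommRing R] [IsRegularLocalRing R] [Algebra k R]
    (hess : Algebra.EssFiniteType k R) (π : R →ₐ[k] S) (hπ : Function.Surjective π)
    (rs : List R) (hreg : IsRegular R rs) (hker : RingHom.ker π.toRingHom = Ideal.ofList rs) :
    Synt.IsCIOver k S := by
  have hne := ofList_ne_top rs hreg
  refine ⟨R, inferInstance, inferInstance, inferInstance, hess, rs, ?_, hreg, ?_⟩
  · exact fun x hx => IsLocalRing.le_maximalIdeal hne (Ideal.subset_span hx)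
  · exact ⟨(Ideal.quotientKerAlgEquivOfSurjective hπ).symm.trans
      (Ideal.quotientEquivAlgOfEq k hker)⟩

end Groth.Agent.H66.GlobalCI
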