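import Mathlib
import Groth.Prelude.Def_EGA4b
import Groth.Prelude.Def_FlatCA
import Groth.Prelude.Def_CAlg
import Groth.Agent.H58.SnFormal
import Groth.Agent.H34.FibDepth

/-!
# (P2) for helper29's S18712 squad: depth of the fibre local ring at a generization

`two_le_idealDepth_fibLocRing_of_le` in the exact form requested on `overflow` (note 5551).
-/

set_option autoImplicit false
set_option linter.style.haveILetI false

universe u

open IsLocalRing TensorProduct
open Groth.Agent.H15.FibreSk

namespace Groth.Agent.H66.KollarP2

attribute [local instance] Groth.Agent.H15.FlatLoc.isLocalRing_fibLocRing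

/-- The converse of `H58.SnFormal.skFib_of_isLocalization`: the `(S_n)` inequality for the fibre
local ring descends from a localization of the target. -/
theorem skFib_comap_of_isLocalization (A B B' : Type u) [CommRing A] [CommRing B] [CommRing B']
    [Algebra A B] [Algebra B B'] [Algebra A B'] [IsScalarTower A B B']
    (M : Submonoid B) [IsLocalization M B'] (n : ℕ) (r' : Ideal B') [r'.IsPrime]
    (h1 : SkFib A B' n r') : SkFib A B n (r'.comap (algebraMap B B')) := by
  haveI : (r'.comap (algebraMap B B')).IsPrime := Ideal.comap_isPrime _ r'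
  have hcc : (r'.comap (algebraMap B B')).comap (algebraMap A B) =
      r'.comap (algebraMap A B') := by
    rw [Ideal.comap_comap, ← IsScalarTower.algebraMap_eq]
  haveI : IsScalarTower A B (Localization.AtPrime r') :=
    IsScalarTower.of_algebraMap_eq (fun x => by
      rw [IsScalarTower.algebraMap_apply A B' (Localization.AtPrime r'),
        IsScalarTower.algebraMap_apply A B B',
        ← IsScalarTower.algebraMap_apply B B' (Localization.AtPrime r')])
  haveI : IsLocalization.AtPrime (Localization.AtPrime r') (r'.comap (algebraMap B B')) :=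
    IsLocalization.isLocalization_isLocalization_atPrime_isLocalization M
      (Localization.AtPrime r') r'
  let e : Localization.AtPrime (r'.comap (algebraMap B B')) ≃ₐ[B] Localization.AtPrime r' :=
    IsLocalization.algEquiv (r'.comap (algebraMap B B')).primeCompl _ _
  have hJ : (r'.comap (algebraMap A B')).map (algebraMap A (Localization.AtPrime r')) =
      (((r'.comap (algebraMap B B')).comap (algebraMap A B)).map
        (algebraMap A (Localization.AtPrime (r'.comap (algebraMap B B'))))).map
        (e.toRingEquiv : Localization.AtPrime (r'.comap (algebraMap B B')) →+*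
          Localization.AtPrime r') := by
    rw [Ideal.map_map, hcc]
    congr 1
    ext x
    simp only [RingHom.coe_comp, Function.comp_apply]
    rw [IsScalarTower.algebraMap_apply A B (Localization.AtPrime r'),
      IsScalarTower.algebraMap_apply A B (Localization.AtPrime (r'.comap (algebraMap B B')))]
    exact (e.commutes _).symm
  unfold SkFib at h1
  exact skFib_of_equiv (Ideal.quotientEquiv _ _ e.toRingEquiv hJ).symm h1

/-- (P2) depth of the fibre local ring at a generization in the same fibre. -/
theorem two_le_idealDepth_fibLocRing_of_le (R C : Type u) [CommRing R] [CommRing C]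
    [IsNoetherianRing C] [Algebra R C] (n : Ideal C) [n.IsPrime]
    (hS2 : LocCoh.HasSk 2 (EGA4.FibLocRing R C n) (EGA4.FibLocRing R C n))
    (q : Ideal C) [q.IsPrime] (hqn : q ≤ n)
    (hq : q.comap (algebraMap R C) = n.comap (algebraMap R C))
    (hdim : (2 : WithBot ℕ∞) ≤ ringKrullDim (EGA4.FibLocRing R C q)) :
    2 ≤ LocCoh.idealDepth (q.map (algebraMap C (EGA4.FibLocRing R C q)))
      (EGA4.FibLocRing R C q) := by
  haveI hNoeth : IsNoetherianRing (Localization.AtPrime n) :=
    IsLocalization.isNoetherianRing n.primeCompl _ inferInstance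
  haveI hp : (n.comap (algebraMap R C)).IsPrime := Ideal.comap_isPrime _ n
  have hdisj : Disjoint (n.primeCompl : Set C) (q : Set C) := by
    rw [Set.disjoint_left]
    intro x hx hxq
    exact hx (hqn hxq)
  haveI hq1 : (q.map (algebraMap C (Localization.AtPrime n))).IsPrime :=
    IsLocalization.isPrime_of_isPrime_disjoint n.primeCompl _ q inferInstance hdisj
  have hcm : (q.map (algebraMap C (Localization.AtPrime n))).comap
      (algebraMap C (Localization.AtPrime n)) = q :=
    IsLocalization.under_map_of_isPrime_disjoint n.primeCompl _ inferInstance hdisj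
  have hr : (q.map (algebraMap C (Localization.AtPrime n))).comap
      (algebraMap R (Localization.AtPrime n)) = n.comap (algebraMap R C) := by
    rw [IsScalarTower.algebraMap_eq R C (Localization.AtPrime n), ← Ideal.comap_comap, hcm, hq]
  have h6 : SkFib R (Localization.AtPrime n) 2 (q.map (algebraMap C (Localization.AtPrime n))) :=
    Groth.Agent.H58.SnFormal.skFib_of_hasSk_quot R (Localization.AtPrime n) 2
      (n.comap (algebraMap R C)) _ hr hS2
  have h7 : SkFib R C 2 ((q.map (algebraMap C (Localization.AtPrime n))).comap
      (algebraMap C (Localization.AtPrime n))) :=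
    skFib_comap_of_isLocalization R C (Localization.AtPrime n) n.primeCompl 2 _ h6
  have h8 : SkFib R C 2 q := h7.congr R C hcm
  unfold SkFib at h8
  rw [Groth.Agent.H34.FibDepth.map_eq_maximalIdeal_fib q]
  have hht : (2 : ℕ∞) ≤ (maximalIdeal (EGA4.FibLocRing R C q)).height := by
    rw [← IsLocalRing.maximalIdeal_height_eq_ringKrullDim] at hdim
    have h2 : ((2 : ℕ∞) : WithBot ℕ∞) ≤
        ((maximalIdeal (EGA4.FibLocRing R C q)).height : WithBot ℕ∞) := hdim
    exact WithBot.coe_le_coe.mp h2
  have h9 : min (2 : ℕ∞) (maximalIdeal (EGA4.FibLocRing R C q)).height = 2 := min_eq_left hht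
  have h10 : min ((2 : ℕ) : ℕ∞) (maximalIdeal (EGA4.FibLocRing R C q)).height = 2 := by
    rw [Nat.cast_ofNat]
    exact h9
  rw [h10] at h8
  exact h8

end Groth.Agent.H66.KollarP2
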