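import Mathlib
import Groth.Prelude.Def_EGA4b
import Groth.Prelude.Def_FlatCA
import Groth.Prelude.Def_CAlg

/-!
# (P3) for helper29's S18712 squad: flatness of the localized base change

`flat_tensor_localizedModule_of_flatAt` in the exact form requested on `overflow` (note 5552).
-/

set_option autoImplicit false
universe u
open TensorProduct

namespace Groth.Agent.H66.KollarP3

/-- `C → C'` is surjective when `R → A'` is and `C' = C ⊗[R] A'`. -/
theorem algebraMap_surjective_of_isPushout {R C A' C' : Type u} [CommRing R] [CommRing C]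
    [CommRing A'] [CommRing C'] [Algebra R C] [Algebra R A'] [Algebra C C'] [Algebra A' C']
    [Algebra R C'] [IsScalarTower R C C'] [IsScalarTower R A' C']
    [h : Algebra.IsPushout R C A' C'] (hsurj : Function.Surjective (algebraMap R A')) :
    Function.Surjective (algebraMap C C') := by
  intro x
  refine IsBaseChange.inductionOn h.out x (fun y => ∃ c, algebraMap C C' c = y)
    ⟨0, map_zero _⟩ ?_ ?_ ?_
  · intro a
    obtain ⟨r, rfl⟩ := hsurj a
    refine ⟨algebraMap R C r, ?_⟩
    simp [← IsScalarTower.algebraMap_apply]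
  · rintro c y ⟨d, rfl⟩
    exact ⟨c * d, by rw [map_mul, Algebra.smul_def]⟩
  · rintro y z ⟨c, rfl⟩ ⟨d, rfl⟩
    exact ⟨c + d, map_add _ _ _⟩

/-- The two actions through `C'` agree on elements coming from `R`. -/
theorem smul_eq_of_tower {R C A' C' : Type u} [CommRing R] [CommRing C]
    [CommRing A'] [CommRing C'] [Algebra R C] [Algebra R A'] [Algebra C C'] [Algebra A' C']
    [Algebra R C'] [IsScalarTower R C C'] [IsScalarTower R A' C']
    {X : Type*} [AddCommGroup X] [Module A' X] [Module C' X] [Module C X]
    [IsScalarTower A' C' X] [IsScalarTower C C' X] (r : R) (x : X) :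
    (algebraMap R A' r) • x = (algebraMap R C r) • x := by
  rw [← algebraMap_smul C' (algebraMap R A' r) x, ← algebraMap_smul C' (algebraMap R C r) x,
    ← IsScalarTower.algebraMap_apply, ← IsScalarTower.algebraMap_apply]

/-- `C' ⊗ G → C' ⊗ G_S` is a localization at `S`. -/
theorem isLocalizedModule_lTensor {C : Type u} [CommRing C] (S : Submonoid C)
    (C' : Type u) [CommRing C'] [Algebra C C']
    (G : Type u) [AddCommGroup G] [Module C G] :
    IsLocalizedModule S ((LocalizedModule.mkLinearMap S G).lTensor C') := by
  have key : (LocalizedModule.mkLinearMap S G).lTensor C' =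
      ((TensorProduct.comm C (LocalizedModule S G) C').toLinearMap ∘ₗ
        (AlgebraTensorModule.rTensor C C' (LocalizedModule.mkLinearMap S G))) ∘ₗ
        (TensorProduct.comm C C' G).toLinearMap := by
    apply TensorProduct.ext'
    intro x y
    simp
  rw [key]
  infer_instance

/-- (P3) flatness of the localized base change, in the form needed by the local criterion. -/
theorem flat_tensor_localizedModule_of_flatAt {R C A' C' : Type u} [CommRing R] [CommRing C]
    [CommRing A'] [CommRing C'] [Algebra R C] [Algebra R A'] [Algebra C C'] [Algebra A' C']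
    [Algebra R C'] [IsScalarTower R C C'] [IsScalarTower R A' C']
    [Algebra.IsPushout R C A' C'] (hsurj : Function.Surjective (algebraMap R A'))
    (n : Ideal C) [n.IsPrime] (q' : Ideal C') [q'.IsPrime]
    (hq' : q'.comap (algebraMap C C') = n)
    (G : Type u) [AddCommGroup G] [Module C G] [Module R G] [IsScalarTower R C G]
    (h : FlatCA.FlatAt A' q' (C' ⊗[C] G)) :
    Module.Flat A' (A' ⊗[R] LocalizedModule n.primeCompl G) := by
  classical
  have hφ : Function.Surjective (algebraMap C C') := algebraMap_surjective_of_isPushout hsurj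
  have hS : Algebra.algebraMapSubmonoid C' n.primeCompl = q'.primeCompl := by
    ext x
    constructor
    · rintro ⟨c, hc, rfl⟩
      intro hx
      apply hc
      rw [← hq']
      exact hx
    · intro hx
      obtain ⟨c, rfl⟩ := hφ x
      refine ⟨c, ?_, rfl⟩
      intro hc
      apply hx
      rw [← hq'] at hc
      exact hc
  have : Algebra.IsPushout R A' C C' := Algebra.IsPushout.symm inferInstance
  unfold FlatCA.FlatAt at h
  let f1 : (C' ⊗[C] G) →ₗ[C] LocalizedModule q'.primeCompl (C' ⊗[C] G) :=
    (LocalizedModule.mkLinearMap q'.primeCompl (C' ⊗[C] G)).restrictScalars C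
  have hf1 : IsLocalizedModule n.primeCompl f1 := by
    have : IsLocalizedModule (Algebra.algebraMapSubmonoid C' n.primeCompl)
        (LocalizedModule.mkLinearMap q'.primeCompl (C' ⊗[C] G)) := by
      rw [hS]; infer_instance
    exact IsLocalizedModule.restrictScalars n.primeCompl _
  let f2 : (C' ⊗[C] G) →ₗ[C] C' ⊗[C] LocalizedModule n.primeCompl G :=
    (LocalizedModule.mkLinearMap n.primeCompl G).lTensor C'
  have hf2 : IsLocalizedModule n.primeCompl f2 := isLocalizedModule_lTensor n.primeCompl C' G
  let e1 : LocalizedModule q'.primeCompl (C' ⊗[C] G) ≃ₗ[C]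
      C' ⊗[C] LocalizedModule n.primeCompl G :=
    IsLocalizedModule.linearEquiv n.primeCompl f1 f2
  let e1' : LocalizedModule q'.primeCompl (C' ⊗[C] G) ≃ₗ[A']
      C' ⊗[C] LocalizedModule n.primeCompl G :=
    e1.toAddEquiv.toLinearEquiv (fun a x => by
      obtain ⟨r, rfl⟩ := hsurj a
      rw [smul_eq_of_tower (C := C) (C' := C') r x,
        smul_eq_of_tower (C := C) (C' := C') r (e1.toAddEquiv x)]
      exact e1.map_smul _ _)
  let e2 : C' ⊗[C] LocalizedModule n.primeCompl G ≃ₗ[A']
      A' ⊗[R] LocalizedModule n.primeCompl G :=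
    Algebra.IsPushout.cancelBaseChange R A' C C' (LocalizedModule n.primeCompl G)
  exact Module.Flat.of_linearEquiv (e1' ≪≫ₗ e2).symm

end Groth.Agent.H66.KollarP3
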