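import Mathlib

/-!
# Koszul acyclicity inside the exterior algebra (helper66)

For a free module `M` with basis `b : Fin n` and a linear form `φ` such that the `φ (b k)` form a
weakly regular sequence, the contraction `CliffordAlgebra.contractLeft φ` on the exterior algebra is
exact in positive degrees (`core`).  Provider lemma for helper8's (K1).

Proof: with `c_i` the contraction by the dual basis and `λ_i` the left multiplication by `b i`,
one has `c_i λ_j + λ_j c_i = δ_ij`, `δ λ_i + λ_i δ = φ (b i)` and `c_i`, `δ` anticommute.  Induction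
on `k` over `E_k = {x | c_i x = 0 for i ≥ k}` (the exterior algebra on the first `k` basis vectors),
writing `x = c_k λ_k x + λ_k c_k x`.
-/

set_option autoImplicit false
set_option linter.unusedVariables false
set_option linter.unusedSectionVars false

universe u

open exteriorPower

namespace Groth.Agent.H66.KoszulCore

section General

variable {A : Type u} [CommRing A] {M : Type u} [AddCommGroup M] [Module A M]

/-- Contraction by a linear form on the exterior algebra. -/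
noncomputable abbrev ct (d : Module.Dual A M) : ExteriorAlgebra A M →ₗ[A] ExteriorAlgebra A M :=
  CliffordAlgebra.contractLeft (R := A) (M := M) (Q := (0 : QuadraticForm A M)) d

theorem ct_ι_mul (d : Module.Dual A M) (m : M) (x : ExteriorAlgebra A M) :
    ct d (ExteriorAlgebra.ι A m * x) = d m • x - ExteriorAlgebra.ι A m * ct d x :=
  CliffordAlgebra.contractLeft_ι_mul d m x

theorem ct_algebraMap (d : Module.Dual A M) (r : A) :
    ct d (algebraMap A (ExteriorAlgebra A M) r) = 0 :=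
  CliffordAlgebra.contractLeft_algebraMap _ d r

theorem ct_ι (d : Module.Dual A M) (m : M) :
    ct d (ExteriorAlgebra.ι A m) = algebraMap A (ExteriorAlgebra A M) (d m) :=
  CliffordAlgebra.contractLeft_ι _ d m

theorem ct_ct (d : Module.Dual A M) (x : ExteriorAlgebra A M) : ct d (ct d x) = 0 :=
  CliffordAlgebra.contractLeft_contractLeft d x

theorem ct_comm (d d' : Module.Dual A M) (x : ExteriorAlgebra A M) :
    ct d (ct d' x) = -(ct d' (ct d x)) :=
  CliffordAlgebra.contractLeft_comm d d' x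

theorem lam_lam_self (m : M) (x : ExteriorAlgebra A M) :
    ExteriorAlgebra.ι A m * (ExteriorAlgebra.ι A m * x) = 0 := by
  rw [← mul_assoc, ExteriorAlgebra.ι_sq_zero, zero_mul]

theorem lam_lam_swap (m m' : M) (x : ExteriorAlgebra A M) :
    ExteriorAlgebra.ι A m * (ExteriorAlgebra.ι A m' * x) =
      -(ExteriorAlgebra.ι A m' * (ExteriorAlgebra.ι A m * x)) := by
  rw [← mul_assoc, ← mul_assoc, ← neg_mul]
  congr 1
  exact eq_neg_of_add_eq_zero_left (ExteriorAlgebra.ι_add_mul_swap m m')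

theorem ι_mem_one (m : M) : ExteriorAlgebra.ι A m ∈ ⋀[A]^1 M := by
  show _ ∈ LinearMap.range (ExteriorAlgebra.ι A : M →ₗ[A] ExteriorAlgebra A M) ^ 1
  rw [pow_one]
  exact LinearMap.mem_range_self _ m

theorem ι_mul_mem {q : ℕ} (m : M) {x : ExteriorAlgebra A M} (hx : x ∈ ⋀[A]^q M) :
    ExteriorAlgebra.ι A m * x ∈ ⋀[A]^(q + 1) M := by
  show _ ∈ LinearMap.range (ExteriorAlgebra.ι A : M →ₗ[A] ExteriorAlgebra A M) ^ (q + 1)
  rw [pow_succ']
  exact Submodule.mul_mem_mul (LinearMap.mem_range_self _ m) hx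

theorem mem_zero_iff {x : ExteriorAlgebra A M} :
    x ∈ ⋀[A]^0 M ↔ ∃ t : A, algebraMap A (ExteriorAlgebra A M) t = x := by
  show x ∈ LinearMap.range (ExteriorAlgebra.ι A : M →ₗ[A] ExteriorAlgebra A M) ^ 0 ↔ _
  rw [pow_zero, Submodule.mem_one]

theorem ct_mem_aux (d : Module.Dual A M) {q : ℕ} {x : ExteriorAlgebra A M}
    (hx : x ∈ ⋀[A]^q M) : ct d x ∈ ⋀[A]^(q - 1) M ∧ (q = 0 → ct d x = 0) := by
  refine Submodule.pow_induction_on_left'
    (LinearMap.range (ExteriorAlgebra.ι A : M →ₗ[A] ExteriorAlgebra A M))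
    (C := fun q x _ => ct d x ∈ ⋀[A]^(q - 1) M ∧ (q = 0 → ct d x = 0)) ?_ ?_ ?_ hx
  · intro r
    rw [ct_algebraMap]
    exact ⟨Submodule.zero_mem _, fun _ => rfl⟩
  · intro x y i hx hy hx' hy'
    rw [map_add]
    exact ⟨Submodule.add_mem _ hx'.1 hy'.1, fun h => by rw [hx'.2 h, hy'.2 h, add_zero]⟩
  · rintro m ⟨v, rfl⟩ i x hx hx'
    refine ⟨?_, fun h => absurd h (Nat.succ_ne_zero i)⟩
    show ct d (ExteriorAlgebra.ι A v * x) ∈ ⋀[A]^i M
    rw [ct_ι_mul]
    refine Submodule.sub_mem _ (Submodule.smul_mem _ _ hx) ?_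
    cases i with
    | zero =>
      rw [hx'.2 rfl, mul_zero]
      exact Submodule.zero_mem _
    | succ j => exact ι_mul_mem v hx'.1

theorem ct_mem (d : Module.Dual A M) {q : ℕ} {x : ExteriorAlgebra A M}
    (hx : x ∈ ⋀[A]^(q + 1) M) : ct d x ∈ ⋀[A]^q M :=
  (ct_mem_aux d hx).1

theorem ct_eq_zero_of_mem_zero (d : Module.Dual A M) {x : ExteriorAlgebra A M}
    (hx : x ∈ ⋀[A]^0 M) : ct d x = 0 :=
  (ct_mem_aux d hx).2 rfl

end General

section Basis

variable {A : Type u} [CommRing A] {M : Type u} [AddCommGroup M] [Module A M] {n : ℕ}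
  (b : Module.Basis (Fin n) A M)

theorem cc_lam_self (i : Fin n) (x : ExteriorAlgebra A M) :
    ct (b.coord i) (ExteriorAlgebra.ι A (b i) * x) =
      x - ExteriorAlgebra.ι A (b i) * ct (b.coord i) x := by
  rw [ct_ι_mul]
  have h1 : b.coord i (b i) = 1 := by simp
  rw [h1, one_smul]

theorem cc_lam_ne {i j : Fin n} (h : i ≠ j) (x : ExteriorAlgebra A M) :
    ct (b.coord i) (ExteriorAlgebra.ι A (b j) * x) =
      -(ExteriorAlgebra.ι A (b j) * ct (b.coord i) x) := by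
  rw [ct_ι_mul]
  have h1 : b.coord i (b j) = 0 := by
    simp [h.symm]
  rw [h1, zero_smul, zero_sub]

/-- `x` lies in the exterior algebra on the first `k` basis vectors. -/
def InE (k : ℕ) (x : ExteriorAlgebra A M) : Prop :=
  ∀ i : Fin n, k ≤ i.val → ct (b.coord i) x = 0

variable {b}

theorem InE.zero (k : ℕ) : InE b k (0 : ExteriorAlgebra A M) := fun i _ => map_zero _

theorem InE.add {k : ℕ} {x y : ExteriorAlgebra A M} (hx : InE b k x) (hy : InE b k y) :
    InE b k (x + y) := fun i hi => by rw [map_add, hx i hi, hy i hi, add_zero]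

theorem InE.sub {k : ℕ} {x y : ExteriorAlgebra A M} (hx : InE b k x) (hy : InE b k y) :
    InE b k (x - y) := fun i hi => by rw [map_sub, hx i hi, hy i hi, sub_zero]

theorem InE.smul {k : ℕ} {x : ExteriorAlgebra A M} (hx : InE b k x) (r : A) :
    InE b k (r • x) := fun i hi => by rw [map_smul, hx i hi, smul_zero]

theorem InE.mono {k k' : ℕ} (h : k ≤ k') {x : ExteriorAlgebra A M} (hx : InE b k x) :
    InE b k' x := fun i hi => hx i (le_trans h hi)

theorem InE.x1 {k : ℕ} (hk : k < n) {x : ExteriorAlgebra A M} (hx : InE b (k + 1) x) :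
    InE b k (ct (b.coord ⟨k, hk⟩) x) := by
  intro i hi
  by_cases h : i = ⟨k, hk⟩
  · rw [h, ct_ct]
  · have hi' : k + 1 ≤ i.val := by
      have : i.val ≠ k := fun h' => h (Fin.ext h')
      omega
    rw [ct_comm, hx i hi', map_zero, neg_zero]

theorem InE.x0 {k : ℕ} (hk : k < n) {x : ExteriorAlgebra A M} (hx : InE b (k + 1) x) :
    InE b k (ct (b.coord ⟨k, hk⟩) (ExteriorAlgebra.ι A (b ⟨k, hk⟩) * x)) := by
  intro i hi
  by_cases h : i = ⟨k, hk⟩
  · rw [h, ct_ct]
  · have hi' : k + 1 ≤ i.val := by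
      have : i.val ≠ k := fun h' => h (Fin.ext h')
      omega
    rw [ct_comm, cc_lam_ne b h, hx i hi', mul_zero, neg_zero, map_zero, neg_zero]

theorem InE.lam {k : ℕ} (hk : k < n) {u : ExteriorAlgebra A M} (hu : InE b k u) :
    InE b (k + 1) (ExteriorAlgebra.ι A (b ⟨k, hk⟩) * u) := by
  intro i hi
  have h : i ≠ ⟨k, hk⟩ := by
    intro h'
    rw [h'] at hi
    simp at hi
  rw [cc_lam_ne b h, hu i (by omega), mul_zero, neg_zero]

variable (b)

/-- An element of positive degree killed by all the contractions `c_i` vanishes. -/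
theorem eq_zero_of_inE_zero {q : ℕ} {x : ExteriorAlgebra A M} (hx : x ∈ ⋀[A]^(q + 1) M)
    (h : InE b 0 x) : x = 0 := by
  classical
  let L : ℕ → Submodule A (ExteriorAlgebra A M) := fun k =>
    Submodule.span A {y | ∃ i : Fin n, k ≤ i.val ∧ ∃ z, y = ExteriorAlgebra.ι A (b i) * z}
  have h0 : ⋀[A]^(q + 1) M ≤ L 0 := by
    show LinearMap.range (ExteriorAlgebra.ι A : M →ₗ[A] ExteriorAlgebra A M) ^ (q + 1) ≤ _
    rw [pow_succ', Submodule.mul_le]
    rintro m ⟨v, rfl⟩ y _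
    have hv : ExteriorAlgebra.ι A v * y =
        ∑ i, b.repr v i • (ExteriorAlgebra.ι A (b i) * y) := by
      conv_lhs => rw [← b.sum_repr v]
      rw [map_sum, Finset.sum_mul]
      refine Finset.sum_congr rfl (fun i _ => ?_)
      rw [map_smul, smul_mul_assoc]
    rw [hv]
    refine Submodule.sum_mem _ (fun i _ => ?_)
    exact Submodule.smul_mem _ _ (Submodule.subset_span ⟨i, Nat.zero_le _, y, rfl⟩)
  have hstep : ∀ k, k ≤ n → x ∈ L k := by
    intro k
    induction k with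
    | zero => intro _; exact h0 hx
    | succ k ih =>
      intro hk
      have hk' : k < n := hk
      have hxk : x ∈ L k := ih (le_of_lt hk')
      have hP : ct (b.coord ⟨k, hk'⟩) (ExteriorAlgebra.ι A (b ⟨k, hk'⟩) * x) = x := by
        rw [cc_lam_self, h ⟨k, hk'⟩ (Nat.zero_le _), mul_zero, sub_zero]
      have hle : L k ≤ (L (k + 1)).comap
          ((ct (b.coord ⟨k, hk'⟩)).comp (LinearMap.mulLeft A (ExteriorAlgebra.ι A (b ⟨k, hk'⟩)))) := by
        refine Submodule.span_le.mpr ?_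
        rintro y ⟨i, hi, z, rfl⟩
        show ct (b.coord ⟨k, hk'⟩)
          (ExteriorAlgebra.ι A (b ⟨k, hk'⟩) * (ExteriorAlgebra.ι A (b i) * z)) ∈ L (k + 1)
        by_cases hik : i = ⟨k, hk'⟩
        · rw [hik, lam_lam_self, map_zero]
          exact Submodule.zero_mem _
        · have hi' : k + 1 ≤ i.val := by
            have : i.val ≠ k := fun h' => hik (Fin.ext h')
            omega
          rw [lam_lam_swap, map_neg, cc_lam_ne b (Ne.symm hik), neg_neg]
          exact Submodule.subset_span ⟨i, hi', _, rfl⟩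
      have := hle hxk
      rw [Submodule.mem_comap] at this
      rw [← hP]
      exact this
  have hn : L n ≤ ⊥ := by
    refine Submodule.span_le.mpr ?_
    rintro y ⟨i, hi, _⟩
    exact absurd i.isLt (not_lt.mpr hi)
  exact (Submodule.mem_bot A).mp (hn (hstep n le_rfl))

variable (φ : M →ₗ[A] A)

/-- The ideal generated by the first `k` values `φ (b i)`. -/
def J (k : ℕ) : Ideal A := Ideal.span {r | ∃ i : Fin n, i.val < k ∧ φ (b i) = r}

theorem ofList_take_eq (k : ℕ) :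
    Ideal.ofList ((List.ofFn fun i => φ (b i)).take k) = J b φ k := by
  unfold J Ideal.ofList
  congr 1
  ext r
  simp only [Set.mem_ofPred_eq, List.mem_take_iff_getElem, List.getElem_ofFn, List.length_ofFn]
  constructor
  · rintro ⟨i, hi, rfl⟩
    exact ⟨⟨i, (lt_min_iff.mp hi).2⟩, (lt_min_iff.mp hi).1, rfl⟩
  · rintro ⟨i, hi, rfl⟩
    exact ⟨i.val, lt_min_iff.mpr ⟨hi, i.isLt⟩, rfl⟩

theorem J_mono {k k' : ℕ} (h : k ≤ k') : J b φ k ≤ J b φ k' := by
  refine Ideal.span_mono ?_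
  rintro r ⟨i, hi, rfl⟩
  exact ⟨i, lt_of_lt_of_le hi h, rfl⟩

theorem mem_J_succ (k : ℕ) (hk : k < n) : φ (b ⟨k, hk⟩) ∈ J b φ (k + 1) :=
  Ideal.subset_span ⟨⟨k, hk⟩, Nat.lt_succ_self k, rfl⟩

theorem mem_J_of_mul_mem
    (hreg : RingTheory.Sequence.IsWeaklyRegular A (List.ofFn fun i => φ (b i)))
    (k : ℕ) (hk : k < n) (t : A) (h : φ (b ⟨k, hk⟩) * t ∈ J b φ k) : t ∈ J b φ k := by
  have h1 := hreg.regular_mod_prev k (by rw [List.length_ofFn]; exact hk)
  rw [List.getElem_ofFn] at h1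
  have h2 : (Ideal.ofList ((List.ofFn fun i => φ (b i)).take k) • (⊤ : Submodule A A)) =
      J b φ k := by
    rw [ofList_take_eq]
    exact (Ideal.smul_eq_mul _ _).trans (Ideal.mul_top _)
  have h3 := (isSMulRegular_quotient_iff_mem_of_smul_mem _ _).mp h1 t
  rw [h2] at h3
  exact h3 (by simpa [smul_eq_mul] using h)

theorem exists_of_mem_J (k : ℕ) {a : A} (ha : a ∈ J b φ k) :
    ∃ u ∈ ⋀[A]^1 M, InE b k u ∧ ct φ u = algebraMap A (ExteriorAlgebra A M) a := by
  refine Submodule.span_induction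
    (p := fun a _ => ∃ u ∈ ⋀[A]^1 M, InE b k u ∧
      ct φ u = algebraMap A (ExteriorAlgebra A M) a) ?_ ?_ ?_ ?_ ha
  · rintro r ⟨i, hi, rfl⟩
    refine ⟨ExteriorAlgebra.ι A (b i), ι_mem_one _, ?_, ct_ι φ (b i)⟩
    intro j hj
    rw [ct_ι]
    have h1 : b.coord j (b i) = 0 := by
      have hne : i ≠ j := by
        intro h'
        rw [h'] at hi
        omega
      simp [hne]
    rw [h1, map_zero]
  · exact ⟨0, Submodule.zero_mem _, InE.zero k, by rw [map_zero, map_zero]⟩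
  · rintro x y _ _ ⟨u, hu, hu', hu''⟩ ⟨v, hv, hv', hv''⟩
    exact ⟨u + v, Submodule.add_mem _ hu hv, hu'.add hv', by rw [map_add, hu'', hv'', map_add]⟩
  · rintro r x _ ⟨u, hu, hu', hu''⟩
    exact ⟨r • u, Submodule.smul_mem _ _ hu, hu'.smul r, by
      rw [map_smul, hu'', smul_eq_mul, map_mul, Algebra.smul_def]⟩

theorem ct_mem_J (k : ℕ) (hk : k ≤ n) :
    ∀ y ∈ ⋀[A]^1 M, InE b k y →
      ∃ a ∈ J b φ k, ct φ y = algebraMap A (ExteriorAlgebra A M) a := by
  induction k with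
  | zero =>
    intro y hy hE
    have h0 : y = 0 := eq_zero_of_inE_zero b (q := 0) hy hE
    exact ⟨0, Submodule.zero_mem _, by rw [h0, map_zero, map_zero]⟩
  | succ k ih =>
    intro y hy hE
    have hk' : k < n := hk
    have hy0 : ct (b.coord ⟨k, hk'⟩) (ExteriorAlgebra.ι A (b ⟨k, hk'⟩) * y) ∈ ⋀[A]^1 M :=
      ct_mem _ (ι_mul_mem _ hy)
    have hy1 : ct (b.coord ⟨k, hk'⟩) y ∈ ⋀[A]^0 M := ct_mem (q := 0) _ hy
    obtain ⟨t, ht⟩ := mem_zero_iff.mp hy1
    obtain ⟨a₀, ha₀, h0⟩ := ih (le_of_lt hk') _ hy0 (InE.x0 hk' hE)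
    have hdec : y = ct (b.coord ⟨k, hk'⟩) (ExteriorAlgebra.ι A (b ⟨k, hk'⟩) * y) +
        ExteriorAlgebra.ι A (b ⟨k, hk'⟩) * ct (b.coord ⟨k, hk'⟩) y := by
      rw [cc_lam_self]; abel
    refine ⟨a₀ + φ (b ⟨k, hk'⟩) * t,
      Ideal.add_mem _ (J_mono b φ (Nat.le_succ k) ha₀)
        (Ideal.mul_mem_right _ _ (mem_J_succ b φ k hk')), ?_⟩
    conv_lhs => rw [hdec]
    rw [map_add, h0, ct_ι_mul, ct_eq_zero_of_mem_zero φ hy1, mul_zero, sub_zero, ← ht,
      map_add, map_mul, Algebra.smul_def]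

/-- Exactness of the Koszul differential on `E_k`, in positive degrees. -/
theorem exact_aux
    (hreg : RingTheory.Sequence.IsWeaklyRegular A (List.ofFn fun i => φ (b i)))
    (k : ℕ) (hk : k ≤ n) :
    ∀ (q : ℕ) (x : ExteriorAlgebra A M), x ∈ ⋀[A]^(q + 1) M → InE b k x → ct φ x = 0 →
      ∃ w ∈ ⋀[A]^(q + 2) M, InE b k w ∧ ct φ w = x := by
  induction k with
  | zero =>
    intro q x hx hE _
    have h0 : x = 0 := eq_zero_of_inE_zero b hx hE
    exact ⟨0, Submodule.zero_mem _, InE.zero 0, by rw [h0, map_zero]⟩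
  | succ k ih =>
    intro q x hx hE hδ
    have hk' : k < n := hk
    have ih' := ih (le_of_lt hk')
    have hx0 : ct (b.coord ⟨k, hk'⟩) (ExteriorAlgebra.ι A (b ⟨k, hk'⟩) * x) ∈ ⋀[A]^(q + 1) M :=
      ct_mem _ (ι_mul_mem _ hx)
    have hx1 : ct (b.coord ⟨k, hk'⟩) x ∈ ⋀[A]^q M := ct_mem _ hx
    have hE0 := InE.x0 hk' hE
    have hE1 := InE.x1 hk' hE
    have hdec : x = ct (b.coord ⟨k, hk'⟩) (ExteriorAlgebra.ι A (b ⟨k, hk'⟩) * x) +
        ExteriorAlgebra.ι A (b ⟨k, hk'⟩) * ct (b.coord ⟨k, hk'⟩) x := by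
      rw [cc_lam_self]; abel
    have hδ1 : ct φ (ct (b.coord ⟨k, hk'⟩) x) = 0 := by
      rw [ct_comm, hδ, map_zero, neg_zero]
    have hδ0 : ct φ (ct (b.coord ⟨k, hk'⟩) (ExteriorAlgebra.ι A (b ⟨k, hk'⟩) * x)) +
        φ (b ⟨k, hk'⟩) • ct (b.coord ⟨k, hk'⟩) x = 0 := by
      have h1 : ct φ x =
          ct φ (ct (b.coord ⟨k, hk'⟩) (ExteriorAlgebra.ι A (b ⟨k, hk'⟩) * x)) +
            ct φ (ExteriorAlgebra.ι A (b ⟨k, hk'⟩) * ct (b.coord ⟨k, hk'⟩) x) := by
        conv_lhs => rw [hdec]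
        rw [map_add]
      rw [hδ, ct_ι_mul φ (b ⟨k, hk'⟩) (ct (b.coord ⟨k, hk'⟩) x), hδ1, mul_zero, sub_zero] at h1
      exact h1.symm
    -- the element `u` with `δ u = x¹`
    have hu : ∃ u ∈ ⋀[A]^(q + 1) M, InE b k u ∧ ct φ u = ct (b.coord ⟨k, hk'⟩) x := by
      cases q with
      | zero =>
        obtain ⟨t, ht⟩ := mem_zero_iff.mp hx1
        obtain ⟨a₀, ha₀, h0⟩ := ct_mem_J b φ k (le_of_lt hk') _ hx0 hE0
        have h2 : a₀ + φ (b ⟨k, hk'⟩) * t = 0 := by
          have h3 := hδ0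
          rw [h0, ← ht, Algebra.smul_def, ← map_mul, ← map_add] at h3
          exact (ExteriorAlgebra.algebraMap_eq_zero_iff M _).mp h3
        have h4 : φ (b ⟨k, hk'⟩) * t ∈ J b φ k := by
          have : φ (b ⟨k, hk'⟩) * t = -a₀ := eq_neg_of_add_eq_zero_right h2
          rw [this]
          exact (J b φ k).neg_mem ha₀
        have h5 := mem_J_of_mul_mem b φ hreg k hk' t h4
        obtain ⟨u, hu1, hu2, hu3⟩ := exists_of_mem_J b φ k h5
        exact ⟨u, hu1, hu2, by rw [hu3, ht]⟩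
      | succ q' => exact ih' q' _ hx1 hE1 hδ1
    obtain ⟨u, hu1, hu2, hu3⟩ := hu
    have hv : ct (b.coord ⟨k, hk'⟩) (ExteriorAlgebra.ι A (b ⟨k, hk'⟩) * x) +
        φ (b ⟨k, hk'⟩) • u ∈ ⋀[A]^(q + 1) M :=
      Submodule.add_mem _ hx0 (Submodule.smul_mem _ _ hu1)
    have hEv := hE0.add (hu2.smul (φ (b ⟨k, hk'⟩)))
    have hδv : ct φ (ct (b.coord ⟨k, hk'⟩) (ExteriorAlgebra.ι A (b ⟨k, hk'⟩) * x) +
        φ (b ⟨k, hk'⟩) • u) = 0 := by
      rw [map_add, map_smul, hu3]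
      exact hδ0
    obtain ⟨y, hy1, hy2, hy3⟩ := ih' q _ hv hEv hδv
    refine ⟨y - ExteriorAlgebra.ι A (b ⟨k, hk'⟩) * u,
      Submodule.sub_mem _ hy1 (ι_mul_mem _ hu1),
      (hy2.mono (Nat.le_succ k)).sub (InE.lam hk' hu2), ?_⟩
    rw [map_sub, hy3, ct_ι_mul φ (b ⟨k, hk'⟩) u, hu3]
    conv_rhs => rw [hdec]
    abel

/-- Koszul acyclicity in the exterior algebra: the contraction by `φ` is exact in positive
degrees when the values of `φ` on a basis form a weakly regular sequence. -/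
theorem core (φ : M →ₗ[A] A)
    (hreg : RingTheory.Sequence.IsWeaklyRegular A (List.ofFn fun k => φ (b k)))
    (q : ℕ) (x : ExteriorAlgebra A M) (hx : x ∈ ⋀[A]^(q + 1) M)
    (hδ : CliffordAlgebra.contractLeft φ x = 0) :
    ∃ w ∈ ⋀[A]^(q + 2) M, CliffordAlgebra.contractLeft φ w = x := by
  obtain ⟨w, hw, -, hδw⟩ := exact_aux b φ hreg n le_rfl q x hx
    (fun i hi => absurd i.isLt (not_lt.mpr hi)) hδ
  exact ⟨w, hw, hδw⟩

end Basis

end Groth.Agent.H66.KoszulCore
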