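import Mathlib
import Groth.Prelude.Def_KoszulSh
import Groth.Agent.H66.KoszulCore

/-!
# Koszul acyclicity in the exterior-power model (helper66)

(K1) for helper8: `koszul_exact`, in the exact requested form.  `ct_ιMulti` and `bridge` identify
the differentials given by `KoszSh.dGen` with the contraction `CliffordAlgebra.contractLeft φ`;
exactness of the contraction is `Groth.Agent.H66.KoszulCore.core`.
-/

set_option autoImplicit false
set_option linter.unusedVariables false

universe u

open exteriorPower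

namespace Groth.Agent.H66.KoszulExt

open Groth.Agent.H66.KoszulCore

section

variable {A : Type u} [CommRing A] {M : Type u} [AddCommGroup M] [Module A M]

/-- The contraction of a decomposable element is given by the Koszul formula. -/
theorem ct_ιMulti (φ : M →ₗ[A] A) : ∀ (q : ℕ) (e : Fin (q + 1) → M),
    ct φ (ExteriorAlgebra.ιMulti A (q + 1) e) =
      ∑ i : Fin (q + 1), ((-1 : A) ^ (i : ℕ) * φ (e i)) •
        ExteriorAlgebra.ιMulti A q (fun j => e (i.succAbove j)) := by
  intro q
  induction q with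
  | zero =>
    intro e
    rw [ExteriorAlgebra.ιMulti_succ_apply, ExteriorAlgebra.ιMulti_zero_apply, mul_one, ct_ι,
      Fin.sum_univ_succ, Fin.sum_univ_zero, add_zero, ExteriorAlgebra.ιMulti_zero_apply]
    simp [Algebra.algebraMap_eq_smul_one]
  | succ q ih =>
    intro e
    rw [ExteriorAlgebra.ιMulti_succ_apply, ct_ι_mul, ih (Matrix.vecTail e)]
    conv_rhs => rw [Fin.sum_univ_succ]
    have h0 : (fun l => e ((0 : Fin (q + 1 + 1)).succAbove l)) = Matrix.vecTail e := by
      funext l
      rw [Fin.succAbove_zero]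
      rfl
    have hj : ∀ j : Fin (q + 1),
        ExteriorAlgebra.ιMulti A (q + 1) (fun l => e (j.succ.succAbove l)) =
          ExteriorAlgebra.ι A (e 0) *
            ExteriorAlgebra.ιMulti A q (fun l => Matrix.vecTail e (j.succAbove l)) := by
      intro j
      rw [ExteriorAlgebra.ιMulti_succ_apply, Fin.succ_succAbove_zero]
      congr 2
      funext l
      show e (j.succ.succAbove l.succ) = e (j.succAbove l).succ
      rw [Fin.succ_succAbove_succ]
    rw [h0, Finset.mul_sum, sub_eq_add_neg, ← Finset.sum_neg_distrib]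
    congr 1
    · simp
    · refine Finset.sum_congr rfl (fun j _ => ?_)
      rw [hj j, Fin.val_succ, mul_smul_comm, ← neg_smul]
      congr 1
      have h1 : Matrix.vecTail e j = e j.succ := rfl
      rw [h1, pow_succ]
      ring

/-- A differential given by `KoszSh.dGen` on decomposable elements is the restriction of the
contraction by `φ`. -/
theorem bridge (φ : M →ₗ[A] A) (q : ℕ) (d : ↥(⋀[A]^(q + 1) M) →ₗ[A] ↥(⋀[A]^q M))
    (h : ∀ e : Fin (q + 1) → M, d (exteriorPower.ιMulti A (q + 1) e) = KoszSh.dGen φ q e)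
    (z : ↥(⋀[A]^(q + 1) M)) :
    ((d z : ↥(⋀[A]^q M)) : ExteriorAlgebra A M) =
      CliffordAlgebra.contractLeft φ (z : ExteriorAlgebra A M) := by
  have key : (⋀[A]^q M).subtype ∘ₗ d = (ct φ) ∘ₗ (⋀[A]^(q + 1) M).subtype := by
    apply LinearMap.ext_on_range (exteriorPower.ιMulti_span A (q + 1) M)
    intro e
    simp only [LinearMap.comp_apply, Submodule.subtype_apply]
    rw [h e, exteriorPower.ιMulti_apply_coe, ct_ιMulti]
    unfold KoszSh.dGen
    rw [Submodule.coe_sum]
    refine Finset.sum_congr rfl (fun i _ => ?_)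
    rw [Submodule.coe_smul, exteriorPower.ιMulti_apply_coe]
  exact LinearMap.congr_fun key z

end

/-- Koszul acyclicity in the exterior-power model. -/
theorem koszul_exact {A : Type u} [CommRing A] {M : Type u} [AddCommGroup M] [Module A M] {n : ℕ}
    (b : Module.Basis (Fin n) A M) (φ : M →ₗ[A] A)
    (hreg : RingTheory.Sequence.IsWeaklyRegular A (List.ofFn fun k => φ (b k)))
    (p : ℕ)
    (d₁ : ↥(⋀[A]^(p + 2) M) →ₗ[A] ↥(⋀[A]^(p + 1) M))
    (d₀ : ↥(⋀[A]^(p + 1) M) →ₗ[A] ↥(⋀[A]^p M))
    (h₁ : ∀ e : Fin (p + 2) → M, d₁ (ιMulti A (p + 2) e) = KoszSh.dGen φ (p + 1) e)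
    (h₀ : ∀ e : Fin (p + 1) → M, d₀ (ιMulti A (p + 1) e) = KoszSh.dGen φ p e)
    (z : ↥(⋀[A]^(p + 1) M)) (hz : d₀ z = 0) : ∃ w, d₁ w = z := by
  have h0 : CliffordAlgebra.contractLeft φ (z : ExteriorAlgebra A M) = 0 := by
    rw [← bridge φ p d₀ h₀ z, hz]
    rfl
  obtain ⟨w, hw, hδw⟩ := Groth.Agent.H66.KoszulCore.core b φ hreg p z z.2 h0
  refine ⟨⟨w, hw⟩, Subtype.ext ?_⟩
  rw [bridge φ (p + 1) d₁ h₁ ⟨w, hw⟩]
  exact hδw

end Groth.Agent.H66.KoszulExt
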