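import Mathlib

/-!
# Unirational curves embed in `k(s)`

A finitely generated field `K` of transcendence degree one over an infinite field `k` which embeds
into `k(t_1, …, t_n)` embeds into `k(s)`: restrict to a general line.
-/

set_option autoImplicit false
set_option linter.style.haveILetI false

namespace Groth.Agent.H66.LurothN

universe u

section line

variable {k : Type u} [Field k] {n : ℕ}

/-- Restriction of a polynomial to the line `a + b s`. -/
noncomputable def lineEval (a b : Fin n → k) : MvPolynomial (Fin n) k →ₐ[k] Polynomial k :=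
  MvPolynomial.aeval (fun i => Polynomial.C (a i) + Polynomial.C (b i) * Polynomial.X)

theorem eval_zero_lineEval (a b : Fin n → k) (p : MvPolynomial (Fin n) k) :
    Polynomial.eval 0 (lineEval a b p) = MvPolynomial.eval a p := by
  have h : (Polynomial.evalRingHom (0 : k)).comp
      (lineEval a b : MvPolynomial (Fin n) k →+* Polynomial k) = MvPolynomial.eval a := by
    apply MvPolynomial.ringHom_ext
    · intro c; simp [lineEval]
    · intro i; simp [lineEval]
  exact RingHom.congr_fun h p

theorem eval_one_lineEval (a b : Fin n → k) (p : MvPolynomial (Fin n) k) :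
    Polynomial.eval 1 (lineEval a b p) = MvPolynomial.eval (a + b) p := by
  have h : (Polynomial.evalRingHom (1 : k)).comp
      (lineEval a b : MvPolynomial (Fin n) k →+* Polynomial k) = MvPolynomial.eval (a + b) := by
    apply MvPolynomial.ringHom_ext
    · intro c; simp [lineEval]
    · intro i; simp [lineEval]
  exact RingHom.congr_fun h p

end line

theorem exists_algHom_ratFunc (k : Type u) [Field k] [Infinite k]
    (K : Type u) [Field K] [Algebra k K] (hfg : (⊤ : IntermediateField k K).FG)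
    (x : K) (hx : Transcendental k x)
    (halg : Algebra.IsAlgebraic ↥(IntermediateField.adjoin k {x}) K)
    (n : ℕ) (φ : K →ₐ[k] FractionRing (MvPolynomial (Fin n) k)) :
    Nonempty (K →ₐ[k] RatFunc k) := by
  classical
  obtain ⟨S, hS⟩ := hfg
  have hφinj : Function.Injective φ := φ.toRingHom.injective
  -- common denominator
  obtain ⟨⟨Q, hQ⟩, hQint⟩ := IsLocalization.exist_integer_multiples_of_finset
    (nonZeroDivisors (MvPolynomial (Fin n) k)) (insert (φ x) (S.image φ))
  have hQ0 : Q ≠ 0 := nonZeroDivisors.ne_zero hQ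
  have hden : ∀ s : K, s = x ∨ s ∈ S → ∃ p : MvPolynomial (Fin n) k,
      algebraMap (MvPolynomial (Fin n) k) (FractionRing (MvPolynomial (Fin n) k)) p =
        algebraMap (MvPolynomial (Fin n) k) (FractionRing (MvPolynomial (Fin n) k)) Q * φ s := by
    intro s hs
    have hmem : φ s ∈ insert (φ x) (S.image φ) := by
      rcases hs with rfl | hs
      · exact Finset.mem_insert_self _ _
      · exact Finset.mem_insert_of_mem (Finset.mem_image_of_mem _ hs)
    obtain ⟨p, hp⟩ := hQint _ hmem
    exact ⟨p, by rw [hp, Algebra.smul_def]⟩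
  obtain ⟨P, hP⟩ := hden x (Or.inl rfl)
  have hQL : algebraMap (MvPolynomial (Fin n) k) (FractionRing (MvPolynomial (Fin n) k)) Q ≠ 0 :=
    (map_ne_zero_iff _ (IsFractionRing.injective _ _)).2 hQ0
  -- the point `v₀`
  obtain ⟨v₀, hv₀⟩ : ∃ v₀ : Fin n → k, MvPolynomial.eval v₀ Q ≠ 0 := by
    by_contra h
    push Not at h
    exact hQ0 (MvPolynomial.funext (fun v => by rw [h v, map_zero]))
  -- the polynomial `G`
  have hG : P * MvPolynomial.C (MvPolynomial.eval v₀ Q) -
      MvPolynomial.C (MvPolynomial.eval v₀ P) * Q ≠ 0 := by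
    intro h
    rw [sub_eq_zero] at h
    apply hx
    have hxc : x = algebraMap k K (MvPolynomial.eval v₀ P / MvPolynomial.eval v₀ Q) := by
      apply hφinj
      rw [AlgHom.commutes]
      have hcL : algebraMap k (FractionRing (MvPolynomial (Fin n) k))
          (MvPolynomial.eval v₀ Q) ≠ 0 := (map_ne_zero _).2 hv₀
      have h' := congrArg
        (algebraMap (MvPolynomial (Fin n) k) (FractionRing (MvPolynomial (Fin n) k))) h
      rw [map_mul, map_mul, ← MvPolynomial.algebraMap_eq, ← IsScalarTower.algebraMap_apply,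
        ← IsScalarTower.algebraMap_apply, hP] at h'
      rw [map_div₀, eq_div_iff hcL]
      apply mul_left_cancel₀ hQL
      rw [← mul_assoc, h', mul_comm]
    rw [hxc]
    exact isAlgebraic_algebraMap _
  obtain ⟨u₀, hu₀⟩ : ∃ u₀ : Fin n → k, MvPolynomial.eval u₀
      (P * MvPolynomial.C (MvPolynomial.eval v₀ Q) -
        MvPolynomial.C (MvPolynomial.eval v₀ P) * Q) ≠ 0 := by
    by_contra h
    push Not at h
    exact hG (MvPolynomial.funext (fun v => by rw [h v, map_zero]))
  simp only [map_sub, map_mul, MvPolynomial.eval_C] at hu₀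
  -- the line
  obtain ⟨ev₀, hev₀⟩ : ∃ ev₀ : MvPolynomial (Fin n) k →ₐ[k] Polynomial k,
      ev₀ = lineEval v₀ (u₀ - v₀) := ⟨_, rfl⟩
  have hev0 : ∀ p, Polynomial.eval 0 (ev₀ p) = MvPolynomial.eval v₀ p := fun p => by
    rw [hev₀, eval_zero_lineEval]
  have hev1 : ∀ p, Polynomial.eval 1 (ev₀ p) = MvPolynomial.eval u₀ p := fun p => by
    rw [hev₀, eval_one_lineEval, add_sub_cancel]
  obtain ⟨𝔭, h𝔭⟩ : ∃ 𝔭 : Ideal (MvPolynomial (Fin n) k),
      𝔭 = RingHom.ker (ev₀ : MvPolynomial (Fin n) k →+* Polynomial k) := ⟨_, rfl⟩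
  haveI h𝔭prime : 𝔭.IsPrime := by rw [h𝔭]; exact RingHom.ker_isPrime _
  have hmem𝔭 : ∀ p, p ∈ 𝔭 ↔ ev₀ p = 0 := fun p => by rw [h𝔭, RingHom.mem_ker]; rfl
  have hQM : Q ∈ 𝔭.primeCompl := by
    intro h
    apply hv₀
    rw [← hev0, (hmem𝔭 Q).1 h, Polynomial.eval_zero]
  -- the local ring of the line
  let evR : MvPolynomial (Fin n) k →ₐ[k] RatFunc k :=
    (IsScalarTower.toAlgHom k (Polynomial k) (RatFunc k)).comp ev₀
  have hevR : ∀ p, evR p = algebraMap (Polynomial k) (RatFunc k) (ev₀ p) := fun p => rfl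
  have hevR0 : ∀ p, evR p = 0 ↔ p ∈ 𝔭 := fun p => by
    rw [hevR, hmem𝔭, map_eq_zero_iff _ (RatFunc.algebraMap_injective k)]
  have hevR_unit : ∀ y : 𝔭.primeCompl, IsUnit (evR y) := fun y =>
    isUnit_iff_ne_zero.2 (fun h => y.2 ((hevR0 _).1 h))
  have hj_unit : ∀ y : 𝔭.primeCompl, IsUnit
      (IsScalarTower.toAlgHom k (MvPolynomial (Fin n) k)
        (FractionRing (MvPolynomial (Fin n) k)) y) := fun y =>
    isUnit_iff_ne_zero.2 (fun h => y.2 (by
      have : (y : MvPolynomial (Fin n) k) = 0 :=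
        IsFractionRing.injective (MvPolynomial (Fin n) k) (FractionRing (MvPolynomial (Fin n) k))
          (by rw [map_zero]; exact h)
      rw [this]; exact 𝔭.zero_mem))
  let j : Localization.AtPrime 𝔭 →ₐ[k] FractionRing (MvPolynomial (Fin n) k) :=
    IsLocalization.liftAlgHom (M := 𝔭.primeCompl) hj_unit
  let evO : Localization.AtPrime 𝔭 →ₐ[k] RatFunc k :=
    IsLocalization.liftAlgHom (M := 𝔭.primeCompl) hevR_unit
  have hj_spec : ∀ (p : MvPolynomial (Fin n) k) (q : 𝔭.primeCompl)
      (z : FractionRing (MvPolynomial (Fin n) k)),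
      j (IsLocalization.mk' (Localization.AtPrime 𝔭) p q) = z ↔
        algebraMap _ (FractionRing (MvPolynomial (Fin n) k)) p =
          algebraMap _ (FractionRing (MvPolynomial (Fin n) k)) (q : MvPolynomial (Fin n) k) * z :=
    fun p q z => IsLocalization.lift_mk'_spec _ _ _ _
  have hevO_spec : ∀ (p : MvPolynomial (Fin n) k) (q : 𝔭.primeCompl) (z : RatFunc k),
      evO (IsLocalization.mk' (Localization.AtPrime 𝔭) p q) = z ↔
        evR p = evR (q : MvPolynomial (Fin n) k) * z :=
    fun p q z => IsLocalization.lift_mk'_spec _ _ _ _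
  have hj_inj : Function.Injective j := by
    rw [injective_iff_map_eq_zero]
    intro o ho
    obtain ⟨p, q, rfl⟩ := IsLocalization.exists_mk'_eq 𝔭.primeCompl o
    rw [hj_spec, mul_zero] at ho
    have : p = 0 := IsFractionRing.injective (MvPolynomial (Fin n) k)
      (FractionRing (MvPolynomial (Fin n) k)) (by rw [ho, map_zero])
    rw [this, IsLocalization.mk'_zero]
  -- the subalgebra of `K` of functions regular along the line
  let K' : Subalgebra k K := j.range.comap φ
  let e := AlgEquiv.ofInjective j hj_inj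
  let ψ' : K' →ₐ[k] RatFunc k :=
    evO.comp ((e.symm : j.range →ₐ[k] Localization.AtPrime 𝔭).comp
      ((φ.comp K'.val).codRestrict j.range (fun y => y.2)))
  have hψ' : ∀ (y : K') (o : Localization.AtPrime 𝔭), j o = φ y → ψ' y = evO o := by
    intro y o h
    change evO (e.symm ⟨φ y, _⟩) = evO o
    congr 1
    rw [AlgEquiv.symm_apply_eq]
    exact Subtype.ext h.symm
  have hgen : ∀ s : K, s = x ∨ s ∈ S → s ∈ K' := by
    intro s hs
    obtain ⟨p, hp⟩ := hden s hs
    exact ⟨IsLocalization.mk' (Localization.AtPrime 𝔭) p ⟨Q, hQM⟩, (hj_spec _ _ _).2 hp⟩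
  have hxK' : x ∈ K' := hgen x (Or.inl rfl)
  have hevRQ : evR Q ≠ 0 := fun h => hQM ((hevR0 Q).1 h)
  have hψx : ψ' ⟨x, hxK'⟩ = evR P / evR Q := by
    rw [hψ' ⟨x, hxK'⟩ (IsLocalization.mk' (Localization.AtPrime 𝔭) P ⟨Q, hQM⟩)
      ((hj_spec _ _ _).2 hP), eq_div_iff hevRQ, mul_comm]
    exact ((hevO_spec P ⟨Q, hQM⟩ _).1 rfl).symm
  have htr : Transcendental k (ψ' ⟨x, hxK'⟩) := by
    apply RatFunc.transcendental_of_ne_C
    rintro ⟨c, hc⟩
    rw [hψx, div_eq_iff hevRQ, hevR, hevR, ← RatFunc.algebraMap_C, ← map_mul] at hc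
    have hc' : ev₀ P = Polynomial.C c * ev₀ Q := RatFunc.algebraMap_injective k hc
    have h0 := congrArg (Polynomial.eval 0) hc'
    have h1 := congrArg (Polynomial.eval 1) hc'
    rw [Polynomial.eval_mul, Polynomial.eval_C, hev0, hev0] at h0
    rw [Polynomial.eval_mul, Polynomial.eval_C, hev1, hev1] at h1
    apply hu₀
    rw [h0, h1]
    ring
  -- injectivity of `ψ'`
  have hψinj : ∀ y : K', ψ' y = 0 → y = 0 := by
    intro y hy0
    by_contra hyne
    have hyK : (y : K) ≠ 0 := fun h => hyne (Subtype.ext h)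
    have hR₁ : Algebra.adjoin k {x} ≤ K' :=
      Algebra.adjoin_le (Set.singleton_subset_iff.2 hxK')
    have halgy : IsAlgebraic (Algebra.adjoin k {x}) (y : K) := by
      open scoped IntermediateField.algebraAdjoinAdjoin in
      exact (IsFractionRing.isAlgebraic_iff (Algebra.adjoin k {x})
        (IntermediateField.adjoin k {x}) K).2 (halg.isAlgebraic _)
    obtain ⟨q, hq0, hq⟩ :=
      halgy.exists_nonzero_coeff_and_aeval_eq_zero (mem_nonZeroDivisors_of_ne_zero hyK)
    have hmem : ∀ p : Polynomial (Algebra.adjoin k {x}), Polynomial.aeval (y : K) p ∈ K' := by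
      intro p
      rw [Polynomial.aeval_eq_sum_range]
      refine Subalgebra.sum_mem _ (fun i _ => ?_)
      rw [Algebra.smul_def]
      exact K'.mul_mem (hR₁ (p.coeff i).2) (K'.pow_mem y.2 i)
    have hdecomp : ((q.coeff 0 : Algebra.adjoin k {x}) : K) =
        -(Polynomial.aeval (y : K) q.divX * y) := by
      have := congrArg (Polynomial.aeval (y : K)) (Polynomial.divX_mul_X_add q)
      rw [hq, map_add, map_mul, Polynomial.aeval_X, Polynomial.aeval_C] at this
      exact eq_neg_of_add_eq_zero_right this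
    have hc₀K' : ((q.coeff 0 : Algebra.adjoin k {x}) : K) ∈ K' := hR₁ (q.coeff 0).2
    have hψc₀ : ψ' ⟨_, hc₀K'⟩ = 0 := by
      have : (⟨_, hc₀K'⟩ : K') = -(⟨_, hmem q.divX⟩ * y) := Subtype.ext hdecomp
      rw [this, map_neg, map_mul, hy0, mul_zero, neg_zero]
    obtain ⟨g, hg⟩ : ∃ g : Polynomial k,
        Polynomial.aeval x g = ((q.coeff 0 : Algebra.adjoin k {x}) : K) := by
      have hmem2 : ∀ c : K, c ∈ Algebra.adjoin k {x} → ∃ g : Polynomial k,
          Polynomial.aeval x g = c := by
        intro c hc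
        rw [Algebra.adjoin_singleton_eq_range_aeval] at hc
        exact hc
      exact hmem2 _ (q.coeff 0).2
    have hcg : (⟨_, hc₀K'⟩ : K') = Polynomial.aeval (⟨x, hxK'⟩ : K') g :=
      Subtype.ext (by rw [Polynomial.aeval_subalgebra_coe, hg])
    rw [hcg, ← Polynomial.aeval_algHom_apply] at hψc₀
    have hg0 : g = 0 := transcendental_iff.1 htr g hψc₀
    apply hq0
    apply Subtype.ext
    rw [← hg, hg0, map_zero]
    rfl
  -- `K'` is closed under inverses
  have hinv : ∀ y ∈ K', y⁻¹ ∈ K' := by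
    intro y hy
    by_cases hy0 : y = 0
    · rw [hy0, inv_zero]; exact K'.zero_mem
    obtain ⟨o, ho⟩ := hy
    obtain ⟨p, q, rfl⟩ := IsLocalization.exists_mk'_eq 𝔭.primeCompl o
    have hψy : ψ' ⟨y, ⟨_, ho⟩⟩ ≠ 0 := fun h => hy0 (congrArg Subtype.val (hψinj _ h))
    rw [hψ' ⟨y, _⟩ _ ho] at hψy
    have hp : p ∈ 𝔭.primeCompl := by
      intro hp
      apply hψy
      rw [hevO_spec, mul_zero]
      exact (hevR0 p).2 hp
    refine ⟨IsLocalization.mk' (Localization.AtPrime 𝔭) (q : MvPolynomial (Fin n) k) ⟨p, hp⟩, ?_⟩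
    change j (IsLocalization.mk' (Localization.AtPrime 𝔭) (q : MvPolynomial (Fin n) k) ⟨p, hp⟩) =
      φ y⁻¹
    rw [map_inv₀, hj_spec]
    have h1 : algebraMap _ (FractionRing (MvPolynomial (Fin n) k)) p =
        algebraMap _ (FractionRing (MvPolynomial (Fin n) k)) (q : MvPolynomial (Fin n) k) * φ y :=
      (hj_spec _ _ _).1 ho
    have hφy : φ y ≠ 0 := (map_ne_zero φ).2 hy0
    change _ = algebraMap _ _ p * _
    rw [h1, mul_assoc, mul_inv_cancel₀ hφy, mul_one]
  have htop : ∀ y : K, y ∈ K' := by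
    intro y
    have hle : (⊤ : IntermediateField k K) ≤ K'.toIntermediateField hinv := by
      rw [← hS, IntermediateField.adjoin_le_iff]
      intro s hs
      exact hgen s (Or.inr hs)
    exact hle IntermediateField.mem_top
  exact ⟨ψ'.comp (AlgHom.codRestrict (AlgHom.id k K) K' htop)⟩

/-- Generalized Lüroth for curves: a finitely generated field of transcendence degree one over an
infinite field `k` which embeds in `k(t_1, …, t_n)` is `k(t)`. -/
theorem exists_generator (k : Type u) [Field k] [Infinite k]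
    (K : Type u) [Field K] [Algebra k K] (hfg : (⊤ : IntermediateField k K).FG)
    (x : K) (hx : Transcendental k x)
    (halg : Algebra.IsAlgebraic ↥(IntermediateField.adjoin k {x}) K)
    (n : ℕ) (φ : K →ₐ[k] FractionRing (MvPolynomial (Fin n) k)) :
    ∃ t : K, Transcendental k t ∧ IntermediateField.adjoin k {t} = ⊤ := by
  obtain ⟨ψ⟩ := exists_algHom_ratFunc k K hfg x hx halg n φ
  have hψinj : Function.Injective ψ := ψ.toRingHom.injective
  obtain ⟨E, hEdef⟩ : ∃ E : IntermediateField k (RatFunc k), E = ψ.fieldRange := ⟨_, rfl⟩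
  have hE : E ≠ ⊥ := by
    intro h
    have hmem : ψ x ∈ E := by rw [hEdef]; exact ⟨x, rfl⟩
    rw [h, IntermediateField.mem_bot] at hmem
    obtain ⟨c, hc⟩ := hmem
    apply hx
    have : x = algebraMap k K c := hψinj (by rw [← hc, AlgHom.commutes])
    rw [this]
    exact isAlgebraic_algebraMap c
  have hgenE := RatFunc.Luroth.eq_adjoin_generator (E := E)
  obtain ⟨t, ht⟩ : ∃ t, ψ t = RatFunc.Luroth.generator E := by
    have := RatFunc.Luroth.generator_mem (E := E)
    rw [hEdef] at this
    rw [hEdef]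
    exact this
  refine ⟨t, ?_, ?_⟩
  · intro halgt
    apply RatFunc.Luroth.transcendental_generator hE
    rw [← ht]
    exact halgt.algHom ψ
  · apply IntermediateField.map_injective ψ
    rw [IntermediateField.adjoin_map, Set.image_singleton, ht, ← hgenE, hEdef,
      AlgHom.fieldRange_eq_map]

end Groth.Agent.H66.LurothN
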