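import Mathlib
import Groth.Prelude.Def_GSzMilK

/-!
# Basic API for the Prelude's Milnor K-groups `MilK.K F n` (helper66)

* multilinearity of `MilK.symbol` in each slot (`symbol_update_mul`, `_one`, `_inv`, `_pow`, `_zpow`);
* `K_induction`: `K F n` is generated by symbols;
* `symbol_eq_zero_of_neg`: `{…, a, …, -a, …} = 0`;
* `symbol_comp_swap`, `symbol_comp_perm`: symbols are alternating up to sign;
* `sign_blockSwap`: sign of the block swap permutation;
* `mul_comm_graded`: graded commutativity of the product.
-/

set_option autoImplicit false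

namespace Groth.Agent.H66.MilKlib

open MilK

universe u

variable {F : Type u} [Field F]

lemma ofMul_update {n : ℕ} (x : Fin n → Fˣ) (i : Fin n) (c : Fˣ) :
    (fun j => Additive.ofMul (Function.update x i c j)) =
      Function.update (fun j => Additive.ofMul (x j)) i (Additive.ofMul c) := by
  funext j
  by_cases hj : j = i
  · subst hj; simp
  · simp [Function.update_of_ne hj]

lemma symbol_update_mul {n : ℕ} (x : Fin n → Fˣ) (i : Fin n) (a b : Fˣ) :
    symbol (Function.update x i (a * b)) =
      symbol (Function.update x i a) + symbol (Function.update x i b) := by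
  unfold symbol
  rw [ofMul_update, ofMul_update x i a, ofMul_update x i b, ofMul_mul,
    MultilinearMap.map_update_add, map_add]

lemma symbol_eq_zero_of_eq_one {n : ℕ} (x : Fin n → Fˣ) (i : Fin n) (h : x i = 1) :
    symbol x = 0 := by
  unfold symbol
  rw [MultilinearMap.map_coord_zero _ i (by simp [h]), map_zero]

lemma symbol_update_one {n : ℕ} (x : Fin n → Fˣ) (i : Fin n) :
    symbol (Function.update x i 1) = 0 :=
  symbol_eq_zero_of_eq_one _ i (by simp)

lemma symbol_update_inv {n : ℕ} (x : Fin n → Fˣ) (i : Fin n) (a : Fˣ) :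
    symbol (Function.update x i a⁻¹) = - symbol (Function.update x i a) := by
  have h := symbol_update_mul x i a a⁻¹
  rw [mul_inv_cancel, symbol_update_one] at h
  exact eq_neg_of_add_eq_zero_right h.symm

lemma symbol_update_pow {n : ℕ} (x : Fin n → Fˣ) (i : Fin n) (a : Fˣ) (k : ℕ) :
    symbol (Function.update x i (a ^ k)) = k • symbol (Function.update x i a) := by
  induction k with
  | zero => rw [pow_zero, symbol_update_one, zero_nsmul]
  | succ k ih => rw [pow_succ, symbol_update_mul, ih, succ_nsmul]

lemma symbol_update_zpow {n : ℕ} (x : Fin n → Fˣ) (i : Fin n) (a : Fˣ) (k : ℤ) :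
    symbol (Function.update x i (a ^ k)) = k • symbol (Function.update x i a) := by
  cases k with
  | ofNat k => simpa using symbol_update_pow x i a k
  | negSucc k =>
    rw [zpow_negSucc, symbol_update_inv, symbol_update_pow, negSucc_zsmul]

/-- `K F n` is generated by symbols. -/
theorem closure_symbol_eq_top (n : ℕ) :
    AddSubgroup.closure (Set.range (symbol : (Fin n → Fˣ) → K F n)) = ⊤ := by
  rw [eq_top_iff]
  rintro z -
  obtain ⟨t, rfl⟩ := mk_surjective F n z
  induction t using PiTensorProduct.induction_on with
  | smul_tprod r f =>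
    have h1 : mk F n (r • PiTensorProduct.tprod ℤ f) = r • mk F n (PiTensorProduct.tprod ℤ f) :=
      map_zsmul (mk F n) r _
    rw [h1]
    exact AddSubgroup.zsmul_mem _
      (AddSubgroup.subset_closure (Set.mem_range.2 ⟨fun i => (f i).toMul, rfl⟩)) r
  | add x y hx hy =>
    rw [map_add]
    exact AddSubgroup.add_mem _ hx hy

theorem K_induction {n : ℕ} {P : K F n → Prop} (hs : ∀ x : Fin n → Fˣ, P (symbol x)) (h0 : P 0)
    (hadd : ∀ a b, P a → P b → P (a + b)) (hneg : ∀ a, P a → P (-a)) (z : K F n) : P z := by
  have hz : z ∈ AddSubgroup.closure (Set.range (symbol : (Fin n → Fˣ) → K F n)) := by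
    rw [closure_symbol_eq_top]; trivial
  induction hz using AddSubgroup.closure_induction with
  | mem x hx => obtain ⟨y, rfl⟩ := hx; exact hs y
  | zero => exact h0
  | add x y _ _ hx hy => exact hadd x y hx hy
  | neg x _ hx => exact hneg x hx

/-- `{…, a, …, -a, …} = 0`. -/
theorem symbol_eq_zero_of_neg {n : ℕ} (x : Fin n → Fˣ) (i j : Fin n) (hij : i < j)
    (h : x j = - x i) : symbol x = 0 := by
  have hne : i ≠ j := ne_of_lt hij
  by_cases ha : x i = 1
  · exact symbol_eq_zero_of_eq_one x i ha
  set a := x i with ha_def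
  have ha1 : (1 : F) - (a : F) ≠ 0 := by
    intro h0
    apply ha
    ext
    rw [Units.val_one]
    exact (sub_eq_zero.1 h0).symm
  have ha2 : (1 : F) - ((a⁻¹ : Fˣ) : F) ≠ 0 := by
    intro h0
    apply ha
    have : (a⁻¹ : Fˣ) = 1 := by
      ext
      rw [Units.val_one]
      exact (sub_eq_zero.1 h0).symm
    exact inv_eq_one.1 this
  set u : Fˣ := Units.mk0 _ ha1 with hu
  set v : Fˣ := Units.mk0 _ ha2 with hv
  have hxj : x j = u * v⁻¹ := by
    rw [h]
    ext
    simp only [Units.val_neg, Units.val_mul, Units.val_inv_eq_inv_val, hu, hv, Units.val_mk0]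
    have h3 : (a : F) ≠ 0 := a.ne_zero
    have ha2' : (1 : F) - (a : F)⁻¹ ≠ 0 := by
      rw [← Units.val_inv_eq_inv_val]; exact ha2
    rw [eq_mul_inv_iff_mul_eq₀ ha2', mul_sub, mul_one, neg_mul, mul_inv_cancel₀ h3]
    ring
  have hx : x = Function.update x j (u * v⁻¹) := by
    rw [← hxj, Function.update_eq_self]
  rw [hx, symbol_update_mul, symbol_update_inv]
  have h1 : symbol (Function.update x j u) = 0 := by
    refine symbol_eq_zero_of_isSteinberg _ ⟨i, j, hij, ?_⟩
    rw [Function.update_of_ne hne, Function.update_self, hu, Units.val_mk0, ← ha_def]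
    ring
  have h2 : symbol (Function.update x j v) = 0 := by
    set y := Function.update x j v with hy
    have hyi : y i = (a⁻¹)⁻¹ := by
      rw [hy, Function.update_of_ne hne, inv_inv]
    have hy' : y = Function.update y i ((a⁻¹)⁻¹) := by
      rw [← hyi, Function.update_eq_self]
    rw [hy', symbol_update_inv, neg_eq_zero]
    refine symbol_eq_zero_of_isSteinberg _ ⟨i, j, hij, ?_⟩
    rw [Function.update_self, Function.update_of_ne hne.symm, hy, Function.update_self, hv,
      Units.val_mk0]
    ring
  rw [h1, h2, neg_zero, add_zero]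

/-- The symbol as a function of two chosen slots `i < j`. -/
noncomputable def S2 {n : ℕ} (x : Fin n → Fˣ) (i j : Fin n) (u v : Fˣ) : K F n :=
  symbol (Function.update (Function.update x i u) j v)

section S2

variable {n : ℕ} (x : Fin n → Fˣ) {i j : Fin n} (hij : i < j)

lemma S2_mul_right (i j : Fin n) (u v v' : Fˣ) : S2 x i j u (v * v') = S2 x i j u v + S2 x i j u v' :=
  symbol_update_mul _ j v v'

include hij in
lemma S2_mul_left (u u' v : Fˣ) : S2 x i j (u * u') v = S2 x i j u v + S2 x i j u' v := by
  have hne : i ≠ j := ne_of_lt hij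
  unfold S2
  rw [Function.update_comm hne (u * u') v x, Function.update_comm hne u v x,
    Function.update_comm hne u' v x]
  exact symbol_update_mul _ i u u'

lemma S2_one_right (i j : Fin n) (u : Fˣ) : S2 x i j u 1 = 0 := symbol_update_one _ j

include hij in
lemma S2_one_left (v : Fˣ) : S2 x i j 1 v = 0 := by
  have hne : i ≠ j := ne_of_lt hij
  unfold S2
  rw [Function.update_comm hne 1 v x]
  exact symbol_update_one _ i

lemma S2_pow_right (i j : Fin n) (u v : Fˣ) (k : ℕ) : S2 x i j u (v ^ k) = k • S2 x i j u v :=
  symbol_update_pow _ j v k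

include hij in
lemma S2_pow_left (u v : Fˣ) (k : ℕ) : S2 x i j (u ^ k) v = k • S2 x i j u v := by
  have hne : i ≠ j := ne_of_lt hij
  unfold S2
  rw [Function.update_comm hne (u ^ k) v x, Function.update_comm hne u v x]
  exact symbol_update_pow _ i u k

lemma S2_zpow_right (i j : Fin n) (u v : Fˣ) (k : ℤ) : S2 x i j u (v ^ k) = k • S2 x i j u v :=
  symbol_update_zpow _ j v k

include hij in
lemma S2_zpow_left (u v : Fˣ) (k : ℤ) : S2 x i j (u ^ k) v = k • S2 x i j u v := by
  have hne : i ≠ j := ne_of_lt hij
  unfold S2
  rw [Function.update_comm hne (u ^ k) v x, Function.update_comm hne u v x]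
  exact symbol_update_zpow _ i u k

lemma S2_inv_right (i j : Fin n) (u v : Fˣ) : S2 x i j u v⁻¹ = - S2 x i j u v :=
  symbol_update_inv _ j v

include hij in
lemma S2_inv_left (u v : Fˣ) : S2 x i j u⁻¹ v = - S2 x i j u v := by
  have h := S2_mul_left x hij u u⁻¹ v
  rw [mul_inv_cancel, S2_one_left x hij] at h
  exact eq_neg_of_add_eq_zero_right h.symm

include hij in
lemma S2_neg (u : Fˣ) : S2 x i j u (-u) = 0 := by
  have hne : i ≠ j := ne_of_lt hij
  refine symbol_eq_zero_of_neg _ i j hij ?_
  rw [Function.update_self, Function.update_of_ne hne, Function.update_self]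

include hij in
lemma S2_steinberg (u v : Fˣ) (h : (u : F) + (v : F) = 1) : S2 x i j u v = 0 := by
  have hne : i ≠ j := ne_of_lt hij
  refine symbol_eq_zero_of_isSteinberg _ ⟨i, j, hij, ?_⟩
  rw [Function.update_self, Function.update_of_ne hne, Function.update_self]
  exact h

lemma S2_self (i j : Fin n) : S2 x i j (x i) (x j) = symbol x := by
  unfold S2
  rw [Function.update_eq_self]
  by_cases h : i = j
  · subst h; rw [Function.update_eq_self]
  · rw [Function.update_eq_self]

include hij in
lemma S2_anticomm (u v : Fˣ) : S2 x i j u v = - S2 x i j v u := by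
  have h1 : S2 x i j (u * v) (-(u * v)) = 0 := S2_neg x hij _
  have h2 : S2 x i j u (-(u * v)) = S2 x i j u v := by
    have : -(u * v) = (-u) * v := by rw [neg_mul]
    rw [this, S2_mul_right, S2_neg x hij, zero_add]
  have h3 : S2 x i j v (-(u * v)) = S2 x i j v u := by
    have : -(u * v) = (-v) * u := by rw [neg_mul, mul_comm]
    rw [this, S2_mul_right, S2_neg x hij, zero_add]
  rw [S2_mul_left x hij, h2, h3] at h1
  exact eq_neg_of_add_eq_zero_left h1

lemma S2_neg_one_add (i j : Fin n) (u : Fˣ) : S2 x i j u (-1) + S2 x i j u (-1) = 0 := by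
  rw [← S2_mul_right]
  have h4 : (-1 : Fˣ) * (-1) = 1 := by simp
  rw [h4, S2_one_right]

include hij in
lemma S2_self_eq (u : Fˣ) : S2 x i j u u = S2 x i j u (-1) := by
  have h1 : S2 x i j u (-u) = 0 := S2_neg x hij u
  have : -u = (-1) * u := by rw [neg_one_mul]
  rw [this, S2_mul_right] at h1
  have h2 := S2_neg_one_add x i j u
  have h3 : S2 x i j u u = - S2 x i j u (-1) := eq_neg_of_add_eq_zero_right h1
  rw [h3]
  exact (eq_neg_of_add_eq_zero_left h2).symm

end S2

/-- Swapping two entries of a symbol changes its sign. -/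
theorem symbol_comp_swap {n : ℕ} (x : Fin n → Fˣ) (i j : Fin n) (hij : i < j) :
    symbol (x ∘ Equiv.swap i j) = - symbol x := by
  have hne : i ≠ j := ne_of_lt hij
  -- the bi-additive function S
  let S : Fˣ → Fˣ → K F n := fun u v => symbol (Function.update (Function.update x i u) j v)
  have S_mul_right : ∀ u v v', S u (v * v') = S u v + S u v' := fun u v v' =>
    symbol_update_mul _ j v v'
  have S_mul_left : ∀ u u' v, S (u * u') v = S u v + S u' v := by
    intro u u' v
    show symbol (Function.update (Function.update x i (u * u')) j v) =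
      symbol (Function.update (Function.update x i u) j v) +
        symbol (Function.update (Function.update x i u') j v)
    rw [Function.update_comm hne (u * u') v x, Function.update_comm hne u v x,
      Function.update_comm hne u' v x]
    exact symbol_update_mul _ i u u'
  have S_neg : ∀ u, S u (-u) = 0 := by
    intro u
    refine symbol_eq_zero_of_neg _ i j hij ?_
    rw [Function.update_self, Function.update_of_ne hne, Function.update_self]
  set a := x i with ha
  set b := x j with hb
  have h1 : S (a * b) (-(a * b)) = 0 := S_neg _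
  have h2 : S a (-(a * b)) = S a b := by
    have : -(a * b) = (-a) * b := by rw [neg_mul]
    rw [this, S_mul_right, S_neg, zero_add]
  have h3 : S b (-(a * b)) = S b a := by
    have : -(a * b) = (-b) * a := by rw [neg_mul, mul_comm]
    rw [this, S_mul_right, S_neg, zero_add]
  rw [S_mul_left, h2, h3] at h1
  have hSab : S a b = symbol x := by
    show symbol (Function.update (Function.update x i a) j b) = symbol x
    rw [ha, hb, Function.update_eq_self, Function.update_eq_self]
  have hSba : S b a = symbol (x ∘ Equiv.swap i j) := by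
    show symbol (Function.update (Function.update x i b) j a) = symbol (x ∘ Equiv.swap i j)
    congr 1
    funext k
    by_cases hki : k = i
    · subst hki
      rw [Function.update_of_ne hne, Function.update_self, Function.comp_apply,
        Equiv.swap_apply_left]
    · by_cases hkj : k = j
      · subst hkj
        rw [Function.update_self, Function.comp_apply, Equiv.swap_apply_right]
      · rw [Function.update_of_ne hkj, Function.update_of_ne hki, Function.comp_apply,
          Equiv.swap_apply_of_ne_of_ne hki hkj]
  rw [hSab, hSba] at h1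
  exact eq_neg_of_add_eq_zero_right h1

/-- Symbols are alternating up to sign. -/
theorem symbol_comp_perm {n : ℕ} (σ : Equiv.Perm (Fin n)) :
    ∀ x : Fin n → Fˣ, symbol (x ∘ σ) = ((Equiv.Perm.sign σ : ℤˣ) : ℤ) • symbol x := by
  induction σ using Equiv.Perm.swap_induction_on with
  | one => intro x; simp
  | swap_mul f a b hab ih =>
    intro x
    have h1 : x ∘ (Equiv.swap a b * f) = (x ∘ Equiv.swap a b) ∘ f := by
      funext k; simp [Equiv.Perm.mul_apply]
    have h2 : symbol (x ∘ Equiv.swap a b) = - symbol x := by
      rcases lt_or_gt_of_ne hab with h | h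
      · exact symbol_comp_swap x a b h
      · rw [Equiv.swap_comm]; exact symbol_comp_swap x b a h
    rw [h1, ih, h2, Equiv.Perm.sign_mul, Equiv.Perm.sign_swap hab]
    simp

lemma finRotate_pow_val (k n : ℕ) (i : Fin (k + 1)) :
    (((finRotate (k + 1)) ^ n) i).val = (i.val + n) % (k + 1) := by
  induction n with
  | zero => simp [Nat.mod_eq_of_lt i.isLt]
  | succ n ih =>
    rw [pow_succ', Equiv.Perm.mul_apply, finRotate_apply, Fin.val_add, ih, Fin.val_one',
      ← Nat.add_mod, Nat.add_assoc]

lemma sign_of_val_eq (N n : ℕ) (σ : Equiv.Perm (Fin N))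
    (h : ∀ i, (σ i).val = (i.val + n) % N) :
    Equiv.Perm.sign σ = ((-1 : ℤˣ) ^ (N - 1)) ^ n := by
  cases N with
  | zero =>
    have : σ = 1 := Subsingleton.elim _ _
    simp [this]
  | succ k =>
    have : σ = (finRotate (k + 1)) ^ n := by
      ext i
      rw [h, finRotate_pow_val]
    rw [this, map_pow, sign_finRotate]

lemma parity_aux (n m : ℕ) : ((n + m - 1) * n) % 2 = (n * m) % 2 := by
  rw [Nat.mul_mod, Nat.mul_mod n m]
  rcases Nat.mod_two_eq_zero_or_one n with hn | hn
  · rw [hn]; simp
  · have h1 : (n + m - 1) % 2 = m % 2 := by omega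
    rw [hn, h1, mul_comm]

/-- The block swap permutation of `Fin (n + m)`. -/
def blockSwap (n m : ℕ) : Equiv.Perm (Fin (n + m)) :=
  (finCongr (Nat.add_comm n m)).trans finAddFlip

lemma blockSwap_val (n m : ℕ) (i : Fin (n + m)) :
    (blockSwap n m i).val = (i.val + n) % (n + m) := by
  obtain ⟨i, hi⟩ := i
  by_cases him : i < m
  · have : blockSwap n m ⟨i, hi⟩ = ⟨n + i, by omega⟩ := by
      simp only [blockSwap, Equiv.trans_apply, finCongr_apply, Fin.cast_mk]
      exact finAddFlip_apply_mk_left him
    rw [this]
    simp only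
    rw [Nat.mod_eq_of_lt (by omega)]
    omega
  · have him' : m ≤ i := not_lt.1 him
    have : blockSwap n m ⟨i, hi⟩ = ⟨i - m, by omega⟩ := by
      simp only [blockSwap, Equiv.trans_apply, finCongr_apply, Fin.cast_mk]
      exact finAddFlip_apply_mk_right him' (by omega)
    rw [this]
    simp only
    have h2 : i + n = (i - m) + (n + m) := by omega
    rw [h2, Nat.add_mod_right, Nat.mod_eq_of_lt (by omega)]

lemma sign_blockSwap (n m : ℕ) :
    ((Equiv.Perm.sign (blockSwap n m) : ℤˣ) : ℤ) = (-1 : ℤ) ^ (n * m) := by
  rw [sign_of_val_eq (n + m) n (blockSwap n m) (blockSwap_val n m)]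
  simp only [Units.val_pow_eq_pow_val, Units.val_neg, Units.val_one]
  rw [← pow_mul, neg_one_pow_eq_pow_mod_two, parity_aux, ← neg_one_pow_eq_pow_mod_two]

lemma append_comp_blockSwap {α : Type*} {n m : ℕ} (a : Fin n → α) (b : Fin m → α) :
    (Fin.append a b) ∘ (blockSwap n m) = (Fin.append b a) ∘ Fin.cast (Nat.add_comm n m) := by
  funext i
  simp only [Function.comp_apply, blockSwap, Equiv.trans_apply, finCongr_apply]
  generalize Fin.cast (Nat.add_comm n m) i = k
  induction k using Fin.addCases with
  | left k => rw [finAddFlip_apply_castAdd, Fin.append_right, Fin.append_left]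
  | right k => rw [finAddFlip_apply_natAdd, Fin.append_left, Fin.append_right]

/-- Graded commutativity on symbols. -/
theorem symbol_append_comm {n m : ℕ} (a : Fin n → Fˣ) (b : Fin m → Fˣ) :
    symbol (Fin.append a b) =
      ((-1 : ℤ) ^ (n * m)) • symbol ((Fin.append b a) ∘ Fin.cast (Nat.add_comm n m)) := by
  rw [← append_comp_blockSwap, symbol_comp_perm, sign_blockSwap, smul_smul, ← pow_add]
  have : Even (n * m + n * m) := ⟨n * m, rfl⟩
  rw [this.neg_one_pow, one_smul]

/-- Graded commutativity of the product of Milnor K-groups. -/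
theorem mul_comm_graded (n m : ℕ) (x : K F n) (y : K F m) :
    mul F n m x y = ((-1 : ℤ) ^ (n * m)) • cast F (Nat.add_comm m n) (mul F m n y x) := by
  induction x using K_induction with
  | hs a =>
    induction y using K_induction with
    | hs b =>
      rw [mul_symbol_symbol, mul_symbol_symbol, cast_symbol]
      exact symbol_append_comm a b
    | h0 => simp
    | hadd y y' hy hy' =>
      rw [map_add, hy, hy', map_add, AddMonoidHom.add_apply, map_add, smul_add]
    | hneg y hy =>
      rw [map_neg, hy, map_neg, AddMonoidHom.neg_apply, map_neg, smul_neg]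
  | h0 => simp
  | hadd x x' hx hx' =>
    rw [map_add, AddMonoidHom.add_apply, hx, hx', map_add, map_add, smul_add]
  | hneg x hx =>
    rw [map_neg, AddMonoidHom.neg_apply, hx, map_neg, map_neg, smul_neg]

end Groth.Agent.H66.MilKlib
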