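import Mathlib
import Groth.Agent.H54.AffineTrdeg

set_option autoImplicit false
universe u

namespace Groth.Agent.H66.NoethRefined

open NoetherNormalization MvPolynomial Ideal
open private T T_leadingcoeff_isUnit from Mathlib.RingTheory.NoetherNormalization

section Aux

/-- A ring hom `R[X] → S[X]` acting like `Polynomial.map φ` for finite `φ` is finite. -/
lemma finite_of_map_like {R S : Type*} [CommRing R] [CommRing S] (φ : R →+* S) (hφ : φ.Finite)
    (Ψ : Polynomial R →+* Polynomial S) (hC : ∀ r, Ψ (Polynomial.C r) = Polynomial.C (φ r))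
    (hX : Ψ Polynomial.X = Polynomial.X) : Ψ.Finite := by
  have hcomp : Ψ.comp (Polynomial.C : R →+* Polynomial R) =
      (Polynomial.C : S →+* Polynomial S).comp φ := RingHom.ext fun r => hC r
  have hft : Ψ.FiniteType := by
    have h1 : (Ψ.comp (Polynomial.C : R →+* Polynomial R)).FiniteType := by
      rw [hcomp]
      refine RingHom.FiniteType.comp ?_ hφ.finiteType
      exact (RingHom.finiteType_algebraMap (A := S) (B := Polynomial S)).mpr inferInstance
    exact RingHom.FiniteType.of_comp_finiteType h1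
  refine RingHom.IsIntegral.to_finite ?_ hft
  intro p
  induction p using Polynomial.induction_on with
  | C s =>
    obtain ⟨P, hP, hPs⟩ := hφ.to_isIntegral s
    refine ⟨P.map Polynomial.C, hP.map _, ?_⟩
    rw [Polynomial.eval₂_map, hcomp, ← Polynomial.hom_eval₂, hPs, map_zero]
  | add p q hp hq => exact hp.add _ hq
  | monomial n s h =>
    rw [pow_succ, ← mul_assoc]
    refine h.mul _ ?_
    rw [← hX]
    exact RingHom.isIntegralElem_map _

/-- Substituting a polynomial with unit leading coefficient and positive degree is finite. -/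
lemma finite_of_aeval_like {R : Type*} [CommRing R] (G : Polynomial R)
    (hu : IsUnit G.leadingCoeff) (hd : 0 < G.natDegree)
    (ψ : Polynomial R →+* Polynomial R) (hC : ∀ r, ψ (Polynomial.C r) = Polynomial.C r)
    (hψX : ψ Polynomial.X = G) : ψ.Finite := by
  have hψC : ψ.comp (Polynomial.C : R →+* Polynomial R) = Polynomial.C :=
    RingHom.ext fun r => hC r
  have hft : ψ.FiniteType := by
    apply RingHom.FiniteType.of_comp_finiteType (f := (Polynomial.C : R →+* Polynomial R))
    rw [hψC]
    exact (RingHom.finiteType_algebraMap (A := R) (B := Polynomial R)).mpr inferInstance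
  refine RingHom.IsIntegral.to_finite ?_ hft
  have hX : ψ.IsIntegralElem Polynomial.X := by
    have hdeg : (Polynomial.C (Polynomial.X : Polynomial R)).degree <
        (G.map (Polynomial.C : R →+* Polynomial R)).degree := by
      rw [Polynomial.degree_map_eq_of_injective Polynomial.C_injective]
      exact lt_of_le_of_lt Polynomial.degree_C_le (Polynomial.natDegree_pos_iff_degree_pos.mp hd)
    have hlc : (G.map (Polynomial.C : R →+* Polynomial R) -
        Polynomial.C (Polynomial.X : Polynomial R)).leadingCoeff = Polynomial.C G.leadingCoeff := by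
      rw [Polynomial.leadingCoeff_sub_of_degree_lt hdeg,
        Polynomial.leadingCoeff_map_of_injective Polynomial.C_injective]
    have hQu : IsUnit (G.map (Polynomial.C : R →+* Polynomial R) -
        Polynomial.C (Polynomial.X : Polynomial R)).leadingCoeff := by
      rw [hlc]; exact hu.map (Polynomial.C : R →+* Polynomial R)
    refine ⟨hQu.unit⁻¹ • (G.map (Polynomial.C : R →+* Polynomial R) -
        Polynomial.C (Polynomial.X : Polynomial R)),
      Polynomial.monic_of_isUnit_leadingCoeff_inv_smul hQu, ?_⟩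
    have hQ0 : Polynomial.eval₂ ψ Polynomial.X (G.map (Polynomial.C : R →+* Polynomial R) -
        Polynomial.C (Polynomial.X : Polynomial R)) = 0 := by
      rw [Polynomial.eval₂_sub, Polynomial.eval₂_map, hψC, Polynomial.eval₂_C, hψX,
        Polynomial.eval₂_C_X, sub_self]
    rw [Units.smul_def, Polynomial.smul_eq_C_mul, Polynomial.eval₂_mul, hQ0, mul_zero]
  intro p
  induction p using Polynomial.induction_on with
  | C s =>
    have : (Polynomial.C s : Polynomial R) = ψ (Polynomial.C s) := by
      rw [← RingHom.comp_apply, hψC]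
    rw [this]; exact RingHom.isIntegralElem_map _
  | add p q hp hq => exact hp.add _ hq
  | monomial n s h =>
    rw [pow_succ, ← mul_assoc]
    exact h.mul _ hX

variable {k : Type u} [Field k]

lemma fse_symm_C {n : ℕ} (p : MvPolynomial (Fin n) k) :
    (MvPolynomial.finSuccEquiv k n).symm (Polynomial.C p) = rename Fin.succ p := by
  rw [AlgEquiv.symm_apply_eq]
  induction p using MvPolynomial.induction_on with
  | C a => simp [finSuccEquiv_apply]
  | add p q hp hq => rw [map_add, map_add, map_add, ← hp, ← hq]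
  | mul_X p i hp => rw [map_mul, map_mul, map_mul, ← hp, rename_X, finSuccEquiv_X_succ]

/-- the ring hom `F ↦ F(0, x_1, …, x_m)`. -/
noncomputable def rho (k : Type u) [Field k] (m : ℕ) :
    MvPolynomial (Fin (m + 1)) k →+* MvPolynomial (Fin m) k :=
  (Polynomial.constantCoeff).comp (finSuccEquiv k m).toAlgHom.toRingHom

lemma rho_apply {m : ℕ} (F : MvPolynomial (Fin (m + 1)) k) :
    rho k m F = (finSuccEquiv k m F).coeff 0 := rfl

/-- the ideal generated by the first `d` variables. -/
noncomputable def Kd (k : Type u) [Field k] (n d : ℕ) : Ideal (MvPolynomial (Fin n) k) :=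
  Ideal.span (Set.range fun i : {i : Fin n // (i : ℕ) < d} =>
    (X (i : Fin n) : MvPolynomial (Fin n) k))

lemma X_mem_Kd {n d : ℕ} (i : Fin n) (hi : (i : ℕ) < d) :
    (X i : MvPolynomial (Fin n) k) ∈ Kd k n d :=
  Ideal.subset_span ⟨⟨i, hi⟩, rfl⟩

lemma Kd_le {n d : ℕ} (L : Ideal (MvPolynomial (Fin n) k))
    (h : ∀ i : Fin n, (i : ℕ) < d → (X i : MvPolynomial (Fin n) k) ∈ L) : Kd k n d ≤ L := by
  rw [Kd, Ideal.span_le]
  rintro _ ⟨⟨i, hi⟩, rfl⟩
  exact h i hi

lemma Kd_zero {n : ℕ} : Kd k n 0 = ⊥ := by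
  rw [eq_bot_iff]
  exact Kd_le _ fun i hi => absurd hi (Nat.not_lt_zero _)

lemma comap_rho_Kd {m d' : ℕ} : (Kd k m d').comap (rho k m) = Kd k (m + 1) (d' + 1) := by
  apply le_antisymm
  · intro F hF
    rw [Ideal.mem_comap, rho_apply] at hF
    have hdecomp : F = (finSuccEquiv k m).symm (Polynomial.divX (finSuccEquiv k m F)) * X 0 +
        rename Fin.succ ((finSuccEquiv k m F).coeff 0) := by
      have h1 := Polynomial.divX_mul_X_add (finSuccEquiv k m F)
      have h2 := congrArg (finSuccEquiv k m).symm h1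
      rw [AlgEquiv.symm_apply_apply, map_add, map_mul, fse_symm_C] at h2
      have h3 : (finSuccEquiv k m).symm Polynomial.X = X 0 := by
        rw [AlgEquiv.symm_apply_eq, finSuccEquiv_X_zero]
      rw [h3] at h2
      exact h2.symm
    rw [hdecomp]
    refine Ideal.add_mem _ (Ideal.mul_mem_left _ _ (X_mem_Kd 0 (by simp))) ?_
    have h4 : rename Fin.succ ((finSuccEquiv k m F).coeff 0) ∈
        (Kd k m d').map (rename Fin.succ :
          MvPolynomial (Fin m) k →ₐ[k] MvPolynomial (Fin (m + 1)) k) :=
      Ideal.mem_map_of_mem _ hF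
    refine (?_ : (Kd k m d').map (rename Fin.succ :
          MvPolynomial (Fin m) k →ₐ[k] MvPolynomial (Fin (m + 1)) k) ≤ _) h4
    rw [Ideal.map_le_iff_le_comap]
    apply Kd_le
    intro i hi
    rw [Ideal.mem_comap, rename_X]
    exact X_mem_Kd _ (by simpa using hi)
  · apply Kd_le
    intro j hj
    rw [Ideal.mem_comap, rho_apply]
    cases j using Fin.cases with
    | zero =>
      rw [finSuccEquiv_X_zero, Polynomial.coeff_X_zero]
      exact Ideal.zero_mem _
    | succ i =>
      rw [finSuccEquiv_X_succ, Polynomial.coeff_C_zero]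
      exact X_mem_Kd _ (by simpa using hj)

theorem exists_normalization : ∀ (n : ℕ) (I : Ideal (MvPolynomial (Fin n) k)), I ≠ ⊤ →
    ∃ (d : ℕ) (φ : MvPolynomial (Fin n) k →ₐ[k] MvPolynomial (Fin n) k), d ≤ n ∧
      φ.Finite ∧ I.comap φ = Kd k n d := by
  intro n
  induction n with
  | zero =>
    intro I hI
    refine ⟨0, AlgHom.id k _, le_rfl, AlgHom.Finite.id _ _, ?_⟩
    have hI0 : I = ⊥ := by
      rw [eq_bot_iff]
      intro a ha
      rw [Ideal.mem_bot]
      by_contra hne
      obtain ⟨c, rfl⟩ : ∃ c, a = C c := ⟨_, eq_C_of_isEmpty a⟩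
      have hc : c ≠ 0 := fun h => hne (by rw [h, map_zero])
      apply hI
      rw [Ideal.eq_top_iff_one]
      have h1 : (C c⁻¹ : MvPolynomial (Fin 0) k) * C c = 1 := by
        rw [← map_mul, inv_mul_cancel₀ hc, map_one]
      rw [← h1]
      exact I.mul_mem_left _ ha
    rw [Kd_zero, hI0]
    ext x
    simp
  | succ m ih =>
    intro I hI
    by_cases eqi : I = ⊥
    · refine ⟨0, AlgHom.id k _, Nat.zero_le _, AlgHom.Finite.id _ _, ?_⟩
      rw [Kd_zero, eqi]
      ext x
      simp
    · obtain ⟨f, fi, fne⟩ := Submodule.exists_mem_ne_zero_of_ne_bot eqi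
      obtain ⟨θ, hθf⟩ : ∃ θ : MvPolynomial (Fin (m + 1)) k ≃ₐ[k]
          Polynomial (MvPolynomial (Fin m) k), IsUnit (θ f).leadingCoeff :=
        ⟨(T f).trans (finSuccEquiv k m), T_leadingcoeff_isUnit f fne⟩
      obtain ⟨G, hG⟩ : ∃ G, G = θ f := ⟨_, rfl⟩
      rw [← hG] at hθf
      obtain ⟨J, memJ⟩ : ∃ J : Ideal (Polynomial (MvPolynomial (Fin m) k)),
          ∀ p, p ∈ J ↔ θ.symm p ∈ I :=
        ⟨I.comap θ.symm.toAlgHom.toRingHom, fun p => Iff.rfl⟩
      have GJ : G ∈ J := by rw [memJ, hG, AlgEquiv.symm_apply_apply]; exact fi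
      have oneJ : (1 : Polynomial (MvPolynomial (Fin m) k)) ∉ J := by
        rw [memJ, map_one]; exact fun h => hI ((Ideal.eq_top_iff_one I).mpr h)
      have hd : 0 < G.natDegree := by
        by_contra h0
        have h0' : G.natDegree = 0 := by omega
        have hGC : G = Polynomial.C (G.coeff 0) := Polynomial.eq_C_of_natDegree_eq_zero h0'
        have hlc : G.leadingCoeff = G.coeff 0 := by rw [Polynomial.leadingCoeff, h0']
        have hGu : IsUnit G := by
          rw [hGC]; exact Polynomial.isUnit_C.mpr (hlc ▸ hθf)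
        apply oneJ
        rw [Ideal.eq_top_of_isUnit_mem J GJ hGu]
        trivial
      obtain ⟨I', memI'⟩ : ∃ I' : Ideal (MvPolynomial (Fin m) k),
          ∀ c, c ∈ I' ↔ Polynomial.C c ∈ J :=
        ⟨J.comap (Polynomial.C : MvPolynomial (Fin m) k →+* _), fun c => Iff.rfl⟩
      have hI'top : I' ≠ ⊤ := by
        intro h
        apply oneJ
        have h1 : (1 : MvPolynomial (Fin m) k) ∈ I' := by rw [h]; trivial
        rw [memI', map_one] at h1
        exact h1
      obtain ⟨d', φ', hd'm, hfin', hcomap'⟩ := ih I' hI'top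
      -- the new map
      obtain ⟨a2, ha2, ha2fin⟩ : ∃ a2 : Polynomial (MvPolynomial (Fin m) k) →ₐ[k]
          Polynomial (MvPolynomial (Fin m) k), (∀ p, a2 p = Polynomial.aeval G p) ∧ a2.Finite := by
        refine ⟨(Polynomial.aeval G : Polynomial (MvPolynomial (Fin m) k) →ₐ[
          MvPolynomial (Fin m) k] _).restrictScalars k, fun p => rfl, ?_⟩
        refine finite_of_aeval_like G hθf hd _ (fun r => ?_) ?_
        · show Polynomial.aeval G (Polynomial.C r) = Polynomial.C r
          rw [Polynomial.aeval_C, Polynomial.C_eq_algebraMap]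
        · show Polynomial.aeval G Polynomial.X = G
          rw [Polynomial.aeval_X]
      obtain ⟨a3, ha3, ha3fin⟩ : ∃ a3 : Polynomial (MvPolynomial (Fin m) k) →ₐ[k]
          Polynomial (MvPolynomial (Fin m) k),
          (∀ p, a3 p = p.map φ'.toRingHom) ∧ a3.Finite := by
        refine ⟨Polynomial.mapAlgHom φ', fun p => rfl, ?_⟩
        refine finite_of_map_like φ'.toRingHom hfin' _ (fun r => ?_) ?_
        · show Polynomial.map φ'.toRingHom (Polynomial.C r) = _
          rw [Polynomial.map_C]
        · show Polynomial.map φ'.toRingHom Polynomial.X = _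
          rw [Polynomial.map_X]
      obtain ⟨Φ, hΦ, hΦfin⟩ : ∃ Φ : MvPolynomial (Fin (m + 1)) k →ₐ[k] MvPolynomial (Fin (m + 1)) k,
          (∀ F, Φ F = θ.symm (Polynomial.aeval G
            ((finSuccEquiv k m F).map φ'.toRingHom))) ∧ Φ.Finite := by
        refine ⟨θ.symm.toAlgHom.comp (a2.comp (a3.comp (finSuccEquiv k m).toAlgHom)),
          fun F => ?_, ?_⟩
        · rw [AlgHom.comp_apply, AlgHom.comp_apply, AlgHom.comp_apply, ha2, ha3]; rfl
        · exact AlgHom.Finite.comp (AlgHom.Finite.of_surjective _ θ.symm.surjective)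
            (AlgHom.Finite.comp ha2fin (AlgHom.Finite.comp ha3fin
              (AlgHom.Finite.of_surjective _ (finSuccEquiv k m).surjective)))
      have key : ∀ F, F ∈ I.comap Φ ↔ rho k m F ∈ Kd k m d' := by
        intro F
        rw [← hcomap', Ideal.mem_comap, Ideal.mem_comap, memI', hΦ, ← memJ]
        obtain ⟨p, hp⟩ : ∃ p, p = (finSuccEquiv k m F).map φ'.toRingHom := ⟨_, rfl⟩
        rw [← hp]
        have hp0 : p.coeff 0 = φ' (rho k m F) := by
          rw [hp, Polynomial.coeff_map, rho_apply]; rfl
        have hdec : Polynomial.aeval G p =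
            Polynomial.aeval G (Polynomial.divX p) * G + Polynomial.C (p.coeff 0) := by
          have := congrArg (Polynomial.aeval G) (Polynomial.divX_mul_X_add p)
          rw [map_add, map_mul, Polynomial.aeval_X, Polynomial.aeval_C] at this
          rw [Polynomial.C_eq_algebraMap]; exact this.symm
        rw [hdec, ← hp0]
        exact Ideal.add_mem_iff_right J (J.mul_mem_left _ GJ)
      refine ⟨d' + 1, Φ, Nat.succ_le_succ hd'm, hΦfin, ?_⟩
      rw [← comap_rho_Kd]
      ext F
      rw [key F, Ideal.mem_comap]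

end Aux

end Groth.Agent.H66.NoethRefined
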