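import Mathlib
import Groth.Agent.H54.AffineTrdeg
import Groth.Agent.H24.CatenaryOrder
import Groth.Agent.H66.NoethRefined

set_option autoImplicit false
universe u

namespace Groth.Agent.H66.NoethChain

open NoetherNormalization MvPolynomial Ideal
open Groth.Agent.H66.NoethRefined
open private T T_leadingcoeff_isUnit from Mathlib.RingTheory.NoetherNormalization

variable {k : Type u} [Field k]

lemma cancel_nat {x : WithBot ℕ∞} {a n : ℕ}
    (h : ((a : ℕ) : WithBot ℕ∞) + ((n : ℕ) : WithBot ℕ∞) ≤ x + ((n : ℕ) : WithBot ℕ∞)) :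
    ((a : ℕ) : WithBot ℕ∞) ≤ x := by
  induction x using WithBot.recBotCoe with
  | bot =>
    rw [WithBot.bot_add] at h
    rcases WithBot.add_eq_bot.mp (le_bot_iff.mp h) with h | h <;>
      exact absurd h (WithBot.natCast_ne_bot _)
  | coe y =>
    induction y using ENat.recTopCoe with
    | top => rw [WithBot.coe_top]; exact le_top
    | coe d =>
      have h' : a + n ≤ d + n := by exact_mod_cast h
      have : a ≤ d := by omega
      exact_mod_cast this

lemma eq_bot_of_ne_top_zero (I : Ideal (MvPolynomial (Fin 0) k)) (hI : I ≠ ⊤) : I = ⊥ := by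
  rw [eq_bot_iff]
  intro a ha
  rw [Ideal.mem_bot]
  by_contra hne
  obtain ⟨c, rfl⟩ : ∃ c, a = C c := ⟨_, eq_C_of_isEmpty a⟩
  have hc : c ≠ 0 := fun h => hne (by rw [h, map_zero])
  apply hI
  rw [Ideal.eq_top_iff_one]
  have h1 : (C c⁻¹ : MvPolynomial (Fin 0) k) * C c = 1 := by
    rw [← map_mul, inv_mul_cancel₀ hc, map_one]
  rw [← h1]
  exact I.mul_mem_left _ ha

/-- A finite `k`-algebra endomorphism of a polynomial ring over a field is injective. -/
lemma injective_of_finite_endo {n : ℕ}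
    (φ : MvPolynomial (Fin n) k →ₐ[k] MvPolynomial (Fin n) k) (hφ : φ.Finite) :
    Function.Injective φ := by
  have hker : RingHom.ker φ.toRingHom = ⊥ := by
    by_contra hne
    haveI hprime : (RingHom.ker φ.toRingHom).IsPrime := RingHom.ker_isPrime _
    have hψinj : Function.Injective (RingHom.kerLift φ.toRingHom) := RingHom.kerLift_injective _
    have hψint : (RingHom.kerLift φ.toRingHom).IsIntegral := by
      have h1 : φ.toRingHom.IsIntegral := RingHom.Finite.to_isIntegral hφ
      have h2 : (RingHom.kerLift φ.toRingHom).comp (Ideal.Quotient.mk _) = φ.toRingHom :=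
        RingHom.ext fun x => rfl
      rw [← h2] at h1
      exact RingHom.IsIntegral.tower_top _ _ h1
    have hdim := Groth.Agent.H54.ringKrullDim_eq_of_ringHom_isIntegral_of_injective _ hψint hψinj
    have h2 := Groth.Agent.H24.height_add_ringKrullDim_quotient_le
      (⟨RingHom.ker φ.toRingHom, hprime⟩ : PrimeSpectrum (MvPolynomial (Fin n) k))
    have h2' : ((RingHom.ker φ.toRingHom).height : WithBot ℕ∞) +
        ringKrullDim (MvPolynomial (Fin n) k ⧸ RingHom.ker φ.toRingHom) ≤
        ringKrullDim (MvPolynomial (Fin n) k) := h2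
    rw [← hdim, Groth.Agent.H54.ringKrullDim_mvPolynomial_field] at h2'
    have hbot : (⊥ : Ideal (MvPolynomial (Fin n) k)) < RingHom.ker φ.toRingHom :=
      bot_lt_iff_ne_bot.mpr hne
    have h3 : (⊥ : Ideal (MvPolynomial (Fin n) k)).height + 1 ≤
        (RingHom.ker φ.toRingHom).height := Ideal.height_add_one_le_of_lt_of_isPrime hbot
    have h4 : (1 : ℕ∞) ≤ (RingHom.ker φ.toRingHom).height := le_trans le_add_self h3
    have h5 : (((1 : ℕ) : ℕ) : WithBot ℕ∞) + ((n : ℕ) : WithBot ℕ∞) ≤
        (((0 : ℕ) : ℕ) : WithBot ℕ∞) + ((n : ℕ) : WithBot ℕ∞) := by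
      refine le_trans ?_ (le_trans h2' (by simp))
      gcongr
      exact_mod_cast h4
    have h6 := cancel_nat h5
    have h7 : (1 : ℕ) ≤ 0 := by exact_mod_cast h6
    omega
  exact (RingHom.injective_iff_ker_eq_bot φ.toRingHom).mpr hker

lemma X_mem_Kd_iff {n c : ℕ} (i : Fin n) :
    (X i : MvPolynomial (Fin n) k) ∈ Kd k n c ↔ (i : ℕ) < c := by
  refine ⟨fun h => ?_, X_mem_Kd i⟩
  by_contra hic
  classical
  obtain ⟨ε, hε⟩ : ∃ ε : MvPolynomial (Fin n) k →ₐ[k] k,
      ∀ l : Fin n, ε (X l) = if (l : ℕ) < c then (0 : k) else 1 :=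
    ⟨aeval (fun l : Fin n => if (l : ℕ) < c then (0 : k) else 1), fun l => aeval_X _ l⟩
  have hker : Kd k n c ≤ RingHom.ker ε.toRingHom := by
    apply Kd_le
    intro l hl
    rw [RingHom.mem_ker]
    show ε (X l) = 0
    rw [hε, if_pos hl]
  have h1 : ε (X i) = 0 := by
    have := hker h
    rwa [RingHom.mem_ker] at this
  rw [hε, if_neg hic] at h1
  exact one_ne_zero h1

lemma Kd_mono {n a b : ℕ} (hab : a ≤ b) : Kd k n a ≤ Kd k n b :=
  Kd_le _ fun i hi => X_mem_Kd i (lt_of_lt_of_le hi hab)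

lemma Kd_le_Kd_iff {n a c : ℕ} (ha : a ≤ n) : Kd k n a ≤ Kd k n c ↔ a ≤ c := by
  refine ⟨fun h => ?_, Kd_mono⟩
  by_contra hca
  push Not at hca
  have hcn : c < n := lt_of_lt_of_le hca ha
  have h1 : (X ⟨c, hcn⟩ : MvPolynomial (Fin n) k) ∈ Kd k n a := X_mem_Kd _ hca
  have h2 := (X_mem_Kd_iff (⟨c, hcn⟩ : Fin n)).mp (h h1)
  exact lt_irrefl _ h2

lemma Kd_eq_span_image {n c : ℕ} :
    Kd k n c = Ideal.span (MvPolynomial.X '' {l : Fin n | (l : ℕ) < c}) := by
  unfold Kd
  congr 1
  ext x
  constructor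
  · rintro ⟨⟨i, hi⟩, rfl⟩; exact ⟨i, hi, rfl⟩
  · rintro ⟨i, hi, rfl⟩; exact ⟨⟨i, hi⟩, rfl⟩

section Calc

variable (k) in
/-- retraction onto the last `e` variables, killing the first `a`. -/
noncomputable def sig (a e : ℕ) : MvPolynomial (Fin (a + e)) k →ₐ[k] MvPolynomial (Fin e) k :=
  aeval (Fin.addCases (fun _ : Fin a => (0 : MvPolynomial (Fin e) k)) (fun l : Fin e => X l))

variable (k) in
/-- inclusion of the polynomial ring in the last `e` variables. -/
noncomputable def inc (a e : ℕ) : MvPolynomial (Fin e) k →ₐ[k] MvPolynomial (Fin (a + e)) k :=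
  rename (Fin.natAdd a)

lemma sig_X_left {a e : ℕ} (i : Fin a) : sig k a e (X (Fin.castAdd e i)) = 0 := by
  simp [sig]

lemma sig_X_right {a e : ℕ} (l : Fin e) : sig k a e (X (Fin.natAdd a l)) = X l := by
  simp [sig]

lemma inc_X {a e : ℕ} (l : Fin e) : inc k a e (X l) = X (Fin.natAdd a l) := by
  simp [inc]

lemma sig_inc {a e : ℕ} (p : MvPolynomial (Fin e) k) : sig k a e (inc k a e p) = p := by
  induction p using MvPolynomial.induction_on with
  | C r => simp [sig, inc]
  | add p q hp hq => rw [map_add, map_add, hp, hq]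
  | mul_X p i hp => rw [map_mul, map_mul, hp, inc_X, sig_X_right]

lemma sub_inc_sig_mem {a e : ℕ} (p : MvPolynomial (Fin (a + e)) k) :
    p - inc k a e (sig k a e p) ∈ Kd k (a + e) a := by
  induction p using MvPolynomial.induction_on with
  | C r =>
    have : inc k a e (sig k a e (C r)) = C r := by simp [sig, inc]
    rw [this, sub_self]; exact Ideal.zero_mem _
  | add p q hp hq =>
    rw [map_add, map_add, add_sub_add_comm]; exact Ideal.add_mem _ hp hq
  | mul_X p i hp =>
    have hXi : (X i : MvPolynomial (Fin (a + e)) k) - inc k a e (sig k a e (X i)) ∈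
        Kd k (a + e) a := by
      induction i using Fin.addCases with
      | left i => rw [sig_X_left, map_zero, sub_zero]; exact X_mem_Kd _ (by simp)
      | right l => rw [sig_X_right, inc_X, sub_self]; exact Ideal.zero_mem _
    have : p * X i - inc k a e (sig k a e (p * X i)) =
        (p - inc k a e (sig k a e p)) * X i +
          inc k a e (sig k a e p) * (X i - inc k a e (sig k a e (X i))) := by
      rw [map_mul, map_mul]; ring
    rw [this]
    exact Ideal.add_mem _ (Ideal.mul_mem_right _ _ hp) (Ideal.mul_mem_left _ _ hXi)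

lemma sig_mem_iff {a e b : ℕ} (hab : a ≤ b) (p : MvPolynomial (Fin (a + e)) k) :
    sig k a e p ∈ Kd k e (b - a) ↔ p ∈ Kd k (a + e) b := by
  constructor
  · intro h
    have h1 : inc k a e (sig k a e p) ∈ Kd k (a + e) b := by
      have hle : Kd k e (b - a) ≤ (Kd k (a + e) b).comap (inc k a e) := by
        apply Kd_le
        intro l hl
        rw [Ideal.mem_comap, inc_X]
        exact X_mem_Kd _ (by rw [Fin.val_natAdd]; omega)
      exact hle h
    have h2 := Kd_mono (k := k) (n := a + e) hab (sub_inc_sig_mem p)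
    have := Ideal.add_mem _ h2 h1
    rwa [sub_add_cancel] at this
  · intro h
    have hle : Kd k (a + e) b ≤ (Kd k e (b - a)).comap (sig k a e) := by
      apply Kd_le
      intro i hi
      rw [Ideal.mem_comap]
      induction i using Fin.addCases with
      | left i => rw [sig_X_left]; exact Ideal.zero_mem _
      | right l =>
        rw [sig_X_right]
        rw [Fin.val_natAdd] at hi
        exact X_mem_Kd _ (by omega)
    exact hle h

lemma sig_eq_zero_iff {a e : ℕ} (p : MvPolynomial (Fin (a + e)) k) :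
    sig k a e p = 0 ↔ p ∈ Kd k (a + e) a := by
  have := sig_mem_iff (k := k) (e := e) (le_refl a) p
  rw [Nat.sub_self, Kd_zero, Ideal.mem_bot] at this
  exact this

lemma inc_mem_iff {a e b : ℕ} (p' : MvPolynomial (Fin e) k) :
    inc k a e p' ∈ Kd k (a + e) b ↔ p' ∈ Kd k e (b - a) := by
  by_cases hab : a ≤ b
  · rw [← sig_mem_iff hab, sig_inc]
  · push Not at hab
    have hba : b - a = 0 := by omega
    rw [hba, Kd_zero, Ideal.mem_bot]
    constructor
    · intro h
      have h1 := Kd_mono (k := k) (n := a + e) (le_of_lt hab) h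
      rw [← sig_eq_zero_iff, sig_inc] at h1
      exact h1
    · rintro rfl
      rw [map_zero]; exact Ideal.zero_mem _

lemma Kd_isPrime {n c : ℕ} (hc : c ≤ n) : (Kd k n c).IsPrime := by
  obtain ⟨e, rfl⟩ : ∃ e, n = c + e := ⟨n - c, by omega⟩
  have : Kd k (c + e) c = RingHom.ker (sig k c e).toRingHom := by
    ext p; rw [RingHom.mem_ker]; exact (sig_eq_zero_iff p).symm
  rw [this]; exact RingHom.ker_isPrime _

lemma restrict_props {B : Type*} [CommRing B] [Algebra k B] {a e : ℕ}
    (g : MvPolynomial (Fin (a + e)) k →ₐ[k] B) (hfin : g.Finite)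
    (hker : ∀ p, g p = 0 ↔ p ∈ Kd k (a + e) a) :
    Function.Injective (g.comp (inc k a e)) ∧ (g.comp (inc k a e)).Finite ∧
      ∀ p, g p = (g.comp (inc k a e)) (sig k a e p) := by
  have h3 : ∀ p, g p = (g.comp (inc k a e)) (sig k a e p) := by
    intro p
    rw [AlgHom.comp_apply, ← sub_eq_zero, ← map_sub, hker]
    exact sub_inc_sig_mem p
  refine ⟨?_, ?_, h3⟩
  · rw [injective_iff_map_eq_zero]
    intro p hp
    rw [AlgHom.comp_apply, hker, inc_mem_iff, Nat.sub_self, Kd_zero, Ideal.mem_bot] at hp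
    exact hp
  · have hcomp : g = (g.comp (inc k a e)).comp (sig k a e) := AlgHom.ext h3
    have hfin2 : ((g.comp (inc k a e)).comp (sig k a e)).Finite := hcomp ▸ hfin
    exact AlgHom.Finite.of_comp_finite hfin2

lemma dim_of_ker_Kd {B : Type*} [CommRing B] [Algebra k B] {e c : ℕ} (hc : c ≤ e)
    (g : MvPolynomial (Fin e) k →ₐ[k] B) (hfin : g.Finite)
    (hker : ∀ p, g p = 0 ↔ p ∈ Kd k e c) :
    ringKrullDim B = ((e - c : ℕ) : WithBot ℕ∞) := by
  obtain ⟨e', rfl⟩ : ∃ e', e = c + e' := ⟨e - c, by omega⟩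
  obtain ⟨hinj, hfin', -⟩ := restrict_props g hfin hker
  rw [Groth.Agent.H54.ringKrullDim_eq_of_ringHom_isIntegral_of_injective
    (g.comp (inc k c e')).toRingHom (RingHom.Finite.to_isIntegral hfin') hinj,
    Groth.Agent.H54.ringKrullDim_mvPolynomial_field, Nat.add_sub_cancel_left]

end Calc

end Groth.Agent.H66.NoethChain
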