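import Mathlib
import Groth.Agent.H66.NoethChain

set_option autoImplicit false
universe u

namespace Groth.Agent.H66.NoethChain

open NoetherNormalization MvPolynomial Ideal
open Groth.Agent.H66.NoethRefined
open private T T_leadingcoeff_isUnit from Mathlib.RingTheory.NoetherNormalization

variable {k : Type u} [Field k]

/-- Refined Noether normalization for a finite family of proper ideals of a polynomial ring. -/
theorem exists_normalization_family {ι : Type*} [Finite ι] :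
    ∀ (n : ℕ) (I : ι → Ideal (MvPolynomial (Fin n) k)), (∀ j, I j ≠ ⊤) →
    ∃ φ : MvPolynomial (Fin n) k →ₐ[k] MvPolynomial (Fin n) k, φ.Finite ∧
      ∀ j, ∃ d, d ≤ n ∧ (I j).comap φ = Kd k n d := by
  classical
  cases nonempty_fintype ι
  intro n
  induction n with
  | zero =>
    intro I hI
    refine ⟨AlgHom.id k _, AlgHom.Finite.id _ _, fun j => ⟨0, le_rfl, ?_⟩⟩
    rw [Kd_zero, eq_bot_of_ne_top_zero (I j) (hI j)]
    ext x
    simp
  | succ m ih =>
    intro I hI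
    by_cases hall : ∀ j, I j = ⊥
    · refine ⟨AlgHom.id k _, AlgHom.Finite.id _ _, fun j => ⟨0, Nat.zero_le _, ?_⟩⟩
      rw [Kd_zero, hall j]
      ext x
      simp
    · push Not at hall
      obtain ⟨j0, hj0⟩ := hall
      obtain ⟨f, fne, hfmem⟩ : ∃ f : MvPolynomial (Fin (m + 1)) k, f ≠ 0 ∧
          ∀ j, I j ≠ ⊥ → f ∈ I j := by
        have hex : ∀ j, ∃ g : MvPolynomial (Fin (m + 1)) k, g ≠ 0 ∧ (I j ≠ ⊥ → g ∈ I j) := by
          intro j
          by_cases hj : I j = ⊥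
          · exact ⟨1, one_ne_zero, fun h => absurd hj h⟩
          · obtain ⟨g, hg, hg0⟩ := Submodule.exists_mem_ne_zero_of_ne_bot hj
            exact ⟨g, hg0, fun _ => hg⟩
        choose g hg0 hgmem using hex
        refine ⟨∏ j, g j, Finset.prod_ne_zero_iff.mpr (fun j _ => hg0 j), fun j hj => ?_⟩
        obtain ⟨c, hc⟩ := Finset.dvd_prod_of_mem g (Finset.mem_univ j)
        rw [hc]
        exact Ideal.mul_mem_right _ _ (hgmem j hj)
      obtain ⟨θ, hθf⟩ : ∃ θ : MvPolynomial (Fin (m + 1)) k ≃ₐ[k]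
          Polynomial (MvPolynomial (Fin m) k), IsUnit (θ f).leadingCoeff :=
        ⟨(T f).trans (finSuccEquiv k m), T_leadingcoeff_isUnit f fne⟩
      obtain ⟨G, hG⟩ : ∃ G, G = θ f := ⟨_, rfl⟩
      rw [← hG] at hθf
      have hGI : ∀ j, I j ≠ ⊥ → θ.symm G ∈ I j := fun j hj => by
        rw [hG, AlgEquiv.symm_apply_apply]; exact hfmem j hj
      have hd : 0 < G.natDegree := by
        by_contra h0
        have h0' : G.natDegree = 0 := by omega
        have hGC : G = Polynomial.C (G.coeff 0) := Polynomial.eq_C_of_natDegree_eq_zero h0'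
        have hlc : G.leadingCoeff = G.coeff 0 := by rw [Polynomial.leadingCoeff, h0']
        have hGu : IsUnit G := by
          rw [hGC]; exact Polynomial.isUnit_C.mpr (hlc ▸ hθf)
        have hu : IsUnit (θ.symm G) := hGu.map θ.symm
        exact hI j0 (Ideal.eq_top_of_isUnit_mem _ (hGI j0 hj0) hu)
      obtain ⟨I', memI'⟩ : ∃ I' : ι → Ideal (MvPolynomial (Fin m) k),
          ∀ j c, c ∈ I' j ↔ θ.symm (Polynomial.C c) ∈ I j :=
        ⟨fun j => ((I j).comap θ.symm.toAlgHom.toRingHom).comap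
          (Polynomial.C : MvPolynomial (Fin m) k →+* _), fun j c => Iff.rfl⟩
      have hI'top : ∀ j, I' j ≠ ⊤ := by
        intro j h
        apply hI j
        rw [Ideal.eq_top_iff_one]
        have h1 : (1 : MvPolynomial (Fin m) k) ∈ I' j := by rw [h]; trivial
        rw [memI', map_one, map_one] at h1
        exact h1
      obtain ⟨φ', hfin', hcomap'⟩ := ih I' hI'top
      obtain ⟨a2, ha2, ha2fin⟩ : ∃ a2 : Polynomial (MvPolynomial (Fin m) k) →ₐ[k]
          Polynomial (MvPolynomial (Fin m) k), (∀ p, a2 p = Polynomial.aeval G p) ∧ a2.Finite := by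
        refine ⟨(Polynomial.aeval G : Polynomial (MvPolynomial (Fin m) k) →ₐ[
          MvPolynomial (Fin m) k] _).restrictScalars k, fun p => rfl, ?_⟩
        refine finite_of_aeval_like G hθf hd _ (fun r => ?_) ?_
        · show Polynomial.aeval G (Polynomial.C r) = Polynomial.C r
          rw [Polynomial.aeval_C, Polynomial.C_eq_algebraMap]
        · show Polynomial.aeval G Polynomial.X = G
          rw [Polynomial.aeval_X]
      obtain ⟨a3, ha3, ha3fin⟩ : ∃ a3 : Polynomial (MvPolynomial (Fin m) k) →ₐ[k]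
          Polynomial (MvPolynomial (Fin m) k),
          (∀ p, a3 p = p.map φ'.toRingHom) ∧ a3.Finite := by
        refine ⟨Polynomial.mapAlgHom φ', fun p => rfl, ?_⟩
        refine finite_of_map_like φ'.toRingHom hfin' _ (fun r => ?_) ?_
        · show Polynomial.map φ'.toRingHom (Polynomial.C r) = _
          rw [Polynomial.map_C]
        · show Polynomial.map φ'.toRingHom Polynomial.X = _
          rw [Polynomial.map_X]
      obtain ⟨Φ, hΦ, hΦfin⟩ : ∃ Φ : MvPolynomial (Fin (m + 1)) k →ₐ[k] MvPolynomial (Fin (m + 1)) k,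
          (∀ F, Φ F = θ.symm (Polynomial.aeval G
            ((finSuccEquiv k m F).map φ'.toRingHom))) ∧ Φ.Finite := by
        refine ⟨θ.symm.toAlgHom.comp (a2.comp (a3.comp (finSuccEquiv k m).toAlgHom)),
          fun F => ?_, ?_⟩
        · rw [AlgHom.comp_apply, AlgHom.comp_apply, AlgHom.comp_apply, ha2, ha3]; rfl
        · exact AlgHom.Finite.comp (AlgHom.Finite.of_surjective _ θ.symm.surjective)
            (AlgHom.Finite.comp ha2fin (AlgHom.Finite.comp ha3fin
              (AlgHom.Finite.of_surjective _ (finSuccEquiv k m).surjective)))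
      have hΦinj : Function.Injective Φ := injective_of_finite_endo Φ hΦfin
      refine ⟨Φ, hΦfin, fun j => ?_⟩
      by_cases hj : I j = ⊥
      · refine ⟨0, Nat.zero_le _, ?_⟩
        rw [Kd_zero, hj]
        ext F
        rw [Ideal.mem_comap, Ideal.mem_bot, Ideal.mem_bot]
        exact map_eq_zero_iff Φ hΦinj
      · obtain ⟨d', hd'm, hc⟩ := hcomap' j
        refine ⟨d' + 1, Nat.succ_le_succ hd'm, ?_⟩
        rw [← comap_rho_Kd]
        ext F
        rw [Ideal.mem_comap, Ideal.mem_comap, ← hc, Ideal.mem_comap, memI', hΦ]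
        obtain ⟨p, hp⟩ : ∃ p, p = (finSuccEquiv k m F).map φ'.toRingHom := ⟨_, rfl⟩
        rw [← hp]
        have hp0 : p.coeff 0 = φ' (rho k m F) := by
          rw [hp, Polynomial.coeff_map, rho_apply]; rfl
        have hdec : Polynomial.aeval G p =
            Polynomial.aeval G (Polynomial.divX p) * G + Polynomial.C (p.coeff 0) := by
          have := congrArg (Polynomial.aeval G) (Polynomial.divX_mul_X_add p)
          rw [map_add, map_mul, Polynomial.aeval_X, Polynomial.aeval_C] at this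
          rw [Polynomial.C_eq_algebraMap]; exact this.symm
        rw [hdec, ← hp0, map_add, map_mul]
        exact Ideal.add_mem_iff_right _ (Ideal.mul_mem_left _ _ (hGI j hj))

section GD

variable {d : ℕ} {A : Type u} [CommRing A] [IsDomain A] [Algebra k A]
  (φ : MvPolynomial (Fin d) k →ₐ[k] A) (hfin : φ.Finite)

include hfin in
lemma comap_lt_comap_of_lt {I J : Ideal A} [I.IsPrime] (hIJ : I < J) :
    I.comap φ < J.comap φ := by
  letI : Algebra (MvPolynomial (Fin d) k) A := φ.toRingHom.toAlgebra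
  haveI : Algebra.IsIntegral (MvPolynomial (Fin d) k) A := ⟨RingHom.Finite.to_isIntegral hfin⟩
  exact Ideal.IsIntegral.comap_lt_comap (R := MvPolynomial (Fin d) k) hIJ

include hfin in
lemma eq_of_le_of_comap_eq {I J : Ideal A} [I.IsPrime] (hIJ : I ≤ J)
    (h : I.comap φ = J.comap φ) : I = J := by
  by_contra hne
  have := comap_lt_comap_of_lt φ hfin (lt_of_le_of_ne hIJ hne)
  rw [h] at this
  exact lt_irrefl _ this

include hfin in
lemma exists_prime_over (I : Ideal A) [I.IsPrime] (P : Ideal (MvPolynomial (Fin d) k))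
    [P.IsPrime] (hIP : I.comap φ ≤ P) : ∃ Q : Ideal A, I ≤ Q ∧ Q.IsPrime ∧ Q.comap φ = P := by
  letI : Algebra (MvPolynomial (Fin d) k) A := φ.toRingHom.toAlgebra
  haveI : Algebra.IsIntegral (MvPolynomial (Fin d) k) A := ⟨RingHom.Finite.to_isIntegral hfin⟩
  obtain ⟨Q, hQ, hQp, hQc⟩ := Ideal.exists_ideal_over_prime_of_isIntegral_of_isPrime
    (R := MvPolynomial (Fin d) k) (S := A) P I hIP
  exact ⟨Q, hQ, hQp, hQc⟩

lemma comap_bot_eq (hinj : Function.Injective φ) : (⊥ : Ideal A).comap φ = Kd k d 0 := by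
  rw [Kd_zero]
  ext p
  rw [Ideal.mem_comap, Ideal.mem_bot, Ideal.mem_bot]
  exact map_eq_zero_iff φ hinj

include hfin in
lemma going_down_between (𝔮 𝔔 : Ideal A) [h𝔮p : 𝔮.IsPrime] [h𝔔p : 𝔔.IsPrime] (hle : 𝔮 ≤ 𝔔)
    {a b c : ℕ} (hab : a ≤ b) (hbc : b ≤ c) (hcd : c ≤ d)
    (h𝔮 : 𝔮.comap φ = Kd k d a) (h𝔔 : 𝔔.comap φ = Kd k d c) :
    ∃ 𝔯 : Ideal A, 𝔯.IsPrime ∧ 𝔮 ≤ 𝔯 ∧ 𝔯 ≤ 𝔔 ∧ 𝔯.comap φ = Kd k d b := by
  obtain ⟨e, rfl⟩ : ∃ e, d = a + e := ⟨d - a, by omega⟩
  obtain ⟨g, hg⟩ : ∃ g : MvPolynomial (Fin (a + e)) k →ₐ[k] A ⧸ 𝔮,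
      ∀ p, g p = Ideal.Quotient.mk 𝔮 (φ p) := ⟨(Ideal.Quotient.mkₐ k 𝔮).comp φ, fun p => rfl⟩
  have hgfin : g.Finite := by
    have : g = (Ideal.Quotient.mkₐ k 𝔮).comp φ := AlgHom.ext fun p => hg p
    rw [this]
    exact AlgHom.Finite.comp
      (AlgHom.Finite.of_surjective _ (Ideal.Quotient.mkₐ_surjective k 𝔮)) hfin
  have hgker : ∀ p, g p = 0 ↔ p ∈ Kd k (a + e) a := by
    intro p
    rw [← h𝔮, Ideal.mem_comap, hg, Ideal.Quotient.eq_zero_iff_mem]
  obtain ⟨hinj', hfin', hfac⟩ := restrict_props g hgfin hgker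
  letI : Algebra (MvPolynomial (Fin e) k) (A ⧸ 𝔮) := (g.comp (inc k a e)).toRingHom.toAlgebra
  haveI : FaithfulSMul (MvPolynomial (Fin e) k) (A ⧸ 𝔮) :=
    (faithfulSMul_iff_algebraMap_injective _ _).mpr hinj'
  haveI : Algebra.IsIntegral (MvPolynomial (Fin e) k) (A ⧸ 𝔮) :=
    ⟨RingHom.Finite.to_isIntegral hfin'⟩
  haveI hQbar : (𝔔.map (Ideal.Quotient.mk 𝔮)).IsPrime :=
    Ideal.map_isPrime_of_surjective Ideal.Quotient.mk_surjective (by rw [Ideal.mk_ker]; exact hle)
  have hmemQbar : ∀ x : A, Ideal.Quotient.mk 𝔮 x ∈ 𝔔.map (Ideal.Quotient.mk 𝔮) ↔ x ∈ 𝔔 :=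
    fun x => Ideal.mem_quotient_iff_mem hle
  have halg : ∀ p', algebraMap (MvPolynomial (Fin e) k) (A ⧸ 𝔮) p' =
      Ideal.Quotient.mk 𝔮 (φ (inc k a e p')) := fun p' => hg _
  haveI hKc : (Kd k e (c - a)).IsPrime := Kd_isPrime (by omega)
  haveI hKb : (Kd k e (b - a)).IsPrime := Kd_isPrime (by omega)
  haveI : (𝔔.map (Ideal.Quotient.mk 𝔮)).LiesOver (Kd k e (c - a)) := ⟨by
    ext p'
    rw [Ideal.under_def, Ideal.mem_comap, halg, hmemQbar, ← Ideal.mem_comap, h𝔔, inc_mem_iff]⟩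
  obtain ⟨Pbar, hPle, hPprime, hPover⟩ := Ideal.exists_ideal_le_liesOver_of_le
    (p := Kd k e (b - a)) (q := Kd k e (c - a)) (𝔔.map (Ideal.Quotient.mk 𝔮))
    (Kd_mono (by omega))
  refine ⟨Pbar.comap (Ideal.Quotient.mk 𝔮), Ideal.comap_isPrime _ _, ?_, ?_, ?_⟩
  · intro x hx
    rw [Ideal.mem_comap, Ideal.Quotient.eq_zero_iff_mem.mpr hx]
    exact Ideal.zero_mem _
  · intro x hx
    rw [Ideal.mem_comap] at hx
    exact (hmemQbar x).mp (hPle hx)
  · ext p
    rw [Ideal.mem_comap, Ideal.mem_comap]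
    have h1 : Ideal.Quotient.mk 𝔮 (φ p) =
        algebraMap (MvPolynomial (Fin e) k) (A ⧸ 𝔮) (sig k a e p) := by
      rw [← hg]; exact hfac p
    rw [h1, ← Ideal.mem_comap, ← Ideal.under_def, ← hPover.over, sig_mem_iff hab]

include hfin in
lemma exists_chain_between : ∀ (len a c : ℕ) (𝔮 𝔔 : PrimeSpectrum A), c = a + len → c ≤ d →
    𝔮 ≤ 𝔔 → 𝔮.asIdeal.comap φ = Kd k d a → 𝔔.asIdeal.comap φ = Kd k d c →
    ∃ Q : ℕ → PrimeSpectrum A, Q a = 𝔮 ∧ Q c = 𝔔 ∧
      (∀ j, a ≤ j → j ≤ c → (Q j).asIdeal.comap φ = Kd k d j) ∧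
      (∀ j, a ≤ j → j < c → Q j < Q (j + 1)) := by
  intro len
  induction len with
  | zero =>
    intro a c 𝔮 𝔔 hc hcd hle h𝔮 h𝔔
    obtain rfl : c = a := by omega
    have heq : 𝔮 = 𝔔 := by
      apply PrimeSpectrum.ext
      exact eq_of_le_of_comap_eq φ hfin hle (h𝔮.trans h𝔔.symm)
    refine ⟨fun _ => 𝔔, heq.symm, rfl, fun j h1 h2 => ?_, fun j h1 h2 => absurd h2 (by omega)⟩
    obtain rfl : j = c := by omega
    exact h𝔔
  | succ len ih =>
    intro a c 𝔮 𝔔 hc hcd hle h𝔮 h𝔔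
    obtain ⟨𝔯, h𝔯p, h𝔮𝔯, h𝔯𝔔, h𝔯c⟩ := going_down_between φ hfin 𝔮.asIdeal 𝔔.asIdeal hle
      (a := a) (b := a + len) (c := c) (by omega) (by omega) hcd h𝔮 h𝔔
    obtain ⟨Q', hQ'a, hQ'b, hQ'c, hQ'lt⟩ :=
      ih a (a + len) 𝔮 ⟨𝔯, h𝔯p⟩ rfl (by omega) h𝔮𝔯 h𝔮 h𝔯c
    refine ⟨Function.update Q' c 𝔔, ?_, ?_, ?_, ?_⟩
    · rw [Function.update_of_ne (by omega), hQ'a]
    · rw [Function.update_self]
    · intro j h1 h2
      by_cases hj : j = c
      · subst hj; rw [Function.update_self]; exact h𝔔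
      · rw [Function.update_of_ne hj]; exact hQ'c j h1 (by omega)
    · intro j h1 h2
      by_cases hj : j + 1 = c
      · have hjb : j = a + len := by omega
        rw [hj, Function.update_self, Function.update_of_ne (by omega), hjb, hQ'b]
        refine lt_of_le_of_ne h𝔯𝔔 (fun heq => ?_)
        have h2 : 𝔯 = 𝔔.asIdeal := congrArg PrimeSpectrum.asIdeal heq
        have h3 : Kd k d c = Kd k d (a + len) := by rw [← h𝔯c, h2, h𝔔]
        have h4 := (Kd_le_Kd_iff (k := k) (n := d) (a := c) (c := a + len) hcd).mp (le_of_eq h3)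
        omega
      · rw [Function.update_of_ne (by omega), Function.update_of_ne (by omega)]
        exact hQ'lt j h1 (by omega)

include hfin in
lemma exists_full_chain_below (hinj : Function.Injective φ) :
    ∀ (r : ℕ) (q : Fin r → PrimeSpectrum A) (h : Fin r → ℕ) (c : ℕ) (𝔔 : PrimeSpectrum A),
    StrictMono q → c ≤ d → (∀ i, q i ≤ 𝔔) → (∀ i, h i ≤ d) →
    (∀ i, (q i).asIdeal.comap φ = Kd k d (h i)) → 𝔔.asIdeal.comap φ = Kd k d c →
    ∃ Q : ℕ → PrimeSpectrum A, Q c = 𝔔 ∧ (∀ j, j ≤ c → (Q j).asIdeal.comap φ = Kd k d j) ∧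
      (∀ j, j < c → Q j < Q (j + 1)) ∧ ∀ i, Q (h i) = q i := by
  intro r
  induction r with
  | zero =>
    intro q h c 𝔔 hq hcd hq𝔔 hhd hqc h𝔔
    obtain ⟨Q, hQa, hQc, hQcomap, hQlt⟩ := exists_chain_between φ hfin c 0 c
      ⟨⊥, Ideal.bot_prime⟩ 𝔔 (by omega) hcd bot_le (comap_bot_eq φ hinj) h𝔔
    exact ⟨Q, hQc, fun j hj => hQcomap j (Nat.zero_le _) hj,
      fun j hj => hQlt j (Nat.zero_le _) hj, fun i => i.elim0⟩
  | succ r ih =>
    intro q h c 𝔔 hq hcd hq𝔔 hhd hqc h𝔔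
    have hlc : h (Fin.last r) ≤ c := by
      have h1 : Kd k d (h (Fin.last r)) ≤ Kd k d c := by
        rw [← hqc (Fin.last r), ← h𝔔]; exact Ideal.comap_mono (hq𝔔 (Fin.last r))
      exact (Kd_le_Kd_iff (hhd _)).mp h1
    obtain ⟨Q', hQ'a, hQ'c, hQ'comap, hQ'lt⟩ := exists_chain_between φ hfin
      (c - h (Fin.last r)) (h (Fin.last r)) c (q (Fin.last r)) 𝔔 (by omega) hcd (hq𝔔 _)
      (hqc _) h𝔔
    obtain ⟨Q'', hQ''c, hQ''comap, hQ''lt, hQ''q⟩ := ih (fun i => q (Fin.castSucc i))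
      (fun i => h (Fin.castSucc i)) (h (Fin.last r)) (q (Fin.last r))
      (fun i j hij => hq (Fin.castSucc_lt_castSucc_iff.mpr hij)) (hhd _)
      (fun i => le_of_lt (hq (Fin.castSucc_lt_last i))) (fun i => hhd _) (fun i => hqc _) (hqc _)
    have hhi : ∀ i : Fin r, h (Fin.castSucc i) ≤ h (Fin.last r) := by
      intro i
      have h1 : Kd k d (h (Fin.castSucc i)) ≤ Kd k d (h (Fin.last r)) := by
        rw [← hqc (Fin.castSucc i), ← hqc (Fin.last r)]
        exact Ideal.comap_mono (le_of_lt (hq (Fin.castSucc_lt_last i)))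
      exact (Kd_le_Kd_iff (hhd _)).mp h1
    refine ⟨fun j => if j ≤ h (Fin.last r) then Q'' j else Q' j, ?_, ?_, ?_, ?_⟩
    · by_cases hc : c ≤ h (Fin.last r)
      · have hceq : c = h (Fin.last r) := by omega
        simp only [if_pos hc]
        rw [hceq, hQ''c, ← hQ'a, ← hceq, hQ'c]
      · simp only [if_neg hc]; exact hQ'c
    · intro j hj
      by_cases hjl : j ≤ h (Fin.last r)
      · simp only [if_pos hjl]; exact hQ''comap j hjl
      · simp only [if_neg hjl]; exact hQ'comap j (by omega) hj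
    · intro j hj
      by_cases h1 : j + 1 ≤ h (Fin.last r)
      · simp only [if_pos h1, if_pos (by omega : j ≤ h (Fin.last r))]
        exact hQ''lt j (by omega)
      · by_cases h2 : j ≤ h (Fin.last r)
        · have hjl : j = h (Fin.last r) := by omega
          simp only [if_neg h1, if_pos h2]
          rw [hjl, hQ''c, ← hQ'a]
          exact hQ'lt _ le_rfl (by omega)
        · simp only [if_neg h1, if_neg h2]; exact hQ'lt j (by omega) hj
    · intro i
      induction i using Fin.lastCases with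
      | last => simp only [if_pos (le_refl (h (Fin.last r)))]; exact hQ''c
      | cast i => simp only [if_pos (hhi i)]; exact hQ''q i

end GD

end Groth.Agent.H66.NoethChain
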