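import Mathlib
import Groth.Prelude.Def_QCohCat
import Groth.Prelude.Def_Coh
import Groth.Agent.H22.QCohLimits
import Groth.Agent.H8.CohAffine
import Groth.Agent.H8.IsoCover
import Groth.Agent.H8.SectionsExact

/-!
# Piece (N1b) (and a copy of (N1a)) for S11129: a coherent module on a Noetherian scheme is a
Noetherian object of `QCoh(Y)`.
-/

set_option autoImplicit false
set_option linter.style.haveILetI false
universe u
open CategoryTheory CategoryTheory.Limits AlgebraicGeometry TopologicalSpace Opposite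

namespace Groth.Agent.H66.NoethObj_N1b

/-- (N1a) A monomorphism of `QCoh(Y)` is a monomorphism of `O_Y`-modules. -/
theorem mono_hom_of_mono {Y : Scheme.{u}} {A B : QCohCat.QCoh Y} (f : A ⟶ B) [Mono f] :
    Mono f.hom := by
  haveI : A.obj.IsQuasicoherent := A.property
  haveI : B.obj.IsQuasicoherent := B.property
  have hK : (kernel f.hom).IsQuasicoherent :=
    Groth.Agent.H22.QCohLimits.isQuasicoherent_kernel f.hom
  let K : QCohCat.QCoh Y := ⟨kernel f.hom, hK⟩
  let k : K ⟶ A := ObjectProperty.homMk (kernel.ι f.hom)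
  let k' : K ⟶ A := ObjectProperty.homMk 0
  have hkk : k ≫ f = k' ≫ f := by
    apply ObjectProperty.hom_ext
    rw [ObjectProperty.FullSubcategory.comp_hom, ObjectProperty.FullSubcategory.comp_hom]
    show kernel.ι f.hom ≫ f.hom = 0 ≫ f.hom
    rw [kernel.condition, zero_comp]
  have hk : k = k' := (cancel_mono f).mp hkk
  have h0 : kernel.ι f.hom = 0 := congrArg (fun g => g.hom) hk
  exact Preadditive.mono_of_kernel_zero h0

lemma comp_app_apply {Y : Scheme.{u}} {A B C : Y.Modules} (φ : A ⟶ B) (ψ : B ⟶ C) (V : Y.Opens)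
    (x : Γ(A, V)) : (φ ≫ ψ).app V x = ψ.app V (φ.app V x) := rfl

/-- (N1b) A coherent module on a Noetherian scheme is a Noetherian object of `QCoh(Y)`. -/
theorem noeth_of_coh (Y : Scheme.{u}) [IsNoetherian Y] (M : QCohCat.QCoh Y)
    (h : Coh.IsCoh M.obj) : IsNoetherianObject M := by
  rw [isNoetherianObject_iff_monotone_chain_condition]
  intro f
  haveI : M.obj.IsQuasicoherent := h.1
  haveI : SheafOfModules.IsFiniteType (R := Y.ringCatSheaf) M.obj := h.2
  -- a finite affine cover
  obtain ⟨t, ht⟩ := (isCompact_univ (X := Y)).elim_finite_subcover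
    (fun V : Y.affineOpens => ((V : Y.Opens) : Set Y)) (fun V => (V : Y.Opens).2)
    (by
      intro x _
      have hx : x ∈ (⨆ i : Y.affineOpens, (i : Y.Opens)) := by
        rw [iSup_affineOpens_eq_top]; trivial
      obtain ⟨V, hV⟩ := Opens.mem_iSup.mp hx
      exact Set.mem_iUnion.mpr ⟨V, hV⟩)
  -- the arrows are monomorphisms of modules
  have hmono : ∀ k, Mono (f k).arrow.hom := fun k => mono_hom_of_mono (f k).arrow
  -- factorization
  have hfac : ∀ {k l : ℕ} (hkl : k ≤ l),
      (Subobject.ofLE (f k) (f l) (f.monotone hkl)).hom ≫ (f l).arrow.hom = (f k).arrow.hom := by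
    intro k l hkl
    rw [← ObjectProperty.FullSubcategory.comp_hom, Subobject.ofLE_arrow]
  -- the chains of submodules of sections
  let S : ∀ V : Y.affineOpens, ℕ →o Submodule Γ(Y, (V : Y.Opens)) Γ(M.obj, (V : Y.Opens)) :=
    fun V =>
      { toFun := fun k => LinearMap.range (Groth.Agent.H8.appₗ (f k).arrow.hom (V : Y.Opens))
        monotone' := by
          intro k l hkl
          rintro _ ⟨x, rfl⟩
          refine ⟨(Subobject.ofLE (f k) (f l) (f.monotone hkl)).hom.app (V : Y.Opens) x, ?_⟩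
          rw [Groth.Agent.H8.appₗ_apply, Groth.Agent.H8.appₗ_apply, ← comp_app_apply, hfac hkl] }
  have hstab : ∀ V : Y.affineOpens, ∃ n, ∀ m, n ≤ m → S V n = S V m := by
    intro V
    haveI : IsNoetherianRing Γ(Y, (V : Y.Opens)) := IsLocallyNoetherian.component_noetherian V
    haveI : Module.Finite Γ(Y, (V : Y.Opens)) Γ(M.obj, (V : Y.Opens)) :=
      Groth.Agent.H8.finite_sections_of_isAffineOpen M.obj V.2
    haveI : IsNoetherian Γ(Y, (V : Y.Opens)) Γ(M.obj, (V : Y.Opens)) :=
      isNoetherian_of_isNoetherianRing_of_finite _ _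
    exact monotone_stabilizes_iff_noetherian.mpr inferInstance (S V)
  choose N hN using hstab
  refine ⟨t.sup N, fun m hm => ?_⟩
  have hle : f (t.sup N) ≤ f m := f.monotone hm
  have hSeq : ∀ V ∈ t, S V (t.sup N) = S V m := by
    intro V hV
    have h1 : N V ≤ t.sup N := Finset.le_sup hV
    rw [← hN V _ h1, ← hN V _ (h1.trans hm)]
  set g := Subobject.ofLE (f (t.sup N)) (f m) hle with hg
  haveI : Mono g.hom := mono_hom_of_mono g
  haveI hA : ((f (t.sup N) : QCohCat.QCoh Y)).obj.IsQuasicoherent :=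
    ((f (t.sup N) : QCohCat.QCoh Y)).property
  haveI hB : ((f m : QCohCat.QCoh Y)).obj.IsQuasicoherent :=
    ((f m : QCohCat.QCoh Y)).property
  have hcov : IsOpenCover (fun i : {V // V ∈ t} => ((i.1 : Y.affineOpens) : Y.Opens)) := by
    refine eq_top_iff.mpr ?_
    intro x _
    have hx := ht (Set.mem_univ x)
    obtain ⟨V, hV⟩ := Set.mem_iUnion.mp hx
    obtain ⟨hVt, hxV⟩ := Set.mem_iUnion.mp hV
    exact Opens.mem_iSup.mpr ⟨⟨V, hVt⟩, hxV⟩
  haveI : IsIso g.hom := by
    refine Groth.Agent.H8.isIso_of_bijective_affine_cover g.hom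
      (fun i : {V // V ∈ t} => ((i.1 : Y.affineOpens) : Y.Opens)) hcov (fun i => i.1.2) ?_
    rintro ⟨V, hV⟩
    refine ⟨Groth.Agent.H8.app_injective_of_mono g.hom _, ?_⟩
    intro y
    have hy : (f m).arrow.hom.app (V : Y.Opens) y ∈ S V m := ⟨y, rfl⟩
    rw [← hSeq V hV] at hy
    obtain ⟨x, hx⟩ := hy
    refine ⟨x, ?_⟩
    haveI := hmono m
    apply Groth.Agent.H8.app_injective_of_mono (f m).arrow.hom (V : Y.Opens)
    rw [← comp_app_apply]
    have := hfac hm
    rw [this]
    exact hx
  haveI : IsIso g := (ObjectProperty.isIso_hom_iff g).mp inferInstance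
  exact le_antisymm hle (Subobject.le_of_comm (inv g)
    ((IsIso.inv_comp_eq _).mpr (Subobject.ofLE_arrow hle).symm))

end Groth.Agent.H66.NoethObj_N1b
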