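import Groth.Agent.H9.FibDimRing
import Groth.Agent.H66.NoethChain
import Groth.Agent.H54.AffineTrdeg

/-!
# Noether normalization of a fibre ring adapted to a prime, with lifted coordinates

Tools for Stacks 00QE (quasi-finite map from a polynomial ring with prescribed preimage of a prime).
-/

set_option autoImplicit false
set_option linter.style.haveILetI false
universe u

open TensorProduct MvPolynomial
open Groth.Agent.H66.NoethRefined Groth.Agent.H66.NoethChain

namespace Groth.Agent.H66.NoethPrime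

section Field

variable {k : Type u} [Field k]

/-- the scaling automorphism `x_i ↦ c_i x_i` preserves the ideal of the first `d` variables. -/
lemma comap_scale_Kd {n d : ℕ} (θ' θ'' : MvPolynomial (Fin n) k →ₐ[k] MvPolynomial (Fin n) k)
    (c : Fin n → k) (hc : ∀ i, c i ≠ 0) (h' : ∀ i, θ' (X i) = C (c i) * X i)
    (h'' : ∀ i, θ'' (X i) = C (c i)⁻¹ * X i) : (Kd k n d).comap θ' = Kd k n d := by
  have hC : ∀ a : k, θ'' (C a) = C a := fun a => by
    have := θ''.commutes a
    rwa [MvPolynomial.algebraMap_eq] at this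
  have hcomp : θ''.comp θ' = AlgHom.id k _ := by
    apply MvPolynomial.algHom_ext
    intro i
    rw [AlgHom.comp_apply, h' i, map_mul, h'' i, hC, AlgHom.id_apply, ← mul_assoc, ← C_mul,
      mul_inv_cancel₀ (hc i), C_1, one_mul]
  have hinv : ∀ a, θ'' (θ' a) = a := fun a => by
    have := congrArg (fun f : MvPolynomial (Fin n) k →ₐ[k] MvPolynomial (Fin n) k => f a) hcomp
    simpa using this
  have h1 : Kd k n d ≤ (Kd k n d).comap θ' := by
    apply Kd_le
    intro i hi
    rw [Ideal.mem_comap, h' i]
    exact Ideal.mul_mem_left _ _ (X_mem_Kd i hi)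
  have h2 : Kd k n d ≤ (Kd k n d).comap θ'' := by
    apply Kd_le
    intro i hi
    rw [Ideal.mem_comap, h'' i]
    exact Ideal.mul_mem_left _ _ (X_mem_Kd i hi)
  apply le_antisymm
  · intro a ha
    have h3 := h2 (Ideal.mem_comap.mp ha)
    rw [Ideal.mem_comap, hinv] at h3
    exact h3
  · exact h1

/-- transcendence degree of the image of an algebra map to a field generating it as a field. -/
theorem trdeg_quot_ker_eq {A K : Type u} [CommRing A] [Algebra k A] [Field K] [Algebra k K]
    (Λ : A →ₐ[k] K) (hgen : ∀ x : K, ∃ a b : A, Λ b ≠ 0 ∧ x * Λ b = Λ a) :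
    Algebra.trdeg k (A ⧸ RingHom.ker Λ) = Algebra.trdeg k K := by
  haveI : (RingHom.ker Λ).IsPrime := RingHom.ker_isPrime Λ
  obtain ⟨ι, hι⟩ : ∃ ι : A ⧸ RingHom.ker Λ →ₐ[k] K, ∀ a, ι (Ideal.Quotient.mk _ a) = Λ a :=
    ⟨Ideal.Quotient.liftₐ (RingHom.ker Λ) Λ (fun a ha => RingHom.mem_ker.mp ha), fun a => rfl⟩
  have hinj : Function.Injective ι := by
    rw [injective_iff_map_eq_zero]
    intro x hx
    obtain ⟨a, rfl⟩ := Ideal.Quotient.mk_surjective x
    rw [hι] at hx
    exact Ideal.Quotient.eq_zero_iff_mem.mpr (RingHom.mem_ker.mpr hx)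
  letI : Algebra (A ⧸ RingHom.ker Λ) K := ι.toRingHom.toAlgebra
  haveI : IsScalarTower k (A ⧸ RingHom.ker Λ) K :=
    IsScalarTower.of_algebraMap_eq fun c => (ι.commutes c).symm
  haveI : FaithfulSMul (A ⧸ RingHom.ker Λ) K := (faithfulSMul_iff_algebraMap_injective _ _).mpr hinj
  haveI : IsDomain (A ⧸ RingHom.ker Λ) := Ideal.Quotient.isDomain _
  haveI : Algebra.IsAlgebraic (A ⧸ RingHom.ker Λ) K := by
    constructor
    intro x
    obtain ⟨a, b, hb, hab⟩ := hgen x
    refine ⟨Polynomial.C (Ideal.Quotient.mk (RingHom.ker Λ) b) * Polynomial.X -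
      Polynomial.C (Ideal.Quotient.mk (RingHom.ker Λ) a), ?_, ?_⟩
    · intro h
      have h1 := congrArg (fun P => Polynomial.coeff P 1) h
      simp [Polynomial.coeff_C] at h1
      apply hb
      rw [← hι, h1, map_zero]
    · rw [map_sub, map_mul, Polynomial.aeval_C, Polynomial.aeval_C, Polynomial.aeval_X]
      show ι _ * x - ι _ = 0
      rw [hι, hι, mul_comm, hab, sub_self]
  haveI : FaithfulSMul k (A ⧸ RingHom.ker Λ) := inferInstance
  have h1 := trdeg_add_eq k (A ⧸ RingHom.ker Λ) (A := K)
  rw [trdeg_eq_zero (R := A ⧸ RingHom.ker Λ) (A := K), add_zero] at h1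
  exact h1

end Field

/-- membership in the extension of a prime to two localizations, compared along a map. -/
lemma mem_map_iff_of_localizations {S S' S'' : Type*} [CommRing S] [CommRing S'] [CommRing S'']
    [Algebra S S'] [Algebra S S''] (M' M'' : Submonoid S) [IsLocalization M' S']
    [IsLocalization M'' S''] (q : Ideal S) [hq : q.IsPrime] (h' : Disjoint (M' : Set S) (q : Set S))
    (h'' : Disjoint (M'' : Set S) (q : Set S)) (τ : S' →+* S'')
    (hτ : ∀ a, τ (algebraMap S S' a) = algebraMap S S'' a) (y : S') :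
    τ y ∈ q.map (algebraMap S S'') ↔ y ∈ q.map (algebraMap S S') := by
  obtain ⟨a, m, rfl⟩ := IsLocalization.exists_mk'_eq M' y
  have hu' : IsUnit (algebraMap S S' (m : S)) := IsLocalization.map_units S' m
  have hu'' : IsUnit (algebraMap S S'' (m : S)) := by rw [← hτ]; exact hu'.map τ
  have hspec : IsLocalization.mk' S' a m * algebraMap S S' (m : S) = algebraMap S S' a :=
    IsLocalization.mk'_spec S' a m
  have e1 : IsLocalization.mk' S' a m ∈ q.map (algebraMap S S') ↔ a ∈ q := by
    rw [← Ideal.mul_unit_mem_iff_mem _ hu', hspec]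
    have := IsLocalization.under_map_of_isPrime_disjoint M' S' hq h'
    constructor
    · intro h; rw [← this]; exact h
    · intro h; exact Ideal.mem_map_of_mem _ h
  have e2 : τ (IsLocalization.mk' S' a m) ∈ q.map (algebraMap S S'') ↔ a ∈ q := by
    rw [← Ideal.mul_unit_mem_iff_mem _ hu'', ← hτ, ← map_mul, hspec, hτ]
    have := IsLocalization.under_map_of_isPrime_disjoint M'' S'' hq h''
    constructor
    · intro h; rw [← this]; exact h
    · intro h; exact Ideal.mem_map_of_mem _ h
  rw [e1, e2]

section Lift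

variable {R : Type u} [CommRing R] (p : Ideal R) [p.IsPrime]

/-- polynomials over `R` whose reduction to `κ(p)` lies in the ideal of the first `d` variables. -/
theorem map_mem_Kd_iff (n d : ℕ) (y : MvPolynomial (Fin n) R) :
    MvPolynomial.map (algebraMap R p.ResidueField) y ∈ Kd p.ResidueField n d ↔
      y ∈ p.map (C : R →+* MvPolynomial (Fin n) R) ⊔
        Ideal.span (X '' {i : Fin n | (i : ℕ) < d}) := by
  classical
  constructor
  · intro h
    rw [Kd_eq_span_image, mem_ideal_span_X_image] at h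
    rw [← support_sum_monomial_coeff y]
    refine Ideal.sum_mem _ fun m _ => ?_
    by_cases hm : ∃ i ∈ {i : Fin n | (i : ℕ) < d}, m i ≠ 0
    · apply Ideal.mem_sup_right
      rw [mem_ideal_span_X_image]
      intro m' hm'
      have h1 := support_monomial_subset hm'
      rw [Finset.mem_singleton] at h1
      rw [h1]; exact hm
    · apply Ideal.mem_sup_left
      have hc : coeff m y ∈ p := by
        have hns : m ∉ (MvPolynomial.map (algebraMap R p.ResidueField) y).support :=
          fun hs => hm (h m hs)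
        rw [notMem_support_iff, coeff_map] at hns
        exact Ideal.algebraMap_residueField_eq_zero.mp hns
      rw [mem_map_C_iff]
      intro m'
      rw [coeff_monomial]
      split_ifs
      · exact hc
      · exact p.zero_mem
  · intro h
    have hle : p.map (C : R →+* MvPolynomial (Fin n) R) ⊔
        Ideal.span (X '' {i : Fin n | (i : ℕ) < d}) ≤
        (Kd p.ResidueField n d).comap (MvPolynomial.map (algebraMap R p.ResidueField)) := by
      apply sup_le
      · rw [Ideal.map_le_iff_le_comap]
        intro a ha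
        rw [Ideal.mem_comap, Ideal.mem_comap, map_C,
          Ideal.algebraMap_residueField_eq_zero.mpr ha, C_0]
        exact Ideal.zero_mem _
      · rw [Ideal.span_le]
        rintro _ ⟨i, hi, rfl⟩
        show MvPolynomial.map (algebraMap R p.ResidueField) (X i) ∈ Kd p.ResidueField n d
        rw [map_X]
        exact X_mem_Kd i hi
    exact hle h

/-- Noether normalization of the fibre ring adapted to a prime `Q'`, with coordinates lifted
to `S'`. -/
theorem exists_lift_normalization
    (S' : Type u) [CommRing S'] [Algebra R S'] [Algebra.FiniteType R S'] (n : ℕ)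
    (hdim : ringKrullDim (p.Fiber S') = (n : WithBot ℕ∞))
    (Q' : Ideal (p.Fiber S')) [Q'.IsPrime] :
    ∃ (d : ℕ) (σ : Fin n → S')
      (ψ : MvPolynomial (Fin n) p.ResidueField →ₐ[p.ResidueField] p.Fiber S'),
        d ≤ n ∧ ψ.toRingHom.Finite ∧ (∀ i, ψ (X i) = 1 ⊗ₜ[R] σ i) ∧
        Q'.comap ψ = Kd p.ResidueField n d := by
  have hnt : Nontrivial (p.Fiber S') := by
    by_contra h
    rw [not_nontrivial_iff_subsingleton] at h
    have : ringKrullDim (p.Fiber S') = ⊥ := ringKrullDim_eq_bot_of_subsingleton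
    rw [this] at hdim
    exact WithBot.bot_ne_coe.elim hdim
  obtain ⟨s, g, hinj, hfin⟩ := exists_finite_inj_algHom_of_fg p.ResidueField (p.Fiber S')
  have hs : s = n := by
    have h1 := Groth.Agent.H54.ringKrullDim_eq_of_ringHom_isIntegral_of_injective g.toRingHom
      (RingHom.Finite.to_isIntegral hfin) hinj
    rw [Groth.Agent.H54.ringKrullDim_mvPolynomial_field, hdim] at h1
    exact_mod_cast h1.symm
  subst hs
  have hI : Q'.comap g ≠ ⊤ := Ideal.comap_ne_top _ (Ideal.IsPrime.ne_top inferInstance)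
  obtain ⟨d, τ, hdn, hτfin, hτ⟩ := exists_normalization s (Q'.comap g) hI
  choose r hr σ hσ using fun i => Ideal.Fiber.exists_smul_eq_one_tmul p (g (τ (X i)))
  have hrne : ∀ i, algebraMap R p.ResidueField (r i) ≠ 0 := fun i h =>
    hr i (Ideal.algebraMap_residueField_eq_zero.mp h)
  obtain ⟨ψ, hψ⟩ : ∃ ψ : MvPolynomial (Fin s) p.ResidueField →ₐ[p.ResidueField] p.Fiber S',
      ∀ i, ψ (X i) = (1 : p.ResidueField) ⊗ₜ[R] σ i := ⟨aeval _, fun i => aeval_X _ i⟩
  obtain ⟨θ', hθ'⟩ : ∃ θ' : MvPolynomial (Fin s) p.ResidueField →ₐ[p.ResidueField]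
      MvPolynomial (Fin s) p.ResidueField,
      ∀ i, θ' (X i) = C (algebraMap R p.ResidueField (r i)) * X i :=
    ⟨aeval _, fun i => aeval_X _ i⟩
  obtain ⟨θ'', hθ''⟩ : ∃ θ'' : MvPolynomial (Fin s) p.ResidueField →ₐ[p.ResidueField]
      MvPolynomial (Fin s) p.ResidueField,
      ∀ i, θ'' (X i) = C (algebraMap R p.ResidueField (r i))⁻¹ * X i :=
    ⟨aeval _, fun i => aeval_X _ i⟩
  have hψC : ∀ c, ψ (C c) = algebraMap p.ResidueField (p.Fiber S') c := fun c => by
    have := ψ.commutes c
    rwa [MvPolynomial.algebraMap_eq] at this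
  have hgτC : ∀ c, (g.comp τ) (C c) = algebraMap p.ResidueField (p.Fiber S') c := fun c => by
    have := (g.comp τ).commutes c
    rwa [MvPolynomial.algebraMap_eq] at this
  have hcomp : g.comp τ = ψ.comp θ'' := by
    apply MvPolynomial.algHom_ext
    intro i
    rw [AlgHom.comp_apply, AlgHom.comp_apply, hθ'' i, map_mul, hψC, hψ i, ← hσ i,
      ← Algebra.smul_def, ← algebraMap_smul p.ResidueField (r i) (g (τ (X i))), smul_smul,
      inv_mul_cancel₀ (hrne i), one_smul]
  have hψeq : ψ = (g.comp τ).comp θ' := by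
    apply MvPolynomial.algHom_ext
    intro i
    have e1 : (g.comp τ) (θ' (X i)) = algebraMap R p.ResidueField (r i) • g (τ (X i)) := by
      rw [hθ' i, map_mul, Algebra.smul_def, hgτC]
      rfl
    rw [hψ i, AlgHom.comp_apply, e1, algebraMap_smul, hσ i]
  refine ⟨d, σ, ψ, hdn, ?_, hψ, ?_⟩
  · have h1 : (g.comp τ).toRingHom.Finite := RingHom.Finite.comp hfin hτfin
    have h2 : (g.comp τ).toRingHom = ψ.toRingHom.comp θ''.toRingHom := by
      rw [hcomp]; rfl
    rw [h2] at h1
    exact RingHom.Finite.of_comp_finite h1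
  · have h1 : Q'.comap ψ = (Kd p.ResidueField s d).comap θ' := by
      rw [hψeq, ← hτ]
      exact Ideal.ext fun a => Iff.rfl
    rw [h1]
    exact comap_scale_Kd θ' θ'' _ hrne hθ' hθ''

end Lift

end Groth.Agent.H66.NoethPrime
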