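import Groth.Agent.H66.NoethPrime

/-!
# Core of Stacks 00QE: fibre Noether normalization adapted to the prime over `q`
-/

set_option autoImplicit false
set_option linter.style.haveILetI false
universe u

open TensorProduct MvPolynomial
open Groth.Agent.H66.NoethRefined Groth.Agent.H66.NoethChain

namespace Groth.Agent.H66.NoethPrime

/-- transcendence degree of a quotient read off from an adapted Noether normalization. -/
theorem trdeg_quot_eq_of_comap_eq {k : Type u} [Field k] {A : Type u} [CommRing A] [Algebra k A]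
    (Q : Ideal A) [Q.IsPrime] (d e : ℕ) (ψ : MvPolynomial (Fin (d + e)) k →ₐ[k] A)
    (hψfin : ψ.toRingHom.Finite) (hψQ : Q.comap ψ = Kd k (d + e) d) :
    Algebra.trdeg k (A ⧸ Q) = (e : Cardinal.{u}) := by
  haveI : IsDomain (A ⧸ Q) := Ideal.Quotient.isDomain _
  obtain ⟨g', hg'⟩ : ∃ g' : MvPolynomial (Fin e) k →ₐ[k] (A ⧸ Q),
      ∀ a, g' a = Ideal.Quotient.mk Q (ψ (inc k d e a)) :=
    ⟨(Ideal.Quotient.mkₐ k Q).comp (ψ.comp (inc k d e)), fun a => rfl⟩
  have hg'inj : Function.Injective g' := by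
    rw [injective_iff_map_eq_zero]
    intro a ha
    rw [hg', Ideal.Quotient.eq_zero_iff_mem] at ha
    have h1 : inc k d e a ∈ Kd k (d + e) d := by
      rw [← hψQ]; exact ha
    rw [inc_mem_iff, Nat.sub_self, Kd_zero, Ideal.mem_bot] at h1
    exact h1
  have hg'fin : g'.toRingHom.Finite := by
    have hπψ : ((Ideal.Quotient.mkₐ k Q).comp ψ).toRingHom.Finite :=
      RingHom.Finite.comp (RingHom.Finite.of_surjective _
        (Ideal.Quotient.mkₐ_surjective k Q)) hψfin
    have hcomp : (Ideal.Quotient.mkₐ k Q).comp ψ = g'.comp (sig k d e) := by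
      apply MvPolynomial.algHom_ext
      intro j
      refine Fin.addCases (fun i => ?_) (fun l => ?_) j
      · rw [AlgHom.comp_apply, AlgHom.comp_apply, sig_X_left, map_zero]
        show Ideal.Quotient.mk Q (ψ (X (Fin.castAdd e i))) = 0
        rw [Ideal.Quotient.eq_zero_iff_mem]
        have h1 : (X (Fin.castAdd e i) : MvPolynomial (Fin (d + e)) k) ∈ Q.comap ψ := by
          rw [hψQ]; exact X_mem_Kd _ (by simp)
        exact h1
      · rw [AlgHom.comp_apply, AlgHom.comp_apply, sig_X_right, hg', inc_X]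
        rfl
    have h2 : (g'.toRingHom.comp (sig k d e).toRingHom).Finite := by
      have h3 : (g'.comp (sig k d e)).toRingHom.Finite := hcomp ▸ hπψ
      exact h3
    exact RingHom.Finite.of_comp_finite h2
  exact Groth.Agent.H54.trdeg_eq_of_finite_injective k _ e g' hg'inj hg'fin

theorem core {R S : Type u} [CommRing R] [CommRing S] [Algebra R S]
    (p : Ideal R) [p.IsPrime] (q : Ideal S) [q.IsPrime] [q.LiesOver p]
    [Algebra (Localization.AtPrime p) (Localization.AtPrime q)]
    [Localization.AtPrime.IsLiesOverAlgebra p q]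
    (g₀ : S) (hg₀ : g₀ ∉ q) (S' : Type u) [CommRing S'] [Algebra S S'] [Algebra R S']
    [IsScalarTower R S S'] [IsLocalization.Away g₀ S'] [Algebra.FiniteType R S']
    (n r : ℕ) (hdim : ringKrullDim (p.Fiber S') = (n : WithBot ℕ∞))
    (hr : Algebra.trdeg p.ResidueField q.ResidueField = r) :
    ∃ (σ : Fin n → S')
      (ψ : MvPolynomial (Fin n) p.ResidueField →ₐ[p.ResidueField] p.Fiber S'),
      r ≤ n ∧ ψ.toRingHom.Finite ∧ (∀ i, ψ (X i) = 1 ⊗ₜ[R] σ i) ∧
      ∀ y : MvPolynomial (Fin n) R, (aeval σ y : S') ∈ q.map (algebraMap S S') ↔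
         MvPolynomial.map (algebraMap R p.ResidueField) y ∈ Kd p.ResidueField n (n - r) := by
  classical
  have hu : IsUnit (algebraMap S q.ResidueField g₀) := by
    rw [isUnit_iff_ne_zero]
    exact fun h => hg₀ (Ideal.algebraMap_residueField_eq_zero.mp h)
  obtain ⟨lam, hlam⟩ : ∃ lam : S' →ₐ[R] q.ResidueField,
      ∀ a : S, lam (algebraMap S S' a) = algebraMap S q.ResidueField a := by
    refine ⟨{ toRingHom := IsLocalization.Away.lift g₀ hu, commutes' := fun x => ?_ },
      fun a => IsLocalization.Away.lift_eq g₀ hu a⟩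
    show IsLocalization.Away.lift g₀ hu (algebraMap R S' x) = algebraMap R q.ResidueField x
    rw [IsScalarTower.algebraMap_apply R S S', IsLocalization.Away.lift_eq,
      ← IsScalarTower.algebraMap_apply]
  have hker : ∀ s : S', lam s = 0 ↔ s ∈ q.map (algebraMap S S') := by
    intro s
    constructor
    · intro hs
      obtain ⟨a, m, ham⟩ := IsLocalization.exists_mk'_eq (Submonoid.powers g₀) s
      have hspec : s * algebraMap S S' (m : S) = algebraMap S S' a := by
        rw [← ham, IsLocalization.mk'_spec]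
      have h1 : lam (algebraMap S S' a) = 0 := by rw [← hspec, map_mul, hs, zero_mul]
      rw [hlam] at h1
      have ha : a ∈ q := Ideal.algebraMap_residueField_eq_zero.mp h1
      have hunit : IsUnit (algebraMap S S' (m : S)) := IsLocalization.map_units S' m
      have h2 : s = algebraMap S S' a * ↑(hunit.unit⁻¹) := by
        rw [← hspec, mul_assoc, IsUnit.mul_val_inv, mul_one]
      rw [h2]
      exact Ideal.mul_mem_right _ _ (Ideal.mem_map_of_mem _ ha)
    · intro hs
      have hle : q.map (algebraMap S S') ≤ RingHom.ker lam := by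
        rw [Ideal.map_le_iff_le_comap]
        intro a ha
        rw [Ideal.mem_comap, RingHom.mem_ker, hlam]
        exact Ideal.algebraMap_residueField_eq_zero.mpr ha
      exact RingHom.mem_ker.mp (hle hs)
  obtain ⟨Lam, hLam⟩ : ∃ Lam : p.Fiber S' →ₐ[p.ResidueField] q.ResidueField,
      ∀ s : S', Lam (1 ⊗ₜ[R] s) = lam s :=
    ⟨Algebra.TensorProduct.lift (Algebra.ofId _ _) lam (fun _ _ => Commute.all _ _),
      fun s => by rw [Algebra.TensorProduct.lift_tmul, map_one, one_mul]⟩
  have hgen : ∀ x : q.ResidueField, ∃ a b : p.Fiber S', Lam b ≠ 0 ∧ x * Lam b = Lam a := by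
    intro x
    obtain ⟨a, b, hb, hab⟩ := IsFractionRing.div_surjective (A := S ⧸ q) x
    obtain ⟨a, rfl⟩ := Ideal.Quotient.mk_surjective a
    obtain ⟨b, rfl⟩ := Ideal.Quotient.mk_surjective b
    have e : ∀ c : S, algebraMap (S ⧸ q) q.ResidueField (Ideal.Quotient.mk q c) =
        algebraMap S q.ResidueField c := fun c =>
      (IsScalarTower.algebraMap_apply S (S ⧸ q) q.ResidueField c).symm
    have hb0 : algebraMap S q.ResidueField b ≠ 0 := by
      rw [← e]
      exact (map_ne_zero_iff _ (IsFractionRing.injective (S ⧸ q) q.ResidueField)).mpr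
        (nonZeroDivisors.ne_zero hb)
    refine ⟨1 ⊗ₜ algebraMap S S' a, 1 ⊗ₜ algebraMap S S' b, ?_, ?_⟩
    · rw [hLam, hlam]; exact hb0
    · rw [hLam, hLam, hlam, hlam, ← hab, e, e, div_mul_cancel₀ _ hb0]
  have htr := trdeg_quot_ker_eq Lam hgen
  haveI : (RingHom.ker Lam).IsPrime := RingHom.ker_isPrime Lam
  obtain ⟨d, σ, ψ, hdn, hψfin, hψX, hψQ⟩ :=
    exists_lift_normalization p S' n hdim (RingHom.ker Lam)
  obtain ⟨e, rfl⟩ : ∃ e, n = d + e := ⟨n - d, by omega⟩
  have htr2 := trdeg_quot_eq_of_comap_eq (RingHom.ker Lam) d e ψ hψfin hψQ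
  have her : e = r := by
    have h1 : (e : Cardinal.{u}) = (r : Cardinal.{u}) := htr2.symm.trans (htr.trans hr)
    exact_mod_cast h1
  subst her
  have hcompat : ∀ y : MvPolynomial (Fin (d + e)) R,
      ψ (MvPolynomial.map (algebraMap R p.ResidueField) y) =
        (1 : p.ResidueField) ⊗ₜ[R] (aeval σ y : S') := by
    have hLR : (ψ.restrictScalars R).comp
        (MvPolynomial.mapAlgHom (Algebra.ofId R p.ResidueField)) =
        (Algebra.TensorProduct.includeRight : S' →ₐ[R] p.ResidueField ⊗[R] S').comp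
          (aeval σ) := by
      apply MvPolynomial.algHom_ext
      intro i
      show ψ (MvPolynomial.map (algebraMap R p.ResidueField) (X i)) =
        (1 : p.ResidueField) ⊗ₜ[R] (aeval σ (X i) : S')
      rw [MvPolynomial.map_X, hψX, aeval_X]
    intro y
    exact congrArg (fun f : MvPolynomial (Fin (d + e)) R →ₐ[R] p.Fiber S' => f y) hLR
  refine ⟨σ, ψ, Nat.le_add_left _ _, hψfin, hψX, fun y => ?_⟩
  rw [Nat.add_sub_cancel]
  have h3 : MvPolynomial.map (algebraMap R p.ResidueField) y ∈ Kd p.ResidueField (d + e) d ↔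
      ψ (MvPolynomial.map (algebraMap R p.ResidueField) y) ∈ RingHom.ker Lam := by
    rw [← hψQ]; exact Ideal.mem_comap
  rw [h3, RingHom.mem_ker, hcompat, hLam, hker]

end Groth.Agent.H66.NoethPrime
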