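import Mathlib
import Groth.Prelude.Def_DDual2
import Groth.Prelude.Def_ega3
import Groth.Prelude.Def_CohB1
import Groth.Agent.H82.ProjFinite
import Groth.Agent.H40.FlatBridge2
import Groth.Agent.H31.FlatSite
import Groth.Agent.H8.UnitIso
import Groth.Agent.S9805
import Groth.Agent.H18.TensorCoh
import Groth.Agent.H8.LocFreeNearFinite
import Groth.Agent.H22.SerreH1
import Groth.Agent.H8.SectionsExact

/-!
# Piece (HOM) for S2448: exactness of twisted global sections from vanishing of `H¹` of the kernel
-/

set_option autoImplicit false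
set_option linter.style.haveILetI false
universe u
open CategoryTheory CategoryTheory.Limits AlgebraicGeometry Opposite

namespace Groth.Agent.H66.PGE_HOM

section General

variable {X : Scheme.{u}}

/-- the functor `- ⊗ L` (local copy of `Groth.Agent.H82.ProjSerre.T`, to avoid importing the heavy
file `H82/ProjSerre.lean`) -/
noncomputable def T (L : X.Modules) : X.Modules ⥤ X.Modules :=
  (ModSite.tensorBi (X.sheaf)).flip.obj L

theorem T_obj (L F : X.Modules) : (T L).obj F = CohB1.tensorMod F L := rfl

theorem isFlat_of_isInvertible {L : X.Modules} (hL : PicF.IsInvertible L) :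
    ModSite.IsFlat (O := X.sheaf) L := by
  have h1 := Groth.Agent.H8.isFinLocFree_of_isInvertible hL
  have hq := Groth.Agent.H8.isQuasicoherent_of_isFinLocFree L h1
  have h2 : FlatMod.IsFlat L := ((Groth.Agent.S9805.result X L hq).2 h1).1
  exact (Groth.Agent.H40.FlatBridge2.isFlat_iff_stalkFlat L).2 h2

instance (L : X.Modules) : (T L).Additive :=
  inferInstanceAs ((ModSite.tensorBi (X.sheaf)).flip.obj L).Additive

theorem shortExact_map_T {L : X.Modules} (hL : PicF.IsInvertible L) (S : ShortComplex X.Modules)
    (hS : S.ShortExact) : (S.map (T L)).ShortExact := by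
  have h := isFlat_of_isInvertible hL
  haveI : PreservesFiniteLimits (T L) := h.1
  haveI : PreservesFiniteColimits (T L) := h.2
  exact hS.map_of_exact (T L)

end General

lemma comp_app_apply {Y : Scheme.{u}} {A B C : Y.Modules} (φ : A ⟶ B) (ψ : B ⟶ C) (V : Y.Opens)
    (x : Γ(A, V)) : (φ ≫ ψ).app V x = ψ.app V (φ.app V x) := rfl

/-- Core version in terms of `T L` and sections over `⊤`. -/
theorem core {X : Scheme.{u}} (L : X.Modules) (hL : PicF.IsInvertible L)
    (C : ShortComplex X.Modules) (hC : C.Exact)
    (hH1 : Subsingleton (Coh.HH X (CohB1.tensorMod (kernel C.f) L) 1))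
    (t : Γ((T L).obj C.X₂, ⊤)) :
    ((T L).map C.g).app ⊤ t = 0 ↔ ∃ s, ((T L).map C.f).app ⊤ s = t := by
  have hflat := isFlat_of_isInvertible hL
  haveI : PreservesFiniteLimits (T L) := hflat.1
  haveI : PreservesFiniteColimits (T L) := hflat.2
  constructor
  · intro ht
    have hz1 : kernel.ι C.f ≫ C.toCycles = 0 := by
      rw [← cancel_mono C.iCycles, Category.assoc, C.toCycles_i, kernel.condition, zero_comp]
    let S1 : ShortComplex X.Modules := ShortComplex.mk (kernel.ι C.f) C.toCycles hz1
    have hS1e : S1.Exact :=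
      ShortComplex.exact_of_f_is_kernel S1
        (isKernelOfComp C.iCycles C.f (kernelIsKernel C.f) hz1 C.toCycles_i)
    haveI : Epi C.toCycles := (ShortComplex.exact_iff_epi_toCycles C).mp hC
    have hS1 : S1.ShortExact :=
      ShortComplex.ShortExact.mk' hS1e (inferInstanceAs (Mono (kernel.ι C.f)))
        (inferInstanceAs (Epi C.toCycles))
    have hS1' := shortExact_map_T hL S1 hS1
    have hsurj := Groth.Agent.H22.SerreH1.app_top_surjective_of_H1 (S1.map (T L)) hS1' hH1
    let S2 : ShortComplex X.Modules := ShortComplex.mk C.iCycles C.g C.iCycles_g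
    have hS2e : S2.Exact := ShortComplex.exact_of_f_is_kernel S2 C.cyclesIsKernel
    have hS2' : (S2.map (T L)).Exact :=
      hS2e.map_of_mono_of_preservesKernel (T L) (inferInstanceAs (Mono C.iCycles)) inferInstance
    haveI : Mono (S2.map (T L)).f := inferInstanceAs (Mono ((T L).map C.iCycles))
    obtain ⟨x, hx⟩ := Groth.Agent.H8.exists_app_eq_of_exact (S2.map (T L)) hS2' ⊤ t ht
    obtain ⟨s, hs⟩ := hsurj x
    refine ⟨s, ?_⟩
    have hfac : (T L).map C.f = (T L).map C.toCycles ≫ (T L).map C.iCycles := by
      rw [← Functor.map_comp, C.toCycles_i]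
    rw [hfac, comp_app_apply]
    have hs' : ((T L).map C.toCycles).app ⊤ s = x := hs
    rw [hs']
    exact hx
  · rintro ⟨s, rfl⟩
    rw [← comp_app_apply, ← Functor.map_comp, C.zero, Functor.map_zero]
    rfl

theorem exact_globalSections_of_H1 {A : Type u} [CommRing A] {X : Scheme.{u}}
    [X.Over (Spec (CommRingCat.of A))] (L : X.Modules) (hL : PicF.IsInvertible L)
    (C : ShortComplex X.Modules) (hC : C.Exact)
    (hH1 : Subsingleton (Coh.HH X (CohB1.tensorMod (kernel C.f) L) 1)) :
    Function.Exact ((DCoh.tensorRightMod L ⋙ CohIII.globalSectionsA A).map C.f).hom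
      ((DCoh.tensorRightMod L ⋙ CohIII.globalSectionsA A).map C.g).hom := by
  intro t
  exact core L hL C hC hH1 t

end Groth.Agent.H66.PGE_HOM
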