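import Mathlib
import Groth.Prelude.Def_QFDual
import Groth.Agent.H13.OmegaBC
import Groth.Agent.H13.OmegaFlat

/-!
# Formal properties of the base change map of the relative dualizing module (helper66)

* `bcFin_trans`, `omegaBC_trans`: transitivity along a composite of pushout squares.
* `omegaBC_bijective_of_free`: the finite free case.
* `Jmap`/`Kmap`, `Jmap_bijective`: for a split surjection `R → S` (a direct factor) and an
  `S`-algebra `X`, `X ⊗_S Hom_A(S, A) ≅ X ⊗_R Hom_A(R, A)`.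
* `omegaBC_bijective_iff_of_section`: replacing `B'` by a direct factor does not change
  bijectivity of `omegaBC`.
* `section_baseChange`, `exists_section`.
-/

set_option autoImplicit false
set_option linter.style.haveILetI false
universe u

namespace Groth.Agent.H66.QFBC1

open TensorProduct

section Trans

variable {A A₁ A₂ B' B'₁ B'₂ : Type u} [CommRing A] [CommRing A₁] [CommRing A₂] [CommRing B']
  [CommRing B'₁] [CommRing B'₂]
  [Algebra A B'] [Algebra A A₁] [Algebra B' B'₁] [Algebra A₁ B'₁] [Algebra A B'₁]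
  [IsScalarTower A A₁ B'₁] [IsScalarTower A B' B'₁]
  [Algebra A₁ A₂] [Algebra B'₁ B'₂] [Algebra A₂ B'₂] [Algebra A₁ B'₂]
  [IsScalarTower A₁ A₂ B'₂] [IsScalarTower A₁ B'₁ B'₂]
  [Algebra A A₂] [Algebra B' B'₂] [Algebra A B'₂]
  [IsScalarTower A A₂ B'₂] [IsScalarTower A B' B'₂]
  [IsScalarTower A A₁ A₂] [IsScalarTower B' B'₁ B'₂]

theorem bcFin_trans (h₁ : Algebra.IsPushout A A₁ B' B'₁) (h₂ : Algebra.IsPushout A₁ A₂ B'₁ B'₂)
    (h₁₂ : Algebra.IsPushout A A₂ B' B'₂) (φ : Disc.Omega A B') :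
    QFDual.bcFin h₂ (QFDual.bcFin h₁ φ) = QFDual.bcFin h₁₂ φ := by
  apply Disc.Omega.ext
  refine h₁₂.out.algHom_ext _ _ fun x => ?_
  show (QFDual.bcFin h₂ (QFDual.bcFin h₁ φ)).toLinearMap (algebraMap B' B'₂ x) =
    (QFDual.bcFin h₁₂ φ).toLinearMap (algebraMap B' B'₂ x)
  rw [QFDual.bcFin_apply_algebraMap, IsScalarTower.algebraMap_apply B' B'₁ B'₂,
    QFDual.bcFin_apply_algebraMap, QFDual.bcFin_apply_algebraMap,
    ← IsScalarTower.algebraMap_apply A A₁ A₂]

variable {X : Type u} [CommRing X] [Algebra B'₂ X] [Algebra B'₁ X] [Algebra B' X]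
  [IsScalarTower B' B'₁ X] [IsScalarTower B'₁ B'₂ X] [IsScalarTower B' B'₂ X]

theorem omegaBC_trans (h₁ : Algebra.IsPushout A A₁ B' B'₁) (h₂ : Algebra.IsPushout A₁ A₂ B'₁ B'₂)
    (h₁₂ : Algebra.IsPushout A A₂ B' B'₂) (z : QFDual.omega A B' X) :
    QFDual.omegaBC (B₁ := X) h₂ (QFDual.omegaBC (B₁ := X) h₁ z) =
      QFDual.omegaBC (B₁ := X) h₁₂ z := by
  induction z using TensorProduct.induction_on with
  | zero => simp
  | tmul x φ => rw [QFDual.omegaBC_tmul, QFDual.omegaBC_tmul, QFDual.omegaBC_tmul, bcFin_trans]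
  | add a b ha hb => rw [map_add, map_add, map_add, ha, hb]

/-- two-out-of-three for bijectivity -/
theorem omegaBC_bijective_of_trans (h₁ : Algebra.IsPushout A A₁ B' B'₁)
    (h₂ : Algebra.IsPushout A₁ A₂ B'₁ B'₂) (h₁₂ : Algebra.IsPushout A A₂ B' B'₂)
    (hb₂ : Function.Bijective (QFDual.omegaBC (B₁ := X) h₂))
    (hb₁₂ : Function.Bijective (QFDual.omegaBC (B₁ := X) h₁₂)) :
    Function.Bijective (QFDual.omegaBC (B₁ := X) h₁) := by
  have hcomp : (QFDual.omegaBC (B₁ := X) h₂) ∘ (QFDual.omegaBC (B₁ := X) h₁) =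
      QFDual.omegaBC (B₁ := X) h₁₂ := funext (omegaBC_trans h₁ h₂ h₁₂)
  rw [← hcomp] at hb₁₂
  exact (Function.Bijective.of_comp_iff' hb₂ _).mp hb₁₂

theorem omegaBC_bijective_comp (h₁ : Algebra.IsPushout A A₁ B' B'₁)
    (h₂ : Algebra.IsPushout A₁ A₂ B'₁ B'₂) (h₁₂ : Algebra.IsPushout A A₂ B' B'₂)
    (hb₁ : Function.Bijective (QFDual.omegaBC (B₁ := X) h₁))
    (hb₂ : Function.Bijective (QFDual.omegaBC (B₁ := X) h₂)) :
    Function.Bijective (QFDual.omegaBC (B₁ := X) h₁₂) := by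
  have hcomp : (QFDual.omegaBC (B₁ := X) h₂) ∘ (QFDual.omegaBC (B₁ := X) h₁) =
      QFDual.omegaBC (B₁ := X) h₁₂ := funext (omegaBC_trans h₁ h₂ h₁₂)
  rw [← hcomp]
  exact hb₂.comp hb₁

end Trans

section Free

variable {A A₁ B' B'₁ : Type u} [CommRing A] [CommRing A₁] [CommRing B'] [CommRing B'₁]
  [Algebra A B'] [Algebra A A₁] [Algebra B' B'₁] [Algebra A₁ B'₁] [Algebra A B'₁]
  [IsScalarTower A A₁ B'₁] [IsScalarTower A B' B'₁]
  {X : Type u} [CommRing X] [Algebra B'₁ X] [Algebra B' X] [IsScalarTower B' B'₁ X]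

/-- finite free case: `omegaBC` is bijective for every base change -/
theorem omegaBC_bijective_of_free (h : Algebra.IsPushout A A₁ B' B'₁) {ι : Type*} [Fintype ι]
    (e : Module.Basis ι A B') : Function.Bijective (QFDual.omegaBC (B₁ := X) h) := by
  classical
  let Θe : B'₁ ⊗[B'] Disc.Omega A B' ≃ₗ[B'₁] Disc.Omega A₁ B'₁ := H13.OmegaBC.theta h e
  have hΘ : ∀ (b'₁ : B'₁) (φ : Disc.Omega A B'), Θe (b'₁ ⊗ₜ φ) = b'₁ • QFDual.bcFin h φ :=
    fun b'₁ φ => H13.OmegaBC.theta_tmul h e b'₁ φ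
  let c : X ⊗[B'₁] (B'₁ ⊗[B'] Disc.Omega A B') ≃ₗ[B'₁] X ⊗[B'] Disc.Omega A B' :=
    AlgebraTensorModule.cancelBaseChange B' B'₁ B'₁ X (Disc.Omega A B')
  have key : ∀ z : X ⊗[B'₁] (B'₁ ⊗[B'] Disc.Omega A B'),
      QFDual.omegaBC (B₁ := X) h (c z) = (LinearEquiv.lTensor X Θe) z := by
    intro z
    induction z using TensorProduct.induction_on with
    | zero => simp
    | add x y hx hy => rw [map_add, map_add, map_add, hx, hy]
    | tmul b₁ y =>
      induction y using TensorProduct.induction_on with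
      | zero => simp
      | add x y hx hy => rw [TensorProduct.tmul_add, map_add, map_add, map_add, hx, hy]
      | tmul b'₁ φ =>
        rw [AlgebraTensorModule.cancelBaseChange_tmul, QFDual.omegaBC_tmul,
          LinearEquiv.lTensor_tmul, hΘ, TensorProduct.smul_tmul]
  have hcomp : (QFDual.omegaBC (B₁ := X) h) ∘ c = LinearEquiv.lTensor X Θe := by
    funext z
    exact key z
  have hbij : Function.Bijective ((QFDual.omegaBC (B₁ := X) h) ∘ c) := by
    rw [hcomp]
    exact (LinearEquiv.lTensor X Θe).bijective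
  exact (Function.Bijective.of_comp_iff _ c.bijective).mp hbij

end Free

section J

variable (A R S X : Type u) [CommRing A] [CommRing R] [CommRing S] [CommRing X]
  [Algebra A R] [Algebra A S] [Algebra R S] [IsScalarTower A R S]
  [Algebra S X] [Algebra R X] [IsScalarTower R S X]

/-- restriction of functionals along `R → S` -/
def iota (φ : Disc.Omega A S) : Disc.Omega A R :=
  ⟨φ.toLinearMap ∘ₗ (IsScalarTower.toAlgHom A R S).toLinearMap⟩

theorem iota_apply (φ : Disc.Omega A S) (x : R) :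
    (iota A R S φ).toLinearMap x = φ.toLinearMap (algebraMap R S x) := rfl

theorem iota_zero : iota A R S 0 = 0 := by
  apply Disc.Omega.ext
  ext x
  rfl

theorem iota_add (φ ψ : Disc.Omega A S) : iota A R S (φ + ψ) = iota A R S φ + iota A R S ψ := by
  apply Disc.Omega.ext
  ext x
  rfl

theorem iota_smul (r : R) (φ : Disc.Omega A S) :
    iota A R S (algebraMap R S r • φ) = r • iota A R S φ := by
  apply Disc.Omega.ext
  ext x
  show φ.toLinearMap (algebraMap R S r * algebraMap R S x) = φ.toLinearMap (algebraMap R S (r * x))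
  rw [RingHom.map_mul]

variable {R S} in
/-- extension of functionals along a section `σ` of `R → S` -/
def rho (σ : S →ₗ[R] R) (ψ : Disc.Omega A R) : Disc.Omega A S :=
  ⟨ψ.toLinearMap ∘ₗ (σ.restrictScalars A)⟩

variable {R S}

theorem rho_apply (σ : S →ₗ[R] R) (ψ : Disc.Omega A R) (s : S) :
    (rho A σ ψ).toLinearMap s = ψ.toLinearMap (σ s) := rfl

theorem rho_zero (σ : S →ₗ[R] R) : rho A σ 0 = 0 := by
  apply Disc.Omega.ext
  ext x
  rfl

theorem rho_add (σ : S →ₗ[R] R) (φ ψ : Disc.Omega A R) :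
    rho A σ (φ + ψ) = rho A σ φ + rho A σ ψ := by
  apply Disc.Omega.ext
  ext x
  rfl

theorem rho_smul (σ : S →ₗ[R] R) (r : R) (ψ : Disc.Omega A R) :
    rho A σ (r • ψ) = algebraMap R S r • rho A σ ψ := by
  apply Disc.Omega.ext
  ext s
  show ψ.toLinearMap (r * σ s) = ψ.toLinearMap (σ (algebraMap R S r * s))
  rw [← Algebra.smul_def, map_smul, smul_eq_mul]

theorem rho_iota (σ : S →ₗ[R] R) (hσ : ∀ s, algebraMap R S (σ s) = s) (φ : Disc.Omega A S) :
    rho A σ (iota A R S φ) = φ := by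
  apply Disc.Omega.ext
  ext s
  show φ.toLinearMap (algebraMap R S (σ s)) = φ.toLinearMap s
  rw [hσ]

theorem iota_rho (σ : S →ₗ[R] R) (ψ : Disc.Omega A R) :
    iota A R S (rho A σ ψ) = σ 1 • ψ := by
  apply Disc.Omega.ext
  ext r
  show ψ.toLinearMap (σ (algebraMap R S r)) = ψ.toLinearMap (σ 1 * r)
  rw [Algebra.algebraMap_eq_smul_one, map_smul, smul_eq_mul, mul_comm]

variable (R S)

/-- `X ⊗_S Hom_A(S, A) → X ⊗_R Hom_A(R, A)` -/
noncomputable def Jmap (hsurj : Function.Surjective (algebraMap R S)) :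
    X ⊗[S] Disc.Omega A S →+ X ⊗[R] Disc.Omega A R :=
  TensorProduct.liftAddHom
    { toFun := fun x =>
        { toFun := fun φ => x ⊗ₜ[R] iota A R S φ
          map_zero' := by rw [iota_zero, TensorProduct.tmul_zero]
          map_add' := fun φ ψ => by rw [iota_add, TensorProduct.tmul_add] }
      map_zero' := by
        ext φ
        exact TensorProduct.zero_tmul _ _
      map_add' := fun x y => by
        ext φ
        exact TensorProduct.add_tmul _ _ _ }
    (fun s x φ => by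
      obtain ⟨r, rfl⟩ := hsurj s
      show (algebraMap R S r • x) ⊗ₜ[R] iota A R S φ = x ⊗ₜ[R] iota A R S (algebraMap R S r • φ)
      rw [iota_smul, TensorProduct.tmul_smul, algebraMap_smul, TensorProduct.smul_tmul'])

theorem Jmap_tmul (hsurj : Function.Surjective (algebraMap R S)) (x : X) (φ : Disc.Omega A S) :
    Jmap A R S X hsurj (x ⊗ₜ[S] φ) = x ⊗ₜ[R] iota A R S φ := rfl

variable {R S}

/-- `X ⊗_R Hom_A(R, A) → X ⊗_S Hom_A(S, A)` -/
noncomputable def Kmap (σ : S →ₗ[R] R) :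
    X ⊗[R] Disc.Omega A R →+ X ⊗[S] Disc.Omega A S :=
  TensorProduct.liftAddHom
    { toFun := fun x =>
        { toFun := fun ψ => x ⊗ₜ[S] rho A σ ψ
          map_zero' := by rw [rho_zero, TensorProduct.tmul_zero]
          map_add' := fun φ ψ => by rw [rho_add, TensorProduct.tmul_add] }
      map_zero' := by
        ext φ
        exact TensorProduct.zero_tmul _ _
      map_add' := fun x y => by
        ext φ
        exact TensorProduct.add_tmul _ _ _ }
    (fun r x ψ => by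
      show (r • x) ⊗ₜ[S] rho A σ ψ = x ⊗ₜ[S] rho A σ (r • ψ)
      rw [rho_smul, TensorProduct.tmul_smul, ← algebraMap_smul S r x, TensorProduct.smul_tmul'])

theorem Kmap_tmul (σ : S →ₗ[R] R) (x : X) (ψ : Disc.Omega A R) :
    Kmap A X σ (x ⊗ₜ[R] ψ) = x ⊗ₜ[S] rho A σ ψ := rfl

theorem Jmap_bijective (σ : S →ₗ[R] R) (hσ : ∀ s, algebraMap R S (σ s) = s) :
    Function.Bijective (Jmap A R S X (fun s => ⟨σ s, hσ s⟩)) := by
  have hKJ : ∀ z, Kmap A X σ (Jmap A R S X (fun s => ⟨σ s, hσ s⟩) z) = z := by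
    intro z
    induction z using TensorProduct.induction_on with
    | zero => rw [map_zero, map_zero]
    | tmul x φ => rw [Jmap_tmul, Kmap_tmul, rho_iota A σ hσ]
    | add a b ha hb => rw [map_add, map_add, ha, hb]
  have hJK : ∀ z, Jmap A R S X (fun s => ⟨σ s, hσ s⟩) (Kmap A X σ z) = z := by
    intro z
    induction z using TensorProduct.induction_on with
    | zero => rw [map_zero, map_zero]
    | tmul x ψ =>
      rw [Kmap_tmul, Jmap_tmul, iota_rho, TensorProduct.tmul_smul, TensorProduct.smul_tmul']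
      congr 1
      rw [← algebraMap_smul S (σ 1) x, hσ, one_smul]
    | add a b ha hb => rw [map_add, map_add, ha, hb]
  exact ⟨fun a b hab => by rw [← hKJ a, ← hKJ b, hab], fun z => ⟨_, hJK z⟩⟩

end J

section F5

variable {A A₁ R R₁ S S₁ X : Type u} [CommRing A] [CommRing A₁] [CommRing R] [CommRing R₁]
  [CommRing S] [CommRing S₁] [CommRing X]
  [Algebra A R] [Algebra A A₁] [Algebra R R₁] [Algebra A₁ R₁] [Algebra A R₁]
  [IsScalarTower A A₁ R₁] [IsScalarTower A R R₁]
  [Algebra A S] [Algebra S S₁] [Algebra A₁ S₁] [Algebra A S₁]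
  [IsScalarTower A A₁ S₁] [IsScalarTower A S S₁]
  [Algebra R S] [IsScalarTower A R S] [Algebra R₁ S₁] [IsScalarTower A₁ R₁ S₁]
  [Algebra R S₁] [IsScalarTower R S S₁] [IsScalarTower R R₁ S₁]
  [Algebra R₁ X] [Algebra R X] [IsScalarTower R R₁ X]
  [Algebra S₁ X] [Algebra S X] [IsScalarTower S S₁ X]
  [IsScalarTower R S X] [IsScalarTower R₁ S₁ X]

theorem bcFin_iota (hR : Algebra.IsPushout A A₁ R R₁) (hS : Algebra.IsPushout A A₁ S S₁)
    (φ : Disc.Omega A S) :
    QFDual.bcFin hR (iota A R S φ) = iota A₁ R₁ S₁ (QFDual.bcFin hS φ) := by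
  apply Disc.Omega.ext
  refine hR.out.algHom_ext _ _ fun r => ?_
  show (QFDual.bcFin hR (iota A R S φ)).toLinearMap (algebraMap R R₁ r) =
    (iota A₁ R₁ S₁ (QFDual.bcFin hS φ)).toLinearMap (algebraMap R R₁ r)
  rw [QFDual.bcFin_apply_algebraMap, iota_apply, iota_apply,
    ← IsScalarTower.algebraMap_apply R R₁ S₁, IsScalarTower.algebraMap_apply R S S₁,
    QFDual.bcFin_apply_algebraMap]

/-- Replacing `R` by a direct factor `S` (through which `X` factors) does not change bijectivity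
of the base change map. -/
theorem omegaBC_bijective_iff_of_section (hR : Algebra.IsPushout A A₁ R R₁)
    (hS : Algebra.IsPushout A A₁ S S₁)
    (σ : S →ₗ[R] R) (hσ : ∀ s, algebraMap R S (σ s) = s)
    (σ₁ : S₁ →ₗ[R₁] R₁) (hσ₁ : ∀ s, algebraMap R₁ S₁ (σ₁ s) = s) :
    Function.Bijective (QFDual.omegaBC (B₁ := X) hR) ↔
      Function.Bijective (QFDual.omegaBC (B₁ := X) hS) := by
  have hJ := Jmap_bijective A X σ hσ
  have hJ₁ := Jmap_bijective A₁ X σ₁ hσ₁
  have hsq : (QFDual.omegaBC (B₁ := X) hR) ∘ (Jmap A R S X (fun s => ⟨σ s, hσ s⟩)) =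
      (Jmap A₁ R₁ S₁ X (fun s => ⟨σ₁ s, hσ₁ s⟩)) ∘ (QFDual.omegaBC (B₁ := X) hS) := by
    funext z
    simp only [Function.comp_apply]
    induction z using TensorProduct.induction_on with
    | zero => simp
    | tmul x φ => rw [Jmap_tmul, QFDual.omegaBC_tmul, QFDual.omegaBC_tmul, Jmap_tmul, bcFin_iota hR hS]
    | add a b ha hb => rw [map_add, map_add, map_add, map_add, ha, hb]
  constructor
  · intro hb
    have h1 : Function.Bijective ((Jmap A₁ R₁ S₁ X (fun s => ⟨σ₁ s, hσ₁ s⟩)) ∘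
        (QFDual.omegaBC (B₁ := X) hS)) := by
      rw [← hsq]
      exact hb.comp hJ
    exact (Function.Bijective.of_comp_iff' hJ₁ _).mp h1
  · intro hb
    have h1 : Function.Bijective ((QFDual.omegaBC (B₁ := X) hR) ∘
        (Jmap A R S X (fun s => ⟨σ s, hσ s⟩))) := by
      rw [hsq]
      exact hJ₁.comp hb
    exact (Function.Bijective.of_comp_iff _ hJ).mp h1

end F5

section Section

/-- a flat finitely presented quotient splits -/
theorem exists_section (R S : Type u) [CommRing R] [CommRing S] [Algebra R S] [Module.Flat R S]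
    [Module.FinitePresentation R S] (hsurj : Function.Surjective (algebraMap R S)) :
    ∃ σ : S →ₗ[R] R, ∀ s, algebraMap R S (σ s) = s := by
  haveI : Module.Projective R S := Module.Flat.projective_of_finitePresentation
  obtain ⟨σ, hσ⟩ := Module.projective_lifting_property (Algebra.linearMap R S)
    (LinearMap.id : S →ₗ[R] S) hsurj
  exact ⟨σ, fun s => LinearMap.congr_fun hσ s⟩

/-- sections base change along pushouts -/
theorem section_baseChange {R R₁ S S₁ : Type u} [CommRing R] [CommRing R₁] [CommRing S]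
    [CommRing S₁] [Algebra R R₁] [Algebra R S] [Algebra S S₁] [Algebra R₁ S₁] [Algebra R S₁]
    [IsScalarTower R R₁ S₁] [IsScalarTower R S S₁] (hp : Algebra.IsPushout R R₁ S S₁)
    (σ : S →ₗ[R] R) (hσ : ∀ s, algebraMap R S (σ s) = s) :
    ∃ σ₁ : S₁ →ₗ[R₁] R₁, ∀ s, algebraMap R₁ S₁ (σ₁ s) = s := by
  let σ₁ : S₁ →ₗ[R₁] R₁ := hp.out.lift ((Algebra.linearMap R R₁) ∘ₗ σ)
  have h1 : ∀ s : S, σ₁ (algebraMap S S₁ s) = algebraMap R R₁ (σ s) := fun s =>
    hp.out.lift_eq ((Algebra.linearMap R R₁) ∘ₗ σ) s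
  refine ⟨σ₁, fun s₁ => ?_⟩
  have h2 : (Algebra.linearMap R₁ S₁) ∘ₗ σ₁ = LinearMap.id := by
    refine hp.out.algHom_ext _ _ fun s => ?_
    show algebraMap R₁ S₁ (σ₁ (algebraMap S S₁ s)) = algebraMap S S₁ s
    rw [h1, ← IsScalarTower.algebraMap_apply R R₁ S₁, IsScalarTower.algebraMap_apply R S S₁, hσ]
  exact LinearMap.congr_fun h2 s₁

end Section

end Groth.Agent.H66.QFBC1
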