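import Mathlib
import Groth.Agent.H72.OmegaInv

/-!
# Helpers for invertibility of the relative dualizing module (helper66)

* `bijective_of_faithfullyFlat_of_isEpi`: a faithfully flat epimorphism of rings is bijective.
* `exists_chart_of_localization_equiv`: a finitely presented module that is free of rank one at a
  prime has a "one-generator chart" near that prime.
* `invertible_of_forall_maximal`: finitely presented + free of rank one at all maximal ideals
  implies invertible.
* `localization_equiv_of_flat_local`: descent of "free of rank one" along a flat local algebra.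
-/

set_option autoImplicit false
universe u

namespace Groth.Agent.H66.QFInv1

open TensorProduct IsLocalRing

/-- A faithfully flat epimorphism of commutative rings is bijective. -/
theorem bijective_of_faithfullyFlat_of_isEpi (R S : Type*) [CommRing R] [CommRing S] [Algebra R S]
    [Module.FaithfullyFlat R S] [Algebra.IsEpi R S] : Function.Bijective (algebraMap R S) := by
  apply Module.FaithfullyFlat.bijective_of_tensorProduct (R := R) (S := S) (T := S)
  have h1 := (Algebra.isEpi_iff_forall_one_tmul_eq R S).mp inferInstance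
  constructor
  · intro a b hab
    have h2 := congrArg (Algebra.TensorProduct.lmul' (S := S) R) hab
    simpa [Algebra.TensorProduct.algebraMap_apply] using h2
  · intro x
    induction x using TensorProduct.induction_on with
    | zero => exact ⟨0, by simp⟩
    | tmul u v =>
      refine ⟨u * v, ?_⟩
      rw [Algebra.TensorProduct.algebraMap_apply, Algebra.algebraMap_self, RingHom.id_apply]
      calc (u * v) ⊗ₜ[R] (1 : S) = (u ⊗ₜ[R] (1 : S)) * (v ⊗ₜ[R] (1 : S)) := by
            rw [Algebra.TensorProduct.tmul_mul_tmul, mul_one]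
        _ = (u ⊗ₜ[R] (1 : S)) * ((1 : S) ⊗ₜ[R] v) := by rw [h1 v]
        _ = u ⊗ₜ[R] v := by rw [Algebra.TensorProduct.tmul_mul_tmul, mul_one, one_mul]
    | add x y hx hy =>
      obtain ⟨a, rfl⟩ := hx
      obtain ⟨b, rfl⟩ := hy
      exact ⟨a + b, map_add _ _ _⟩

section Chart

variable {B M : Type u} [CommRing B] [AddCommGroup M] [Module B M]

/-- A finitely presented module which is free of rank one at the prime `q` has a one-generator
chart near `q`. -/
theorem exists_chart_of_localization_equiv [Module.FinitePresentation B M] (q : Ideal B)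
    [q.IsPrime]
    (ε : LocalizedModule q.primeCompl M ≃ₗ[Localization.AtPrime q] Localization.AtPrime q) :
    ∃ (w : M) (ψ : Module.Dual B M) (g : B), g ∉ q ∧ (∀ v, ψ v • w = g • v) ∧ ψ w = g := by
  classical
  let S := Localization.AtPrime q
  let mk := LocalizedModule.mkLinearMap q.primeCompl M
  haveI : Module.Finite B M := inferInstance
  obtain ⟨⟨w₀, s₀⟩, hw⟩ := IsLocalizedModule.mk'_surjective q.primeCompl mk (ε.symm 1)
  replace hw : IsLocalizedModule.mk' mk w₀ s₀ = ε.symm 1 := hw
  let φ : M →ₗ[B] S := (ε.toLinearMap.restrictScalars B) ∘ₗ mk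
  have hφ : ∀ v, φ v = ε (mk v) := fun v => rfl
  have hφw : φ w₀ = algebraMap B S s₀ := by
    have h1 : mk w₀ = (s₀ : B) • IsLocalizedModule.mk' mk w₀ s₀ :=
      (IsLocalizedModule.mk'_cancel' mk w₀ s₀).symm
    rw [hφ, h1, hw]
    have h2 : ε ((s₀ : B) • ε.symm 1) = (s₀ : B) • ε (ε.symm 1) :=
      (ε.toLinearMap.restrictScalars B).map_smul _ _
    rw [h2, LinearEquiv.apply_symm_apply, Algebra.smul_def, mul_one]
  obtain ⟨ψ₀, t, hψ₀⟩ := Module.FinitePresentation.exists_lift_of_isLocalizedModule q.primeCompl
    (Algebra.linearMap B S) φ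
  have hψ₀' : ∀ v, algebraMap B S (ψ₀ v) = algebraMap B S t * φ v := by
    intro v
    have := LinearMap.congr_fun hψ₀ v
    simpa [Algebra.smul_def, Submonoid.smul_def] using this
  let g₁ : M →ₗ[B] M := (LinearMap.toSpanSingleton B M w₀) ∘ₗ ψ₀
  let g₂ : M →ₗ[B] M := ((t : B) * (s₀ : B)) • LinearMap.id
  have hcomp : mk.comp g₁ = mk.comp g₂ := by
    ext v
    apply ε.injective
    show ε (mk (ψ₀ v • w₀)) = ε (mk ((((t : B) * (s₀ : B))) • v))
    have e1 : ε (mk (ψ₀ v • w₀)) = ψ₀ v • ε (mk w₀) := by
      rw [map_smul]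
      exact (ε.toLinearMap.restrictScalars B).map_smul _ _
    have e2 : ε (mk ((((t : B) * (s₀ : B))) • v)) = ((t : B) * (s₀ : B)) • ε (mk v) := by
      rw [map_smul]
      exact (ε.toLinearMap.restrictScalars B).map_smul _ _
    rw [e1, e2, ← hφ, ← hφ, hφw, Algebra.smul_def, Algebra.smul_def, hψ₀' v, map_mul]
    ring
  obtain ⟨r, hr⟩ := Module.Finite.exists_smul_of_comp_eq_of_isLocalizedModule q.primeCompl mk
    g₁ g₂ hcomp
  have hr' : ∀ v, (r : B) • (ψ₀ v • w₀) = (r : B) • (((t : B) * (s₀ : B)) • v) := by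
    intro v
    have := LinearMap.congr_fun hr v
    simpa [g₁, g₂, Submonoid.smul_def] using this
  have hw2 : algebraMap B S (ψ₀ w₀) = algebraMap B S ((t : B) * (s₀ : B)) := by
    rw [hψ₀' w₀, hφw, map_mul]
  obtain ⟨r', hr'2⟩ := (IsLocalization.eq_iff_exists q.primeCompl S).mp hw2
  refine ⟨w₀, ((r : B) * (r' : B)) • ψ₀, (r : B) * (r' : B) * ((t : B) * (s₀ : B)), ?_, ?_, ?_⟩
  · exact ((r * r' * (t * s₀) : q.primeCompl)).2
  · intro v
    rw [LinearMap.smul_apply, smul_eq_mul, mul_comm (r : B) (r' : B),
      mul_assoc (r' : B) (r : B) (ψ₀ v), mul_smul (r' : B), mul_smul (r : B) (ψ₀ v), hr' v]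
    simp only [mul_smul]
  · rw [LinearMap.smul_apply, smul_eq_mul, mul_assoc, mul_assoc, hr'2]

/-- Finitely presented and free of rank one at every maximal ideal implies invertible. -/
theorem invertible_of_forall_maximal [Module.FinitePresentation B M]
    (h : ∀ (q : Ideal B) [q.IsMaximal], Nonempty
      (LocalizedModule q.primeCompl M ≃ₗ[Localization.AtPrime q] Localization.AtPrime q)) :
    Module.Invertible B M := by
  classical
  have hex : ∀ q : MaximalSpectrum B, ∃ (w : M) (ψ : Module.Dual B M) (g : B),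
      g ∉ q.asIdeal ∧ (∀ v, ψ v • w = g • v) ∧ ψ w = g := by
    intro q
    haveI := q.isMaximal
    obtain ⟨ε⟩ := h q.asIdeal
    exact exists_chart_of_localization_equiv q.asIdeal ε
  choose w ψ g hg h1 h2 using hex
  refine Groth.Agent.H72.OmegaInv.invertible_of_data w ψ g h1 h2 ?_
  by_contra hne
  obtain ⟨m, hm, hle⟩ := Ideal.exists_le_maximal _ hne
  exact hg ⟨m, hm⟩ (hle (Ideal.subset_span ⟨⟨m, hm⟩, rfl⟩))

end Chart

section Descent

variable {B M C : Type u} [CommRing B] [AddCommGroup M] [Module B M] [Module.Finite B M]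
  [CommRing C] [IsLocalRing C] [Algebra B C] [Module.Flat B C]

/-- Descent of "free of rank one" along a flat local algebra whose closed point lies over `q`. -/
theorem localization_equiv_of_flat_local (q : Ideal B) [q.IsPrime]
    (hq : (maximalIdeal C).comap (algebraMap B C) = q) (e : C ⊗[B] M ≃ₗ[C] C) :
    Nonempty (LocalizedModule q.primeCompl M ≃ₗ[Localization.AtPrime q] Localization.AtPrime q) := by
  classical
  let S := Localization.AtPrime q
  let Mq := LocalizedModule q.primeCompl M
  have hmem : ∀ b : B, b ∈ q ↔ ¬ IsUnit (algebraMap B C b) := by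
    intro b
    rw [← hq, Ideal.mem_comap, mem_maximalIdeal, mem_nonunits_iff]
  have hunits : ∀ y : q.primeCompl, IsUnit (algebraMap B C y) := by
    intro y
    by_contra hy
    exact y.2 ((hmem _).2 hy)
  letI : Algebra S C := (IsLocalization.lift (M := q.primeCompl) (g := algebraMap B C) hunits).toAlgebra
  haveI : IsScalarTower B S C := IsScalarTower.of_algebraMap_eq
    (fun x => (IsLocalization.lift_eq hunits x).symm)
  haveI : Module.Flat S C := (Module.flat_iff_of_isLocalization S q.primeCompl C).mpr inferInstance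
  haveI : IsLocalHom (algebraMap S C) := by
    constructor
    intro x hx
    obtain ⟨b, s, rfl⟩ := IsLocalization.exists_mk'_eq q.primeCompl x
    have h1 : algebraMap S C (IsLocalization.mk' S b s) * algebraMap B C s = algebraMap B C b := by
      rw [IsScalarTower.algebraMap_apply B S C, IsScalarTower.algebraMap_apply B S C, ← map_mul,
        IsLocalization.mk'_spec]
    have h2 : IsUnit (algebraMap B C b) := by
      rw [← h1]
      exact hx.mul (hunits s)
    have h3 : b ∉ q := fun hb => (hmem b).1 hb h2
    exact (IsLocalization.AtPrime.isUnit_mk'_iff S q b s).2 h3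
  haveI : Module.FaithfullyFlat S C := Module.FaithfullyFlat.of_flat_of_isLocalHom
  have hbc : IsBaseChange S (LocalizedModule.mkLinearMap q.primeCompl M) :=
    IsLocalizedModule.isBaseChange q.primeCompl S _
  let e1 : S ⊗[B] M ≃ₗ[S] Mq := hbc.equiv
  let e2 : C ⊗[S] Mq ≃ₗ[C] C ⊗[S] (S ⊗[B] M) :=
    TensorProduct.AlgebraTensorModule.congr (LinearEquiv.refl C C) e1.symm
  let e3 : C ⊗[S] (S ⊗[B] M) ≃ₗ[C] C ⊗[B] M :=
    TensorProduct.AlgebraTensorModule.cancelBaseChange B S C C M
  let E : C ⊗[S] Mq ≃ₗ[C] C := e2 ≪≫ₗ e3 ≪≫ₗ e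
  haveI : Module.Flat C (C ⊗[S] Mq) := Module.Flat.of_linearEquiv E
  haveI : Module.Flat S Mq := Module.Flat.of_flat_tensorProduct S Mq C
  haveI : Module.Finite S Mq := inferInstance
  haveI : Module.Free S Mq := Module.free_of_flat_of_isLocalRing
  have hr : Module.finrank S Mq = 1 := by
    have h1 : Module.finrank C (C ⊗[S] Mq) = Module.finrank S Mq := Module.finrank_baseChange
    have h2 : Module.finrank C (C ⊗[S] Mq) = 1 := by
      rw [LinearEquiv.finrank_eq E, Module.finrank_self]
    omega
  exact ⟨LinearEquiv.ofFinrankEq _ _ (by rw [hr, Module.finrank_self])⟩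

end Descent

end Groth.Agent.H66.QFInv1
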