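import Mathlib
import Groth.Agent.S8958
import Groth.Agent.H72.OmegaInv
import Groth.Agent.S0345
import Groth.Agent.H59.Goren1

/-!
# The relative dualizing module after splitting off a finite flat local factor (helper66)

`omega_equiv_self`: let `A → B'` be finite, `A → Ah` flat with `Ah` Noetherian local, `T = Ah ⊗_A B'`,
and `C` a local `T`-algebra which is a quotient of `T`, flat over `T` and over `Ah`, whose closed
fibre `C / m_{Ah} C` is Gorenstein.  Then `C ⊗_{B'} Hom_A(B', A) ≅ C`.
-/

set_option autoImplicit false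
universe u

namespace Groth.Agent.H66.QFInv2

open TensorProduct IsLocalRing

section FiberQuot
variable (R C : Type u) [CommRing R] [CommRing C] [Algebra R C] (m : Ideal R) [m.IsMaximal]

/-- The fibre over a maximal ideal is the quotient by the extended ideal. -/
noncomputable def fiberEquivQuot : m.Fiber C ≃+* C ⧸ m.map (algebraMap R C) :=
  let σ : (R ⧸ m) ≃ₐ[R] m.ResidueField :=
    AlgEquiv.ofBijective (IsScalarTower.toAlgHom R (R ⧸ m) m.ResidueField)
      (Ideal.bijective_algebraMap_quotient_residueField m)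
  (Algebra.TensorProduct.congr σ.symm (AlgEquiv.refl : C ≃ₐ[R] C)).toRingEquiv.trans
    (Algebra.TensorProduct.quotIdealMapEquivQuotTensor C m).symm.toRingEquiv

end FiberQuot

/-- A Gorenstein local ring is a Gorenstein ring. -/
theorem gorRing_of_gorLocal (A : Type u) [CommRing A] (h : LocCoh.IsGorensteinLocalRing A) :
    LocCoh.IsGorensteinRing A := by
  haveI : IsNoetherianRing A := h.toIsNoetherian
  exact ((Groth.Agent.S0345.result A).mp h.exists_hasInjectiveDimensionLT).1

section Core

variable (A B' Ah T C : Type u) [CommRing A] [CommRing B'] [CommRing Ah] [CommRing T] [CommRing C]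
  [IsNoetherianRing A] [IsNoetherianRing Ah] [IsLocalRing Ah]
  [Algebra A B'] [Module.Finite A B'] [Algebra A Ah] [Module.Flat A Ah]
  [Algebra B' T] [Algebra Ah T] [Algebra A T] [IsScalarTower A Ah T] [IsScalarTower A B' T]
  [Module.Finite Ah T]
  [Algebra T C] [Algebra B' C] [IsScalarTower B' T C] [Algebra Ah C] [IsScalarTower Ah T C]
  [IsLocalRing C] [Module.Flat T C] [Module.Flat Ah C]

open Groth.Agent.H72.OmegaInv in
theorem omega_equiv_self (h : Algebra.IsPushout A Ah B' T)
    (hsurj : Function.Surjective (algebraMap T C))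
    (hGor : LocCoh.IsGorensteinLocalRing (C ⧸ (maximalIdeal Ah).map (algebraMap Ah C))) :
    Nonempty (QFDual.omega A B' C ≃ₗ[C] C) := by
  classical
  let e1 : QFDual.omega A B' C ≃ₗ[C] QFDual.omega Ah T C :=
    LinearEquiv.ofBijective (QFDual.omegaBC (B₁ := C) h) (Groth.Agent.S8958.result A B' Ah T C h)
  haveI : IsNoetherianRing T := IsNoetherianRing.of_finite Ah T
  let π : T →ₐ[Ah] C := IsScalarTower.toAlgHom Ah T C
  have hπ : ∀ t, π t = algebraMap T C t := fun t => rfl
  have hsurjπ : Function.Surjective π.toLinearMap := fun c => by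
    obtain ⟨t, ht⟩ := hsurj c
    exact ⟨t, ht⟩
  haveI : Module.Finite Ah C := Module.Finite.of_surjective π.toLinearMap hsurjπ
  haveI : Module.Free Ah C := Module.free_of_flat_of_isLocalRing
  haveI : Module.Finite T C := Module.Finite.of_surjective (Algebra.linearMap T C) hsurj
  haveI : Module.FinitePresentation T C := Module.finitePresentation_of_finite T C
  haveI : Module.Projective T C := Module.Flat.projective_of_finitePresentation
  obtain ⟨σ, hσ⟩ := Module.projective_lifting_property (Algebra.linearMap T C)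
    (LinearMap.id : C →ₗ[T] C) hsurj
  obtain ⟨e, he⟩ : ∃ e : T, e = σ 1 := ⟨_, rfl⟩
  have he1 : algebraMap T C e = 1 := by
    have h1 := LinearMap.congr_fun hσ 1
    rw [he]
    simpa using h1
  have hek : ∀ k : T, algebraMap T C k = 0 → e * k = 0 := by
    intro k hk
    have h1 : k • (1 : C) = 0 := by rw [Algebra.smul_def, mul_one, hk]
    have h2 : σ (k • (1 : C)) = k • σ 1 := map_smul σ k 1
    rw [h1, map_zero] at h2
    rw [he, mul_comm]
    exact h2.symm
  letI modT : Module T (Disc.Omega Ah C) := Module.compHom _ (algebraMap T C)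
  have hsmulT : ∀ (t : T) (φ : Disc.Omega Ah C), t • φ = algebraMap T C t • φ := fun _ _ => rfl
  haveI : IsScalarTower T C (Disc.Omega Ah C) := ⟨fun t c φ => by
    show (t • c) • φ = algebraMap T C t • (c • φ)
    rw [Algebra.smul_def, mul_smul]⟩
  let ι : Disc.Omega Ah C →ₗ[T] Disc.Omega Ah T :=
    { toFun := fun φ => ⟨φ.toLinearMap ∘ₗ π.toLinearMap⟩
      map_add' := fun φ ψ => by
        apply Disc.Omega.ext
        ext x
        rfl
      map_smul' := fun t φ => by
        apply Disc.Omega.ext
        ext x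
        show (algebraMap T C t • φ).toLinearMap (π x) = φ.toLinearMap (π (t * x))
        rw [Disc.Omega.smul_toLinearMap_apply, map_mul π t x, hπ t] }
  have hι : ∀ (φ : Disc.Omega Ah C) (x : T),
      (ι φ).toLinearMap x = φ.toLinearMap (algebraMap T C x) := fun _ _ => rfl
  have hιinj : Function.Injective ι := by
    intro φ ψ hφψ
    apply Disc.Omega.ext
    ext c
    obtain ⟨t, rfl⟩ := hsurj c
    have h1 := congrArg (fun z => z.toLinearMap t) hφψ
    simpa [hι] using h1
  have hlift : ∀ ψ : Disc.Omega Ah T, ∃ φ : Disc.Omega Ah C, ι φ = e • ψ := by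
    intro ψ
    let f : T →ₗ[Ah] Ah := ψ.toLinearMap ∘ₗ LinearMap.mulLeft Ah e
    have hf : LinearMap.ker π.toLinearMap ≤ LinearMap.ker f := by
      intro k hk
      rw [LinearMap.mem_ker] at hk ⊢
      show ψ.toLinearMap (e * k) = 0
      rw [hek k hk, map_zero]
    let E := π.toLinearMap.quotKerEquivOfSurjective hsurjπ
    refine ⟨⟨(Submodule.liftQ _ f hf) ∘ₗ E.symm.toLinearMap⟩, ?_⟩
    apply Disc.Omega.ext
    ext x
    show (Submodule.liftQ _ f hf) (E.symm (π.toLinearMap x)) = ψ.toLinearMap (e * x)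
    have h1 : E.symm (π.toLinearMap x) = Submodule.Quotient.mk x := by
      rw [LinearEquiv.symm_apply_eq]
      rfl
    rw [h1, Submodule.liftQ_apply]
    rfl
  let J : C ⊗[T] Disc.Omega Ah C →ₗ[C] C ⊗[T] Disc.Omega Ah T := LinearMap.baseChange C ι
  have hJinj : Function.Injective J := by
    have h1 := Module.Flat.lTensor_preserves_injective_linearMap (M := C) ι hιinj
    intro x y hxy
    apply h1
    simpa [J, LinearMap.baseChange_eq_ltensor] using hxy
  have hJsurj : Function.Surjective J := by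
    intro z
    induction z using TensorProduct.induction_on with
    | zero => exact ⟨0, map_zero _⟩
    | tmul c ψ =>
      obtain ⟨t, rfl⟩ := hsurj c
      obtain ⟨φ, hφ⟩ := hlift (t • ψ)
      refine ⟨1 ⊗ₜ φ, ?_⟩
      show LinearMap.baseChange C ι (1 ⊗ₜ φ) = _
      rw [LinearMap.baseChange_tmul, hφ, ← TensorProduct.smul_tmul, ← TensorProduct.smul_tmul]
      congr 1
      rw [Algebra.smul_def, Algebra.smul_def, he1, mul_one, mul_one]
    | add x y hx hy =>
      obtain ⟨a, rfl⟩ := hx
      obtain ⟨b, rfl⟩ := hy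
      exact ⟨a + b, map_add _ _ _⟩
  haveI : Algebra.IsEpi T C := Algebra.isEpi_of_surjective_algebraMap T C hsurj
  let e2a : C ⊗[T] Disc.Omega Ah C ≃ₗ[C] Disc.Omega Ah C :=
    TensorProduct.lid' T C (Disc.Omega Ah C)
  let e2 : QFDual.omega Ah T C ≃ₗ[C] Disc.Omega Ah C :=
    (LinearEquiv.ofBijective J ⟨hJinj, hJsurj⟩).symm ≪≫ₗ e2a
  -- the Gorenstein closed fibre
  haveI hG1 : LocCoh.IsGorensteinRing (C ⧸ (maximalIdeal Ah).map (algebraMap Ah C)) :=
    gorRing_of_gorLocal _ hGor
  haveI hG2 : LocCoh.IsGorensteinRing ((maximalIdeal Ah).Fiber C) :=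
    Groth.Agent.H59.Goren1.gorRing_of_ringEquiv (fiberEquivQuot Ah C (maximalIdeal Ah)).symm
  let b := Module.Free.chooseBasis Ah C
  obtain ⟨wbar, hnd⟩ := exists_nondeg (maximalIdeal Ah).ResidueField ((maximalIdeal Ah).Fiber C)
  obtain ⟨w, hw⟩ := exists_det_notMem b (maximalIdeal Ah) wbar hnd
  have hu : IsUnit (algebraMap Ah C ((gram b w).det ^ 2)) := by
    have h1 : IsUnit (gram b w).det := by
      by_contra hn
      exact hw ((mem_maximalIdeal _).2 hn)
    exact (h1.pow 2).map _
  let L : C →ₗ[C] Disc.Omega Ah C := LinearMap.toSpanSingleton C _ w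
  have hL : ∀ c, L c = c • w := fun c => rfl
  have hLinj : Function.Injective L := by
    rw [injective_iff_map_eq_zero]
    intro c hc
    have h1 : psi b w (c • w) = 0 := by rw [← hL, hc, map_zero]
    rw [map_smul, psi_self, smul_eq_mul] at h1
    exact (hu.mul_left_eq_zero).1 h1
  have hLsurj : Function.Surjective L := by
    intro v
    obtain ⟨u, hu'⟩ := hu
    refine ⟨(↑u⁻¹ : C) * psi b w v, ?_⟩
    rw [hL, mul_smul, psi_smul, ← hu', ← mul_smul, Units.inv_mul, one_smul]
  let e3 : C ≃ₗ[C] Disc.Omega Ah C := LinearEquiv.ofBijective L ⟨hLinj, hLsurj⟩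
  exact ⟨e1 ≪≫ₗ e2 ≪≫ₗ e3.symm⟩

end Core

end Groth.Agent.H66.QFInv2
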