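import Mathlib
import Groth.Agent.H66.QFInv1
import Groth.Agent.H66.QFInv2
import Groth.Agent.H23.SemilocalCpl
import Groth.Agent.Lead.SyntLocal
import Groth.Agent.Lead.CompleteNoetherian
import Groth.Agent.S9145
import Groth.Agent.S0342
import Groth.Agent.H59.Goren4

/-!
# Local structure of a quasi-finite syntomic algebra after completing the base (helper66)
-/

set_option autoImplicit false
universe u

namespace Groth.Agent.H66.QFInv3

open TensorProduct IsLocalRing

/-- cancellation property of ring epimorphisms -/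
theorem ringHom_ext_of_isEpi {R S : Type u} [CommRing R] [CommRing S] [Algebra R S]
    [Algebra.IsEpi R S] {X : Type u} [CommRing X] (f g : S →+* X)
    (h : f.comp (algebraMap R S) = g.comp (algebraMap R S)) : f = g := by
  have hepi : CategoryTheory.Epi (CommRingCat.ofHom (algebraMap R S)) :=
    CommRingCat.epi_iff_epi.mpr inferInstance
  have e1 : CategoryTheory.CategoryStruct.comp (CommRingCat.ofHom (algebraMap R S))
      (CommRingCat.ofHom f) =
      CategoryTheory.CategoryStruct.comp (CommRingCat.ofHom (algebraMap R S))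
        (CommRingCat.ofHom g) := by
    rw [← CommRingCat.ofHom_comp, ← CommRingCat.ofHom_comp, h]
  have e2 := (CategoryTheory.cancel_epi _).mp e1
  exact congrArg CommRingCat.Hom.hom e2

theorem isEpi_of_ringHom_ext {R S : Type u} [CommRing R] [CommRing S] [Algebra R S]
    (h : ∀ (X : Type u) [CommRing X] (f g : S →+* X),
      f.comp (algebraMap R S) = g.comp (algebraMap R S) → f = g) : Algebra.IsEpi R S := by
  rw [Algebra.isEpi_iff_forall_one_tmul_eq]
  intro a
  have h1 := h (S ⊗[R] S)
    (Algebra.TensorProduct.includeRight (R := R) (A := S) (B := S)).toRingHom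
    (Algebra.TensorProduct.includeLeftRingHom) (by
      ext r
      show (1 : S) ⊗ₜ[R] algebraMap R S r = algebraMap R S r ⊗ₜ[R] (1 : S)
      rw [Algebra.algebraMap_eq_smul_one, TensorProduct.tmul_smul, TensorProduct.smul_tmul'])
  exact RingHom.congr_fun h1 a

/-- A complete intersection over a field is a Gorenstein local ring. -/
theorem gorLocal_of_isCIOver (k S : Type u) [Field k] [CommRing S] [IsLocalRing S] [Algebra k S]
    (h : Synt.IsCIOver k S) : LocCoh.IsGorensteinLocalRing S := by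
  obtain ⟨R, _, _, _, -, rs, hmem, hreg, ⟨e⟩⟩ := h
  have hR : LocCoh.IsGorensteinLocalRing R := Groth.Agent.S0342.result R
  have h1 := Groth.Agent.H59.Goren4.gor_quot_of_weaklyRegular rs.length R hR rs rfl hmem
    hreg.toIsWeaklyRegular
  exact Groth.Agent.H60.GorTransfer.gor_of_ringEquiv e.symm.toRingEquiv h1

/-- A local complete intersection algebra over a field is a Gorenstein ring. -/
theorem gorRing_of_isLCIOver (k S : Type u) [Field k] [CommRing S] [Algebra k S]
    (h : Synt.IsLCIOver k S) : LocCoh.IsGorensteinRing S := by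
  haveI : Algebra.FiniteType k S := h.1
  haveI : IsNoetherianRing S := Algebra.FiniteType.isNoetherianRing k S
  have h1 := (Groth.Agent.S9145.result k S).1.mp h
  exact ⟨fun p _ => gorLocal_of_isCIOver k _ (h1 ⟨p, inferInstance⟩)⟩

section Setup

variable (A B' B Ah : Type u) [CommRing A] [CommRing B'] [CommRing B] [CommRing Ah]
  [Algebra A B'] [Algebra B' B] [Algebra A B] [IsScalarTower A B' B] [Algebra A Ah]

attribute [local instance] Algebra.TensorProduct.rightAlgebra

/-- `Ah ⊗_A B' → Ah ⊗_A B`. -/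
noncomputable def tmap : (Ah ⊗[A] B') →ₐ[Ah] (Ah ⊗[A] B) :=
  Algebra.TensorProduct.map (AlgHom.id Ah Ah) (IsScalarTower.toAlgHom A B' B)

/-- the algebra structure `Ah ⊗_A B' → Ah ⊗_A B` -/
@[reducible] noncomputable def algTTB : Algebra (Ah ⊗[A] B') (Ah ⊗[A] B) :=
  (tmap A B' B Ah).toRingHom.toAlgebra

attribute [local instance] algTTB

theorem algebraMap_TTB_tmul (a : Ah) (b : B') :
    algebraMap (Ah ⊗[A] B') (Ah ⊗[A] B) (a ⊗ₜ[A] b) = a ⊗ₜ[A] algebraMap B' B b := by
  show tmap A B' B Ah (a ⊗ₜ[A] b) = _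
  simp [tmap]

theorem tower_Ah_T_TB : IsScalarTower Ah (Ah ⊗[A] B') (Ah ⊗[A] B) :=
  IsScalarTower.of_algebraMap_eq (fun a => ((tmap A B' B Ah).commutes a).symm)

theorem tower_A_T_TB : IsScalarTower A (Ah ⊗[A] B') (Ah ⊗[A] B) :=
  IsScalarTower.of_algebraMap_eq (fun a => by
    rw [Algebra.TensorProduct.algebraMap_apply, Algebra.TensorProduct.algebraMap_apply,
      algebraMap_TTB_tmul, map_one])

theorem flat_TTB [Module.Flat B' B] : Module.Flat (Ah ⊗[A] B') (Ah ⊗[A] B) := by
  letI : Algebra B' (Ah ⊗[A] B) :=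
    ((algebraMap B (Ah ⊗[A] B)).comp (algebraMap B' B)).toAlgebra
  haveI : IsScalarTower B' B (Ah ⊗[A] B) := IsScalarTower.of_algebraMap_eq (fun _ => rfl)
  haveI : IsScalarTower B' (Ah ⊗[A] B') (Ah ⊗[A] B) :=
    IsScalarTower.of_algebraMap_eq (fun x => by
      show (1 : Ah) ⊗ₜ[A] algebraMap B' B x =
        algebraMap (Ah ⊗[A] B') (Ah ⊗[A] B) ((1 : Ah) ⊗ₜ[A] x)
      rw [algebraMap_TTB_tmul])
  haveI := tower_Ah_T_TB A B' B Ah
  haveI := tower_A_T_TB A B' B Ah
  have h0 : Algebra.IsPushout B' B (Ah ⊗[A] B') (Ah ⊗[A] B) :=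
    (Algebra.IsPushout.comp_iff (R := A) (S := B') (R' := Ah) (S' := Ah ⊗[A] B') (T := B)
      (T' := Ah ⊗[A] B)).mp inferInstance
  have h := h0.symm
  exact Module.Flat.isBaseChange B' (Ah ⊗[A] B') B (Ah ⊗[A] B) h.out

theorem flat_B_TB [Module.Flat A Ah] : Module.Flat B (Ah ⊗[A] B) := by
  have h : Algebra.IsPushout A B Ah (Ah ⊗[A] B) := inferInstance
  exact Module.Flat.isBaseChange A B Ah (Ah ⊗[A] B) h.out

theorem ringHom_ext_TTB [Algebra.IsEpi B' B] {X : Type u} [CommRing X]
    (f g : (Ah ⊗[A] B) →+* X)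
    (h : f.comp (algebraMap (Ah ⊗[A] B') (Ah ⊗[A] B)) =
      g.comp (algebraMap (Ah ⊗[A] B') (Ah ⊗[A] B))) : f = g := by
  have hB : f.comp (algebraMap B (Ah ⊗[A] B)) = g.comp (algebraMap B (Ah ⊗[A] B)) := by
    apply ringHom_ext_of_isEpi (R := B') (S := B)
    ext x
    have h1 := RingHom.congr_fun h ((1 : Ah) ⊗ₜ[A] x)
    simp only [RingHom.comp_apply, algebraMap_TTB_tmul] at h1
    exact h1
  refine RingHom.ext fun x => ?_
  induction x using TensorProduct.induction_on with
  | zero => simp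
  | tmul a b =>
    have e1 : a ⊗ₜ[A] b = algebraMap (Ah ⊗[A] B') (Ah ⊗[A] B) (a ⊗ₜ[A] (1 : B')) *
        algebraMap B (Ah ⊗[A] B) b := by
      rw [algebraMap_TTB_tmul, map_one]
      show _ = (a ⊗ₜ[A] (1 : B)) * ((1 : Ah) ⊗ₜ[A] b)
      rw [Algebra.TensorProduct.tmul_mul_tmul, mul_one, one_mul]
    rw [e1, map_mul, map_mul]
    congr 1
    · exact RingHom.congr_fun h _
    · exact RingHom.congr_fun hB b
  | add x y hx hy => rw [map_add, map_add, hx, hy]

theorem exists_prime_TB [IsLocalRing Ah] (q : Ideal B) [q.IsPrime]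
    (hcomap : (maximalIdeal Ah).comap (algebraMap A Ah) = q.comap (algebraMap A B))
    (hres : Function.Bijective (Ideal.ResidueField.mapₐ
      ((maximalIdeal Ah).comap (algebraMap A Ah)) (maximalIdeal Ah) (Algebra.ofId A Ah) rfl)) :
    ∃ Q : Ideal (Ah ⊗[A] B), Q.IsPrime ∧ Q.comap (algebraMap B (Ah ⊗[A] B)) = q ∧
      Q.comap (algebraMap Ah (Ah ⊗[A] B)) = maximalIdeal Ah := by
  let σ : ((maximalIdeal Ah).comap (algebraMap A Ah)).ResidueField ≃ₐ[A]
      (maximalIdeal Ah).ResidueField := AlgEquiv.ofBijective _ hres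
  let τ : ((maximalIdeal Ah).comap (algebraMap A Ah)).ResidueField →ₐ[A] q.ResidueField :=
    Ideal.ResidueField.mapₐ ((maximalIdeal Ah).comap (algebraMap A Ah)) q (Algebra.ofId A B) hcomap
  let gA : Ah →ₐ[A] q.ResidueField :=
    τ.comp ((σ.symm : (maximalIdeal Ah).ResidueField →ₐ[A] _).comp
      (IsScalarTower.toAlgHom A Ah (maximalIdeal Ah).ResidueField))
  let gB : B →ₐ[A] q.ResidueField := IsScalarTower.toAlgHom A B q.ResidueField
  let Φ : Ah ⊗[A] B →ₐ[A] q.ResidueField :=
    Algebra.TensorProduct.lift gA gB (fun _ _ => Commute.all _ _)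
  refine ⟨RingHom.ker Φ.toRingHom, RingHom.ker_isPrime _, ?_, ?_⟩
  · ext b
    rw [Ideal.mem_comap, RingHom.mem_ker]
    have h1 : Φ.toRingHom (algebraMap B (Ah ⊗[A] B) b) = algebraMap B q.ResidueField b := by
      show Φ ((1 : Ah) ⊗ₜ[A] b) = _
      rw [Algebra.TensorProduct.lift_tmul, map_one, one_mul]
      rfl
    rw [h1, Ideal.algebraMap_residueField_eq_zero]
  · ext a
    rw [Ideal.mem_comap, RingHom.mem_ker]
    have h1 : Φ.toRingHom (algebraMap Ah (Ah ⊗[A] B) a) =
        τ (σ.symm (algebraMap Ah (maximalIdeal Ah).ResidueField a)) := by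
      rw [Algebra.TensorProduct.algebraMap_apply, Algebra.algebraMap_self, RingHom.id_apply]
      show Φ (a ⊗ₜ[A] (1 : B)) = _
      rw [Algebra.TensorProduct.lift_tmul, map_one, mul_one]
      rfl
    rw [h1, map_eq_zero, map_eq_zero, Ideal.algebraMap_residueField_eq_zero]

end Setup

section Completion

variable (A : Type u) [CommRing A] [IsNoetherianRing A] (p : Ideal A) [p.IsPrime]

local notation "Rp" => Localization.AtPrime p
local notation "Rh" => AdicCompletion (maximalIdeal (Localization.AtPrime p)) (Localization.AtPrime p)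

theorem exists_completion :
    ∃ (Ah : Type u) (_ : CommRing Ah) (_ : Algebra A Ah) (_ : IsNoetherianRing Ah)
      (_ : IsLocalRing Ah), Module.Flat A Ah ∧ IsAdicComplete (maximalIdeal Ah) Ah ∧
      ∃ (_ : (maximalIdeal Ah).comap (algebraMap A Ah) = p),
      Function.Bijective (Ideal.ResidueField.mapₐ
        ((maximalIdeal Ah).comap (algebraMap A Ah)) (maximalIdeal Ah) (Algebra.ofId A Ah) rfl) := by
  haveI : IsNoetherianRing Rp := IsLocalization.isNoetherianRing p.primeCompl Rp inferInstance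
  haveI : IsNoetherianRing Rh :=
    Groth.Agent.Lead.isNoetherianRing_adicCompletion (maximalIdeal Rp)
      (maximalIdeal Rp).fg_of_isNoetherianRing
  haveI : IsScalarTower A Rp Rh := IsScalarTower.of_algebraMap_eq (fun _ => rfl)
  haveI : Module.Flat A Rh := Module.Flat.trans A Rp Rh
  have hc : (maximalIdeal Rh).comap (algebraMap A Rh) = p := by
    rw [IsScalarTower.algebraMap_eq A Rp Rh, ← Ideal.comap_comap,
      IsLocalRing.maximalIdeal_comap (algebraMap Rp Rh)]
    exact IsLocalization.AtPrime.under_maximalIdeal Rp p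
  refine ⟨Rh, inferInstance, inferInstance, inferInstance, inferInstance, inferInstance,
    inferInstance, hc, RingHom.injective _, fun x => ?_⟩
  obtain ⟨ah, rfl⟩ := Ideal.algebraMap_residueField_surjective (maximalIdeal Rh) x
  obtain ⟨rb, hrb⟩ := (AdicCompletion.residueField_map_bijective Rp).2 (residue Rh ah)
  obtain ⟨r, rfl⟩ := residue_surjective rb
  rw [IsLocalRing.ResidueField.map_residue] at hrb
  have h1 : algebraMap Rp Rh r - ah ∈ maximalIdeal Rh := by
    rw [← Ideal.Quotient.eq]
    exact hrb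
  have h2 : algebraMap Rh (maximalIdeal Rh).ResidueField (algebraMap Rp Rh r) =
      algebraMap Rh (maximalIdeal Rh).ResidueField ah := by
    rw [← sub_eq_zero, ← map_sub, Ideal.algebraMap_residueField_eq_zero]
    exact h1
  obtain ⟨a, s, rfl⟩ := IsLocalization.exists_mk'_eq p.primeCompl r
  set M := Ideal.ResidueField.mapₐ ((maximalIdeal Rh).comap (algebraMap A Rh)) (maximalIdeal Rh)
    (Algebra.ofId A Rh) rfl with hM
  have hs0 : algebraMap A (maximalIdeal Rh).ResidueField (s : A) ≠ 0 := by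
    rw [IsScalarTower.algebraMap_apply A Rh (maximalIdeal Rh).ResidueField, Ne,
      Ideal.algebraMap_residueField_eq_zero, ← Ideal.mem_comap, hc]
    exact s.2
  have h3 : algebraMap A Rh a = algebraMap Rp Rh (IsLocalization.mk' Rp a s) * algebraMap A Rh s := by
    rw [IsScalarTower.algebraMap_apply A Rp Rh, IsScalarTower.algebraMap_apply A Rp Rh, ← map_mul,
      IsLocalization.mk'_spec]
  refine ⟨algebraMap A _ a / algebraMap A _ (s : A), ?_⟩
  rw [map_div₀, AlgHom.commutes, AlgHom.commutes, div_eq_iff hs0,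
    IsScalarTower.algebraMap_apply A Rh (maximalIdeal Rh).ResidueField a, h3, map_mul, h2,
    ← IsScalarTower.algebraMap_apply A Rh (maximalIdeal Rh).ResidueField]

end Completion

section Main

variable (A B' B Ah : Type u) [CommRing A] [CommRing B'] [CommRing B] [CommRing Ah]
  [Algebra A B'] [Algebra B' B] [Algebra A B] [IsScalarTower A B' B] [Algebra A Ah]
  [IsNoetherianRing A] [Module.Finite A B'] [Module.Flat B' B] [Algebra.IsEpi B' B]
  [IsNoetherianRing Ah] [IsLocalRing Ah] [Module.Flat A Ah] [IsAdicComplete (maximalIdeal Ah) Ah]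

attribute [local instance] Algebra.TensorProduct.rightAlgebra algTTB

theorem exists_local_cover (hs : Synt.IsSyntomic A B) (q : Ideal B) [q.IsPrime]
    (hcomap : (maximalIdeal Ah).comap (algebraMap A Ah) = q.comap (algebraMap A B))
    (hres : Function.Bijective (Ideal.ResidueField.mapₐ
      ((maximalIdeal Ah).comap (algebraMap A Ah)) (maximalIdeal Ah) (Algebra.ofId A Ah) rfl)) :
    ∃ (C : Type u) (_ : CommRing C) (_ : IsLocalRing C) (_ : Algebra B C) (_ : Algebra B' C)
      (_ : IsScalarTower B' B C), Module.Flat B C ∧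
      (maximalIdeal C).comap (algebraMap B C) = q ∧ Nonempty (QFDual.omega A B' C ≃ₗ[C] C) := by
  classical
  obtain ⟨Q, hQp, hQB, hQA⟩ := exists_prime_TB A B Ah q hcomap hres
  haveI := hQp
  haveI : Module.Flat A B := hs.1
  haveI := tower_Ah_T_TB A B' B Ah
  haveI := tower_A_T_TB A B' B Ah
  haveI : Module.Flat (Ah ⊗[A] B') (Ah ⊗[A] B) := flat_TTB A B' B Ah
  haveI : Module.Flat B (Ah ⊗[A] B) := flat_B_TB A B Ah
  letI algB'C : Algebra B' (Localization.AtPrime Q) :=
    ((algebraMap B (Localization.AtPrime Q)).comp (algebraMap B' B)).toAlgebra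
  haveI towB'BC : IsScalarTower B' B (Localization.AtPrime Q) :=
    IsScalarTower.of_algebraMap_eq (fun _ => rfl)
  haveI towB'TC : IsScalarTower B' (Ah ⊗[A] B') (Localization.AtPrime Q) :=
    IsScalarTower.of_algebraMap_eq (fun x => by
      show algebraMap B (Localization.AtPrime Q) (algebraMap B' B x) =
        algebraMap (Ah ⊗[A] B') (Localization.AtPrime Q) (algebraMap B' (Ah ⊗[A] B') x)
      rw [IsScalarTower.algebraMap_apply B (Ah ⊗[A] B) (Localization.AtPrime Q),
        IsScalarTower.algebraMap_apply (Ah ⊗[A] B') (Ah ⊗[A] B) (Localization.AtPrime Q)]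
      congr 1)
  haveI towAhTC : IsScalarTower Ah (Ah ⊗[A] B') (Localization.AtPrime Q) :=
    IsScalarTower.of_algebraMap_eq (fun x => by
      rw [IsScalarTower.algebraMap_apply Ah (Ah ⊗[A] B) (Localization.AtPrime Q),
        IsScalarTower.algebraMap_apply (Ah ⊗[A] B') (Ah ⊗[A] B) (Localization.AtPrime Q),
        ← IsScalarTower.algebraMap_apply Ah (Ah ⊗[A] B') (Ah ⊗[A] B)])
  refine ⟨Localization.AtPrime Q, inferInstance, inferInstance, inferInstance, algB'C, towB'BC,
    inferInstance, ?_, ?_⟩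
  · rw [IsScalarTower.algebraMap_eq B (Ah ⊗[A] B) (Localization.AtPrime Q), ← Ideal.comap_comap]
    have h1 : (maximalIdeal (Localization.AtPrime Q)).comap
        (algebraMap (Ah ⊗[A] B) (Localization.AtPrime Q)) = Q :=
      IsLocalization.AtPrime.under_maximalIdeal _ Q
    rw [h1, hQB]
  · -- the closed fibre is Gorenstein
    have hLCI : Synt.IsLCIOver (maximalIdeal Ah).ResidueField
        ((maximalIdeal Ah).Fiber (Ah ⊗[A] B)) :=
      Groth.Agent.Lead.SyntLocal.isLCIOver_fiber_baseChange (R := A) (S := B) (R' := Ah)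
        (S' := Ah ⊗[A] B) (maximalIdeal Ah) hres
        (hs.2.2 ⟨(maximalIdeal Ah).comap (algebraMap A Ah), inferInstance⟩)
    have hGR : LocCoh.IsGorensteinRing ((maximalIdeal Ah).Fiber (Ah ⊗[A] B)) :=
      gorRing_of_isLCIOver _ _ hLCI
    have gen : ∀ (I : Ideal Ah) [I.IsPrime], maximalIdeal Ah = I →
        LocCoh.IsGorensteinRing (I.Fiber (Ah ⊗[A] B)) := by
      intro I _ hI
      subst hI
      exact hGR
    have hG3 : LocCoh.IsGorensteinLocalRing (EGA4.FibLocRing Ah (Ah ⊗[A] B) Q) :=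
      Groth.Agent.H59.Goren1.gor_fibLocRing_of_fiber Ah (Ah ⊗[A] B) Q (gen _ hQA.symm)
    have hG4 : LocCoh.IsGorensteinLocalRing (Localization.AtPrime Q ⧸
        (Q.comap (algebraMap Ah (Ah ⊗[A] B))).map (algebraMap Ah (Localization.AtPrime Q))) := hG3
    rw [hQA] at hG4
    -- `T → C` is surjective
    let N : Ideal (Ah ⊗[A] B') := Q.comap (algebraMap (Ah ⊗[A] B') (Ah ⊗[A] B))
    haveI : N.IsPrime := Ideal.comap_isPrime _ _
    have hNA : N.comap (algebraMap Ah (Ah ⊗[A] B')) = maximalIdeal Ah := by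
      show (Q.comap (algebraMap (Ah ⊗[A] B') (Ah ⊗[A] B))).comap
        (algebraMap Ah (Ah ⊗[A] B')) = _
      rw [Ideal.comap_comap, ← IsScalarTower.algebraMap_eq, hQA]
    haveI hNmax : N.IsMaximal :=
      Ideal.isMaximal_of_isIntegral_of_isMaximal_comap N (by rw [hNA]; infer_instance)
    haveI : IsNoetherianRing (Ah ⊗[A] B') := IsNoetherianRing.of_finite Ah _
    let I : Ideal (Ah ⊗[A] B') := (maximalIdeal Ah).map (algebraMap Ah (Ah ⊗[A] B'))
    haveI hc1 : IsAdicComplete (maximalIdeal Ah) (Ah ⊗[A] B') :=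
      Groth.Agent.Lead.isAdicComplete_of_finite (maximalIdeal Ah) _
    haveI hc2 : IsAdicComplete I (Ah ⊗[A] B') :=
      (IsAdicComplete.map_algebraMap_iff (I := maximalIdeal Ah) (S := Ah ⊗[A] B')
        (M := Ah ⊗[A] B')).2 hc1
    haveI : IsArtinianRing ((Ah ⊗[A] B') ⧸ I) := by
      letI : Field (Ah ⧸ maximalIdeal Ah) := Ideal.Quotient.field (maximalIdeal Ah)
      haveI : Module.Finite Ah ((Ah ⊗[A] B') ⧸ I) :=
        Module.Finite.of_surjective (Ideal.Quotient.mkₐ Ah I).toLinearMap
          (Ideal.Quotient.mkₐ_surjective Ah I)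
      haveI : Module.Finite (Ah ⧸ maximalIdeal Ah) ((Ah ⊗[A] B') ⧸ I) :=
        Module.Finite.of_restrictScalars_finite Ah (Ah ⧸ maximalIdeal Ah) ((Ah ⊗[A] B') ⧸ I)
      exact IsArtinianRing.of_finite (Ah ⧸ maximalIdeal Ah) ((Ah ⊗[A] B') ⧸ I)
    have hsurjN :=
      ((Groth.Agent.H23.SemilocalCpl.semilocal_complete (Ah ⊗[A] B') I).2 ⟨N, hNmax⟩).1
    let lam : Localization.AtPrime N →+* Localization.AtPrime Q :=
      Localization.localRingHom N Q (algebraMap (Ah ⊗[A] B') (Ah ⊗[A] B)) rfl
    letI : Algebra (Localization.AtPrime N) (Localization.AtPrime Q) := lam.toAlgebra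
    haveI : IsScalarTower (Ah ⊗[A] B') (Localization.AtPrime N) (Localization.AtPrime Q) :=
      IsScalarTower.of_algebraMap_eq (fun x => by
        show _ = lam (algebraMap (Ah ⊗[A] B') (Localization.AtPrime N) x)
        rw [Localization.localRingHom_to_map]
        exact IsScalarTower.algebraMap_apply (Ah ⊗[A] B') (Ah ⊗[A] B) (Localization.AtPrime Q) x)
    haveI : IsLocalHom (algebraMap (Localization.AtPrime N) (Localization.AtPrime Q)) :=
      Localization.isLocalHom_localRingHom N Q _ rfl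
    haveI : Module.Flat (Localization.AtPrime N) (Localization.AtPrime Q) :=
      (Module.flat_iff_of_isLocalization (Localization.AtPrime N) N.primeCompl
        (Localization.AtPrime Q)).mpr inferInstance
    haveI : Module.FaithfullyFlat (Localization.AtPrime N) (Localization.AtPrime Q) :=
      Module.FaithfullyFlat.of_flat_of_isLocalHom
    haveI : Algebra.IsEpi (Localization.AtPrime N) (Localization.AtPrime Q) :=
      isEpi_of_ringHom_ext (fun X _ f g hfg => by
        apply IsLocalization.ringHom_ext Q.primeCompl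
        apply ringHom_ext_TTB A B' B Ah
        refine RingHom.ext fun x => ?_
        have h1 := RingHom.congr_fun hfg (algebraMap (Ah ⊗[A] B') (Localization.AtPrime N) x)
        simp only [RingHom.comp_apply] at h1 ⊢
        rw [← IsScalarTower.algebraMap_apply (Ah ⊗[A] B') (Localization.AtPrime N)
          (Localization.AtPrime Q)] at h1
        rw [← IsScalarTower.algebraMap_apply (Ah ⊗[A] B') (Ah ⊗[A] B) (Localization.AtPrime Q)]
        exact h1)
    have hbij := Groth.Agent.H66.QFInv1.bijective_of_faithfullyFlat_of_isEpi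
      (Localization.AtPrime N) (Localization.AtPrime Q)
    have hsurj : Function.Surjective (algebraMap (Ah ⊗[A] B') (Localization.AtPrime Q)) := by
      intro c
      obtain ⟨y, rfl⟩ := hbij.2 c
      obtain ⟨t, rfl⟩ := hsurjN y
      exact ⟨t, IsScalarTower.algebraMap_apply (Ah ⊗[A] B') (Localization.AtPrime N)
        (Localization.AtPrime Q) t⟩
    exact Groth.Agent.H66.QFInv2.omega_equiv_self A B' Ah (Ah ⊗[A] B') (Localization.AtPrime Q)
      inferInstance hsurj hG4

end Main

end Groth.Agent.H66.QFInv3
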