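import Mathlib
import Groth.Agent.H66.QFInv3

/-!
# Flat local covers and the relative dualizing module of a flat quasi-finite algebra (helper66)

* `eq_zero_of_flat_cover`, `flat_of_flat_cover`: vanishing / flatness over a base can be tested on
  flat covers of all maximal ideals.
* `omega_equiv_omega`: `C ⊗_{B'} Hom_A(B', A) ≅ Hom_{Ah}(C, Ah)` for a flat local quotient `C` of
  `Ah ⊗_A B'`.
* `surjective_T_locQ`, `exists_local_cover'`: the local structure after completing the base, for
  flat (not necessarily syntomic) `A → B`.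
-/

set_option autoImplicit false
set_option linter.style.haveILetI false
universe u

namespace Groth.Agent.H66.QFInv4

open TensorProduct IsLocalRing

/-- An element of a module is zero if it dies in a flat cover of every maximal ideal. -/
theorem eq_zero_of_flat_cover {B X : Type u} [CommRing B] [AddCommGroup X] [Module B X] (z : X)
    (h : ∀ q : Ideal B, q.IsMaximal → ∃ (C : Type u) (_ : CommRing C) (_ : Algebra B C),
      Module.Flat B C ∧ q.map (algebraMap B C) ≠ ⊤ ∧ (1 : C) ⊗ₜ[B] z = 0) : z = 0 := by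
  by_contra hz
  let I : Ideal B := LinearMap.ker (LinearMap.toSpanSingleton B X z)
  have hI : I ≠ ⊤ := by
    intro hI
    have h1 : (1 : B) ∈ I := by rw [hI]; trivial
    rw [LinearMap.mem_ker, LinearMap.toSpanSingleton_apply, one_smul] at h1
    exact hz h1
  obtain ⟨q, hq, hIq⟩ := Ideal.exists_le_maximal I hI
  obtain ⟨C, _, _, hflat, hne, h1z⟩ := h q hq
  let j : B ⧸ I →ₗ[B] X := Submodule.liftQ I (LinearMap.toSpanSingleton B X z) le_rfl
  have hj : Function.Injective j := by
    rw [← LinearMap.ker_eq_bot]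
    exact Submodule.ker_liftQ_eq_bot _ _ _ le_rfl
  have hjC := Module.Flat.lTensor_preserves_injective_linearMap (M := C) j hj
  have h2 : (j.lTensor C) ((1 : C) ⊗ₜ[B] (Ideal.Quotient.mk I 1)) = 0 := by
    rw [LinearMap.lTensor_tmul]
    show (1 : C) ⊗ₜ[B] ((1 : B) • z) = 0
    rw [one_smul]
    exact h1z
  have h3 : (1 : C) ⊗ₜ[B] (Ideal.Quotient.mk I (1 : B)) = 0 := hjC (by rw [h2, map_zero])
  have h4 := congrArg (TensorProduct.tensorQuotEquivQuotSMul C I) h3
  rw [TensorProduct.tensorQuotEquivQuotSMul_tmul_mk, map_zero, one_smul,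
    Submodule.Quotient.mk_eq_zero] at h4
  apply hne
  rw [Ideal.eq_top_iff_one]
  have h5 : I • (⊤ : Submodule B C) ≤ (q.map (algebraMap B C)).restrictScalars B := by
    rw [Submodule.smul_le]
    intro r hr c _
    show r • c ∈ q.map (algebraMap B C)
    rw [Algebra.smul_def]
    exact Ideal.mul_mem_right _ _ (Ideal.mem_map_of_mem _ (hIq hr))
  exact h5 h4

/-- Flatness over `A` of a `B`-module can be tested on flat covers of all maximal ideals of `B`. -/
theorem flat_of_flat_cover (A B M : Type u) [CommRing A] [CommRing B] [Algebra A B]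
    [AddCommGroup M] [Module A M] [Module B M] [IsScalarTower A B M]
    (h : ∀ q : Ideal B, q.IsMaximal → ∃ (C : Type u) (_ : CommRing C) (_ : Algebra B C)
      (_ : Algebra A C) (_ : IsScalarTower A B C),
      Module.Flat B C ∧ q.map (algebraMap B C) ≠ ⊤ ∧ Module.Flat A (C ⊗[B] M)) :
    Module.Flat A M := by
  rw [Module.Flat.iff_lTensor_preserves_injective_linearMap]
  intro N N' _ _ _ _ f hf
  rw [injective_iff_map_eq_zero]
  intro z hz
  apply eq_zero_of_flat_cover (B := B) z
  intro q hq
  obtain ⟨C, _, _, _, _, hflat, hne, hfl⟩ := h q hq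
  refine ⟨C, inferInstance, inferInstance, hflat, hne, ?_⟩
  let α := TensorProduct.AlgebraTensorModule.assoc A B C C M N
  let α' := TensorProduct.AlgebraTensorModule.assoc A B C C M N'
  have hinj := Module.Flat.lTensor_preserves_injective_linearMap (M := C ⊗[B] M) f hf
  have hnat : ∀ w : M ⊗[A] N, (f.lTensor (C ⊗[B] M)) (α.symm ((1 : C) ⊗ₜ[B] w)) =
      α'.symm ((1 : C) ⊗ₜ[B] (f.lTensor M w)) := by
    intro w
    induction w using TensorProduct.induction_on with
    | zero => simp
    | tmul m n => rfl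
    | add x y hx hy => rw [TensorProduct.tmul_add, map_add, map_add, hx, hy, map_add,
        TensorProduct.tmul_add, map_add]
  have h1 : α.symm ((1 : C) ⊗ₜ[B] z) = 0 := by
    apply hinj
    rw [hnat, hz, TensorProduct.tmul_zero, map_zero, map_zero]
  have h2 := congrArg α h1
  rwa [LinearEquiv.apply_symm_apply, map_zero] at h2

section Core

variable (A B' Ah T C : Type u) [CommRing A] [CommRing B'] [CommRing Ah] [CommRing T] [CommRing C]
  [IsNoetherianRing A] [IsNoetherianRing Ah] [IsLocalRing Ah]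
  [Algebra A B'] [Module.Finite A B'] [Algebra A Ah] [Module.Flat A Ah]
  [Algebra B' T] [Algebra Ah T] [Algebra A T] [IsScalarTower A Ah T] [IsScalarTower A B' T]
  [Module.Finite Ah T]
  [Algebra T C] [Algebra B' C] [IsScalarTower B' T C] [Algebra Ah C] [IsScalarTower Ah T C]
  [Module.Flat T C] [Module.Flat Ah C]

/-- `C ⊗_{B'} Hom_A(B', A) ≅ Hom_{Ah}(C, Ah)` for a flat quotient `C` of `T = Ah ⊗_A B'`. -/
theorem omega_equiv_omega (h : Algebra.IsPushout A Ah B' T)
    (hsurj : Function.Surjective (algebraMap T C)) :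
    Module.Finite Ah C ∧ Module.Free Ah C ∧
      Nonempty (QFDual.omega A B' C ≃ₗ[C] Disc.Omega Ah C) := by
  classical
  let e1 : QFDual.omega A B' C ≃ₗ[C] QFDual.omega Ah T C :=
    LinearEquiv.ofBijective (QFDual.omegaBC (B₁ := C) h) (Groth.Agent.S8958.result A B' Ah T C h)
  haveI : IsNoetherianRing T := IsNoetherianRing.of_finite Ah T
  let π : T →ₐ[Ah] C := IsScalarTower.toAlgHom Ah T C
  have hπ : ∀ t, π t = algebraMap T C t := fun t => rfl
  have hsurjπ : Function.Surjective π.toLinearMap := fun c => by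
    obtain ⟨t, ht⟩ := hsurj c
    exact ⟨t, ht⟩
  haveI : Module.Finite Ah C := Module.Finite.of_surjective π.toLinearMap hsurjπ
  haveI : Module.Free Ah C := Module.free_of_flat_of_isLocalRing
  haveI : Module.Finite T C := Module.Finite.of_surjective (Algebra.linearMap T C) hsurj
  haveI : Module.FinitePresentation T C := Module.finitePresentation_of_finite T C
  haveI : Module.Projective T C := Module.Flat.projective_of_finitePresentation
  obtain ⟨σ, hσ⟩ := Module.projective_lifting_property (Algebra.linearMap T C)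
    (LinearMap.id : C →ₗ[T] C) hsurj
  obtain ⟨e, he⟩ : ∃ e : T, e = σ 1 := ⟨_, rfl⟩
  have he1 : algebraMap T C e = 1 := by
    have h1 := LinearMap.congr_fun hσ 1
    rw [he]
    simpa using h1
  have hek : ∀ k : T, algebraMap T C k = 0 → e * k = 0 := by
    intro k hk
    have h1 : k • (1 : C) = 0 := by rw [Algebra.smul_def, mul_one, hk]
    have h2 : σ (k • (1 : C)) = k • σ 1 := map_smul σ k 1
    rw [h1, map_zero] at h2
    rw [he, mul_comm]
    exact h2.symm
  letI modT : Module T (Disc.Omega Ah C) := Module.compHom _ (algebraMap T C)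
  have hsmulT : ∀ (t : T) (φ : Disc.Omega Ah C), t • φ = algebraMap T C t • φ := fun _ _ => rfl
  haveI : IsScalarTower T C (Disc.Omega Ah C) := ⟨fun t c φ => by
    show (t • c) • φ = algebraMap T C t • (c • φ)
    rw [Algebra.smul_def, mul_smul]⟩
  let ι : Disc.Omega Ah C →ₗ[T] Disc.Omega Ah T :=
    { toFun := fun φ => ⟨φ.toLinearMap ∘ₗ π.toLinearMap⟩
      map_add' := fun φ ψ => by
        apply Disc.Omega.ext
        ext x
        rfl
      map_smul' := fun t φ => by
        apply Disc.Omega.ext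
        ext x
        show (algebraMap T C t • φ).toLinearMap (π x) = φ.toLinearMap (π (t * x))
        rw [Disc.Omega.smul_toLinearMap_apply, map_mul π t x, hπ t] }
  have hι : ∀ (φ : Disc.Omega Ah C) (x : T),
      (ι φ).toLinearMap x = φ.toLinearMap (algebraMap T C x) := fun _ _ => rfl
  have hιinj : Function.Injective ι := by
    intro φ ψ hφψ
    apply Disc.Omega.ext
    ext c
    obtain ⟨t, rfl⟩ := hsurj c
    have h1 := congrArg (fun z => z.toLinearMap t) hφψ
    simpa [hι] using h1
  have hlift : ∀ ψ : Disc.Omega Ah T, ∃ φ : Disc.Omega Ah C, ι φ = e • ψ := by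
    intro ψ
    let f : T →ₗ[Ah] Ah := ψ.toLinearMap ∘ₗ LinearMap.mulLeft Ah e
    have hf : LinearMap.ker π.toLinearMap ≤ LinearMap.ker f := by
      intro k hk
      rw [LinearMap.mem_ker] at hk ⊢
      show ψ.toLinearMap (e * k) = 0
      rw [hek k hk, map_zero]
    let E := π.toLinearMap.quotKerEquivOfSurjective hsurjπ
    refine ⟨⟨(Submodule.liftQ _ f hf) ∘ₗ E.symm.toLinearMap⟩, ?_⟩
    apply Disc.Omega.ext
    ext x
    show (Submodule.liftQ _ f hf) (E.symm (π.toLinearMap x)) = ψ.toLinearMap (e * x)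
    have h1 : E.symm (π.toLinearMap x) = Submodule.Quotient.mk x := by
      rw [LinearEquiv.symm_apply_eq]
      rfl
    rw [h1, Submodule.liftQ_apply]
    rfl
  let J : C ⊗[T] Disc.Omega Ah C →ₗ[C] C ⊗[T] Disc.Omega Ah T := LinearMap.baseChange C ι
  have hJinj : Function.Injective J := by
    have h1 := Module.Flat.lTensor_preserves_injective_linearMap (M := C) ι hιinj
    intro x y hxy
    apply h1
    simpa [J, LinearMap.baseChange_eq_ltensor] using hxy
  have hJsurj : Function.Surjective J := by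
    intro z
    induction z using TensorProduct.induction_on with
    | zero => exact ⟨0, map_zero _⟩
    | tmul c ψ =>
      obtain ⟨t, rfl⟩ := hsurj c
      obtain ⟨φ, hφ⟩ := hlift (t • ψ)
      refine ⟨1 ⊗ₜ φ, ?_⟩
      show LinearMap.baseChange C ι (1 ⊗ₜ φ) = _
      rw [LinearMap.baseChange_tmul, hφ, ← TensorProduct.smul_tmul, ← TensorProduct.smul_tmul]
      congr 1
      rw [Algebra.smul_def, Algebra.smul_def, he1, mul_one, mul_one]
    | add x y hx hy =>
      obtain ⟨a, rfl⟩ := hx
      obtain ⟨b, rfl⟩ := hy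
      exact ⟨a + b, map_add _ _ _⟩
  haveI : Algebra.IsEpi T C := Algebra.isEpi_of_surjective_algebraMap T C hsurj
  let e2a : C ⊗[T] Disc.Omega Ah C ≃ₗ[C] Disc.Omega Ah C :=
    TensorProduct.lid' T C (Disc.Omega Ah C)
  let e2 : QFDual.omega Ah T C ≃ₗ[C] Disc.Omega Ah C :=
    (LinearEquiv.ofBijective J ⟨hJinj, hJsurj⟩).symm ≪≫ₗ e2a
  exact ⟨inferInstance, inferInstance, ⟨e1 ≪≫ₗ e2⟩⟩

end Core


/-- `Hom_{Ah}(C, Ah)` is flat over `A` when `C` is finite free over `Ah` and `Ah` is flat over `A`. -/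
theorem flat_omega_of_free (A Ah C : Type u) [CommRing A] [CommRing Ah] [CommRing C] [Algebra A Ah]
    [Algebra Ah C] [Algebra A C] [IsScalarTower A Ah C] [Module.Flat A Ah] [Module.Finite Ah C]
    [Module.Free Ah C] [Module A (Disc.Omega Ah C)] [IsScalarTower A C (Disc.Omega Ah C)] :
    Module.Flat A (Disc.Omega Ah C) := by
  letI modAh : Module Ah (Disc.Omega Ah C) := Module.compHom _ (algebraMap Ah C)
  have hsm : ∀ (a : Ah) (φ : Disc.Omega Ah C), a • φ = algebraMap Ah C a • φ := fun _ _ => rfl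
  haveI : IsScalarTower A Ah (Disc.Omega Ah C) := ⟨fun a x φ => by
    have h1 : algebraMap Ah C (a • x) = a • algebraMap Ah C x := by
      rw [Algebra.smul_def, map_mul, ← IsScalarTower.algebraMap_apply, Algebra.smul_def]
    rw [hsm, hsm, h1, smul_assoc]⟩
  let ι : Disc.Omega Ah C ≃ₗ[Ah] (C →ₗ[Ah] Ah) :=
    { toFun := fun φ => φ.toLinearMap
      invFun := fun ψ => ⟨ψ⟩
      left_inv := fun _ => rfl
      right_inv := fun _ => rfl
      map_add' := fun _ _ => rfl
      map_smul' := fun a φ => by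
        ext x
        show (algebraMap Ah C a • φ).toLinearMap x = a • φ.toLinearMap x
        rw [Disc.Omega.smul_toLinearMap_apply, ← Algebra.smul_def, map_smul] }
  haveI : Module.Flat Ah (Disc.Omega Ah C) := Module.Flat.of_linearEquiv ι
  exact Module.Flat.trans A Ah (Disc.Omega Ah C)

section Main

open Groth.Agent.H66.QFInv3

variable (A B' B Ah : Type u) [CommRing A] [CommRing B'] [CommRing B] [CommRing Ah]
  [Algebra A B'] [Algebra B' B] [Algebra A B] [IsScalarTower A B' B] [Algebra A Ah]
  [IsNoetherianRing A] [Module.Finite A B'] [Module.Flat B' B] [Algebra.IsEpi B' B]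
  [IsNoetherianRing Ah] [IsLocalRing Ah] [Module.Flat A Ah] [IsAdicComplete (maximalIdeal Ah) Ah]

attribute [local instance] Algebra.TensorProduct.rightAlgebra algTTB

omit [IsNoetherianRing A] [Module.Flat A Ah] in
/-- For a prime `Q` of `Ah ⊗_A B` over the closed point of the complete local ring `Ah`, the local
ring at `Q` is a quotient of `Ah ⊗_A B'`. -/
theorem surjective_T_locQ (Q : Ideal (Ah ⊗[A] B)) [Q.IsPrime]
    (hQA : Q.comap (algebraMap Ah (Ah ⊗[A] B)) = maximalIdeal Ah) :
    Function.Surjective (algebraMap (Ah ⊗[A] B') (Localization.AtPrime Q)) := by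
  classical
  haveI := tower_Ah_T_TB A B' B Ah
  haveI := tower_A_T_TB A B' B Ah
  haveI : Module.Flat (Ah ⊗[A] B') (Ah ⊗[A] B) := flat_TTB A B' B Ah
  let N : Ideal (Ah ⊗[A] B') := Q.comap (algebraMap (Ah ⊗[A] B') (Ah ⊗[A] B))
  haveI : N.IsPrime := Ideal.comap_isPrime _ _
  have hNA : N.comap (algebraMap Ah (Ah ⊗[A] B')) = maximalIdeal Ah := by
    show (Q.comap (algebraMap (Ah ⊗[A] B') (Ah ⊗[A] B))).comap
      (algebraMap Ah (Ah ⊗[A] B')) = _
    rw [Ideal.comap_comap, ← IsScalarTower.algebraMap_eq, hQA]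
  haveI hNmax : N.IsMaximal :=
    Ideal.isMaximal_of_isIntegral_of_isMaximal_comap N (by rw [hNA]; infer_instance)
  haveI : IsNoetherianRing (Ah ⊗[A] B') := IsNoetherianRing.of_finite Ah _
  let I : Ideal (Ah ⊗[A] B') := (maximalIdeal Ah).map (algebraMap Ah (Ah ⊗[A] B'))
  haveI hc1 : IsAdicComplete (maximalIdeal Ah) (Ah ⊗[A] B') :=
    Groth.Agent.Lead.isAdicComplete_of_finite (maximalIdeal Ah) _
  haveI hc2 : IsAdicComplete I (Ah ⊗[A] B') :=
    (IsAdicComplete.map_algebraMap_iff (I := maximalIdeal Ah) (S := Ah ⊗[A] B')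
      (M := Ah ⊗[A] B')).2 hc1
  haveI : IsArtinianRing ((Ah ⊗[A] B') ⧸ I) := by
    letI : Field (Ah ⧸ maximalIdeal Ah) := Ideal.Quotient.field (maximalIdeal Ah)
    haveI : Module.Finite Ah ((Ah ⊗[A] B') ⧸ I) :=
      Module.Finite.of_surjective (Ideal.Quotient.mkₐ Ah I).toLinearMap
        (Ideal.Quotient.mkₐ_surjective Ah I)
    haveI : Module.Finite (Ah ⧸ maximalIdeal Ah) ((Ah ⊗[A] B') ⧸ I) :=
      Module.Finite.of_restrictScalars_finite Ah (Ah ⧸ maximalIdeal Ah) ((Ah ⊗[A] B') ⧸ I)
    exact IsArtinianRing.of_finite (Ah ⧸ maximalIdeal Ah) ((Ah ⊗[A] B') ⧸ I)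
  have hsurjN :=
    ((Groth.Agent.H23.SemilocalCpl.semilocal_complete (Ah ⊗[A] B') I).2 ⟨N, hNmax⟩).1
  let lam : Localization.AtPrime N →+* Localization.AtPrime Q :=
    Localization.localRingHom N Q (algebraMap (Ah ⊗[A] B') (Ah ⊗[A] B)) rfl
  letI : Algebra (Localization.AtPrime N) (Localization.AtPrime Q) := lam.toAlgebra
  haveI : IsScalarTower (Ah ⊗[A] B') (Localization.AtPrime N) (Localization.AtPrime Q) :=
    IsScalarTower.of_algebraMap_eq (fun x => by
      show _ = lam (algebraMap (Ah ⊗[A] B') (Localization.AtPrime N) x)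
      rw [Localization.localRingHom_to_map]
      exact IsScalarTower.algebraMap_apply (Ah ⊗[A] B') (Ah ⊗[A] B) (Localization.AtPrime Q) x)
  haveI : IsLocalHom (algebraMap (Localization.AtPrime N) (Localization.AtPrime Q)) :=
    Localization.isLocalHom_localRingHom N Q _ rfl
  haveI : Module.Flat (Localization.AtPrime N) (Localization.AtPrime Q) :=
    (Module.flat_iff_of_isLocalization (Localization.AtPrime N) N.primeCompl
      (Localization.AtPrime Q)).mpr inferInstance
  haveI : Module.FaithfullyFlat (Localization.AtPrime N) (Localization.AtPrime Q) :=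
    Module.FaithfullyFlat.of_flat_of_isLocalHom
  haveI : Algebra.IsEpi (Localization.AtPrime N) (Localization.AtPrime Q) :=
    isEpi_of_ringHom_ext (fun X _ f g hfg => by
      apply IsLocalization.ringHom_ext Q.primeCompl
      apply ringHom_ext_TTB A B' B Ah
      refine RingHom.ext fun x => ?_
      have h1 := RingHom.congr_fun hfg (algebraMap (Ah ⊗[A] B') (Localization.AtPrime N) x)
      simp only [RingHom.comp_apply] at h1 ⊢
      rw [← IsScalarTower.algebraMap_apply (Ah ⊗[A] B') (Localization.AtPrime N)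
        (Localization.AtPrime Q)] at h1
      rw [← IsScalarTower.algebraMap_apply (Ah ⊗[A] B') (Ah ⊗[A] B) (Localization.AtPrime Q)]
      exact h1)
  have hbij := Groth.Agent.H66.QFInv1.bijective_of_faithfullyFlat_of_isEpi
    (Localization.AtPrime N) (Localization.AtPrime Q)
  intro c
  obtain ⟨y, rfl⟩ := hbij.2 c
  obtain ⟨t, rfl⟩ := hsurjN y
  exact ⟨t, IsScalarTower.algebraMap_apply (Ah ⊗[A] B') (Localization.AtPrime N)
    (Localization.AtPrime Q) t⟩

/-- The flat local cover at a prime `q` of `B`, for flat `A → B`. -/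
theorem exists_local_cover' [Module.Flat A B] (q : Ideal B) [q.IsPrime]
    (hcomap : (maximalIdeal Ah).comap (algebraMap A Ah) = q.comap (algebraMap A B))
    (hres : Function.Bijective (Ideal.ResidueField.mapₐ
      ((maximalIdeal Ah).comap (algebraMap A Ah)) (maximalIdeal Ah) (Algebra.ofId A Ah) rfl)) :
    ∃ (C : Type u) (_ : CommRing C) (_ : IsLocalRing C) (_ : Algebra B C) (_ : Algebra B' C)
      (_ : IsScalarTower B' B C) (_ : Algebra Ah C) (_ : Algebra A C) (_ : IsScalarTower A B C)
      (_ : IsScalarTower A Ah C), Module.Flat B C ∧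
      (maximalIdeal C).comap (algebraMap B C) = q ∧ Module.Finite Ah C ∧ Module.Free Ah C ∧
      Nonempty (QFDual.omega A B' C ≃ₗ[C] Disc.Omega Ah C) := by
  classical
  obtain ⟨Q, hQp, hQB, hQA⟩ := exists_prime_TB A B Ah q hcomap hres
  haveI := hQp
  haveI := tower_Ah_T_TB A B' B Ah
  haveI := tower_A_T_TB A B' B Ah
  haveI : Module.Flat (Ah ⊗[A] B') (Ah ⊗[A] B) := flat_TTB A B' B Ah
  haveI : Module.Flat B (Ah ⊗[A] B) := flat_B_TB A B Ah
  letI algB'C : Algebra B' (Localization.AtPrime Q) :=
    ((algebraMap B (Localization.AtPrime Q)).comp (algebraMap B' B)).toAlgebra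
  haveI towB'BC : IsScalarTower B' B (Localization.AtPrime Q) :=
    IsScalarTower.of_algebraMap_eq (fun _ => rfl)
  haveI towB'TC : IsScalarTower B' (Ah ⊗[A] B') (Localization.AtPrime Q) :=
    IsScalarTower.of_algebraMap_eq (fun x => by
      show algebraMap B (Localization.AtPrime Q) (algebraMap B' B x) =
        algebraMap (Ah ⊗[A] B') (Localization.AtPrime Q) (algebraMap B' (Ah ⊗[A] B') x)
      rw [IsScalarTower.algebraMap_apply B (Ah ⊗[A] B) (Localization.AtPrime Q),
        IsScalarTower.algebraMap_apply (Ah ⊗[A] B') (Ah ⊗[A] B) (Localization.AtPrime Q)]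
      congr 1)
  haveI towAhTC : IsScalarTower Ah (Ah ⊗[A] B') (Localization.AtPrime Q) :=
    IsScalarTower.of_algebraMap_eq (fun x => by
      rw [IsScalarTower.algebraMap_apply Ah (Ah ⊗[A] B) (Localization.AtPrime Q),
        IsScalarTower.algebraMap_apply (Ah ⊗[A] B') (Ah ⊗[A] B) (Localization.AtPrime Q),
        ← IsScalarTower.algebraMap_apply Ah (Ah ⊗[A] B') (Ah ⊗[A] B)])
  haveI towABC : IsScalarTower A B (Localization.AtPrime Q) :=
    IsScalarTower.of_algebraMap_eq (fun x => by
      rw [IsScalarTower.algebraMap_apply A (Ah ⊗[A] B) (Localization.AtPrime Q),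
        IsScalarTower.algebraMap_apply B (Ah ⊗[A] B) (Localization.AtPrime Q),
        ← IsScalarTower.algebraMap_apply A B (Ah ⊗[A] B)])
  haveI towAAhC : IsScalarTower A Ah (Localization.AtPrime Q) :=
    IsScalarTower.of_algebraMap_eq (fun x => by
      rw [IsScalarTower.algebraMap_apply A (Ah ⊗[A] B) (Localization.AtPrime Q),
        IsScalarTower.algebraMap_apply Ah (Ah ⊗[A] B) (Localization.AtPrime Q),
        ← IsScalarTower.algebraMap_apply A Ah (Ah ⊗[A] B)])
  have hsurj := surjective_T_locQ A B' B Ah Q hQA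
  have key := omega_equiv_omega A B' Ah (Ah ⊗[A] B') (Localization.AtPrime Q) inferInstance hsurj
  refine ⟨Localization.AtPrime Q, inferInstance, inferInstance, inferInstance, algB'C, towB'BC,
    inferInstance, inferInstance, towABC, towAAhC, inferInstance, ?_, key.1, key.2.1, key.2.2⟩
  rw [IsScalarTower.algebraMap_eq B (Ah ⊗[A] B) (Localization.AtPrime Q), ← Ideal.comap_comap]
  have h1 : (maximalIdeal (Localization.AtPrime Q)).comap
      (algebraMap (Ah ⊗[A] B) (Localization.AtPrime Q)) = Q :=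
    IsLocalization.AtPrime.under_maximalIdeal _ Q
  rw [h1, hQB]

end Main

end Groth.Agent.H66.QFInv4
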