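import Mathlib
import Groth.Agent.H66.QFBC1
import Groth.Agent.H66.QFInv4

/-!
# Base change of the relative dualizing module: covers and the core reduction (helper66)
-/

set_option autoImplicit false
set_option linter.style.haveILetI false
universe u

namespace Groth.Agent.H66.QFBC2

open TensorProduct Groth.Agent.H66.QFBC1

/-- Bijectivity of a linear map can be tested on flat covers of all maximal ideals. -/
theorem bijective_of_flat_cover {B M N : Type u} [CommRing B] [AddCommGroup M] [Module B M]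
    [AddCommGroup N] [Module B N] (f : M →ₗ[B] N)
    (h : ∀ q : Ideal B, q.IsMaximal → ∃ (C : Type u) (_ : CommRing C) (_ : Algebra B C),
      Module.Flat B C ∧ q.map (algebraMap B C) ≠ ⊤ ∧ Function.Bijective (f.baseChange C)) :
    Function.Bijective f := by
  constructor
  · rw [injective_iff_map_eq_zero]
    intro z hz
    apply Groth.Agent.H66.QFInv4.eq_zero_of_flat_cover (B := B) z
    intro q hq
    obtain ⟨C, _, _, hflat, hne, hbij⟩ := h q hq
    refine ⟨C, inferInstance, inferInstance, hflat, hne, ?_⟩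
    apply hbij.1
    rw [LinearMap.baseChange_tmul, hz, TensorProduct.tmul_zero, map_zero]
  · intro y
    have h0 : (LinearMap.range f).mkQ y = 0 := by
      apply Groth.Agent.H66.QFInv4.eq_zero_of_flat_cover (B := B)
      intro q hq
      obtain ⟨C, _, _, hflat, hne, hbij⟩ := h q hq
      refine ⟨C, inferInstance, inferInstance, hflat, hne, ?_⟩
      obtain ⟨w, hw⟩ := hbij.2 ((1 : C) ⊗ₜ[B] y)
      have h1 : ((LinearMap.range f).mkQ.baseChange C) ((f.baseChange C) w) = 0 := by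
        rw [← LinearMap.comp_apply, ← LinearMap.baseChange_comp, LinearMap.range_mkQ_comp,
          LinearMap.baseChange_zero, LinearMap.zero_apply]
      rw [hw, LinearMap.baseChange_tmul] at h1
      exact h1
    have h1 : y ∈ LinearMap.range f := (Submodule.Quotient.mk_eq_zero _).mp h0
    exact h1

section Ident

variable {A A₁ B' B'₁ : Type u} [CommRing A] [CommRing A₁] [CommRing B'] [CommRing B'₁]
  [Algebra A B'] [Algebra A A₁] [Algebra B' B'₁] [Algebra A₁ B'₁] [Algebra A B'₁]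
  [IsScalarTower A A₁ B'₁] [IsScalarTower A B' B'₁]
  {Y : Type u} [CommRing Y] [Algebra B'₁ Y] [Algebra B' Y] [IsScalarTower B' B'₁ Y]
  {X : Type u} [CommRing X] [Algebra B'₁ X] [Algebra B' X] [IsScalarTower B' B'₁ X]
  [Algebra Y X] [IsScalarTower B'₁ Y X] [IsScalarTower B' Y X]

/-- `omegaBC` for a `Y`-algebra `X` is the base change of `omegaBC` for `Y`. -/
theorem omegaBC_baseChange_bijective_iff (h : Algebra.IsPushout A A₁ B' B'₁) :
    Function.Bijective ((QFDual.omegaBC (B₁ := Y) h).baseChange X) ↔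
      Function.Bijective (QFDual.omegaBC (B₁ := X) h) := by
  let c : X ⊗[Y] (Y ⊗[B'] Disc.Omega A B') ≃ₗ[X] X ⊗[B'] Disc.Omega A B' :=
    AlgebraTensorModule.cancelBaseChange B' Y X X (Disc.Omega A B')
  let c₁ : X ⊗[Y] (Y ⊗[B'₁] Disc.Omega A₁ B'₁) ≃ₗ[X] X ⊗[B'₁] Disc.Omega A₁ B'₁ :=
    AlgebraTensorModule.cancelBaseChange B'₁ Y X X (Disc.Omega A₁ B'₁)
  have key : ∀ z, QFDual.omegaBC (B₁ := X) h (c z) =
      c₁ ((QFDual.omegaBC (B₁ := Y) h).baseChange X z) := by
    intro z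
    induction z using TensorProduct.induction_on with
    | zero => simp
    | add x y hx hy => rw [map_add, map_add, map_add, map_add, hx, hy]
    | tmul x w =>
      induction w using TensorProduct.induction_on with
      | zero => simp
      | add a b ha hb =>
        rw [TensorProduct.tmul_add, map_add, map_add, map_add, map_add, ha, hb]
      | tmul y φ =>
        rw [LinearMap.baseChange_tmul, QFDual.omegaBC_tmul]
        show QFDual.omegaBC (B₁ := X) h ((y • x) ⊗ₜ[B'] φ) = (y • x) ⊗ₜ[B'₁] QFDual.bcFin h φ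
        rw [QFDual.omegaBC_tmul]
  have hcomp : (QFDual.omegaBC (B₁ := X) h) ∘ c =
      c₁ ∘ ((QFDual.omegaBC (B₁ := Y) h).baseChange X) := funext key
  constructor
  · intro hb
    have h1 : Function.Bijective ((QFDual.omegaBC (B₁ := X) h) ∘ c) := by
      rw [hcomp]
      exact c₁.bijective.comp hb
    exact (Function.Bijective.of_comp_iff _ c.bijective).mp h1
  · intro hb
    have h1 : Function.Bijective (c₁ ∘ ((QFDual.omegaBC (B₁ := Y) h).baseChange X)) := by
      rw [← hcomp]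
      exact hb.comp c.bijective
    exact (Function.Bijective.of_comp_iff' c₁.bijective _).mp h1

/-- bijectivity of `omegaBC` passes to algebras -/
theorem omegaBC_bijective_of_algebra (h : Algebra.IsPushout A A₁ B' B'₁)
    (hb : Function.Bijective (QFDual.omegaBC (B₁ := Y) h)) :
    Function.Bijective (QFDual.omegaBC (B₁ := X) h) := by
  rw [← omegaBC_baseChange_bijective_iff (Y := Y) h]
  let E := LinearEquiv.ofBijective (QFDual.omegaBC (B₁ := Y) h) hb
  have h1 : (QFDual.omegaBC (B₁ := Y) h).baseChange X = (E.baseChange Y X _ _).toLinearMap := by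
    ext
    simp [E]
  rw [h1]
  exact (E.baseChange Y X _ _).bijective

end Ident

section Core

variable {A A₁ Ah A₁h B' B'₁ T T₁h C C' : Type u}
  [CommRing A] [CommRing A₁] [CommRing Ah] [CommRing A₁h] [CommRing B'] [CommRing B'₁]
  [CommRing T] [CommRing T₁h] [CommRing C] [CommRing C']
  -- the square `h`
  [Algebra A B'] [Algebra A A₁] [Algebra B' B'₁] [Algebra A₁ B'₁] [Algebra A B'₁]
  [IsScalarTower A A₁ B'₁] [IsScalarTower A B' B'₁]
  -- the square `hT`
  [Algebra A Ah] [Algebra B' T] [Algebra Ah T] [Algebra A T]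
  [IsScalarTower A Ah T] [IsScalarTower A B' T]
  -- the square `h₁h`
  [Algebra A₁ A₁h] [Algebra B'₁ T₁h] [Algebra A₁h T₁h] [Algebra A₁ T₁h]
  [IsScalarTower A₁ A₁h T₁h] [IsScalarTower A₁ B'₁ T₁h]
  -- the square `hc`
  [Algebra A A₁h] [Algebra B' T₁h] [Algebra A T₁h]
  [IsScalarTower A A₁h T₁h] [IsScalarTower A B' T₁h]
  -- the square `hTT`
  [Algebra Ah A₁h] [Algebra T T₁h] [Algebra Ah T₁h]
  [IsScalarTower Ah A₁h T₁h] [IsScalarTower Ah T T₁h]
  -- the square `hC`
  [Algebra Ah C] [Algebra C C'] [Algebra A₁h C'] [Algebra Ah C']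
  [IsScalarTower Ah A₁h C'] [IsScalarTower Ah C C']
  -- compatibilities
  [IsScalarTower A A₁ A₁h] [IsScalarTower B' B'₁ T₁h]
  [IsScalarTower A Ah A₁h] [IsScalarTower B' T T₁h]
  [Algebra T C] [IsScalarTower Ah T C] [Algebra T₁h C'] [IsScalarTower A₁h T₁h C']
  [Algebra T C'] [IsScalarTower T C C'] [IsScalarTower T T₁h C']
  -- `C'` as an algebra over the lower rings
  [Algebra B'₁ C'] [Algebra B' C']
  [IsScalarTower B' B'₁ C'] [IsScalarTower B'₁ T₁h C'] [IsScalarTower B' T₁h C']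
  [IsScalarTower B' T C']
  [Module.Flat A Ah] [Module.FinitePresentation A B']
  [Module.Flat A₁ A₁h] [Module.FinitePresentation A₁ B'₁]
  [Module.Finite Ah C] [Module.Free Ah C]

/-- The core reduction: bijectivity of the base change map on the direct factor `C'`. -/
theorem omegaBC_bijective_core (h : Algebra.IsPushout A A₁ B' B'₁)
    (hT : Algebra.IsPushout A Ah B' T) (h₁h : Algebra.IsPushout A₁ A₁h B'₁ T₁h)
    (hc : Algebra.IsPushout A A₁h B' T₁h) (hTT : Algebra.IsPushout Ah A₁h T T₁h)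
    (hC : Algebra.IsPushout Ah A₁h C C')
    (σ : C →ₗ[T] T) (hσ : ∀ s, algebraMap T C (σ s) = s)
    (σ₁ : C' →ₗ[T₁h] T₁h) (hσ₁ : ∀ s, algebraMap T₁h C' (σ₁ s) = s) :
    Function.Bijective (QFDual.omegaBC (B₁ := C') h) := by
  have b1 : Function.Bijective (QFDual.omegaBC (B₁ := C') h₁h) :=
    H13.OmegaFlat.omegaBC_bijective h₁h
  have b2 : Function.Bijective (QFDual.omegaBC (B₁ := C') hT) :=
    H13.OmegaFlat.omegaBC_bijective hT
  have b3 : Function.Bijective (QFDual.omegaBC (B₁ := C') hC) :=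
    omegaBC_bijective_of_free hC (Module.Free.chooseBasis Ah C)
  have b4 : Function.Bijective (QFDual.omegaBC (B₁ := C') hTT) :=
    (omegaBC_bijective_iff_of_section hTT hC σ hσ σ₁ hσ₁).mpr b3
  have b5 : Function.Bijective (QFDual.omegaBC (B₁ := C') hc) :=
    omegaBC_bijective_comp hT hTT hc b2 b4
  exact omegaBC_bijective_of_trans h h₁h hc b1 b5

end Core

section LayerA

variable {A A₁ Ah A₁h B' B'₁ T T₁h C : Type u}
  [CommRing A] [CommRing A₁] [CommRing Ah] [CommRing A₁h] [CommRing B'] [CommRing B'₁]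
  [CommRing T] [CommRing T₁h] [CommRing C]
  [Algebra A B'] [Algebra A A₁] [Algebra B' B'₁] [Algebra A₁ B'₁] [Algebra A B'₁]
  [IsScalarTower A A₁ B'₁] [IsScalarTower A B' B'₁]
  [Algebra A Ah] [Algebra B' T] [Algebra Ah T] [Algebra A T]
  [IsScalarTower A Ah T] [IsScalarTower A B' T]
  [Algebra A₁ A₁h] [Algebra B'₁ T₁h] [Algebra A₁h T₁h] [Algebra A₁ T₁h]
  [IsScalarTower A₁ A₁h T₁h] [IsScalarTower A₁ B'₁ T₁h]
  [Algebra A A₁h] [Algebra B' T₁h] [Algebra A T₁h]
  [IsScalarTower A A₁h T₁h] [IsScalarTower A B' T₁h]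
  [Algebra Ah A₁h] [Algebra T T₁h] [Algebra Ah T₁h]
  [IsScalarTower Ah A₁h T₁h] [IsScalarTower Ah T T₁h]
  [IsScalarTower A A₁ A₁h] [IsScalarTower B' B'₁ T₁h]
  [IsScalarTower A Ah A₁h] [IsScalarTower B' T T₁h]
  [Algebra Ah C] [Algebra T C] [IsScalarTower Ah T C]
  [Module.Flat A Ah] [Module.FinitePresentation A B']
  [Module.Flat A₁ A₁h] [Module.FinitePresentation A₁ B'₁]
  [Module.Finite Ah C] [Module.Free Ah C]

attribute [local instance] Algebra.TensorProduct.rightAlgebra

/-- Layer A: construct the direct factor `C' = T₁h ⊗_T C` and prove bijectivity there. -/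
theorem exists_factor_bijective (h : Algebra.IsPushout A A₁ B' B'₁)
    (hT : Algebra.IsPushout A Ah B' T) (h₁h : Algebra.IsPushout A₁ A₁h B'₁ T₁h)
    (hc : Algebra.IsPushout A A₁h B' T₁h) (hTT : Algebra.IsPushout Ah A₁h T T₁h)
    (σ : C →ₗ[T] T) (hσ : ∀ s, algebraMap T C (σ s) = s) :
    ∃ (C' : Type u) (_ : CommRing C') (_ : Algebra T₁h C') (_ : Algebra C C') (_ : Algebra T C')
      (_ : IsScalarTower T T₁h C') (_ : IsScalarTower T C C')
      (_ : Algebra B'₁ C') (_ : Algebra B' C') (_ : IsScalarTower B' B'₁ C')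
      (_ : IsScalarTower B'₁ T₁h C'),
      Algebra.IsPushout T T₁h C C' ∧ Function.Bijective (QFDual.omegaBC (B₁ := C') h) := by
  haveI t1 : IsScalarTower A₁h T₁h (T₁h ⊗[T] C) := inferInstance
  haveI t2 : IsScalarTower Ah T₁h (T₁h ⊗[T] C) := inferInstance
  haveI t3 : IsScalarTower B'₁ T₁h (T₁h ⊗[T] C) := inferInstance
  haveI t4 : IsScalarTower B' T₁h (T₁h ⊗[T] C) := inferInstance
  haveI t5 : IsScalarTower Ah A₁h (T₁h ⊗[T] C) := by
    refine IsScalarTower.of_algebraMap_eq (R := Ah) (S := A₁h) (A := T₁h ⊗[T] C) (fun x => ?_)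
    show algebraMap T₁h (T₁h ⊗[T] C) (algebraMap Ah T₁h x) =
      algebraMap T₁h (T₁h ⊗[T] C) (algebraMap A₁h T₁h (algebraMap Ah A₁h x))
    rw [← IsScalarTower.algebraMap_apply Ah A₁h T₁h]
  haveI t6 : IsScalarTower B' B'₁ (T₁h ⊗[T] C) := by
    refine IsScalarTower.of_algebraMap_eq (R := B') (S := B'₁) (A := T₁h ⊗[T] C) (fun x => ?_)
    show algebraMap T₁h (T₁h ⊗[T] C) (algebraMap B' T₁h x) =
      algebraMap T₁h (T₁h ⊗[T] C) (algebraMap B'₁ T₁h (algebraMap B' B'₁ x))
    rw [← IsScalarTower.algebraMap_apply B' B'₁ T₁h]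
  haveI t7 : IsScalarTower B' T (T₁h ⊗[T] C) := by
    refine IsScalarTower.of_algebraMap_eq (R := B') (S := T) (A := T₁h ⊗[T] C) (fun x => ?_)
    show algebraMap T₁h (T₁h ⊗[T] C) (algebraMap B' T₁h x) =
      algebraMap T (T₁h ⊗[T] C) (algebraMap B' T x)
    rw [IsScalarTower.algebraMap_apply T T₁h (T₁h ⊗[T] C),
      ← IsScalarTower.algebraMap_apply B' T T₁h]
  haveI t8 : IsScalarTower Ah C (T₁h ⊗[T] C) := by
    refine IsScalarTower.of_algebraMap_eq (R := Ah) (S := C) (A := T₁h ⊗[T] C) (fun x => ?_)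
    show algebraMap T₁h (T₁h ⊗[T] C) (algebraMap Ah T₁h x) =
      algebraMap C (T₁h ⊗[T] C) (algebraMap Ah C x)
    rw [IsScalarTower.algebraMap_apply Ah T C, ← IsScalarTower.algebraMap_apply T C (T₁h ⊗[T] C),
      IsScalarTower.algebraMap_apply T T₁h (T₁h ⊗[T] C),
      ← IsScalarTower.algebraMap_apply Ah T T₁h]
  have hp : Algebra.IsPushout T T₁h C (T₁h ⊗[T] C) := inferInstance
  have hp' : Algebra.IsPushout T C T₁h (T₁h ⊗[T] C) := inferInstance
  haveI := hTT.symm
  have hC0 : Algebra.IsPushout Ah C A₁h (T₁h ⊗[T] C) :=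
    (Algebra.IsPushout.comp_iff Ah T A₁h (S' := T₁h) (T := C) (T' := T₁h ⊗[T] C)).mpr hp'
  have hC : Algebra.IsPushout Ah A₁h C (T₁h ⊗[T] C) := hC0.symm
  obtain ⟨σ₁, hσ₁⟩ := section_baseChange hp σ hσ
  refine ⟨T₁h ⊗[T] C, inferInstance, inferInstance, inferInstance, inferInstance, inferInstance,
    inferInstance, inferInstance, inferInstance, t6, t3, hp, ?_⟩
  exact omegaBC_bijective_core h hT h₁h hc hTT hC σ hσ σ₁ hσ₁

end LayerA

end Groth.Agent.H66.QFBC2
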