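import Mathlib
import Groth.Agent.H66.QFBC2

/-!
# Base change of the relative dualizing module: the concrete local cover (helper66)
-/

set_option autoImplicit false
set_option linter.style.haveILetI false
universe u

namespace Groth.Agent.H66.QFBC3

open TensorProduct IsLocalRing Groth.Agent.H66.QFBC1 Groth.Agent.H66.QFBC2 Groth.Agent.H66.QFInv3

section TTB

variable (A B' B Ah : Type u) [CommRing A] [CommRing B'] [CommRing B] [CommRing Ah]
  [Algebra A B'] [Algebra B' B] [Algebra A B] [IsScalarTower A B' B] [Algebra A Ah]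

attribute [local instance] Algebra.TensorProduct.rightAlgebra algTTB

/-- `Ah ⊗_A B = (Ah ⊗_A B') ⊗_{B'} B`. -/
theorem isPushout_TTB [Algebra B' (Ah ⊗[A] B)] [IsScalarTower B' B (Ah ⊗[A] B)]
    [IsScalarTower B' (Ah ⊗[A] B') (Ah ⊗[A] B)] :
    Algebra.IsPushout B' B (Ah ⊗[A] B') (Ah ⊗[A] B) := by
  haveI := tower_Ah_T_TB A B' B Ah
  haveI := tower_A_T_TB A B' B Ah
  exact (Algebra.IsPushout.comp_iff (R := A) (S := B') (R' := Ah) (S' := Ah ⊗[A] B') (T := B)
      (T' := Ah ⊗[A] B)).mp inferInstance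

end TTB

section LayerB

variable (A A₁ B' B'₁ Ah : Type u) [CommRing A] [CommRing A₁] [CommRing B'] [CommRing B'₁]
  [CommRing Ah]
  [Algebra A B'] [Algebra A A₁] [Algebra B' B'₁] [Algebra A₁ B'₁] [Algebra A B'₁]
  [IsScalarTower A A₁ B'₁] [IsScalarTower A B' B'₁] [Algebra A Ah]
  {C : Type u} [CommRing C] [Algebra Ah C] [Algebra (Ah ⊗[A] B') C]
  [IsScalarTower Ah (Ah ⊗[A] B') C]
  [Module.Flat A Ah] [Module.FinitePresentation A B'] [Module.FinitePresentation A₁ B'₁]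
  [Module.Finite Ah C] [Module.Free Ah C]

attribute [local instance] Algebra.TensorProduct.rightAlgebra algTTB

/-- algebra structure `B' → Ah ⊗_A B'₁` -/
@[reducible] noncomputable def algB'T₁h : Algebra B' (Ah ⊗[A] B'₁) :=
  ((algebraMap B'₁ (Ah ⊗[A] B'₁)).comp (algebraMap B' B'₁)).toAlgebra

/-- algebra structure `A₁ → Ah ⊗_A B'₁` -/
@[reducible] noncomputable def algA₁T₁h : Algebra A₁ (Ah ⊗[A] B'₁) :=
  ((algebraMap B'₁ (Ah ⊗[A] B'₁)).comp (algebraMap A₁ B'₁)).toAlgebra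

theorem exists_factor_bijective' (h : Algebra.IsPushout A A₁ B' B'₁)
    (σ : C →ₗ[Ah ⊗[A] B'] (Ah ⊗[A] B'))
    (hσ : ∀ s, algebraMap (Ah ⊗[A] B') C (σ s) = s) :
    ∃ (C' : Type u) (_ : CommRing C') (_ : Algebra (Ah ⊗[A] B'₁) C') (_ : Algebra C C')
      (_ : Algebra (Ah ⊗[A] B') C')
      (_ : IsScalarTower (Ah ⊗[A] B') (Ah ⊗[A] B'₁) C') (_ : IsScalarTower (Ah ⊗[A] B') C C')
      (_ : Algebra B'₁ C') (_ : Algebra B' C') (_ : IsScalarTower B' B'₁ C')
      (_ : IsScalarTower B'₁ (Ah ⊗[A] B'₁) C'),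
      Algebra.IsPushout (Ah ⊗[A] B') (Ah ⊗[A] B'₁) C C' ∧
        Function.Bijective (QFDual.omegaBC (B₁ := C') h) := by
  letI aB' := algB'T₁h A B' B'₁ Ah
  letI aA₁ := algA₁T₁h A A₁ B'₁ Ah
  haveI t1 : IsScalarTower A₁ B'₁ (Ah ⊗[A] B'₁) := IsScalarTower.of_algebraMap_eq (fun _ => rfl)
  haveI t2 : IsScalarTower B' B'₁ (Ah ⊗[A] B'₁) := IsScalarTower.of_algebraMap_eq (fun _ => rfl)
  haveI t3 : IsScalarTower A₁ (Ah ⊗[A] A₁) (Ah ⊗[A] B'₁) :=
    IsScalarTower.of_algebraMap_eq (fun x => by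
      show (1 : Ah) ⊗ₜ[A] algebraMap A₁ B'₁ x =
        algebraMap (Ah ⊗[A] A₁) (Ah ⊗[A] B'₁) ((1 : Ah) ⊗ₜ[A] x)
      rw [algebraMap_TTB_tmul])
  haveI t4 : IsScalarTower A (Ah ⊗[A] A₁) (Ah ⊗[A] B'₁) := tower_A_T_TB A A₁ B'₁ Ah
  haveI t5 : IsScalarTower Ah (Ah ⊗[A] A₁) (Ah ⊗[A] B'₁) := tower_Ah_T_TB A A₁ B'₁ Ah
  haveI t6 : IsScalarTower Ah (Ah ⊗[A] B') (Ah ⊗[A] B'₁) := tower_Ah_T_TB A B' B'₁ Ah
  haveI t7 : IsScalarTower A (Ah ⊗[A] B') (Ah ⊗[A] B'₁) := tower_A_T_TB A B' B'₁ Ah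
  haveI t8 : IsScalarTower B' (Ah ⊗[A] B') (Ah ⊗[A] B'₁) :=
    IsScalarTower.of_algebraMap_eq (fun x => by
      show (1 : Ah) ⊗ₜ[A] algebraMap B' B'₁ x =
        algebraMap (Ah ⊗[A] B') (Ah ⊗[A] B'₁) ((1 : Ah) ⊗ₜ[A] x)
      rw [algebraMap_TTB_tmul])
  haveI t9 : IsScalarTower A B' (Ah ⊗[A] B'₁) := IsScalarTower.of_algebraMap_eq (fun x => by
    show algebraMap A (Ah ⊗[A] B'₁) x = (1 : Ah) ⊗ₜ[A] algebraMap B' B'₁ (algebraMap A B' x)
    rw [← IsScalarTower.algebraMap_apply A B' B'₁,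
      IsScalarTower.algebraMap_apply A B'₁ (Ah ⊗[A] B'₁)]
    rfl)
  have hT : Algebra.IsPushout A Ah B' (Ah ⊗[A] B') := inferInstance
  have h₁h : Algebra.IsPushout A₁ (Ah ⊗[A] A₁) B'₁ (Ah ⊗[A] B'₁) :=
    (isPushout_TTB A A₁ B'₁ Ah).symm
  haveI := h
  have hc : Algebra.IsPushout A (Ah ⊗[A] A₁) B' (Ah ⊗[A] B'₁) :=
    (Algebra.IsPushout.comp_iff A A₁ B' (S' := B'₁) (T := Ah ⊗[A] A₁)
      (T' := Ah ⊗[A] B'₁)).mpr h₁h
  have hTT : Algebra.IsPushout Ah (Ah ⊗[A] A₁) (Ah ⊗[A] B') (Ah ⊗[A] B'₁) :=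
    (Algebra.IsPushout.comp_iff A Ah B' (S' := Ah ⊗[A] B') (T := Ah ⊗[A] A₁)
      (T' := Ah ⊗[A] B'₁)).mp hc
  haveI : Module.Flat A₁ (Ah ⊗[A] A₁) := by
    have hp : Algebra.IsPushout A A₁ Ah (Ah ⊗[A] A₁) := inferInstance
    exact Module.Flat.isBaseChange A A₁ Ah (Ah ⊗[A] A₁) hp.out
  exact exists_factor_bijective h hT h₁h hc hTT σ hσ

end LayerB

section LayerC

variable (A B' B A₁ B'₁ B₁ : Type u) [CommRing A] [CommRing B'] [CommRing B] [CommRing A₁]
  [CommRing B'₁] [CommRing B₁] [IsNoetherianRing A]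
  [Algebra A B'] [Algebra B' B] [Algebra A B] [IsScalarTower A B' B] [Module.Flat A B]
  [Module.Finite A B'] [Module.Flat B' B] [Algebra.IsEpi B' B]
  [Algebra A A₁] [Algebra B' B'₁] [Algebra A₁ B'₁] [Algebra A B'₁]
  [IsScalarTower A A₁ B'₁] [IsScalarTower A B' B'₁]
  [Algebra B B₁] [Algebra B'₁ B₁] [Algebra B' B₁] [IsScalarTower B' B'₁ B₁]
  [IsScalarTower B' B B₁]

attribute [local instance] Algebra.TensorProduct.rightAlgebra algTTB

/-- a flat local ring over `B` does not become trivial over a prime lying over its closed point -/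
theorem map_ne_top_tensor (C : Type u) [CommRing C] [IsLocalRing C] [Algebra B C]
    [Module.Flat B C] (q₁ : Ideal B₁) [q₁.IsPrime]
    (hq : (maximalIdeal C).comap (algebraMap B C) = q₁.comap (algebraMap B B₁)) :
    q₁.map (algebraMap B₁ (C ⊗[B] B₁)) ≠ ⊤ := by
  intro htop
  set q : Ideal B := q₁.comap (algebraMap B B₁) with hqdef
  let μ : C ⊗[B] B₁ →ₐ[B] C ⊗[B] (B₁ ⧸ q₁) :=
    Algebra.TensorProduct.map (AlgHom.id B C) (Ideal.Quotient.mkₐ B q₁)
  have hle : q₁.map (algebraMap B₁ (C ⊗[B] B₁)) ≤ RingHom.ker μ.toRingHom := by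
    rw [Ideal.map_le_iff_le_comap]
    intro b hb
    rw [Ideal.mem_comap, RingHom.mem_ker]
    show μ ((1 : C) ⊗ₜ[B] b) = 0
    rw [Algebra.TensorProduct.map_tmul, Ideal.Quotient.mkₐ_eq_mk,
      Ideal.Quotient.eq_zero_iff_mem.mpr hb, TensorProduct.tmul_zero]
  have h1 : (1 : C) ⊗ₜ[B] (1 : B₁ ⧸ q₁) = 0 := by
    have h2 : (1 : C ⊗[B] B₁) ∈ RingHom.ker μ.toRingHom := hle (by rw [htop]; trivial)
    rw [RingHom.mem_ker] at h2
    have h3 : μ (1 : C ⊗[B] B₁) = (1 : C) ⊗ₜ[B] (1 : B₁ ⧸ q₁) := by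
      rw [map_one]
      rfl
    rw [← h3]
    exact h2
  let j : B ⧸ q →ₗ[B] B₁ ⧸ q₁ :=
    Submodule.liftQ q ((Ideal.Quotient.mkₐ B q₁).toLinearMap ∘ₗ (Algebra.linearMap B B₁))
      (fun b hb => by
        rw [LinearMap.mem_ker]
        show Ideal.Quotient.mk q₁ (algebraMap B B₁ b) = 0
        exact Ideal.Quotient.eq_zero_iff_mem.mpr hb)
  have hj : Function.Injective j := by
    rw [← LinearMap.ker_eq_bot]
    apply Submodule.ker_liftQ_eq_bot
    intro b hb
    rw [LinearMap.mem_ker] at hb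
    have hb' : Ideal.Quotient.mk q₁ (algebraMap B B₁ b) = 0 := hb
    have hb2 : algebraMap B B₁ b ∈ q₁ := Ideal.Quotient.eq_zero_iff_mem.mp hb'
    exact hb2
  have hjC := Module.Flat.lTensor_preserves_injective_linearMap (M := C) j hj
  have h4 : (j.lTensor C) ((1 : C) ⊗ₜ[B] (Ideal.Quotient.mk q (1 : B))) = 0 := by
    rw [LinearMap.lTensor_tmul]
    show (1 : C) ⊗ₜ[B] (Ideal.Quotient.mk q₁ (algebraMap B B₁ 1)) = 0
    rw [map_one, map_one]
    exact h1
  have h5 : (1 : C) ⊗ₜ[B] (Ideal.Quotient.mk q (1 : B)) = 0 := hjC (by rw [h4, map_zero])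
  have h6 := congrArg (TensorProduct.tensorQuotEquivQuotSMul C q) h5
  rw [TensorProduct.tensorQuotEquivQuotSMul_tmul_mk, map_zero, one_smul,
    Submodule.Quotient.mk_eq_zero] at h6
  have h7 : q • (⊤ : Submodule B C) ≤ (maximalIdeal C).restrictScalars B := by
    rw [Submodule.smul_le]
    intro r hr c _
    show r • c ∈ maximalIdeal C
    rw [Algebra.smul_def]
    refine Ideal.mul_mem_right _ _ ?_
    have : r ∈ (maximalIdeal C).comap (algebraMap B C) := by rw [hq]; exact hr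
    exact this
  exact (Ideal.ne_top_iff_one _).mp (IsLocalRing.maximalIdeal.isMaximal C).ne_top (h7 h6)

end LayerC

section LayerC2

variable (A B' B A₁ B'₁ B₁ : Type u) [CommRing A] [CommRing B'] [CommRing B] [CommRing A₁]
  [CommRing B'₁] [CommRing B₁] [IsNoetherianRing A]
  [Algebra A B'] [Algebra B' B] [Algebra A B] [IsScalarTower A B' B]
  [Module.Finite A B'] [Module.Flat B' B] [Algebra.IsEpi B' B]
  [Algebra A A₁] [Algebra B' B'₁] [Algebra A₁ B'₁] [Algebra A B'₁]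
  [IsScalarTower A A₁ B'₁] [IsScalarTower A B' B'₁]
  [Algebra B B₁] [Algebra B'₁ B₁] [Algebra B' B₁] [IsScalarTower B' B'₁ B₁]
  [IsScalarTower B' B B₁]

attribute [local instance] Algebra.TensorProduct.rightAlgebra algTTB

/-- The flat local cover of `B₁` at a prime `q₁` on which the base change map is bijective. -/
theorem exists_cover_bijective (hAB : Module.Flat A B) (h : Algebra.IsPushout A A₁ B' B'₁)
    (q₁ : Ideal B₁) [q₁.IsPrime] :
    ∃ (X : Type u) (_ : CommRing X) (_ : Algebra B₁ X), Module.Flat B₁ X ∧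
      q₁.map (algebraMap B₁ X) ≠ ⊤ ∧
      Function.Bijective ((QFDual.omegaBC (B₁ := B₁) h).baseChange X) := by
  classical
  -- the prime of `B` and the completion of `A`
  let q : Ideal B := q₁.comap (algebraMap B B₁)
  haveI : q.IsPrime := Ideal.comap_isPrime _ _
  obtain ⟨Ah, _, _, _, _, hflatA, hcompl, hc, hres⟩ :=
    Groth.Agent.H66.QFInv3.exists_completion A (q.comap (algebraMap A B))
  haveI := hflatA
  haveI := hcompl
  obtain ⟨Q, hQp, hQB, hQA⟩ := exists_prime_TB A B Ah q hc hres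
  haveI := hQp
  haveI := tower_Ah_T_TB A B' B Ah
  haveI := tower_A_T_TB A B' B Ah
  haveI : Module.Flat (Ah ⊗[A] B') (Ah ⊗[A] B) := flat_TTB A B' B Ah
  haveI : Module.Flat B (Ah ⊗[A] B) := flat_B_TB A B Ah
  letI algB'C : Algebra B' (Localization.AtPrime Q) :=
    ((algebraMap B (Localization.AtPrime Q)).comp (algebraMap B' B)).toAlgebra
  haveI towB'BC : IsScalarTower B' B (Localization.AtPrime Q) :=
    IsScalarTower.of_algebraMap_eq (fun _ => rfl)
  haveI towB'TC : IsScalarTower B' (Ah ⊗[A] B') (Localization.AtPrime Q) :=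
    IsScalarTower.of_algebraMap_eq (fun x => by
      show algebraMap B (Localization.AtPrime Q) (algebraMap B' B x) =
        algebraMap (Ah ⊗[A] B') (Localization.AtPrime Q) (algebraMap B' (Ah ⊗[A] B') x)
      rw [IsScalarTower.algebraMap_apply B (Ah ⊗[A] B) (Localization.AtPrime Q),
        IsScalarTower.algebraMap_apply (Ah ⊗[A] B') (Ah ⊗[A] B) (Localization.AtPrime Q)]
      congr 1)
  haveI towAhTC : IsScalarTower Ah (Ah ⊗[A] B') (Localization.AtPrime Q) :=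
    IsScalarTower.of_algebraMap_eq (fun x => by
      rw [IsScalarTower.algebraMap_apply Ah (Ah ⊗[A] B) (Localization.AtPrime Q),
        IsScalarTower.algebraMap_apply (Ah ⊗[A] B') (Ah ⊗[A] B) (Localization.AtPrime Q),
        ← IsScalarTower.algebraMap_apply Ah (Ah ⊗[A] B') (Ah ⊗[A] B)])
  haveI towAB'C : IsScalarTower A B' (Localization.AtPrime Q) :=
    IsScalarTower.of_algebraMap_eq (fun x => by
      show _ = algebraMap B (Localization.AtPrime Q) (algebraMap B' B (algebraMap A B' x))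
      rw [← IsScalarTower.algebraMap_apply A B' B,
        ← IsScalarTower.algebraMap_apply A B (Localization.AtPrime Q)])
  have hsurj := Groth.Agent.H66.QFInv4.surjective_T_locQ A B' B Ah Q hQA
  have key := Groth.Agent.H66.QFInv4.omega_equiv_omega A B' Ah (Ah ⊗[A] B')
    (Localization.AtPrime Q) inferInstance hsurj
  haveI := key.1
  haveI := key.2.1
  haveI : IsNoetherianRing (Ah ⊗[A] B') := IsNoetherianRing.of_finite Ah _
  haveI : Module.Finite (Ah ⊗[A] B') (Localization.AtPrime Q) :=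
    Module.Finite.of_surjective (Algebra.linearMap (Ah ⊗[A] B') (Localization.AtPrime Q)) hsurj
  haveI : Module.FinitePresentation (Ah ⊗[A] B') (Localization.AtPrime Q) :=
    Module.finitePresentation_of_finite _ _
  obtain ⟨σ, hσ⟩ := exists_section (Ah ⊗[A] B') (Localization.AtPrime Q) hsurj
  haveI : Module.FinitePresentation A B' := Module.finitePresentation_of_finite A B'
  haveI : Module.FinitePresentation A₁ B'₁ :=
    _root_.FinitePresentation.of_isBaseChange _ h.out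
  have hcomapC : (maximalIdeal (Localization.AtPrime Q)).comap
      (algebraMap B (Localization.AtPrime Q)) = q := by
    rw [IsScalarTower.algebraMap_eq B (Ah ⊗[A] B) (Localization.AtPrime Q), ← Ideal.comap_comap]
    have h1 : (maximalIdeal (Localization.AtPrime Q)).comap
        (algebraMap (Ah ⊗[A] B) (Localization.AtPrime Q)) = Q :=
      IsLocalization.AtPrime.under_maximalIdeal _ Q
    rw [h1, hQB]
  obtain ⟨C', _, _, _, _, towTT₁C', towTCC', _, _, towB'B'₁C', towB'₁TC', hp, hbij⟩ :=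
    exists_factor_bijective' A A₁ B' B'₁ Ah h σ hσ
  -- the cover
  haveI hflatBC : Module.Flat B (Localization.AtPrime Q) := inferInstance
  have hXflat : Module.Flat B₁ (Localization.AtPrime Q ⊗[B] B₁) := by
    have hp0 : Algebra.IsPushout B B₁ (Localization.AtPrime Q) (Localization.AtPrime Q ⊗[B] B₁) :=
      inferInstance
    exact Module.Flat.isBaseChange B B₁ (Localization.AtPrime Q) _ hp0.out
  have hXne : q₁.map (algebraMap B₁ (Localization.AtPrime Q ⊗[B] B₁)) ≠ ⊤ :=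
    map_ne_top_tensor B B₁ (Localization.AtPrime Q) q₁ hcomapC
  refine ⟨Localization.AtPrime Q ⊗[B] B₁, inferInstance, inferInstance, hXflat, hXne, ?_⟩
  have hbal : ∀ b : B, (1 : Localization.AtPrime Q) ⊗ₜ[B] algebraMap B B₁ b =
      algebraMap B (Localization.AtPrime Q) b ⊗ₜ[B] (1 : B₁) := by
    intro b
    rw [Algebra.algebraMap_eq_smul_one b, Algebra.algebraMap_eq_smul_one b,
      TensorProduct.smul_tmul]
  have hB'₁ : ∀ b' : B', (1 : Localization.AtPrime Q) ⊗ₜ[B] algebraMap B'₁ B₁ (algebraMap B' B'₁ b') =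
      algebraMap B' (Localization.AtPrime Q) b' ⊗ₜ[B] (1 : B₁) := by
    intro b'
    rw [← IsScalarTower.algebraMap_apply B' B'₁ B₁, IsScalarTower.algebraMap_apply B' B B₁, hbal,
      ← IsScalarTower.algebraMap_apply B' B (Localization.AtPrime Q)]
  let fB : B'₁ →ₐ[A] (Localization.AtPrime Q ⊗[B] B₁) :=
    { toRingHom := (algebraMap B₁ (Localization.AtPrime Q ⊗[B] B₁)).comp (algebraMap B'₁ B₁)
      commutes' := fun a => by
        show (1 : Localization.AtPrime Q) ⊗ₜ[B] algebraMap B'₁ B₁ (algebraMap A B'₁ a) =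
          algebraMap A (Localization.AtPrime Q ⊗[B] B₁) a
        rw [IsScalarTower.algebraMap_apply A B' B'₁, hB'₁,
          ← IsScalarTower.algebraMap_apply A B' (Localization.AtPrime Q)]
        rfl }
  have hfB : ∀ b, fB b = (1 : Localization.AtPrime Q) ⊗ₜ[B] algebraMap B'₁ B₁ b := fun _ => rfl
  let fA : Ah →ₐ[A] (Localization.AtPrime Q ⊗[B] B₁) :=
    (IsScalarTower.toAlgHom A (Localization.AtPrime Q) (Localization.AtPrime Q ⊗[B] B₁)).comp
      (IsScalarTower.toAlgHom A Ah (Localization.AtPrime Q))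
  have hfA : ∀ a, fA a = algebraMap Ah (Localization.AtPrime Q) a ⊗ₜ[B] (1 : B₁) := fun _ => rfl
  let f₀ : Ah ⊗[A] B'₁ →ₐ[A] (Localization.AtPrime Q ⊗[B] B₁) :=
    Algebra.TensorProduct.lift fA fB (fun _ _ => Commute.all _ _)
  have hf₀ : ∀ (t : Ah ⊗[A] B'), f₀ (algebraMap (Ah ⊗[A] B') (Ah ⊗[A] B'₁) t) =
      algebraMap (Ah ⊗[A] B') (Localization.AtPrime Q ⊗[B] B₁) t := by
    intro t
    induction t using TensorProduct.induction_on with
    | zero => rw [map_zero, map_zero, map_zero]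
    | add x y hx hy => rw [map_add, map_add, map_add, hx, hy]
    | tmul a b' =>
      rw [algebraMap_TTB_tmul, Algebra.TensorProduct.lift_tmul, hfA, hfB, hB'₁,
        Algebra.TensorProduct.tmul_mul_tmul, mul_one, Algebra.TensorProduct.algebraMap_apply]
      congr 1
      have e1 : (a ⊗ₜ[A] b' : Ah ⊗[A] B') =
          algebraMap Ah (Ah ⊗[A] B') a * algebraMap B' (Ah ⊗[A] B') b' := by
        show _ = (a ⊗ₜ[A] (1 : B')) * ((1 : Ah) ⊗ₜ[A] b')
        rw [Algebra.TensorProduct.tmul_mul_tmul, mul_one, one_mul]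
      rw [e1, map_mul, ← IsScalarTower.algebraMap_apply Ah (Ah ⊗[A] B') (Localization.AtPrime Q),
        ← IsScalarTower.algebraMap_apply B' (Ah ⊗[A] B') (Localization.AtPrime Q)]
  let f : (Ah ⊗[A] B'₁) →ₐ[Ah ⊗[A] B'] (Localization.AtPrime Q ⊗[B] B₁) :=
    { toRingHom := f₀.toRingHom
      commutes' := hf₀ }
  let g : Localization.AtPrime Q →ₐ[Ah ⊗[A] B'] (Localization.AtPrime Q ⊗[B] B₁) :=
    IsScalarTower.toAlgHom (Ah ⊗[A] B') (Localization.AtPrime Q) (Localization.AtPrime Q ⊗[B] B₁)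
  haveI := hp
  let θ : C' →ₐ[Ah ⊗[A] B'] (Localization.AtPrime Q ⊗[B] B₁) :=
    Algebra.pushoutDesc C' f g (fun _ _ => Commute.all _ _)
  have hθ : ∀ y : Ah ⊗[A] B'₁, θ (algebraMap (Ah ⊗[A] B'₁) C' y) = f₀ y := fun y =>
    Algebra.pushoutDesc_left C' f g (fun _ _ => Commute.all _ _) y
  letI aC'X : Algebra C' (Localization.AtPrime Q ⊗[B] B₁) := θ.toRingHom.toAlgebra
  letI aB'₁X : Algebra B'₁ (Localization.AtPrime Q ⊗[B] B₁) :=
    ((algebraMap B₁ (Localization.AtPrime Q ⊗[B] B₁)).comp (algebraMap B'₁ B₁)).toAlgebra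
  have hB'₁X : ∀ b : B'₁, algebraMap B'₁ (Localization.AtPrime Q ⊗[B] B₁) b =
      (1 : Localization.AtPrime Q) ⊗ₜ[B] algebraMap B'₁ B₁ b := fun _ => rfl
  have hB'X : ∀ b' : B', algebraMap B' (Localization.AtPrime Q ⊗[B] B₁) b' =
      algebraMap B' (Localization.AtPrime Q) b' ⊗ₜ[B] (1 : B₁) := fun _ => rfl
  haveI ta : IsScalarTower B' B'₁ (Localization.AtPrime Q ⊗[B] B₁) := by
    refine IsScalarTower.of_algebraMap_eq (R := B') (S := B'₁)
      (A := Localization.AtPrime Q ⊗[B] B₁) (fun b' => ?_)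
    rw [hB'X, hB'₁X, hB'₁]
  haveI tb : IsScalarTower B'₁ C' (Localization.AtPrime Q ⊗[B] B₁) := by
    refine IsScalarTower.of_algebraMap_eq (R := B'₁) (S := C')
      (A := Localization.AtPrime Q ⊗[B] B₁) (fun b => ?_)
    show _ = θ (algebraMap B'₁ C' b)
    rw [IsScalarTower.algebraMap_apply B'₁ (Ah ⊗[A] B'₁) C', hθ]
    show _ = f₀ ((1 : Ah) ⊗ₜ[A] b)
    rw [Algebra.TensorProduct.lift_tmul, map_one, one_mul, hfB, hB'₁X]
  haveI tc : IsScalarTower B' C' (Localization.AtPrime Q ⊗[B] B₁) := by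
    refine IsScalarTower.of_algebraMap_eq (R := B') (S := C')
      (A := Localization.AtPrime Q ⊗[B] B₁) (fun b' => ?_)
    rw [IsScalarTower.algebraMap_apply B' B'₁ (Localization.AtPrime Q ⊗[B] B₁),
      IsScalarTower.algebraMap_apply B'₁ C' (Localization.AtPrime Q ⊗[B] B₁),
      ← IsScalarTower.algebraMap_apply B' B'₁ C']
  haveI td : IsScalarTower B'₁ B₁ (Localization.AtPrime Q ⊗[B] B₁) :=
    IsScalarTower.of_algebraMap_eq (fun _ => rfl)
  haveI te : IsScalarTower B' B₁ (Localization.AtPrime Q ⊗[B] B₁) := by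
    refine IsScalarTower.of_algebraMap_eq (R := B') (S := B₁)
      (A := Localization.AtPrime Q ⊗[B] B₁) (fun b' => ?_)
    rw [IsScalarTower.algebraMap_apply B' B'₁ (Localization.AtPrime Q ⊗[B] B₁),
      IsScalarTower.algebraMap_apply B' B'₁ B₁,
      ← IsScalarTower.algebraMap_apply B'₁ B₁ (Localization.AtPrime Q ⊗[B] B₁)]
  have hX : Function.Bijective (QFDual.omegaBC (B₁ := Localization.AtPrime Q ⊗[B] B₁) h) :=
    omegaBC_bijective_of_algebra (Y := C') h hbij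
  exact (omegaBC_baseChange_bijective_iff (Y := B₁) (X := Localization.AtPrime Q ⊗[B] B₁) h).mpr hX

end LayerC2

end Groth.Agent.H66.QFBC3
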