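import Mathlib
import Groth.Agent.S8964

/-!
# A rank-one criterion for `Hom_{Ah}(C, Ah) ≅ C` (helper66)

For a local ring `C` finite free over a Noetherian ring `Ah`, the `C`-module
`W = Hom_{Ah}(C, Ah)` is free of rank one as soon as `k ⊗_C W` is one-dimensional over the residue
field `k` of `C`.
-/

set_option autoImplicit false
set_option linter.style.haveILetI false
universe u

namespace Groth.Agent.H66.QFInv5

open TensorProduct IsLocalRing

/-- every element of `k ⊗_C W` is of the form `1 ⊗ w` -/
theorem exists_one_tmul (C W : Type u) [CommRing C] [IsLocalRing C] [AddCommGroup W] [Module C W]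
    (z : ResidueField C ⊗[C] W) : ∃ w : W, z = (1 : ResidueField C) ⊗ₜ[C] w := by
  induction z using TensorProduct.induction_on with
  | zero => exact ⟨0, (TensorProduct.tmul_zero _ _).symm⟩
  | tmul c w =>
    obtain ⟨c, rfl⟩ := IsLocalRing.residue_surjective c
    refine ⟨c • w, ?_⟩
    rw [TensorProduct.tmul_smul, TensorProduct.smul_tmul', Algebra.smul_def, mul_one]
    rfl
  | add x y hx hy =>
    obtain ⟨a, rfl⟩ := hx
    obtain ⟨b, rfl⟩ := hy
    exact ⟨a + b, (TensorProduct.tmul_add _ _ _).symm⟩

theorem omega_equiv_self_of_finrank (Ah C : Type u) [CommRing Ah] [IsNoetherianRing Ah]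
    [CommRing C] [IsLocalRing C] [Algebra Ah C] [Module.Finite Ah C] [Module.Free Ah C]
    (h1 : Module.finrank (ResidueField C) (ResidueField C ⊗[C] Disc.Omega Ah C) = 1) :
    Nonempty (C ≃ₗ[C] Disc.Omega Ah C) := by
  classical
  haveI : Module.Finite C (Disc.Omega Ah C) := Groth.Agent.S8964.finite_omega Ah C
  let b := Module.finBasisOfFinrankEq (ResidueField C) (ResidueField C ⊗[C] Disc.Omega Ah C) h1
  obtain ⟨w, hw⟩ := exists_one_tmul C (Disc.Omega Ah C) (b 0)
  have hspan : Submodule.span C (Set.range (fun _ : Fin 1 => w)) = ⊤ :=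
    IsLocalRing.span_eq_top_of_tmul_eq_basis (fun _ : Fin 1 => w) b (fun i => by
      rw [Subsingleton.elim i 0]
      exact hw.symm)
  let L : C →ₗ[C] Disc.Omega Ah C := LinearMap.toSpanSingleton C _ w
  have hL : ∀ c, L c = c • w := fun c => rfl
  have hLsurj : Function.Surjective L := by
    intro v
    have hv : v ∈ Submodule.span C (Set.range (fun _ : Fin 1 => w)) := by rw [hspan]; trivial
    rw [Set.range_const, Submodule.mem_span_singleton] at hv
    obtain ⟨c, hc⟩ := hv
    exact ⟨c, hc⟩
  -- injectivity by Orzech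
  letI modAh : Module Ah (Disc.Omega Ah C) := Module.compHom _ (algebraMap Ah C)
  have hsm : ∀ (a : Ah) (φ : Disc.Omega Ah C), a • φ = algebraMap Ah C a • φ := fun _ _ => rfl
  haveI : IsScalarTower Ah C (Disc.Omega Ah C) := ⟨fun a c φ => by
    show (a • c) • φ = algebraMap Ah C a • (c • φ)
    rw [Algebra.smul_def, mul_smul]⟩
  let ι : Disc.Omega Ah C ≃ₗ[Ah] (C →ₗ[Ah] Ah) :=
    { toFun := fun φ => φ.toLinearMap
      invFun := fun ψ => ⟨ψ⟩
      left_inv := fun _ => rfl
      right_inv := fun _ => rfl
      map_add' := fun _ _ => rfl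
      map_smul' := fun a φ => by
        ext x
        show (algebraMap Ah C a • φ).toLinearMap x = a • φ.toLinearMap x
        rw [Disc.Omega.smul_toLinearMap_apply, ← Algebra.smul_def, map_smul] }
  let bC := Module.Free.chooseBasis Ah C
  let D : C ≃ₗ[Ah] Module.Dual Ah C := bC.toDualEquiv
  let F : C →ₗ[Ah] C := D.symm.toLinearMap ∘ₗ ι.toLinearMap ∘ₗ (L.restrictScalars Ah)
  have hFsurj : Function.Surjective F := by
    intro c
    obtain ⟨x, hx⟩ := hLsurj (ι.symm (D c))
    refine ⟨x, ?_⟩
    show D.symm (ι (L x)) = c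
    rw [hx, LinearEquiv.apply_symm_apply, LinearEquiv.symm_apply_apply]
  have hFinj : Function.Injective F := OrzechProperty.injective_of_surjective_endomorphism F hFsurj
  have hLinj : Function.Injective L := by
    intro x y hxy
    apply hFinj
    show D.symm (ι (L x)) = D.symm (ι (L y))
    rw [hxy]
  exact ⟨LinearEquiv.ofBijective L ⟨hLinj, hLsurj⟩⟩

end Groth.Agent.H66.QFInv5
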