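import Mathlib
import Groth.Agent.H66.QFBC3
import Groth.Agent.H66.QFInv5

/-!
# From fibrewise invertibility of `ω` to rank one at the residue field of a local cover (helper66)
-/

set_option autoImplicit false
set_option linter.style.haveILetI false
universe u

namespace Groth.Agent.H66.QFInv6

open TensorProduct IsLocalRing Groth.Agent.H66.QFInv3 Groth.Agent.H66.QFBC2

section Fibre

variable (A B' B : Type u) [CommRing A] [CommRing B'] [CommRing B] [Algebra A B'] [Algebra B' B]
  [Algebra A B] [IsScalarTower A B' B]
  (C : Type u) [CommRing C] [IsLocalRing C] [Algebra B C] [Algebra B' C] [IsScalarTower B' B C]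
  [Algebra A C] [IsScalarTower A B C]

attribute [local instance] Algebra.TensorProduct.rightAlgebra algTTB

theorem invertible_residue (p : Ideal A) [p.IsPrime]
    (hpC : (maximalIdeal C).comap (algebraMap A C) = p)
    [Algebra B' (p.ResidueField ⊗[A] B)] [IsScalarTower B' B (p.ResidueField ⊗[A] B)]
    [IsScalarTower B' (p.ResidueField ⊗[A] B') (p.ResidueField ⊗[A] B)]
    (hbc : Function.Bijective (QFDual.omegaBC (B₁ := p.ResidueField ⊗[A] B)
      (inferInstance : Algebra.IsPushout A p.ResidueField B' (p.ResidueField ⊗[A] B'))))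
    (hinv : Module.Invertible (p.ResidueField ⊗[A] B)
      (QFDual.omega p.ResidueField (p.ResidueField ⊗[A] B') (p.ResidueField ⊗[A] B))) :
    Module.Invertible (ResidueField C) (QFDual.omega A B' (ResidueField C)) := by
  haveI : IsScalarTower A B' C := IsScalarTower.of_algebraMap_eq (fun x => by
    rw [IsScalarTower.algebraMap_apply B' B C, ← IsScalarTower.algebraMap_apply A B' B,
      ← IsScalarTower.algebraMap_apply A B C])
  -- the map `κ(p) → k`
  have hf₁ : p ≤ RingHom.ker (Algebra.ofId A (ResidueField C)).toRingHom := by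
    intro a ha
    rw [RingHom.mem_ker]
    show algebraMap A (ResidueField C) a = 0
    rw [IsScalarTower.algebraMap_apply A C (ResidueField C), ResidueField.algebraMap_eq,
      residue_eq_zero_iff]
    rw [← hpC] at ha
    exact ha
  have hf₂ : p.primeCompl ≤ (IsUnit.submonoid (ResidueField C)).comap
      (Algebra.ofId A (ResidueField C)).toRingHom := by
    intro a ha
    show IsUnit (algebraMap A (ResidueField C) a)
    rw [isUnit_iff_ne_zero, IsScalarTower.algebraMap_apply A C (ResidueField C),
      ResidueField.algebraMap_eq, Ne, residue_eq_zero_iff]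
    intro hmem
    apply ha
    rw [← hpC]
    exact hmem
  let fκ : p.ResidueField →ₐ[A] ResidueField C :=
    Ideal.ResidueField.liftₐ p (Algebra.ofId A (ResidueField C)) hf₁ hf₂
  let fB : B →ₐ[A] ResidueField C := IsScalarTower.toAlgHom A B (ResidueField C)
  let ν : p.ResidueField ⊗[A] B →ₐ[A] ResidueField C :=
    Algebra.TensorProduct.lift fκ fB (fun _ _ => Commute.all _ _)
  letI aB₁k : Algebra (p.ResidueField ⊗[A] B) (ResidueField C) := ν.toRingHom.toAlgebra
  letI aB'₁k : Algebra (p.ResidueField ⊗[A] B') (ResidueField C) :=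
    ((algebraMap (p.ResidueField ⊗[A] B) (ResidueField C)).comp
      (algebraMap (p.ResidueField ⊗[A] B') (p.ResidueField ⊗[A] B))).toAlgebra
  haveI t1 : IsScalarTower (p.ResidueField ⊗[A] B') (p.ResidueField ⊗[A] B) (ResidueField C) :=
    IsScalarTower.of_algebraMap_eq (fun _ => rfl)
  have hν : ∀ b : B, ν ((1 : p.ResidueField) ⊗ₜ[A] b) = algebraMap B (ResidueField C) b := by
    intro b
    rw [Algebra.TensorProduct.lift_tmul, map_one, one_mul]
    rfl
  haveI t2 : IsScalarTower B' (p.ResidueField ⊗[A] B) (ResidueField C) := by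
    refine IsScalarTower.of_algebraMap_eq (R := B') (S := p.ResidueField ⊗[A] B)
      (A := ResidueField C) (fun b' => ?_)
    show _ = ν (algebraMap B' (p.ResidueField ⊗[A] B) b')
    rw [IsScalarTower.algebraMap_apply B' B (p.ResidueField ⊗[A] B)]
    show _ = ν ((1 : p.ResidueField) ⊗ₜ[A] algebraMap B' B b')
    rw [hν, ← IsScalarTower.algebraMap_apply B' B (ResidueField C)]
  haveI t3 : IsScalarTower B' (p.ResidueField ⊗[A] B') (ResidueField C) := by
    refine IsScalarTower.of_algebraMap_eq (R := B') (S := p.ResidueField ⊗[A] B')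
      (A := ResidueField C) (fun b' => ?_)
    rw [IsScalarTower.algebraMap_apply (p.ResidueField ⊗[A] B') (p.ResidueField ⊗[A] B)
      (ResidueField C), ← IsScalarTower.algebraMap_apply B' (p.ResidueField ⊗[A] B')
      (p.ResidueField ⊗[A] B), ← IsScalarTower.algebraMap_apply B' (p.ResidueField ⊗[A] B)
      (ResidueField C)]
  -- base change of invertibility to `k`
  haveI := hinv
  have inv1 : Module.Invertible (ResidueField C) (ResidueField C ⊗[p.ResidueField ⊗[A] B]
      QFDual.omega p.ResidueField (p.ResidueField ⊗[A] B') (p.ResidueField ⊗[A] B)) :=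
    inferInstance
  let c₁ := AlgebraTensorModule.cancelBaseChange (p.ResidueField ⊗[A] B') (p.ResidueField ⊗[A] B)
    (ResidueField C) (ResidueField C) (Disc.Omega p.ResidueField (p.ResidueField ⊗[A] B'))
  have inv2 : Module.Invertible (ResidueField C)
      (QFDual.omega p.ResidueField (p.ResidueField ⊗[A] B') (ResidueField C)) :=
    Module.Invertible.congr c₁
  have hk : Function.Bijective (QFDual.omegaBC (B₁ := ResidueField C)
      (inferInstance : Algebra.IsPushout A p.ResidueField B' (p.ResidueField ⊗[A] B'))) :=
    omegaBC_bijective_of_algebra (Y := p.ResidueField ⊗[A] B) _ hbc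
  haveI := inv2
  exact Module.Invertible.congr (LinearEquiv.ofBijective _ hk).symm

end Fibre

end Groth.Agent.H66.QFInv6
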