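import Mathlib
import Groth.Prelude
import Groth.Agent.H42.QH_Def

/-!
# Piece (KP) for S14112 (helper42): bounded-above termwise projective complexes are `QhBij`-sources
-/

set_option autoImplicit false
set_option linter.style.haveILetI false
universe w₁ w₂ v₁ v₂ u₁ u₂ u
open CategoryTheory CategoryTheory.Limits AlgebraicGeometry
open Groth.Agent.H42.QH

namespace Groth.Agent.H66.QH_KP

theorem KP {C : Type u₁} [Category.{v₁} C] [Abelian C] [HasDerivedCategory.{w₁} C]
    (K L : CochainComplex C ℤ) (b : ℤ) (hb : ∀ i : ℤ, b < i → IsZero (K.X i))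
    (hp : ∀ i : ℤ, Projective (K.X i)) : QhBij K L := by
  haveI : K.IsStrictlyLE b := by
    rw [CochainComplex.isStrictlyLE_iff]
    exact hb
  haveI := hp
  haveI : K.IsKProjective := CochainComplex.isKProjective_of_projective K b
  exact CochainComplex.IsKProjective.Qh_map_bijective K
    ((HomotopyCategory.quotient C (ComplexShape.up ℤ)).obj L)

end Groth.Agent.H66.QH_KP
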