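import Mathlib
import Groth.Prelude
import Groth.Agent.H42.QH_Def

/-!
# Piece (Q5) for S14112 (helper42): `QhBij` is invariant under isomorphisms of complexes
-/

set_option autoImplicit false
universe w₁ w₂ v₁ v₂ u₁ u₂ u
open CategoryTheory CategoryTheory.Limits AlgebraicGeometry
open Groth.Agent.H42.QH

namespace Groth.Agent.H66.QH_Q5

theorem Q5 {C : Type u₁} [Category.{v₁} C] [Abelian C] [HasDerivedCategory.{w₁} C]
    {E E' F F' : CochainComplex C ℤ} (e : E ≅ E') (f : F ≅ F') (h : QhBij E F) :
    QhBij E' F' := by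
  obtain ⟨a⟩ : Nonempty ((HomotopyCategory.quotient C (ComplexShape.up ℤ)).obj E ≅
      (HomotopyCategory.quotient C (ComplexShape.up ℤ)).obj E') :=
    ⟨(HomotopyCategory.quotient C (ComplexShape.up ℤ)).mapIso e⟩
  obtain ⟨c⟩ : Nonempty ((HomotopyCategory.quotient C (ComplexShape.up ℤ)).obj F ≅
      (HomotopyCategory.quotient C (ComplexShape.up ℤ)).obj F') :=
    ⟨(HomotopyCategory.quotient C (ComplexShape.up ℤ)).mapIso f⟩
  let u : ((HomotopyCategory.quotient C (ComplexShape.up ℤ)).obj E' ⟶
      (HomotopyCategory.quotient C (ComplexShape.up ℤ)).obj F') ≃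
      ((HomotopyCategory.quotient C (ComplexShape.up ℤ)).obj E ⟶
      (HomotopyCategory.quotient C (ComplexShape.up ℤ)).obj F) := Iso.homCongr a.symm c.symm
  let v := Iso.homCongr ((DerivedCategory.Qh (C := C)).mapIso a)
    ((DerivedCategory.Qh (C := C)).mapIso c)
  have key : ∀ φ' : (HomotopyCategory.quotient C (ComplexShape.up ℤ)).obj E' ⟶
      (HomotopyCategory.quotient C (ComplexShape.up ℤ)).obj F',
      (DerivedCategory.Qh (C := C)).map φ' = v ((DerivedCategory.Qh (C := C)).map (u φ')) := by
    intro φ'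
    change (DerivedCategory.Qh (C := C)).map φ' =
      (DerivedCategory.Qh (C := C)).map a.inv ≫
        (DerivedCategory.Qh (C := C)).map (a.hom ≫ φ' ≫ c.inv) ≫
          (DerivedCategory.Qh (C := C)).map c.hom
    rw [← Functor.map_comp, ← Functor.map_comp]
    congr 1
    simp
  have h' : Function.Bijective
      (fun φ : (HomotopyCategory.quotient C (ComplexShape.up ℤ)).obj E ⟶
        (HomotopyCategory.quotient C (ComplexShape.up ℤ)).obj F =>
        (DerivedCategory.Qh (C := C)).map φ) := h
  have hcomp := v.bijective.comp (h'.comp u.bijective)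
  unfold QhBij
  convert hcomp using 1
  funext φ'
  exact key φ'

end Groth.Agent.H66.QH_Q5
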