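import Mathlib
import Groth.Prelude.Def_Rees
import Groth.Prelude.Def_BlowUp2
import Groth.Prelude.Def_ega3
import Groth.Agent.H95.ReesProjDefs
import Groth.Agent.H18.ProjBasic

/-!
# Piece (U2) for S16054 (helper95): chart containment for maps to `Proj` of the Rees algebra
-/

set_option autoImplicit false
universe u
open CategoryTheory AlgebraicGeometry
open Groth.Agent.H95.ReesProj

namespace Groth.Agent.H66.RP_U2

variable (A : Type u) [CommRing A] (I : Ideal A)

/-- the structure map `A → (R(I)_f)_0`. -/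
noncomputable def zeta (f : reesAlgebra I) :
    A →+* HomogeneousLocalization.Away (Rees.deg (reesAlgebra I)) f :=
  (HomogeneousLocalization.fromZeroRingHom (Rees.deg (reesAlgebra I)) _).comp
    (algebraMap A (Rees.deg (reesAlgebra I) 0))

theorem zeta_pow_eq (a : A) (ha : a ∈ I) {n : ℕ} (f : reesAlgebra I)
    (hf : f ∈ Rees.deg (reesAlgebra I) n) :
    zeta A I f a ^ n =
      HomogeneousLocalization.Away.isLocalizationElem hf (gen_mem A I a ha) *
        zeta A I f ((f : Polynomial A).coeff n) := by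
  have hfmono : (f : Polynomial A) = Polynomial.monomial n ((f : Polynomial A).coeff n) := by
    ext m
    rw [Polynomial.coeff_monomial]
    split_ifs with h
    · rw [h]
    · exact hf m (fun h' => h h'.symm)
  apply HomogeneousLocalization.val_injective
  rw [HomogeneousLocalization.val_pow, HomogeneousLocalization.val_mul]
  have hval : ∀ z : A, (zeta A I f z).val =
      Localization.mk (algebraMap A (reesAlgebra I) z) 1 := fun z => rfl
  rw [hval, hval]
  unfold HomogeneousLocalization.Away.isLocalizationElem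
  rw [HomogeneousLocalization.Away.val_mk, Localization.mk_pow, Localization.mk_mul,
    Localization.mk_eq_mk_iff, Localization.r_iff_exists]
  refine ⟨1, ?_⟩
  simp only [Submonoid.coe_one, one_pow, one_mul, mul_one, pow_one]
  apply Subtype.ext
  have hg : ((gen A I a ha : reesAlgebra I) : Polynomial A) = Polynomial.monomial 1 a := rfl
  simp only [Subalgebra.coe_mul, Subalgebra.coe_pow, Subalgebra.coe_algebraMap, hg,
    Polynomial.algebraMap_eq]
  generalize hr : (f : Polynomial A).coeff n = r at hfmono ⊢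
  rw [hfmono, Polynomial.monomial_pow, ← Polynomial.C_pow, Polynomial.monomial_mul_C,
    Polynomial.monomial_mul_C, one_mul, mul_comm]

theorem U2 (a : A) (ha : a ∈ I) {C : Type u} [CommRing C] (φ : A →+* C)
    (hgen : I.map φ = Ideal.span {φ a}) (hnzd : φ a ∈ nonZeroDivisors C)
    (v : Spec (CommRingCat.of C) ⟶ Proj (Rees.deg (reesAlgebra I)))
    (hv : v ≫ (Proj (Rees.deg (reesAlgebra I)) ↘ Spec (CommRingCat.of A)) =
      Spec.map (CommRingCat.ofHom φ)) :
    Set.range v ⊆ (Proj.basicOpen (Rees.deg (reesAlgebra I)) (gen A I a ha) : Set _) := by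
  rintro _ ⟨x, rfl⟩
  -- a chart `D₊(f)` around `v x`
  obtain ⟨n, hn, f, hf, hfy⟩ := Groth.Agent.H18.exists_homogeneous_pos_not_mem
    (Rees.deg (reesAlgebra I)) (v.base x)
  have hxU : (x : PrimeSpectrum C) ∈
      ({z : PrimeSpectrum C | v.base z ∈ Proj.basicOpen (Rees.deg (reesAlgebra I)) f} :
        Set (PrimeSpectrum C)) := hfy
  have hopen : IsOpen
      ({z : PrimeSpectrum C | v.base z ∈ Proj.basicOpen (Rees.deg (reesAlgebra I)) f} :
        Set (PrimeSpectrum C)) :=
    (v ⁻¹ᵁ Proj.basicOpen (Rees.deg (reesAlgebra I)) f).2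
  obtain ⟨_, ⟨c, rfl⟩, hxc, hcU⟩ :=
    PrimeSpectrum.isTopologicalBasis_basic_opens.exists_subset_of_mem_open hxU hopen
  -- localize at `c`
  obtain ⟨j, hj⟩ : ∃ j : Spec (CommRingCat.of (Localization.Away c)) ⟶ Spec (CommRingCat.of C),
      j = Spec.map (CommRingCat.ofHom (algebraMap C (Localization.Away c))) := ⟨_, rfl⟩
  have hjrange : Set.range j.base = (PrimeSpectrum.basicOpen c : Set (PrimeSpectrum C)) := by
    rw [hj]
    exact PrimeSpectrum.localization_away_comap_range (Localization.Away c) c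
  obtain ⟨x', hx'⟩ : x ∈ Set.range j.base := by rw [hjrange]; exact hxc
  have hsub : Set.range (j ≫ v) ⊆
      Set.range (Proj.awayι (Rees.deg (reesAlgebra I)) f hf hn) := by
    rintro _ ⟨z, rfl⟩
    have hz : j.base z ∈ (PrimeSpectrum.basicOpen c : Set (PrimeSpectrum C)) := by
      rw [← hjrange]; exact ⟨z, rfl⟩
    have h1 : v.base (j.base z) ∈ Proj.basicOpen (Rees.deg (reesAlgebra I)) f := hcU hz
    rw [← Proj.opensRange_awayι (Rees.deg (reesAlgebra I)) f hf hn] at h1
    exact h1
  obtain ⟨ℓ, hℓ⟩ : ∃ ℓ : Spec (CommRingCat.of (Localization.Away c)) ⟶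
      Spec (CommRingCat.of (HomogeneousLocalization.Away (Rees.deg (reesAlgebra I)) f)),
      ℓ ≫ Proj.awayι (Rees.deg (reesAlgebra I)) f hf hn = j ≫ v :=
    ⟨IsOpenImmersion.lift (Proj.awayι (Rees.deg (reesAlgebra I)) f hf hn) (j ≫ v) hsub,
      IsOpenImmersion.lift_fac _ _ _⟩
  obtain ⟨ψc, hψc⟩ := Spec.map_surjective ℓ
  -- compatibility with the structure maps
  have e2 : Spec.map ψc ≫ Spec.map ((CommRingCat.ofHom
        (HomogeneousLocalization.fromZeroRingHom (Rees.deg (reesAlgebra I)) _) :
          CommRingCat.of (Rees.deg (reesAlgebra I) 0) ⟶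
          CommRingCat.of (HomogeneousLocalization.Away (Rees.deg (reesAlgebra I)) f))) ≫
      Spec.map ((CommRingCat.ofHom (algebraMap A (Rees.deg (reesAlgebra I) 0)) :
          CommRingCat.of A ⟶ CommRingCat.of (Rees.deg (reesAlgebra I) 0))) =
      Spec.map (CommRingCat.ofHom (algebraMap C (Localization.Away c))) ≫
        Spec.map (CommRingCat.ofHom φ) := by
    rw [hψc, ← Proj.awayι_toSpecZero (Rees.deg (reesAlgebra I)) f hf hn, Category.assoc,
      ← Category.assoc ℓ, hℓ, Category.assoc, ← hv, ← hj]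
    rfl
  rw [← Spec.map_comp, ← Spec.map_comp, ← Spec.map_comp] at e2
  have e3 := Spec.map_injective e2
  obtain ⟨ψ, hψ⟩ : ∃ ψ : HomogeneousLocalization.Away (Rees.deg (reesAlgebra I)) f →+*
      Localization.Away c, ψ = ψc.hom := ⟨_, rfl⟩
  have hψζ : ∀ z : A, ψ (zeta A I f z) = algebraMap C (Localization.Away c) (φ z) := by
    intro z
    have := congrArg (fun h => h.hom z) e3
    rw [hψ]
    simpa [zeta] using this
  -- the unit
  have hrI : ((f : reesAlgebra I) : Polynomial A).coeff n ∈ I ^ n :=
    (mem_reesAlgebra_iff I _).mp f.2 n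
  obtain ⟨w, hw⟩ : ∃ w : C, w * φ a ^ n = φ (((f : reesAlgebra I) : Polynomial A).coeff n) := by
    have h1 : φ (((f : reesAlgebra I) : Polynomial A).coeff n) ∈ (I ^ n).map φ :=
      Ideal.mem_map_of_mem φ hrI
    rw [Ideal.map_pow, hgen, Ideal.span_singleton_pow, Ideal.mem_span_singleton'] at h1
    exact h1
  have hrel0 := congrArg ψ (zeta_pow_eq A I a ha f hf)
  have hrel' : ψ (zeta A I f a) ^ n =
      ψ (HomogeneousLocalization.Away.isLocalizationElem hf (gen_mem A I a ha)) *
        ψ (zeta A I f (((f : reesAlgebra I) : Polynomial A).coeff n)) :=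
    calc ψ (zeta A I f a) ^ n = ψ (zeta A I f a ^ n) := (map_pow ψ _ _).symm
      _ = ψ (HomogeneousLocalization.Away.isLocalizationElem hf (gen_mem A I a ha) *
            zeta A I f (((f : reesAlgebra I) : Polynomial A).coeff n)) := hrel0
      _ = _ := map_mul ψ _ _
  rw [hψζ, hψζ, ← hw, map_mul, map_pow] at hrel'
  have hd : algebraMap C (Localization.Away c) (φ a) ^ n ∈
      nonZeroDivisors (Localization.Away c) :=
    pow_mem (IsLocalization.map_nonZeroDivisors_le (Submonoid.powers c) (Localization.Away c)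
      (Submonoid.mem_map_of_mem _ hnzd)) n
  have hone : ψ (HomogeneousLocalization.Away.isLocalizationElem hf (gen_mem A I a ha)) *
      algebraMap C (Localization.Away c) w = 1 := by
    have h2 : (ψ (HomogeneousLocalization.Away.isLocalizationElem hf (gen_mem A I a ha)) *
        algebraMap C (Localization.Away c) w) * algebraMap C (Localization.Away c) (φ a) ^ n =
        1 * algebraMap C (Localization.Away c) (φ a) ^ n := by
      rw [one_mul, mul_assoc]; exact hrel'.symm
    exact (mul_cancel_right_mem_nonZeroDivisors hd).mp h2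
  have hunit : IsUnit
      (ψ (HomogeneousLocalization.Away.isLocalizationElem hf (gen_mem A I a ha))) :=
    IsUnit.of_mul_eq_one _ hone
  rw [hψ] at hunit
  -- conclude
  have hxv : v.base x =
      (Proj.awayι (Rees.deg (reesAlgebra I)) f hf hn).base (ℓ.base x') := by
    rw [← hx']
    have := congrArg (fun m => m.base x') hℓ
    exact this.symm
  have hmem : ℓ.base x' ∈ (Proj.awayι (Rees.deg (reesAlgebra I)) f hf hn) ⁻¹ᵁ
      Proj.basicOpen (Rees.deg (reesAlgebra I)) (gen A I a ha) := by
    rw [Proj.awayι_preimage_basicOpen (Rees.deg (reesAlgebra I)) hf hn (gen_mem A I a ha) one_pos,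
      ← hψc]
    intro hmem
    exact x'.isPrime.ne_top (Ideal.eq_top_of_isUnit_mem _ hmem hunit)
  show v.base x ∈ (Proj.basicOpen (Rees.deg (reesAlgebra I)) (gen A I a ha) : Set _)
  rw [hxv]
  exact hmem

end Groth.Agent.H66.RP_U2
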