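import Mathlib

/-!
# Piece (KPT) for S18572: a nonempty open of affine space over an infinite field has a rational point
-/

set_option autoImplicit false
universe u
open CategoryTheory CategoryTheory.Limits AlgebraicGeometry

namespace Groth.Agent.H66.RR_KPT

theorem exists_kpoint {k : Type u} [Field k] [Infinite k] (n : ℕ)
    (V : (Spec (CommRingCat.of (MvPolynomial (Fin n) k))).Opens)
    (hV : (V : Set (Spec (CommRingCat.of (MvPolynomial (Fin n) k)))).Nonempty) :
    ∃ p : Spec (CommRingCat.of k) ⟶ (V : Scheme.{u}),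
      p ≫ V.ι ≫ Spec.map (CommRingCat.ofHom (algebraMap k (MvPolynomial (Fin n) k))) = 𝟙 _ := by
  obtain ⟨x, hx⟩ := hV
  have hVo : IsOpen ((V : Set (Spec (CommRingCat.of (MvPolynomial (Fin n) k)))) :
      Set (PrimeSpectrum (MvPolynomial (Fin n) k))) := V.2
  obtain ⟨W, ⟨g, rfl⟩, hxg, hgV⟩ :=
    PrimeSpectrum.isTopologicalBasis_basic_opens.exists_subset_of_mem_open
      (a := (x : PrimeSpectrum (MvPolynomial (Fin n) k))) hx hVo
  have hxg' : g ∉ (x : PrimeSpectrum (MvPolynomial (Fin n) k)).asIdeal := hxg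
  have hg0 : g ≠ 0 := by
    rintro rfl
    exact hxg' (Ideal.zero_mem _)
  obtain ⟨c, hc⟩ : ∃ c : Fin n → k, MvPolynomial.eval c g ≠ 0 := by
    by_contra hcon
    push Not at hcon
    exact hg0 (MvPolynomial.funext (fun c => by simpa using hcon c))
  let q : Spec (CommRingCat.of k) ⟶ Spec (CommRingCat.of (MvPolynomial (Fin n) k)) :=
    Spec.map (CommRingCat.ofHom (MvPolynomial.eval c))
  have hrange : Set.range q ⊆ Set.range V.ι := by
    rw [Scheme.Opens.range_ι]
    rintro _ ⟨y, rfl⟩
    apply hgV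
    show g ∉ (PrimeSpectrum.comap (MvPolynomial.eval c) (y : PrimeSpectrum k)).asIdeal
    intro hmem
    have hmem' : MvPolynomial.eval c g ∈ (y : PrimeSpectrum k).asIdeal := hmem
    exact (y : PrimeSpectrum k).isPrime.ne_top
      (Ideal.eq_top_of_isUnit_mem _ hmem' (IsUnit.mk0 _ hc))
  have hcomp : CommRingCat.ofHom (algebraMap k (MvPolynomial (Fin n) k)) ≫
      CommRingCat.ofHom (MvPolynomial.eval c) = 𝟙 (CommRingCat.of k) := by
    ext a
    simp [MvPolynomial.algebraMap_eq]
  refine ⟨IsOpenImmersion.lift V.ι q hrange, ?_⟩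
  rw [← Category.assoc, IsOpenImmersion.lift_fac, ← Spec.map_comp, hcomp, Spec.map_id]

end Groth.Agent.H66.RR_KPT
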