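import Mathlib

/-!
# (N1) for helper27's S2835 squad (Ramanujam–Samuel): the one-variable case with a regular element

A height-one prime `q` of `R⟦X⟧` (`R` a complete normal Noetherian local domain) containing a
power series which is nonzero modulo the maximal ideal is principal.
-/

set_option autoImplicit false
universe u

open IsLocalRing Polynomial

namespace Groth.Agent.H66.RS_N1

variable {R : Type u} [CommRing R] [IsDomain R] [IsLocalRing R]

/-- A monic divisor of a distinguished polynomial is distinguished. -/
theorem distinguished_of_monic_dvd {a f : R[X]} (hf : f.IsDistinguishedAt (maximalIdeal R))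
    (ha : a.Monic) (hdvd : a ∣ f) : a.IsDistinguishedAt (maximalIdeal R) := by
  have h1 : a.map (Ideal.Quotient.mk (maximalIdeal R)) ∣ Polynomial.X ^ f.natDegree := by
    rw [← hf.map_eq_X_pow]
    exact Polynomial.map_dvd _ hdvd
  obtain ⟨i, _, hi⟩ := (dvd_prime_pow Polynomial.prime_X _).1 h1
  have h2 : a.map (Ideal.Quotient.mk (maximalIdeal R)) = Polynomial.X ^ i :=
    Polynomial.eq_of_monic_of_associated (ha.map _) (Polynomial.monic_X_pow i) hi
  have h3 : i = a.natDegree := by
    have h4 := congrArg Polynomial.natDegree h2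
    rw [ha.natDegree_map, Polynomial.natDegree_X_pow] at h4
    exact h4.symm
  refine ⟨⟨fun {n} hn => ?_⟩, ha⟩
  rw [← Ideal.Quotient.eq_zero_iff_mem, ← Polynomial.coeff_map, h2, Polynomial.coeff_X_pow,
    if_neg]
  omega

/-- A distinguished polynomial lying in a prime of `R⟦X⟧` has an irreducible distinguished factor
lying in that prime. -/
theorem exists_irreducible_factor (q : Ideal (PowerSeries R)) [hqp : q.IsPrime] :
    ∀ (n : ℕ) (f : R[X]), f.IsDistinguishedAt (maximalIdeal R) → f.natDegree ≤ n →
      (f : PowerSeries R) ∈ q →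
      ∃ π : R[X], π.IsDistinguishedAt (maximalIdeal R) ∧ Irreducible π ∧
        (π : PowerSeries R) ∈ q := by
  intro n
  induction n with
  | zero =>
    intro f hf hdeg hfq
    exfalso
    have h1 : f = 1 := Polynomial.eq_one_of_monic_natDegree_zero hf.monic (Nat.le_zero.1 hdeg)
    rw [h1, Polynomial.coe_one] at hfq
    exact hqp.ne_top ((Ideal.eq_top_iff_one q).2 hfq)
  | succ n ih =>
    intro f hf hdeg hfq
    by_cases hirr : Irreducible f
    · exact ⟨f, hf, hirr, hfq⟩
    have hnu : ¬ IsUnit f := by
      intro hu
      have hu' : IsUnit (f : PowerSeries R) := by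
        have h1 := hu.map (Polynomial.coeToPowerSeries.ringHom (R := R))
        rwa [Polynomial.coeToPowerSeries.ringHom_apply] at h1
      exact hqp.ne_top (Ideal.eq_top_of_isUnit_mem q hfq hu')
    have hex : ∃ a b, f = a * b ∧ ¬IsUnit a ∧ ¬IsUnit b := by
      by_contra hcon
      apply hirr
      rw [irreducible_iff]
      refine ⟨hnu, fun a b hab => ?_⟩
      by_contra hcon2
      rw [not_or] at hcon2
      exact hcon ⟨a, b, hab, hcon2.1, hcon2.2⟩
    obtain ⟨a, b, hab, hau, hbu⟩ := hex
    have hlead : a.leadingCoeff * b.leadingCoeff = 1 := by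
      rw [← Polynomial.leadingCoeff_mul, ← hab]
      exact hf.monic
    have ha' : (C b.leadingCoeff * a).Monic := by
      rw [Polynomial.Monic, Polynomial.leadingCoeff_mul, Polynomial.leadingCoeff_C, mul_comm]
      exact hlead
    have hb' : (C a.leadingCoeff * b).Monic := by
      rw [Polynomial.Monic, Polynomial.leadingCoeff_mul, Polynomial.leadingCoeff_C]
      exact hlead
    have hprod : (C b.leadingCoeff * a) * (C a.leadingCoeff * b) = f := by
      rw [hab]
      calc (C b.leadingCoeff * a) * (C a.leadingCoeff * b)
          = C (a.leadingCoeff * b.leadingCoeff) * (a * b) := by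
            rw [Polynomial.C_mul]; ring
        _ = a * b := by rw [hlead, Polynomial.C_1, one_mul]
    have hdeg_sum : f.natDegree =
        (C b.leadingCoeff * a).natDegree + (C a.leadingCoeff * b).natDegree := by
      rw [← hprod]
      exact ha'.natDegree_mul hb'
    have hb_pos : 0 < (C a.leadingCoeff * b).natDegree := by
      by_contra h0
      have h1 : C a.leadingCoeff * b = 1 :=
        Polynomial.eq_one_of_monic_natDegree_zero hb' (by omega)
      exact hbu ⟨⟨b, C a.leadingCoeff, (mul_comm _ _).trans h1, h1⟩, rfl⟩
    have ha_pos : 0 < (C b.leadingCoeff * a).natDegree := by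
      by_contra h0
      have h1 : C b.leadingCoeff * a = 1 :=
        Polynomial.eq_one_of_monic_natDegree_zero ha' (by omega)
      exact hau ⟨⟨a, C b.leadingCoeff, (mul_comm _ _).trans h1, h1⟩, rfl⟩
    have hmem : ((C b.leadingCoeff * a : R[X]) : PowerSeries R) *
        ((C a.leadingCoeff * b : R[X]) : PowerSeries R) ∈ q := by
      rw [← Polynomial.coe_mul, hprod]
      exact hfq
    rcases hqp.mem_or_mem hmem with h1 | h1
    · exact ih (C b.leadingCoeff * a)
        (distinguished_of_monic_dvd hf ha' ⟨_, hprod.symm⟩) (by omega) h1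
    · exact ih (C a.leadingCoeff * b)
        (distinguished_of_monic_dvd hf hb' ⟨_, hprod.symm.trans (mul_comm _ _)⟩) (by omega) h1

/-- An irreducible distinguished polynomial over a complete normal local domain is a prime element
of `R⟦X⟧`. -/
theorem prime_coe [IsIntegrallyClosed R] [IsAdicComplete (maximalIdeal R) R] (π : R[X])
    (hd : π.IsDistinguishedAt (maximalIdeal R)) (hi : Irreducible π) :
    Prime (π : PowerSeries R) := by
  have hK : Irreducible (π.map (algebraMap R (FractionRing R))) :=
    (hd.monic.irreducible_iff_irreducible_map_fraction_map).1 hi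
  have hKp : Prime (π.map (algebraMap R (FractionRing R))) := hK.prime
  have hπp : Prime π := by
    refine ⟨hd.monic.ne_zero, hi.not_isUnit, fun a b hab => ?_⟩
    have h1 : π.map (algebraMap R (FractionRing R)) ∣
        a.map (algebraMap R (FractionRing R)) * b.map (algebraMap R (FractionRing R)) := by
      rw [← Polynomial.map_mul]
      exact Polynomial.map_dvd _ hab
    rcases hKp.dvd_or_dvd h1 with h2 | h2
    · exact Or.inl ((Polynomial.map_dvd_map _ (IsFractionRing.injective R _) hd.monic).1 h2)
    · exact Or.inr ((Polynomial.map_dvd_map _ (IsFractionRing.injective R _) hd.monic).1 h2)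
  have hne : (π : PowerSeries R) ≠ 0 := by
    rw [Ne, Polynomial.coe_eq_zero_iff]
    exact hd.monic.ne_zero
  rw [← Ideal.span_singleton_prime hne]
  haveI : (Ideal.span {π}).IsPrime := (Ideal.span_singleton_prime hd.monic.ne_zero).2 hπp
  haveI : IsDomain (R[X] ⧸ Ideal.span {π}) := Ideal.Quotient.isDomain _
  have e := hd.algEquivQuotient
  haveI : IsDomain (PowerSeries R ⧸ Ideal.span {(π : PowerSeries R)}) :=
    e.symm.toMulEquiv.isDomain _
  exact (Ideal.Quotient.isDomain_iff_prime _).1 inferInstance

/-- (N1) one-variable case with a regular element. -/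
theorem isPrincipal_of_regular (R : Type u) [CommRing R] [IsDomain R] [IsNoetherianRing R]
    [IsLocalRing R] [IsIntegrallyClosed R] [IsAdicComplete (maximalIdeal R) R]
    (q : Ideal (PowerSeries R)) [q.IsPrime] (hq : q.height = 1) (g : PowerSeries R) (hg : g ∈ q)
    (hgr : g.map (residue R) ≠ 0) : Submodule.IsPrincipal q := by
  obtain ⟨f, h, H⟩ := PowerSeries.exists_isWeierstrassFactorization hgr
  have hfq : (f : PowerSeries R) ∈ q := by
    obtain ⟨u, hu⟩ := H.isUnit
    have h1 : (f : PowerSeries R) = g * ((u⁻¹ : (PowerSeries R)ˣ) : PowerSeries R) := by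
      rw [H.eq_mul, ← hu, mul_assoc, Units.mul_inv, mul_one]
    rw [h1]
    exact q.mul_mem_right _ hg
  obtain ⟨π, hπd, hπi, hπq⟩ :=
    exists_irreducible_factor q f.natDegree f H.isDistinguishedAt le_rfl hfq
  have hπp : Prime (π : PowerSeries R) := prime_coe π hπd hπi
  have h2 := Ideal.eq_span_singleton_of_height_eq_one hq hπq hπp
  exact ⟨⟨(π : PowerSeries R), h2⟩⟩

end Groth.Agent.H66.RS_N1
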