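import Groth.Agent.S9169

/-!
# Fibre dimension of syntomic ring maps is locally constant (helper66)
-/

set_option autoImplicit false
set_option linter.style.haveILetI false
set_option linter.unusedSectionVars false
set_option linter.unusedVariables false

universe u

namespace Groth.Agent.H66.RelCI

open TensorProduct Groth.Agent.H9.FibDim Groth.Agent.H66.FibreReg Groth.Agent.H66.RelGCI
  Groth.Agent.H66.GlobalCI

/-- The local fibre dimension of a relative global complete intersection is `n - c` everywhere. -/
theorem tfd_eq_of_isRelGCI (R : Type u) [CommRing R] (n c : ℕ)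
    (F : Fin c → MvPolynomial (Fin n) R) (h : Synt.IsRelGCI R n c F)
    (q : PrimeSpectrum (Synt.RelGCIRing R n c F)) :
    tfd (PrimeSpectrum.comap (algebraMap R (Synt.RelGCIRing R n c F))) q =
      ((n - c : ℕ) : WithBot ℕ∞) :=
  le_antisymm (tfd_le_of_isRelGCI R n c F h q).2 (sub_le_of_le_add (le_tfd_add R n c F q))

/-- Around every prime of a syntomic algebra, the local fibre dimension is constant on a basic
open neighbourhood, which is a relative global complete intersection. -/
theorem exists_tfd_const_of_isSyntomic {R S : Type u} [CommRing R] [CommRing S] [Algebra R S]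
    (h : Synt.IsSyntomic R S) (q0 : PrimeSpectrum S) :
    ∃ g : S, g ∉ q0.asIdeal ∧ ∃ m : ℕ, ∀ y : PrimeSpectrum S, g ∉ y.asIdeal →
      tfd (PrimeSpectrum.comap (algebraMap R S)) y = (m : WithBot ℕ∞) := by
  obtain ⟨p, hp⟩ : ∃ p : Ideal R, p = q0.asIdeal.under R := ⟨_, rfl⟩
  haveI : p.IsPrime := by rw [hp]; infer_instance
  haveI : q0.asIdeal.LiesOver p := ⟨hp⟩
  obtain ⟨Q, hQ⟩ := exists_fiber_prime p q0.asIdeal
  have hsyn1 : Synt.IsSyntomic R (Localization.Away (1 : S)) :=
    isSyntomic_of_algEquiv
      ((IsLocalization.atOne S (Localization.Away (1 : S))).restrictScalars R) h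
  have h1 : (1 : S) ∉ q0.asIdeal := fun h1 =>
    q0.isPrime.ne_top ((Ideal.eq_top_iff_one _).mpr h1)
  obtain ⟨g, hg, n, c, F, hrel, ⟨e⟩⟩ :=
    (Groth.Agent.S9169.result R S p q0.asIdeal Q.asIdeal hQ).1.mp ⟨1, h1, hsyn1⟩
  refine ⟨g, hg, n - c, fun y hy => ?_⟩
  have hmem : y ∈ (PrimeSpectrum.basicOpen g : Set (PrimeSpectrum S)) := hy
  rw [← PrimeSpectrum.localization_away_comap_range (Localization.Away g) g] at hmem
  obtain ⟨y', rfl⟩ := hmem
  rw [← tfd_eq_of_square (PrimeSpectrum.comap (algebraMap R S))
    (PrimeSpectrum.comap (algebraMap R (Localization.Away g)))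
    (PrimeSpectrum.comap (algebraMap S (Localization.Away g))) id
    (PrimeSpectrum.localization_away_isOpenEmbedding (Localization.Away g) g)
    Function.injective_id (fun a' => by
      simp only [id]
      rw [IsScalarTower.algebraMap_eq R S (Localization.Away g),
        PrimeSpectrum.comap_comp_apply]) y']
  rw [Groth.Agent.S9176.tfd_algEquiv e.symm y']
  exact tfd_eq_of_isRelGCI R n c F hrel _

end Groth.Agent.H66.RelCI
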