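import Groth.Agent.H66.FibreReg
import Groth.Prelude.Def_RegImm

/-!
# Relative global complete intersections: localisation lemmas
-/

set_option autoImplicit false
set_option linter.style.haveILetI false
set_option linter.unusedSectionVars false

universe u

namespace Groth.Agent.H66.RelGCI

open TensorProduct Groth.Agent.H9.FibDim Groth.Agent.H66.FibreReg

/-- The point of `Spec T` below a point of the fibre over `p`. -/
noncomputable def below {R T : Type u} [CommRing R] [CommRing T] [Algebra R T] (p : Ideal R)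
    [p.IsPrime] (Q : PrimeSpectrum (p.Fiber T)) : PrimeSpectrum T :=
  PrimeSpectrum.comap (Algebra.TensorProduct.includeRight.toRingHom : T →+* p.Fiber T) Q

theorem below_under {R T : Type u} [CommRing R] [CommRing T] [Algebra R T] (p : Ideal R)
    [p.IsPrime] (Q : PrimeSpectrum (p.Fiber T)) : (below p Q).asIdeal.under R = p := by
  have h := Ideal.over_def Q.asIdeal p
  refine Eq.trans ?_ h.symm
  ext r
  show algebraMap R T r ∈ Ideal.comap _ Q.asIdeal ↔ _
  simp only [Ideal.mem_comap, Ideal.under_def]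
  rw [← (Algebra.TensorProduct.includeRight : T →ₐ[R] p.Fiber T).commutes r]
  rfl

theorem localDim_fiber_eq {R T : Type u} [CommRing R] [CommRing T] [Algebra R T] (p : Ideal R)
    [p.IsPrime] (Q : PrimeSpectrum (p.Fiber T)) :
    FlatMor.localDim (PrimeSpectrum (p.Fiber T)) Q =
      tfd (PrimeSpectrum.comap (algebraMap R T)) (below p Q) :=
  localDim_fiber_eq_tfd p (below p Q) (below_under p Q) Q rfl

/-- height is bounded by the local dimension, for finite type algebras over a field -/
theorem height_le_localDim (k B : Type u) [Field k] [CommRing B] [Algebra k B]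
    [Algebra.FiniteType k B] (Q : PrimeSpectrum B) :
    (Q.asIdeal.height : WithBot ℕ∞) ≤ FlatMor.localDim (PrimeSpectrum B) Q := by
  obtain ⟨c, -, hl⟩ := localDim_eq_add k B Q.asIdeal
  have h1 : FlatMor.localDim (PrimeSpectrum B) Q =
      ringKrullDim (Localization.AtPrime Q.asIdeal) + (c : WithBot ℕ∞) := hl
  rw [h1, IsLocalization.AtPrime.ringKrullDim_eq_height Q.asIdeal]
  exact le_add_of_nonneg_right (by exact_mod_cast Nat.zero_le c)

/-- If all local dimensions are equal to `m`, the dimension is `m`. -/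
theorem dim_eq_of_localDim_eq (k B : Type u) [Field k] [CommRing B] [Algebra k B]
    [Algebra.FiniteType k B] [Nontrivial B] (m : ℕ)
    (h : ∀ Q : PrimeSpectrum B, FlatMor.localDim (PrimeSpectrum B) Q = m) :
    ringKrullDim B = m := by
  apply le_antisymm
  · rw [ringKrullDim_le_iff_height_le]
    intro P hP
    have := height_le_localDim k B ⟨P, hP⟩
    rw [h] at this
    exact this
  · obtain ⟨M, hM⟩ := Ideal.exists_maximal B
    have h1 := localDim_le_dim (PrimeSpectrum B) ⟨M, hM.isPrime⟩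
    rw [h, PrimeSpectrum.topologicalKrullDim_eq_ringKrullDim] at h1
    exact h1

/-- Fibre dimension of a principal localisation with constant local fibre dimension. -/
theorem dim_fiber_away {R S : Type u} [CommRing R] [CommRing S] [Algebra R S]
    [Algebra.FiniteType R S] (g : S) (m : ℕ)
    (hlow : ∀ q : PrimeSpectrum S, (m : WithBot ℕ∞) ≤ tfd (PrimeSpectrum.comap (algebraMap R S)) q)
    (hup : ∀ q : PrimeSpectrum S, g ∉ q.asIdeal →
      tfd (PrimeSpectrum.comap (algebraMap R S)) q ≤ m)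
    (p' : Ideal R) [p'.IsPrime] [Nontrivial (p'.Fiber (Localization.Away g))] :
    ringKrullDim (p'.Fiber (Localization.Away g)) = m := by
  haveI : Algebra.FiniteType S (Localization.Away g) :=
    IsLocalization.finiteType_of_monoid_fg (Submonoid.powers g) _
  haveI : Algebra.FiniteType R (Localization.Away g) :=
    Algebra.FiniteType.trans (R := R) (S := S) (A := Localization.Away g) inferInstance inferInstance
  apply dim_eq_of_localDim_eq p'.ResidueField
  intro Q
  rw [localDim_fiber_eq p' Q]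
  obtain ⟨q', hq'⟩ : ∃ q', q' = below p' Q := ⟨_, rfl⟩
  rw [← hq']
  rw [tfd_eq_of_square (PrimeSpectrum.comap (algebraMap R S))
    (PrimeSpectrum.comap (algebraMap R (Localization.Away g)))
    (PrimeSpectrum.comap (algebraMap S (Localization.Away g))) id
    (PrimeSpectrum.localization_away_isOpenEmbedding (Localization.Away g) g)
    Function.injective_id (fun a' => by
      simp only [id]
      rw [IsScalarTower.algebraMap_eq R S (Localization.Away g), PrimeSpectrum.comap_comp_apply]) q']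
  have hmem : PrimeSpectrum.comap (algebraMap S (Localization.Away g)) q' ∈
      (PrimeSpectrum.basicOpen g : Set (PrimeSpectrum S)) := by
    rw [← PrimeSpectrum.localization_away_comap_range (Localization.Away g) g]
    exact ⟨q', rfl⟩
  exact le_antisymm (hup _ hmem) (hlow _)

theorem algebraMap_tmul {R S : Type u} [CommRing R] [CommRing S] [Algebra R S] (p : Ideal R)
    [p.IsPrime] (r : R) (s : S) :
    (algebraMap R p.ResidueField r ⊗ₜ[R] s : p.Fiber S) = (1 : p.ResidueField) ⊗ₜ[R] (r • s) := by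
  rw [Algebra.algebraMap_eq_smul_one, TensorProduct.smul_tmul]

theorem exists_clear {R S : Type u} [CommRing R] [CommRing S] [Algebra R S] (p : Ideal R)
    [p.IsPrime] (x : p.Fiber S) :
    ∃ r : R, r ∉ p ∧ ∃ s : S, (algebraMap R p.ResidueField r ⊗ₜ[R] (1 : S)) * x =
      (1 : p.ResidueField) ⊗ₜ[R] s := by
  induction x using TensorProduct.induction_on with
  | zero => exact ⟨1, fun h => (‹p.IsPrime›).ne_top ((Ideal.eq_top_iff_one _).mpr h),
      0, by rw [mul_zero, TensorProduct.tmul_zero]⟩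
  | tmul a s =>
    obtain ⟨l, rfl⟩ := Ideal.Quotient.mk_surjective
      (I := IsLocalRing.maximalIdeal (Localization.AtPrime p)) a
    obtain ⟨⟨r0, r⟩, hr⟩ := IsLocalization.surj p.primeCompl l
    refine ⟨r, r.2, r0 • s, ?_⟩
    rw [Algebra.TensorProduct.tmul_mul_tmul, one_mul, ← algebraMap_tmul]
    congr 1
    rw [IsScalarTower.algebraMap_apply R (Localization.AtPrime p) p.ResidueField,
      IsScalarTower.algebraMap_apply R (Localization.AtPrime p) p.ResidueField, ← hr, map_mul,
      mul_comm]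
    rfl
  | add x y hx hy =>
    obtain ⟨r1, hr1, s1, h1⟩ := hx
    obtain ⟨r2, hr2, s2, h2⟩ := hy
    refine ⟨r1 * r2, fun h => ((‹p.IsPrime›).mem_or_mem h).elim hr1 hr2,
      r2 • s1 + r1 • s2, ?_⟩
    have e1 : (algebraMap R p.ResidueField (r1 * r2) ⊗ₜ[R] (1 : S) : p.Fiber S) =
        (algebraMap R p.ResidueField r2 ⊗ₜ[R] (1 : S)) *
          (algebraMap R p.ResidueField r1 ⊗ₜ[R] (1 : S)) := by
      rw [Algebra.TensorProduct.tmul_mul_tmul, one_mul, map_mul, mul_comm]
    have e2 : (algebraMap R p.ResidueField (r1 * r2) ⊗ₜ[R] (1 : S) : p.Fiber S) =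
        (algebraMap R p.ResidueField r1 ⊗ₜ[R] (1 : S)) *
          (algebraMap R p.ResidueField r2 ⊗ₜ[R] (1 : S)) := by
      rw [Algebra.TensorProduct.tmul_mul_tmul, one_mul, map_mul]
    rw [mul_add]
    nth_rewrite 1 [e1]
    rw [e2, mul_assoc, mul_assoc, h1, h2, Algebra.TensorProduct.tmul_mul_tmul,
      Algebra.TensorProduct.tmul_mul_tmul, mul_one, mul_one, one_mul, one_mul, algebraMap_tmul,
      algebraMap_tmul, TensorProduct.tmul_add]


theorem algebraMap_mul_tmul {R S : Type u} [CommRing R] [CommRing S] [Algebra R S] (p : Ideal R)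
    [p.IsPrime] (r1 r2 : R) :
    (algebraMap R p.ResidueField (r1 * r2) ⊗ₜ[R] (1 : S) : p.Fiber S) =
        (algebraMap R p.ResidueField r1 ⊗ₜ[R] (1 : S)) *
          (algebraMap R p.ResidueField r2 ⊗ₜ[R] (1 : S)) := by
  rw [Algebra.TensorProduct.tmul_mul_tmul, one_mul, map_mul]

/-- If an ideal generates the unit ideal of the fibre ring, it contains an element which is a unit
on the fibre. -/
theorem exists_unit_of_map_eq_top {R S : Type u} [CommRing R] [CommRing S] [Algebra R S]
    (p : Ideal R) [p.IsPrime] (J : Ideal S)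
    (hJ : J.map (Algebra.TensorProduct.includeRight.toRingHom : S →+* p.Fiber S) = ⊤) :
    ∃ g ∈ J, IsUnit ((1 : p.ResidueField) ⊗ₜ[R] g : p.Fiber S) := by
  let K : Ideal (p.Fiber S) :=
    { carrier := {t | ∃ r : R, r ∉ p ∧ ∃ g ∈ J,
        (algebraMap R p.ResidueField r ⊗ₜ[R] (1 : S)) * t = (1 : p.ResidueField) ⊗ₜ[R] g}
      zero_mem' := ⟨1, fun h => (‹p.IsPrime›).ne_top ((Ideal.eq_top_iff_one _).mpr h), 0,
        J.zero_mem, by rw [mul_zero, TensorProduct.tmul_zero]⟩
      add_mem' := by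
        rintro t1 t2 ⟨r1, hr1, g1, hg1, h1⟩ ⟨r2, hr2, g2, hg2, h2⟩
        refine ⟨r1 * r2, fun h => ((‹p.IsPrime›).mem_or_mem h).elim hr1 hr2,
          r2 • g1 + r1 • g2, J.add_mem (J.smul_of_tower_mem r2 hg1) (J.smul_of_tower_mem r1 hg2),
          ?_⟩
        rw [mul_add]
        nth_rewrite 1 [mul_comm r1 r2]
        rw [algebraMap_mul_tmul, algebraMap_mul_tmul, mul_assoc, mul_assoc, h1, h2,
          Algebra.TensorProduct.tmul_mul_tmul,
          Algebra.TensorProduct.tmul_mul_tmul, mul_one, mul_one, one_mul, one_mul,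
          algebraMap_tmul, algebraMap_tmul, TensorProduct.tmul_add]
      smul_mem' := by
        rintro x t ⟨r, hr, g, hg, h⟩
        obtain ⟨rx, hrx, sx, hx⟩ := exists_clear p x
        refine ⟨rx * r, fun h => ((‹p.IsPrime›).mem_or_mem h).elim hrx hr, sx * g,
          J.mul_mem_left sx hg, ?_⟩
        rw [smul_eq_mul, algebraMap_mul_tmul]
        have : (algebraMap R p.ResidueField rx ⊗ₜ[R] (1 : S) : p.Fiber S) *
            (algebraMap R p.ResidueField r ⊗ₜ[R] (1 : S)) * (x * t) =
            ((algebraMap R p.ResidueField rx ⊗ₜ[R] (1 : S)) * x) *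
            ((algebraMap R p.ResidueField r ⊗ₜ[R] (1 : S)) * t) := by ring
        rw [this, hx, h, Algebra.TensorProduct.tmul_mul_tmul, one_mul] }
  have hle : J.map (Algebra.TensorProduct.includeRight.toRingHom : S →+* p.Fiber S) ≤ K := by
    rw [Ideal.map_le_iff_le_comap]
    intro j hj
    refine ⟨1, fun h => (‹p.IsPrime›).ne_top ((Ideal.eq_top_iff_one _).mpr h), j, hj, ?_⟩
    rw [map_one]
    exact one_mul _
  rw [hJ] at hle
  obtain ⟨r, hr, g, hg, h⟩ : (1 : p.Fiber S) ∈ K := hle Submodule.mem_top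
  refine ⟨g, hg, ?_⟩
  rw [← h, mul_one]
  have hu : IsUnit (algebraMap R p.ResidueField r) := by
    rw [isUnit_iff_ne_zero, Ne, Ideal.algebraMap_residueField_eq_zero]
    exact hr
  exact hu.map (Algebra.TensorProduct.includeLeft : p.ResidueField →ₐ[R] p.Fiber S)

/-- A quotient of a finite type domain of dimension `n` over a field by `c` elements has all
irreducible components of dimension at least `n - c`. -/
theorem le_dim_quot_minimal (k A B : Type u) [Field k] [CommRing A] [IsDomain A] [Algebra k A]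
    [Algebra.FiniteType k A] [CommRing B] (n c : ℕ) (hA : ringKrullDim A = n) (φ : A →+* B)
    (hφ : Function.Surjective φ) (G : Fin c → A) (hker : RingHom.ker φ = Ideal.span (Set.range G))
    (q0 : Ideal B) (hq0 : q0 ∈ minimalPrimes B) :
    (n : WithBot ℕ∞) ≤ ringKrullDim (B ⧸ q0) + c := by
  haveI : q0.IsPrime := hq0.1.1
  haveI : IsNoetherianRing A := Algebra.FiniteType.isNoetherianRing k A
  have hmin : q0.comap φ ∈ (Ideal.span (Set.range G)).minimalPrimes := by
    rw [← hker]
    have := Ideal.comap_minimalPrimes_eq_of_surjective hφ ⊥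
    rw [show Ideal.comap φ ⊥ = RingHom.ker φ from rfl] at this
    rw [this]
    exact ⟨q0, hq0, rfl⟩
  have hht : (q0.comap φ).height ≤ c := by
    refine (Ideal.height_le_card_of_mem_minimalPrimes_span (Set.finite_range G) hmin).trans ?_
    have h1 : (Set.range G).ncard ≤ c := by
      rw [← Set.image_univ]
      refine (Set.ncard_image_le Set.finite_univ).trans ?_
      rw [Set.ncard_univ, Nat.card_fin]
    exact_mod_cast h1
  have hdim := Groth.Agent.H54.height_add_ringKrullDim_quotient k A ⟨q0.comap φ, inferInstance⟩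
  rw [hA] at hdim
  have hquot : ringKrullDim (A ⧸ q0.comap φ) = ringKrullDim (B ⧸ q0) := by
    let g := Ideal.quotientMap q0 φ (le_refl (q0.comap φ))
    have hinj : Function.Injective g := Ideal.quotientMap_injective' (le_refl _)
    have hs : Function.Surjective g := Ideal.quotientMap_surjective hφ
    exact ringKrullDim_eq_of_ringEquiv (RingEquiv.ofBijective g ⟨hinj, hs⟩)
  rw [← hdim, ← hquot, add_comm]
  show _ + ((q0.comap φ).height : WithBot ℕ∞) ≤ _
  exact add_le_add_right (by exact_mod_cast hht) _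


/-- Lower bound for the fibre dimension of `R[x_1..x_n]/(F_1..F_c)` at every point. -/
theorem le_tfd_add_aux (R : Type u) [CommRing R] (n c : ℕ) (F : Fin c → MvPolynomial (Fin n) R)
    (S : Type u) [CommRing S] [Algebra R S] [Algebra.FiniteType R S]
    (ψ : MvPolynomial (Fin n) R →ₐ[R] S) (hψ : Function.Surjective ψ)
    (hkerψ : RingHom.ker ψ = Ideal.span (Set.range F))
    (q : PrimeSpectrum S) :
    (n : WithBot ℕ∞) ≤ tfd (PrimeSpectrum.comap (algebraMap R S)) q + c := by
  obtain ⟨p', hp'⟩ : ∃ p' : Ideal R, p' = q.asIdeal.under R := ⟨_, rfl⟩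
  haveI : p'.IsPrime := by rw [hp']; infer_instance
  haveI : q.asIdeal.LiesOver p' := ⟨hp'⟩
  obtain ⟨Q, hQ⟩ := exists_fiber_prime p' q.asIdeal
  rw [← localDim_fiber_eq_tfd p' q hp'.symm Q hQ,
    Groth.Agent.H9.LocalDimField.localDim_eq_iSup p'.ResidueField (p'.Fiber S) Q]
  obtain ⟨P0, hP0, hP0le⟩ := Ideal.exists_minimalPrimes_le (I := ⊥) (J := Q.asIdeal) bot_le
  let q0 : {q0 : PrimeSpectrum (p'.Fiber S) //
      q0.asIdeal ∈ minimalPrimes (p'.Fiber S) ∧ q0 ≤ Q} :=
    ⟨⟨P0, hP0.1.1⟩, hP0, hP0le⟩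
  have h1 : ringKrullDim (p'.Fiber S ⧸ P0) ≤
      ⨆ q0 : {q0 : PrimeSpectrum (p'.Fiber S) //
        q0.asIdeal ∈ minimalPrimes (p'.Fiber S) ∧ q0 ≤ Q},
        ringKrullDim (p'.Fiber S ⧸ q0.1.asIdeal) :=
    le_ciSup (f := fun q0 : {q0 : PrimeSpectrum (p'.Fiber S) //
        q0.asIdeal ∈ minimalPrimes (p'.Fiber S) ∧ q0 ≤ Q} =>
        ringKrullDim (p'.Fiber S ⧸ q0.1.asIdeal)) (OrderTop.bddAbove _) q0
  refine le_trans ?_ (add_le_add_left h1 _)
  -- presentation of the fibre
  let e := MvPolynomial.algebraTensorAlgEquiv (σ := Fin n) R p'.ResidueField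
  haveI : IsDomain (p'.Fiber (MvPolynomial (Fin n) R)) := e.toMulEquiv.isDomain _
  have hdim : ringKrullDim (p'.Fiber (MvPolynomial (Fin n) R)) = n := by
    rw [ringKrullDim_eq_of_ringEquiv e.toRingEquiv,
      Groth.Agent.H54.ringKrullDim_mvPolynomial_field]
  let φ := Algebra.TensorProduct.map (AlgHom.id R p'.ResidueField) ψ
  have hφs : Function.Surjective φ.toRingHom :=
    Algebra.TensorProduct.map_surjective _ _ (fun x => ⟨x, rfl⟩) hψ
  have hker : RingHom.ker φ.toRingHom = Ideal.span (Set.range (fun i =>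
      (Algebra.TensorProduct.includeRight : MvPolynomial (Fin n) R →ₐ[R]
        p'.Fiber (MvPolynomial (Fin n) R)) (F i))) := by
    have := Algebra.TensorProduct.lTensor_ker (A := p'.ResidueField) ψ hψ
    rw [hkerψ, Ideal.map_span, ← Set.range_comp] at this
    exact this
  exact le_dim_quot_minimal p'.ResidueField _ _ n c hdim φ.toRingHom hφs _ hker P0 hP0

theorem le_tfd_add (R : Type u) [CommRing R] (n c : ℕ) (F : Fin c → MvPolynomial (Fin n) R)
    (q : PrimeSpectrum (Synt.RelGCIRing R n c F)) :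
    (n : WithBot ℕ∞) ≤
      tfd (PrimeSpectrum.comap (algebraMap R (Synt.RelGCIRing R n c F))) q + c :=
  le_tfd_add_aux R n c F _ (Ideal.Quotient.mkₐ R (Ideal.span (Set.range F)))
    (Ideal.Quotient.mkₐ_surjective R _) (Ideal.Quotient.mkₐ_ker R _) q

open MvPolynomial in
theorem nonempty_away_equiv (R : Type u) [CommRing R] (n c : ℕ)
    (F : Fin c → MvPolynomial (Fin n) R) (h : MvPolynomial (Fin n) R) :
    Nonempty (Localization.Away (Ideal.Quotient.mk (Ideal.span (Set.range F)) h) ≃ₐ[R]
        Synt.RelGCIRing R (n + 1) (c + 1)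
          (Fin.snoc (fun i => rename Fin.castSucc (F i))
            (rename Fin.castSucc h * X (Fin.last n) - 1))) := by
  classical
  obtain ⟨F', hF'⟩ : ∃ F' : Fin (c + 1) → MvPolynomial (Fin (n + 1)) R,
    F' = Fin.snoc (fun i => rename Fin.castSucc (F i))
      (rename Fin.castSucc h * X (Fin.last n) - 1) := ⟨_, rfl⟩
  rw [← hF']
  have hF'c : ∀ i : Fin c, F' i.castSucc = rename Fin.castSucc (F i) := by
    intro i; rw [hF']; exact Fin.snoc_castSucc _ _ _
  have hF'l : F' (Fin.last c) = rename Fin.castSucc h * X (Fin.last n) - 1 := by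
    rw [hF']; exact Fin.snoc_last _ _
  clear hF'
  show Nonempty (Localization.Away (Ideal.Quotient.mk (Ideal.span (Set.range F)) h) ≃ₐ[R]
    MvPolynomial (Fin (n + 1)) R ⧸ Ideal.span (Set.range F'))
  obtain ⟨I0, hI0⟩ : ∃ I0 : Ideal (MvPolynomial (Fin n) R), I0 = Ideal.span (Set.range F) :=
    ⟨_, rfl⟩
  obtain ⟨I0', hI0'⟩ : ∃ I0' : Ideal (MvPolynomial (Fin (n + 1)) R),
    I0' = Ideal.span (Set.range F') := ⟨_, rfl⟩
  rw [← hI0, ← hI0']
  let ρ : MvPolynomial (Fin n) R →ₐ[R] MvPolynomial (Fin (n + 1)) R := rename Fin.castSucc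
  have hα0 : ∀ a ∈ I0, ((Ideal.Quotient.mkₐ R I0').comp ρ) a = 0 := by
    intro a ha
    have : I0 ≤ RingHom.ker ((Ideal.Quotient.mkₐ R I0').comp ρ).toRingHom := by
      rw [hI0]
      apply Ideal.span_le.mpr
      rintro _ ⟨i, rfl⟩
      show Ideal.Quotient.mk I0' (ρ (F i)) = 0
      rw [Ideal.Quotient.eq_zero_iff_mem, ← hF'c, hI0']
      exact Ideal.subset_span ⟨_, rfl⟩
    exact this ha
  let α0 : (MvPolynomial (Fin n) R ⧸ I0) →ₐ[R] (MvPolynomial (Fin (n + 1)) R ⧸ I0') :=
    Ideal.Quotient.liftₐ I0 _ hα0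
  have hα0mk : ∀ a, α0 (Ideal.Quotient.mk I0 a) = Ideal.Quotient.mk I0' (ρ a) := fun a => rfl
  obtain ⟨y, hy⟩ : ∃ y : MvPolynomial (Fin (n + 1)) R ⧸ I0',
    y = Ideal.Quotient.mk I0' (X (Fin.last n)) := ⟨_, rfl⟩
  obtain ⟨g, hg⟩ : ∃ g : MvPolynomial (Fin n) R ⧸ I0, g = Ideal.Quotient.mk I0 h := ⟨_, rfl⟩
  rw [← hg]
  have hgy : α0 g * y = 1 := by
    rw [hg, hy, hα0mk, ← map_mul, ← sub_eq_zero, ← map_one (Ideal.Quotient.mk I0'), ← map_sub,
      Ideal.Quotient.eq_zero_iff_mem, ← hF'l, hI0']
    exact Ideal.subset_span ⟨_, rfl⟩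
  have hunit : IsUnit (α0 g) := IsUnit.of_mul_eq_one _ hgy
  let α : Localization.Away g →ₐ[R] (MvPolynomial (Fin (n + 1)) R ⧸ I0') :=
    IsLocalization.Away.liftAlgHom (S := Localization.Away g) g (f := α0) hunit
  have hαalg : ∀ s, α (algebraMap _ (Localization.Away g) s) = α0 s := fun s =>
    IsLocalization.Away.lift_eq g hunit s
  let v : Fin (n + 1) → Localization.Away g :=
    Fin.snoc (α := fun _ => Localization.Away g)
      (fun i => algebraMap (MvPolynomial (Fin n) R ⧸ I0) _ (Ideal.Quotient.mk I0 (X i)))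
      (IsLocalization.Away.invSelf g)
  have hvc : ∀ i : Fin n, v i.castSucc =
      algebraMap (MvPolynomial (Fin n) R ⧸ I0) _ (Ideal.Quotient.mk I0 (X i)) :=
    fun i => Fin.snoc_castSucc _ _ _
  have hvl : v (Fin.last n) = IsLocalization.Away.invSelf g := Fin.snoc_last _ _
  let β0 : MvPolynomial (Fin (n + 1)) R →ₐ[R] Localization.Away g := aeval v
  have hβ0X : ∀ j, β0 (X j) = v j := fun j => aeval_X v j
  have hβ0ρ : ∀ a : MvPolynomial (Fin n) R,
      β0 (ρ a) = algebraMap _ (Localization.Away g) (Ideal.Quotient.mk I0 a) := by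
    intro a
    have : (β0.comp ρ) = (IsScalarTower.toAlgHom R (MvPolynomial (Fin n) R ⧸ I0)
        (Localization.Away g)).comp (Ideal.Quotient.mkₐ R I0) := by
      apply MvPolynomial.algHom_ext
      intro i
      show β0 (rename Fin.castSucc (X i)) = _
      rw [rename_X, hβ0X, hvc]
      rfl
    exact DFunLike.congr_fun this a
  have hβ0 : ∀ a ∈ I0', β0 a = 0 := by
    intro a ha
    have : I0' ≤ RingHom.ker β0.toRingHom := by
      rw [hI0']
      apply Ideal.span_le.mpr
      rintro _ ⟨j, rfl⟩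
      show β0 (F' j) = 0
      induction j using Fin.lastCases with
      | last =>
        rw [hF'l, map_sub, map_mul, map_one, hβ0ρ, hβ0X, hvl, ← hg,
          IsLocalization.Away.mul_invSelf, sub_self]
      | cast i =>
        rw [hF'c, hβ0ρ, Ideal.Quotient.eq_zero_iff_mem.mpr, map_zero]
        rw [hI0]
        exact Ideal.subset_span ⟨i, rfl⟩
    exact this ha
  let β : (MvPolynomial (Fin (n + 1)) R ⧸ I0') →ₐ[R] Localization.Away g :=
    Ideal.Quotient.liftₐ I0' β0 hβ0
  have hβmk : ∀ a, β (Ideal.Quotient.mk I0' a) = β0 a := fun a => rfl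
  refine ⟨AlgEquiv.ofAlgHom α β ?_ ?_⟩
  · apply Ideal.Quotient.algHom_ext
    apply MvPolynomial.algHom_ext
    intro j
    show α (β0 (X j)) = Ideal.Quotient.mk I0' (X j)
    rw [hβ0X]
    induction j using Fin.lastCases with
    | last =>
      rw [hvl]
      have h1 : α (IsLocalization.Away.invSelf g) * α0 g = 1 := by
        rw [← hαalg, ← map_mul, mul_comm, IsLocalization.Away.mul_invSelf, map_one]
      calc α (IsLocalization.Away.invSelf g)
          = α (IsLocalization.Away.invSelf g) * (α0 g * y) := by rw [hgy, mul_one]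
        _ = y := by rw [← mul_assoc, h1, one_mul]
        _ = _ := hy
    | cast i =>
      rw [hvc, hαalg, hα0mk]
      show Ideal.Quotient.mk I0' (rename Fin.castSucc (X i)) = _
      rw [rename_X]
  · apply IsLocalization.algHom_ext (Submonoid.powers g)
    apply Ideal.Quotient.algHom_ext
    apply MvPolynomial.algHom_ext
    intro i
    show β (α (algebraMap _ _ (Ideal.Quotient.mk I0 (X i)))) =
      algebraMap _ _ (Ideal.Quotient.mk I0 (X i))
    rw [hαalg, hα0mk, hβmk, hβ0ρ]

theorem sub_le_of_le_add {t : WithBot ℕ∞} {n c : ℕ} (h : (n : WithBot ℕ∞) ≤ t + c) :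
    ((n - c : ℕ) : WithBot ℕ∞) ≤ t := by
  induction t using WithBot.recBotCoe with
  | bot => simp at h
  | coe t' =>
    induction t' using ENat.recTopCoe with
    | top => exact le_top
    | coe m =>
      have h1 : n ≤ m + c := by exact_mod_cast h
      have h2 : n - c ≤ m := by omega
      have h3 : ((n - c : ℕ) : ℕ∞) ≤ (m : ℕ∞) := by exact_mod_cast h2
      exact WithBot.coe_le_coe.mpr h3

open MvPolynomial in
/-- The localised presentation is a relative global complete intersection when the local fibre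
dimension is at most `n - c` on `D(g)`. -/
theorem isRelGCI_away (R : Type u) [CommRing R] (n c : ℕ)
    (F : Fin c → MvPolynomial (Fin n) R) (h : MvPolynomial (Fin n) R) (hcn : c ≤ n)
    (hup : ∀ q : PrimeSpectrum (Synt.RelGCIRing R n c F),
      Ideal.Quotient.mk (Ideal.span (Set.range F)) h ∉ q.asIdeal →
      tfd (PrimeSpectrum.comap (algebraMap R (Synt.RelGCIRing R n c F))) q ≤
        ((n - c : ℕ) : WithBot ℕ∞)) :
    Synt.IsRelGCI R (n + 1) (c + 1)
      (Fin.snoc (fun i => rename Fin.castSucc (F i))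
        (rename Fin.castSucc h * X (Fin.last n) - 1)) := by
  intro p'' hnt
  obtain ⟨e⟩ := nonempty_away_equiv R n c F h
  refine ⟨by omega, ?_⟩
  let eF := Algebra.TensorProduct.congr (AlgEquiv.refl (R := p''.asIdeal.ResidueField)
    (A₁ := p''.asIdeal.ResidueField)) e
  haveI : Nontrivial (p''.asIdeal.Fiber
      (Localization.Away (Ideal.Quotient.mk (Ideal.span (Set.range F)) h))) :=
    eF.toEquiv.nontrivial
  rw [← ringKrullDim_eq_of_ringEquiv eF.toRingEquiv, Nat.add_sub_add_right]
  exact dim_fiber_away (S := Synt.RelGCIRing R n c F) _ (n - c)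
    (fun q => sub_le_of_le_add (le_tfd_add R n c F q)) hup p''.asIdeal

/-- If the closed set `V(J)` misses all points of fibre dimension `≤ m` and the fibre over `p` has
dimension `≤ m`, then `J` generates the unit ideal in the fibre over `p`. -/
theorem map_includeRight_eq_top {R S : Type u} [CommRing R] [CommRing S] [Algebra R S]
    (p : Ideal R) [p.IsPrime] (J : Ideal S) (m : ℕ)
    (hdim : ringKrullDim (p.Fiber S) ≤ m)
    (hJ : ∀ q ∈ PrimeSpectrum.zeroLocus (J : Set S),
      ¬ tfd (PrimeSpectrum.comap (algebraMap R S)) q ≤ (m : WithBot ℕ∞)) :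
    J.map (Algebra.TensorProduct.includeRight.toRingHom : S →+* p.Fiber S) = ⊤ := by
  by_contra hne
  obtain ⟨M, hM, hle⟩ := Ideal.exists_le_maximal _ hne
  let Q : PrimeSpectrum (p.Fiber S) := ⟨M, hM.isPrime⟩
  have hq : below p Q ∈ PrimeSpectrum.zeroLocus (J : Set S) := by
    intro j hj
    show Algebra.TensorProduct.includeRight.toRingHom j ∈ M
    exact hle (Ideal.mem_map_of_mem _ hj)
  apply hJ _ hq
  rw [← localDim_fiber_eq p Q]
  refine (localDim_le_dim _ Q).trans ?_
  rw [PrimeSpectrum.topologicalKrullDim_eq_ringKrullDim]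
  exact hdim

/-- There is an element, invertible on the fibre over `p`, whose basic open lies in the locus of
fibre dimension `≤ m`. -/
theorem exists_unit_basicOpen_le {R S : Type u} [CommRing R] [CommRing S] [Algebra R S]
    [Algebra.FiniteType R S] (p : Ideal R) [p.IsPrime] (m : ℕ)
    (hdim : ringKrullDim (p.Fiber S) ≤ m) :
    ∃ g : S, IsUnit ((1 : p.ResidueField) ⊗ₜ[R] g : p.Fiber S) ∧
      ∀ q : PrimeSpectrum S, g ∉ q.asIdeal →
        tfd (PrimeSpectrum.comap (algebraMap R S)) q ≤ (m : WithBot ℕ∞) := by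
  have hW : IsOpen {q : PrimeSpectrum S |
      tfd (PrimeSpectrum.comap (algebraMap R S)) q ≤ (m : WithBot ℕ∞)} :=
    isOpen_setOf_tfd_le R S m
  obtain ⟨J, hJ⟩ := (PrimeSpectrum.isClosed_iff_zeroLocus_ideal _).mp hW.isClosed_compl
  have hJtop := map_includeRight_eq_top p J m hdim (fun q hq => by
    rw [← hJ] at hq
    exact hq)
  obtain ⟨g, hgJ, hgu⟩ := exists_unit_of_map_eq_top p J hJtop
  refine ⟨g, hgu, ?_⟩
  intro q hq
  by_contra hnot
  have hmem : q ∈ PrimeSpectrum.zeroLocus (J : Set S) := by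
    rw [← hJ]; exact hnot
  exact hq (hmem hgJ)

end Groth.Agent.H66.RelGCI
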