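import Mathlib
import Groth.Agent.H54.AffineDim2
import Groth.Agent.H54.AffineTrdeg

/-!
# The affine cone over the Segre variety and Hopf's lemma on bilinear maps

* `exists_point_ne`: in an affine domain of dimension `≥ c + 1` over an algebraically closed field,
  `c` functions vanishing at a point have another common zero.
* `algebraicIndependent_monomial`: monomials with linearly independent exponent vectors are
  algebraically independent.
* `exists_rank_one_zero`: `c ≤ a + b - 2` bilinear forms on `k^a × k^b` have a common zero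
  `(α, β)` with `α ≠ 0`, `β ≠ 0`.
-/

set_option autoImplicit false
set_option linter.style.haveILetI false

namespace Groth.Agent.H66.SegreCone

open MvPolynomial

universe u

/-- Every maximal ideal of an affine algebra over an algebraically closed field is the kernel of a
`k`-point. -/
theorem exists_point_of_isMaximal (k : Type u) [Field k] [IsAlgClosed k]
    (R : Type u) [CommRing R] [Algebra k R] [Algebra.FiniteType k R]
    (n : Ideal R) (hn : n.IsMaximal) :
    ∃ χ : R →ₐ[k] k, RingHom.ker (χ : R →+* k) = n := by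
  letI : Field (R ⧸ n) := Ideal.Quotient.field n
  haveI : Module.Finite k (R ⧸ n) := finite_of_finite_type_of_isJacobsonRing k (R ⧸ n)
  have hbij : Function.Bijective (algebraMap k (R ⧸ n)) :=
    IsAlgClosed.algebraMap_bijective_of_isIntegral
  let e : k ≃ₐ[k] (R ⧸ n) := AlgEquiv.ofBijective (Algebra.ofId k (R ⧸ n)) hbij
  refine ⟨(e.symm : (R ⧸ n) →ₐ[k] k).comp (Ideal.Quotient.mkₐ k n), ?_⟩
  ext x
  rw [RingHom.mem_ker]
  change e.symm (Ideal.Quotient.mk n x) = 0 ↔ x ∈ n
  rw [EmbeddingLike.map_eq_zero_iff, Ideal.Quotient.eq_zero_iff_mem]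

theorem exists_point_ne
    (k : Type u) [Field k] [IsAlgClosed k]
    (R : Type u) [CommRing R] [IsDomain R] [Algebra k R] [Algebra.FiniteType k R]
    (c : ℕ) (hdim : ((c + 1 : ℕ) : WithBot ℕ∞) ≤ ringKrullDim R)
    (χ₀ : R →ₐ[k] k) (L : Fin c → R) (hL : ∀ i, χ₀ (L i) = 0) :
    ∃ χ : R →ₐ[k] k, χ ≠ χ₀ ∧ ∀ i, χ (L i) = 0 := by
  classical
  haveI : IsNoetherianRing R := Algebra.FiniteType.isNoetherianRing k R
  haveI : IsJacobsonRing R := isJacobsonRing_of_finiteType (A := k) (B := R)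
  obtain ⟨m₀, hm₀def⟩ : ∃ m₀ : Ideal R, m₀ = RingHom.ker (χ₀ : R →+* k) := ⟨_, rfl⟩
  have hm₀ : m₀.IsMaximal := by
    rw [hm₀def]
    exact RingHom.ker_isMaximal_of_surjective (χ₀ : R →+* k)
      (fun x => ⟨algebraMap k R x, by simp⟩)
  let s : Finset R := Finset.univ.image L
  have hscard : s.card ≤ c := (Finset.card_image_le).trans (by simp)
  have hI : Ideal.span (s : Set R) ≤ m₀ := by
    rw [Ideal.span_le]
    intro x hx
    simp only [s, Finset.coe_image, Finset.coe_univ, Set.image_univ, Set.mem_range] at hx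
    obtain ⟨i, rfl⟩ := hx
    rw [hm₀def]
    exact hL i
  obtain ⟨P, hP, hPm⟩ := Ideal.exists_minimalPrimes_le hI
  haveI hPprime : P.IsPrime := hP.1.1
  have hht : P.height ≤ c :=
    (Ideal.height_le_card_of_mem_minimalPrimes_span_finset hP).trans (by exact_mod_cast hscard)
  have hsum := Groth.Agent.H54.height_add_ringKrullDim_quotient k R ⟨P, hPprime⟩
  simp only at hsum
  by_cases hall : ∀ n : Ideal R, n.IsMaximal → P ≤ n → n = m₀
  · exfalso
    have hjac : P.jacobson = P := IsJacobsonRing.out' P hPprime.isRadical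
    have hPm₀ : P = m₀ := by
      rw [← hjac]
      apply le_antisymm
      · exact sInf_le ⟨hPm, hm₀⟩
      · apply le_sInf
        rintro n ⟨hPn, hn⟩
        rw [hall n hn hPn]
    haveI : P.IsMaximal := hPm₀ ▸ hm₀
    letI := Ideal.Quotient.field P
    have h0 : ringKrullDim (R ⧸ P) = 0 := ringKrullDim_eq_zero_of_field _
    rw [h0, add_zero] at hsum
    have h1 : ((c + 1 : ℕ) : WithBot ℕ∞) ≤ (P.height : WithBot ℕ∞) := hsum ▸ hdim
    have h2 : ((c + 1 : ℕ) : ℕ∞) ≤ P.height := by exact_mod_cast h1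
    have h3 : ((c + 1 : ℕ) : ℕ∞) ≤ (c : ℕ∞) := h2.trans hht
    have h4 : c + 1 ≤ c := by exact_mod_cast h3
    omega
  · push Not at hall
    obtain ⟨n, hn, hPn, hne⟩ := hall
    obtain ⟨χ, hχ⟩ := exists_point_of_isMaximal k R n hn
    refine ⟨χ, ?_, ?_⟩
    · intro h
      apply hne
      rw [← hχ, h, hm₀def]
    · intro i
      have hmem : L i ∈ n :=
        hPn (hP.1.2 (Ideal.subset_span (by simp [s])))
      rw [← hχ] at hmem
      exact hmem

/-- Monomials whose exponent vectors are `ℕ`-linearly independent are algebraically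
independent. -/
theorem algebraicIndependent_monomial {k σ ι : Type*} [Field k] (E : ι → (σ →₀ ℕ))
    (hE : Function.Injective (fun d : ι →₀ ℕ => d.sum (fun i n => n • E i))) :
    AlgebraicIndependent k (fun i => MvPolynomial.monomial (E i) (1 : k)) := by
  classical
  rw [algebraicIndependent_iff]
  intro p hp
  ext d₀
  rw [MvPolynomial.coeff_zero]
  have hp' := congrArg (MvPolynomial.coeff (d₀.sum (fun i n => n • E i))) hp
  rw [MvPolynomial.aeval_def, MvPolynomial.eval₂_eq, MvPolynomial.coeff_sum,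
    MvPolynomial.coeff_zero] at hp'
  have hterm : ∀ d ∈ p.support,
      MvPolynomial.coeff (d₀.sum (fun i n => n • E i))
        (algebraMap k (MvPolynomial σ k) (MvPolynomial.coeff d p) *
          ∏ i ∈ d.support, (MvPolynomial.monomial (E i) (1 : k)) ^ d i) =
      if d = d₀ then MvPolynomial.coeff d p else 0 := by
    intro d _
    rw [MvPolynomial.algebraMap_eq]
    simp only [MvPolynomial.monomial_pow, one_pow]
    rw [← MvPolynomial.monomial_sum_index, MvPolynomial.coeff_monomial]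
    by_cases h : d = d₀
    · subst h
      simp [Finsupp.sum]
    · rw [if_neg h, if_neg]
      intro h'
      exact h (hE h')
  rw [Finset.sum_congr rfl hterm, Finset.sum_ite_eq'] at hp'
  by_cases hd : d₀ ∈ p.support
  · rwa [if_pos hd] at hp'
  · exact MvPolynomial.notMem_support_iff.1 hd

section Segre

variable (k : Type u) [Field k] (a b : ℕ)

/-- The product `x_i y_j`. -/
noncomputable def z (i : Fin a) (j : Fin b) : MvPolynomial (Fin a ⊕ Fin b) k :=
  X (Sum.inl i) * X (Sum.inr j)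

theorem z_eq (i : Fin a) (j : Fin b) :
    z k a b i j = monomial (Finsupp.single (Sum.inl i) 1 + Finsupp.single (Sum.inr j) 1) 1 := by
  unfold z
  change monomial _ 1 * monomial _ 1 = _
  rw [monomial_mul, mul_one]

/-- The coordinate ring of the affine cone over the Segre variety. -/
noncomputable abbrev R : Subalgebra k (MvPolynomial (Fin a ⊕ Fin b) k) :=
  Algebra.adjoin k (Set.range (fun p : Fin a × Fin b => z k a b p.1 p.2))

/-- The generator `x_i y_j` of the Segre ring. -/
noncomputable def Z (i : Fin a) (j : Fin b) : R k a b :=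
  ⟨z k a b i j, Algebra.subset_adjoin ⟨(i, j), rfl⟩⟩

theorem Z_rel (i i' : Fin a) (j j' : Fin b) :
    Z k a b i j * Z k a b i' j' = Z k a b i j' * Z k a b i' j := by
  apply Subtype.ext
  change z k a b i j * z k a b i' j' = z k a b i j' * z k a b i' j
  unfold z
  ring

instance : Algebra.FiniteType k (R k a b) :=
  (Subalgebra.fg_iff_finiteType _).1 (Subalgebra.fg_def.2 ⟨_, Set.finite_range _, rfl⟩)

end Segre

section Dim

variable (k : Type u) [Field k] (a' b' : ℕ)

/-- Exponent vectors of `x_i y_0` and `x_0 y_{j+1}`. -/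
noncomputable def E : Fin (a' + 1) ⊕ Fin b' → (Fin (a' + 1) ⊕ Fin (b' + 1) →₀ ℕ) :=
  Sum.elim (fun i => Finsupp.single (Sum.inl i) 1 + Finsupp.single (Sum.inr 0) 1)
    (fun j => Finsupp.single (Sum.inl 0) 1 + Finsupp.single (Sum.inr j.succ) 1)

theorem E_sum_inr (d : (Fin (a' + 1) ⊕ Fin b') →₀ ℕ) (j : Fin b') :
    (d.sum (fun t n => n • E a' b' t)) (Sum.inr j.succ) = d (Sum.inr j) := by
  classical
  rw [Finsupp.sum_fintype d (fun t n => n • E a' b' t) (fun _ => zero_smul _ _),
    Finsupp.finsetSum_apply, Fintype.sum_sum_type]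
  simp [E, Finsupp.single_apply]

theorem E_sum_inl (d : (Fin (a' + 1) ⊕ Fin b') →₀ ℕ) (i : Fin (a' + 1)) :
    (d.sum (fun t n => n • E a' b' t)) (Sum.inl i) =
      d (Sum.inl i) + if (0 : Fin (a' + 1)) = i then ∑ j, d (Sum.inr j) else 0 := by
  classical
  rw [Finsupp.sum_fintype d (fun t n => n • E a' b' t) (fun _ => zero_smul _ _),
    Finsupp.finsetSum_apply, Fintype.sum_sum_type]
  simp [E, Finsupp.single_apply, Finset.sum_ite_eq']

theorem E_inj : Function.Injective
    (fun d : (Fin (a' + 1) ⊕ Fin b') →₀ ℕ => d.sum (fun t n => n • E a' b' t)) := by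
  intro d d' h
  simp only at h
  have hr : ∀ j, d (Sum.inr j) = d' (Sum.inr j) := fun j => by
    rw [← E_sum_inr a' b' d j, ← E_sum_inr a' b' d' j, h]
  ext t
  cases t with
  | inr j => exact hr j
  | inl i =>
    have h1 := E_sum_inl a' b' d i
    have h2 := E_sum_inl a' b' d' i
    rw [h] at h1
    rw [h1] at h2
    have h3 : ∑ j, d (Sum.inr j) = ∑ j, d' (Sum.inr j) :=
      Finset.sum_congr rfl (fun j _ => hr j)
    rw [h3] at h2
    exact Nat.add_right_cancel h2

/-- The algebraically independent family `x_i y_0`, `x_0 y_{j+1}` in the Segre ring. -/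
noncomputable def w : Fin (a' + 1) ⊕ Fin b' → R k (a' + 1) (b' + 1) :=
  Sum.elim (fun i => Z k _ _ i 0) (fun j => Z k _ _ 0 j.succ)

theorem w_algebraicIndependent : AlgebraicIndependent k (w k a' b') := by
  apply AlgebraicIndependent.of_comp (R k (a' + 1) (b' + 1)).val
  have : ((R k (a' + 1) (b' + 1)).val ∘ w k a' b') =
      fun t => monomial (E a' b' t) (1 : k) := by
    funext t
    cases t with
    | inl i => simp [w, Z, E, z_eq]
    | inr j => simp [w, Z, E, z_eq]
  rw [this]
  exact algebraicIndependent_monomial _ (E_inj a' b')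

theorem dim_R_ge :
    ((a' + b' + 1 : ℕ) : WithBot ℕ∞) ≤ ringKrullDim (R k (a' + 1) (b' + 1)) := by
  obtain ⟨n, hn1, hn2⟩ :=
    Groth.Agent.H54.exists_ringKrullDim_eq_trdeg k (R k (a' + 1) (b' + 1))
  rw [hn2]
  have h := (w_algebraicIndependent k a' b').lift_cardinalMk_le_trdeg
  rw [hn1] at h
  simp only [Cardinal.mk_sum, Cardinal.mk_fin, Cardinal.lift_add, Cardinal.lift_natCast] at h
  have h' : a' + 1 + b' ≤ n := by exact_mod_cast h
  have : a' + b' + 1 ≤ n := by omega
  exact_mod_cast this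

end Dim

/-- `c ≤ a + b - 2` bilinear forms on `k^a × k^b` (`a, b ≥ 1`, `k` algebraically closed) have a
common zero `(α, β)` with `α ≠ 0` and `β ≠ 0`. -/
theorem exists_rank_one_zero (k : Type u) [Field k] [IsAlgClosed k] (a' b' c : ℕ)
    (hc : c ≤ a' + b')
    (lam : Fin c → Fin (a' + 1) → Fin (b' + 1) → k) :
    ∃ (α : Fin (a' + 1) → k) (β : Fin (b' + 1) → k), α ≠ 0 ∧ β ≠ 0 ∧
      ∀ l, ∑ i, ∑ j, lam l i j * (α i * β j) = 0 := by
  classical
  obtain ⟨χ₀, hχ₀def⟩ : ∃ χ₀ : R k (a' + 1) (b' + 1) →ₐ[k] k,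
      χ₀ = (MvPolynomial.aeval (0 : Fin (a' + 1) ⊕ Fin (b' + 1) → k)).comp
        (R k (a' + 1) (b' + 1)).val := ⟨_, rfl⟩
  have hχ₀ : ∀ i j, χ₀ (Z k _ _ i j) = 0 := by
    intro i j
    simp [hχ₀def, Z, z]
  obtain ⟨L, hL⟩ : ∃ L : Fin c → R k (a' + 1) (b' + 1),
      L = fun l => ∑ i, ∑ j, lam l i j • Z k _ _ i j := ⟨_, rfl⟩
  have hχL : ∀ (χ : R k (a' + 1) (b' + 1) →ₐ[k] k) l,
      χ (L l) = ∑ i, ∑ j, lam l i j * χ (Z k _ _ i j) := by
    intro χ l
    simp [hL, map_sum, map_smul]
  have hdim : ((c + 1 : ℕ) : WithBot ℕ∞) ≤ ringKrullDim (R k (a' + 1) (b' + 1)) :=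
    le_trans (by exact_mod_cast (by omega : c + 1 ≤ a' + b' + 1)) (dim_R_ge k a' b')
  obtain ⟨χ, hne, hχ⟩ := exists_point_ne k (R k (a' + 1) (b' + 1)) c hdim χ₀ L
    (fun l => by rw [hχL]; simp [hχ₀])
  obtain ⟨i₀, j₀, h₀⟩ : ∃ i₀ j₀, χ (Z k _ _ i₀ j₀) ≠ 0 := by
    by_contra hall
    push Not at hall
    apply hne
    apply AlgHom.adjoin_ext
    rintro x ⟨⟨i, j⟩, rfl⟩
    exact (hall i j).trans (hχ₀ i j).symm
  have hrel : ∀ i j i' j',
      χ (Z k _ _ i j) * χ (Z k _ _ i' j') = χ (Z k _ _ i j') * χ (Z k _ _ i' j) := by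
    intro i j i' j'
    rw [← map_mul, ← map_mul, Z_rel]
  refine ⟨fun i => χ (Z k _ _ i j₀), fun j => χ (Z k _ _ i₀ j) / χ (Z k _ _ i₀ j₀), ?_, ?_, ?_⟩
  · intro h
    exact h₀ (congrFun h i₀)
  · intro h
    have := congrFun h j₀
    simp only [Pi.zero_apply] at this
    rw [div_self h₀] at this
    exact one_ne_zero this
  · intro l
    have := hχ l
    rw [hχL] at this
    rw [← this]
    refine Finset.sum_congr rfl fun i _ => Finset.sum_congr rfl fun j _ => ?_
    congr 1
    rw [← mul_div_assoc, hrel i j₀ i₀ j, mul_div_assoc, div_self h₀, mul_one]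

end Groth.Agent.H66.SegreCone
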