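import Groth.Prelude.Def_C1
import Groth.Prelude.Def_Cyc
import Groth.Prelude.Def_Pic
import Groth.Agent.H95.SecOrd
import Groth.Agent.H95.C1Cap
import Groth.Agent.H85.CycDivFin

/-!
# Pieces (LFS) + (SUPP) for S6466 (helper34)
-/

set_option autoImplicit false
set_option linter.style.haveILetI false
universe u
open CategoryTheory AlgebraicGeometry TopologicalSpace Opposite
open Groth.Agent.H95.SecOrd
open Groth.Agent.H18.TensorGen (IsGen exists_isGen)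

namespace Groth.Agent.H66.StubG6

variable {X D : Scheme.{u}}

/-- restriction of a generator identity to germs -/
theorem germ_top_eq {L : X.Modules} {V : X.Opens} {τ : Γ(L, V)} (hτ : IsGen L V τ)
    (σ : L.presheaf.obj (Opposite.op ⊤)) :
    ∃ c : Γ(X, V), ∀ (z : X) (hz : z ∈ V), L.presheaf.germ ⊤ z trivial σ =
      X.presheaf.germ V z hz c • L.presheaf.germ V z hz τ := by
  obtain ⟨c, hcν⟩ := (hτ V le_rfl).2 (L.presheaf.map (homOfLE (le_top : V ≤ ⊤)).op σ)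
  have hcν' : c • τ = L.presheaf.map (homOfLE (le_top : V ≤ ⊤)).op σ := by
    have h0 : c • L.presheaf.map (homOfLE (le_rfl : V ≤ V)).op τ =
        L.presheaf.map (homOfLE (le_top : V ≤ ⊤)).op σ := hcν
    have h1 : L.presheaf.map (homOfLE (le_rfl : V ≤ V)).op τ = τ := by
      have : (homOfLE (le_rfl : V ≤ V)).op = 𝟙 (Opposite.op V) := rfl
      rw [this, L.presheaf.map_id]
      rfl
    rw [h1] at h0
    exact h0
  refine ⟨c, fun z hz => ?_⟩
  rw [← Mero.germ_smul, hcν', TopCat.Presheaf.germ_res_apply]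

/-- (SUPP) -/
theorem secDivFun_global_eq_zero (δ : X → ℤ) {L : X.Modules} (hL : PicF.IsInvertible L)
    (σ : L.presheaf.obj (Opposite.op ⊤)) (ζ ξ : X)
    (hξ : (Submodule.Quotient.mk ((L.presheaf.germ ⊤ ξ trivial) σ) : Cyc.secFibre L ξ) ≠ 0) :
    Cyc.secDivFun δ L ζ (Submodule.Quotient.mk ((L.presheaf.germ ⊤ ζ trivial) σ)) ξ = 0 := by
  unfold Cyc.secDivFun
  split_ifs with h
  · obtain ⟨V, τ, hξV, hτ⟩ := exists_isGen hL ξ
    have hζV : ζ ∈ V := h.1.mem_open V.2 hξV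
    obtain ⟨c, hgerm⟩ := germ_top_eq hτ σ
    have hζ' : (Submodule.Quotient.mk ((L.presheaf.germ ⊤ ζ trivial) σ) : Cyc.secFibre L ζ) =
        X.presheaf.germ V ζ hζV c •
          (Submodule.Quotient.mk (L.presheaf.germ V ζ hζV τ) : Cyc.secFibre L ζ) := by
      rw [hgerm ζ hζV, Submodule.Quotient.mk_smul]
    have hξ' : (Submodule.Quotient.mk ((L.presheaf.germ ⊤ ξ trivial) σ) : Cyc.secFibre L ξ) =
        X.presheaf.germ V ξ hξV c •
          (Submodule.Quotient.mk (L.presheaf.germ V ξ hξV τ) : Cyc.secFibre L ξ) := by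
      rw [hgerm ξ hξV, Submodule.Quotient.mk_smul]
    have hcu : IsUnit (X.presheaf.germ V ξ hξV c) :=
      isUnit_of_mk_ne_zero ξ hξV _ hξ _ hξ'
    rw [secOrdAt_eq_of_isGen hτ h.1 hξV hζV _ _ hζ', ← specMap_germ h.1 hξV hζV c]
    exact ordAt_specMap_unit h.1 hcu
  · rfl

/-- (LFS) -/
theorem locallyFinite_secDivFun (δ : X → ℤ) (hX : Cyc.IsSetup X δ) {L : X.Modules}
    (hL : PicF.IsInvertible L) (ζ : X) (s : Cyc.secFibre L ζ) (hs : s ≠ 0) (x : X) :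
    ∃ U : Set X, IsOpen U ∧ x ∈ U ∧
      {ξ : X | Cyc.secDivFun δ L ζ s ξ ≠ 0 ∧ (closure {ξ} ∩ U).Nonempty}.Finite := by
  obtain ⟨V, τ, hxV, hτ⟩ := exists_isGen hL x
  -- a point whose closure meets an open set lies in it
  have hmeet : ∀ (W : Set X), IsOpen W → ∀ ξ : X, (closure {ξ} ∩ W).Nonempty → ξ ∈ W := by
    intro W hW ξ ⟨y, hy1, hy2⟩
    have hsp : ξ ⤳ y := specializes_iff_mem_closure.mpr hy1
    exact hsp.mem_open hW hy2
  have hne : ∀ ξ : X, Cyc.secDivFun δ L ζ s ξ ≠ 0 → ζ ⤳ ξ ∧ δ ξ + 1 = δ ζ := by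
    intro ξ hξ
    unfold Cyc.secDivFun at hξ
    by_contra hcon
    exact hξ (dif_neg hcon)
  by_cases hζV : ζ ∈ V
  · obtain ⟨ψ, hψ⟩ := exists_eq_smul_mk hτ ζ hζV s
    have hψu : IsUnit ψ := isUnit_of_mk_ne_zero ζ hζV s hs ψ hψ
    have hψ0 : X.residue ζ ψ ≠ 0 := residue_ne_zero_of_isUnit hψu
    obtain ⟨V', hV'o, hxV', hfin⟩ :=
      Groth.Agent.H85.CycDivFin.divFun_support_locallyFinite δ hX ζ (X.residue ζ ψ) hψ0 x
    refine ⟨(V : Set X) ∩ V', V.2.inter hV'o, ⟨hxV, hxV'⟩, hfin.subset ?_⟩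
    rintro ξ ⟨hξ0, hξm⟩
    have hξU := hmeet _ (V.2.inter hV'o) ξ hξm
    have hc := hne ξ hξ0
    refine ⟨hξU.2, ?_⟩
    have e1 : Cyc.secDivFun δ L ζ s ξ = Cyc.divFun δ ζ (X.residue ζ ψ) ξ := by
      unfold Cyc.secDivFun Cyc.divFun
      rw [dif_pos hc, dif_pos hc]
      exact secOrdAt_eq_of_isGen hτ hc.1 hξU.1 hζV s ψ hψ
    rw [← e1]
    exact hξ0
  · refine ⟨(V : Set X), V.2, hxV, ?_⟩
    convert Set.finite_empty
    ext ξ
    simp only [Set.mem_setOf_eq, Set.mem_empty_iff_false, iff_false, not_and]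
    intro hξ0 hξm
    have hξV := hmeet _ V.2 ξ hξm
    exact hζV ((hne ξ hξ0).1.mem_open V.2 hξV)

end Groth.Agent.H66.StubG6
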