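import Mathlib.Algebra.Module.Submodule.Lattice
import Mathlib.SetTheory.Cardinal.Finite
import Mathlib.Algebra.Module.Submodule.Ker
import Mathlib.Data.Finset.Basic

set_option autoImplicit false
universe u v w

namespace Groth.Agent.H66

open Cardinal

/-- Sharp form: a vector space over `K` is not the union of `n ≤ #K` proper subspaces. -/
theorem exists_forall_notMem_of_card_le {ι : Type w} {K : Type u} {M : Type v} [Field K]
    [AddCommGroup M] [Module K M] (s : Finset ι) (p : ι → Submodule K M)
    (h₁ : ∀ i ∈ s, p i ≠ ⊤) (h₂ : (s.card : Cardinal.{u}) ≤ Cardinal.mk K) :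
    ∃ x : M, ∀ i ∈ s, x ∉ p i := by
  classical
  induction s using Finset.induction_on with
  | empty => exact ⟨0, by simp⟩
  | insert j s hj ih =>
    have hcard : ((s.card : Cardinal.{u}) + 1) ≤ Cardinal.mk K := by
      rw [Finset.card_insert_of_notMem hj] at h₂
      exact_mod_cast h₂
    have hlt : (s.card : Cardinal.{u}) < Cardinal.mk K :=
      lt_of_lt_of_le (by exact_mod_cast Nat.lt_succ_self s.card) hcard
    obtain ⟨x₀, hx₀⟩ := ih (fun i hi => h₁ i (Finset.mem_insert_of_mem hi)) hlt.le
    by_cases hxj : x₀ ∈ p j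
    · obtain ⟨y, hy⟩ : ∃ y, y ∉ p j := by
        by_contra hcon
        have hcon' : ∀ z, z ∈ p j := fun z => by
          by_contra hz
          exact hcon ⟨z, hz⟩
        exact h₁ j (Finset.mem_insert_self j s) (eq_top_iff.mpr fun z _ => hcon' z)
      by_contra hcon0
      have hcon : ∀ x : M, ∃ i ∈ insert j s, x ∈ p i := by
        intro x
        by_contra hx
        apply hcon0
        refine ⟨x, fun i hi hxi => hx ⟨i, hi, hxi⟩⟩
      -- every `y + t • x₀` lies in some `p i`, `i ∈ s`
      have hmem : ∀ t : K, ∃ i ∈ s, y + t • x₀ ∈ p i := by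
        intro t
        obtain ⟨i, hi, hi'⟩ := hcon (y + t • x₀)
        rcases Finset.mem_insert.mp hi with rfl | his
        · exfalso
          apply hy
          have := (p i).sub_mem hi' ((p i).smul_mem t hxj)
          simpa using this
        · exact ⟨i, his, hi'⟩
      choose f hfs hf using hmem
      have hinj : Function.Injective (fun t : K => (⟨f t, hfs t⟩ : s)) := by
        intro t₁ t₂ h12
        have h12' : f t₁ = f t₂ := congrArg Subtype.val h12
        by_contra hne
        have h1 := hf t₁
        have h2 := hf t₂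
        rw [h12'] at h1
        have h3 : (t₁ - t₂) • x₀ ∈ p (f t₂) := by
          have := (p (f t₂)).sub_mem h1 h2
          have e : y + t₁ • x₀ - (y + t₂ • x₀) = (t₁ - t₂) • x₀ := by
            rw [sub_smul, add_sub_add_left_eq_sub]
          rwa [e] at this
        have h4 : x₀ ∈ p (f t₂) := ((p (f t₂)).smul_mem_iff (sub_ne_zero.mpr hne)).mp h3
        exact hx₀ _ (hfs t₂) h4
      have hle : Cardinal.lift.{w} (Cardinal.mk K) ≤ Cardinal.lift.{u} (Cardinal.mk s) :=
        Cardinal.lift_mk_le_lift_mk_of_injective hinj
      rw [Cardinal.mk_coe_finset, Cardinal.lift_natCast] at hle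
      have hlt' := Cardinal.lift_lt.{u, w}.mpr hlt
      rw [Cardinal.lift_natCast] at hlt'
      exact absurd hle (not_le.mpr hlt')
    · refine ⟨x₀, fun i hi => ?_⟩
      rcases Finset.mem_insert.mp hi with rfl | his
      · exact hxj
      · exact hx₀ i his

end Groth.Agent.H66
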