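import Groth.Agent.H66.SyntLim5
import Groth.Agent.Lead.SyntLocal

set_option autoImplicit false
set_option linter.style.haveILetI false
universe u
open TensorProduct

namespace Groth.Agent.H66.SyntBC

open Groth.Agent.H66.RelGCI Groth.Agent.H66.RelCI Groth.Agent.H66.AwayTensor
  Groth.Agent.H9.FibDim

/-- relative global complete intersection presentations are stable under base change. -/
theorem isRelGCI_baseChange (R R' : Type u) [CommRing R] [CommRing R'] [Algebra R R'] (n c : ℕ)
    (F : Fin c → MvPolynomial (Fin n) R) (h : Synt.IsRelGCI R n c F) :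
    Synt.IsRelGCI R' n c (fun t => MvPolynomial.map (algebraMap R R') (F t)) := by
  apply isRelGCI_of_tfd_le
  intro q
  rw [tfd_natMap R R' n c F q]
  exact tfd_le_of_isRelGCI R n c F h _

/-- a finite cover of a syntomic algebra by relative global complete intersection charts. -/
theorem exists_finite_charts {R S : Type u} [CommRing R] [CommRing S] [Algebra R S]
    (h : Synt.IsSyntomic R S) :
    ∃ gs : Finset S, Ideal.span (gs : Set S) = ⊤ ∧ ∀ g ∈ gs, ∃ (n c : ℕ)
      (F : Fin c → MvPolynomial (Fin n) R), Synt.IsRelGCI R n c F ∧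
      Nonempty (Localization.Away g ≃ₐ[R] Synt.RelGCIRing R n c F) := by
  obtain ⟨G, hGdef⟩ : ∃ G : Set S, G = {g | ∃ (n c : ℕ)
      (F : Fin c → MvPolynomial (Fin n) R), Synt.IsRelGCI R n c F ∧
      Nonempty (Localization.Away g ≃ₐ[R] Synt.RelGCIRing R n c F)} := ⟨_, rfl⟩
  have hG : Ideal.span G = ⊤ := by
    by_contra hne
    obtain ⟨M, hM, hle⟩ := Ideal.exists_le_maximal _ hne
    obtain ⟨g, hgM, n, c, F, hrel, he⟩ := exists_relGCI_of_isSyntomic h ⟨M, hM.isPrime⟩
    refine hgM (hle (Ideal.subset_span ?_))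
    rw [hGdef]
    exact ⟨n, c, F, hrel, he⟩
  have h1 : (1 : S) ∈ Ideal.span G := by rw [hG]; trivial
  obtain ⟨gs, hgsG, h1gs⟩ := Submodule.mem_span_finite_of_mem_span h1
  refine ⟨gs, (Ideal.eq_top_iff_one _).mpr h1gs, fun g hg => ?_⟩
  have := hgsG hg
  rw [hGdef] at this
  exact this

/-- **Syntomic algebras are stable under base change.** -/
theorem isSyntomic_baseChange (R S R' : Type u) [CommRing R] [CommRing S] [CommRing R']
    [Algebra R S] [Algebra R R'] (h : Synt.IsSyntomic R S) :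
    Synt.IsSyntomic R' (R' ⊗[R] S) := by
  classical
  obtain ⟨gs, hgs, hch⟩ := exists_finite_charts h
  refine Groth.Agent.S9146.result R' (R' ⊗[R] S) (gs.image (fun g : S => (1 : R') ⊗ₜ[R] g)) ?_ ?_
  · rw [Finset.coe_image]
    have h2 : Ideal.map (Algebra.TensorProduct.includeRight : S →ₐ[R] R' ⊗[R] S).toRingHom
        (Ideal.span (gs : Set S)) = ⊤ := by
      rw [hgs, Ideal.eq_top_iff_one]
      have := Ideal.mem_map_of_mem
        (Algebra.TensorProduct.includeRight : S →ₐ[R] R' ⊗[R] S).toRingHom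
        (Submodule.mem_top : (1 : S) ∈ (⊤ : Ideal S))
      rw [map_one] at this
      exact this
    rw [Ideal.map_span] at h2
    exact h2
  · intro g' hg'
    obtain ⟨g, hg, rfl⟩ := Finset.mem_image.1 hg'
    obtain ⟨n, c, F, hrel, ⟨e⟩⟩ := hch g hg
    obtain ⟨ε⟩ := exists_away_tensor_equiv R R' S (R' ⊗[R] S) AlgEquiv.refl g
    have ε' : Localization.Away ((1 : R') ⊗ₜ[R] g) ≃ₐ[R'] R' ⊗[R] Localization.Away g := ε
    obtain ⟨eb, -⟩ := exists_baseChange_equiv R R' n c F
    have e2 : R' ⊗[R] Localization.Away g ≃ₐ[R'] R' ⊗[R] Synt.RelGCIRing R n c F :=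
      Algebra.TensorProduct.congr AlgEquiv.refl e
    exact isSyntomic_of_algEquiv ((ε'.trans e2).trans eb).symm
      (isSyntomic_of_isRelGCI R' n c _ (isRelGCI_baseChange R R' n c F hrel))

end Groth.Agent.H66.SyntBC
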