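import Groth.Agent.Lead.ColimDescent
import Groth.Agent.H66.RelGCI3

set_option autoImplicit false
universe u
open TensorProduct

namespace Groth.Agent.H66.SyntLim

open Groth.Agent.Lead.ColimDescent Groth.Agent.H66.RelGCI Groth.Agent.H9.FibDim

section Rm

variable {B : Type u} [CommRing B] (C : Type u) [CommRing C] [Algebra B C]
  {X Y Z : Type u} [CommRing X] [CommRing Y] [CommRing Z] [Algebra B X] [Algebra B Y] [Algebra B Z]

/-- transition map on `X ⊗[B] C`. -/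
noncomputable def Rm (φ : X →ₐ[B] Y) : X ⊗[B] C →ₐ[B] Y ⊗[B] C :=
  Algebra.TensorProduct.map φ (AlgHom.id B C)

lemma Rm_tmul (φ : X →ₐ[B] Y) (x : X) (c : C) : Rm C φ (x ⊗ₜ c) = φ x ⊗ₜ c := by
  simp [Rm]

lemma Rm_comm (φ : X →ₐ[B] Y) (z : X ⊗[B] C) :
    TensorProduct.comm B Y C (Rm C φ z) = T C φ (TensorProduct.comm B X C z) := by
  induction z using TensorProduct.induction_on with
  | zero => simp
  | tmul x c => rw [Rm_tmul, TensorProduct.comm_tmul, TensorProduct.comm_tmul, T_tmul]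
  | add z₁ z₂ h₁ h₂ => simp only [map_add, h₁, h₂]

lemma Rm_comp (ψ : Y →ₐ[B] Z) (φ : X →ₐ[B] Y) (z : X ⊗[B] C) :
    Rm C (ψ.comp φ) z = Rm C ψ (Rm C φ z) := by
  induction z using TensorProduct.induction_on with
  | zero => simp
  | tmul x c => rw [Rm_tmul, Rm_tmul, Rm_tmul, AlgHom.comp_apply]
  | add z₁ z₂ h₁ h₂ => simp only [map_add, h₁, h₂]

lemma Rm_smul (φ : X →ₐ[B] Y) (x : X) (z : X ⊗[B] C) :
    Rm C φ (x • z) = φ x • Rm C φ z := by
  induction z using TensorProduct.induction_on with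
  | zero => simp
  | tmul x' c => rw [TensorProduct.smul_tmul', Rm_tmul, Rm_tmul, TensorProduct.smul_tmul',
      smul_eq_mul, smul_eq_mul, map_mul]
  | add z₁ z₂ h₁ h₂ => simp only [smul_add, map_add, h₁, h₂]

end Rm

section L

variable {ι : Type u} {B : Type u} [CommRing B] {R : ι → Type u} [∀ i, CommRing (R i)]
  [∀ i, Algebra B (R i)] {RA : Type u} [CommRing RA] [Algebra B RA] {ρ : ∀ i, R i →ₐ[B] RA}
  (C : Type u) [CommRing C] [Algebra B C]

lemma Rm_compat {i j : ι} (φ : R i →ₐ[B] R j) (hφ : (ρ j).comp φ = ρ i) (z : R i ⊗[B] C) :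
    Rm C (ρ j) (Rm C φ z) = Rm C (ρ i) z := by
  rw [← Rm_comp, hφ]

theorem t1L (H : Sys B R RA ρ) (z : RA ⊗[B] C) :
    ∃ i, ∃ z' : R i ⊗[B] C, Rm C (ρ i) z' = z := by
  obtain ⟨i, w', hw'⟩ := H.t1 C (TensorProduct.comm B RA C z)
  refine ⟨i, (TensorProduct.comm B (R i) C).symm w', ?_⟩
  apply (TensorProduct.comm B RA C).injective
  rw [Rm_comm, LinearEquiv.apply_symm_apply, hw']

theorem t2L (H : Sys B R RA ρ) (i : ι) (z' : R i ⊗[B] C) (hz : Rm C (ρ i) z' = 0) :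
    ∃ j, ∃ φ : R i →ₐ[B] R j, (ρ j).comp φ = ρ i ∧ Rm C φ z' = 0 := by
  have h0 : T C (ρ i) (TensorProduct.comm B (R i) C z') = 0 := by
    rw [← Rm_comm, hz, map_zero]
  obtain ⟨j, φ, c, hk⟩ := H.t2 C i _ h0
  refine ⟨j, φ, c, ?_⟩
  apply (TensorProduct.comm B (R j) C).injective
  rw [Rm_comm, hk, map_zero]

theorem killL_finset (H : Sys B R RA ρ) (i : ι) (s : Finset (R i ⊗[B] C))
    (hs : ∀ w ∈ s, Rm C (ρ i) w = 0) :
    ∃ j, ∃ φ : R i →ₐ[B] R j, (ρ j).comp φ = ρ i ∧ ∀ w ∈ s, Rm C φ w = 0 := by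
  classical
  induction s using Finset.induction_on with
  | empty => exact ⟨i, AlgHom.id _ _, AlgHom.comp_id _, by simp⟩
  | insert q S' hq ih =>
    obtain ⟨j, φ, c, hk⟩ := ih (fun x hx => hs x (Finset.mem_insert_of_mem hx))
    have hq0 : Rm C (ρ j) (Rm C φ q) = 0 := by
      rw [Rm_compat C φ c]
      exact hs q (Finset.mem_insert_self _ _)
    obtain ⟨j', ψ, cψ, hk'⟩ := t2L C H j _ hq0
    refine ⟨j', ψ.comp φ, by rw [← AlgHom.comp_assoc, cψ, c], ?_⟩
    intro q' hq'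
    rw [Rm_comp]
    rcases Finset.mem_insert.1 hq' with rfl | hq'
    · exact hk'
    · rw [hk q' hq', map_zero]

/-- stable lifting of finitely many elements. -/
theorem liftL_finset (H : Sys B R RA ρ) {α : Type*} (s : Finset α) (c : α → RA ⊗[B] C) :
    ∃ i, ∀ a ∈ s, c a ∈ Set.range (Rm C (ρ i)) := by
  refine H.common s (fun a i => c a ∈ Set.range (Rm C (ρ i))) ?_ ?_
  · rintro a _ i j φ hc ⟨b', hb'⟩
    exact ⟨Rm C φ b', by rw [Rm_compat C φ hc, hb']⟩
  · intro a _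
    obtain ⟨i, b', h⟩ := t1L C H (c a)
    exact ⟨i, b', h⟩

/-- unit ideal generated by base-level elements descends to a finite stage, stably. -/
theorem exists_span_eq_top (H : Sys B R RA ρ) (s : Finset C)
    (hs : Ideal.span ((fun g : C => (1 : RA) ⊗ₜ[B] g) '' (s : Set C)) = ⊤) :
    ∃ i, ∀ j (φ : R i →ₐ[B] R j), (ρ j).comp φ = ρ i →
      Ideal.span ((fun g : C => (1 : R j) ⊗ₜ[B] g) '' (s : Set C)) = ⊤ := by
  classical
  have h1 : (1 : RA ⊗[B] C) ∈ Ideal.span ((fun g : C => (1 : RA) ⊗ₜ[B] g) '' (s : Set C)) := by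
    rw [hs]; trivial
  obtain ⟨cf, hcf⟩ := (Submodule.mem_span_image_finset_iff_exists_fun' (R := RA ⊗[B] C)).mp h1
  obtain ⟨i₀, hi₀⟩ := liftL_finset C H s cf
  choose! cf' hcf' using hi₀
  have hw : Rm C (ρ i₀) (∑ g ∈ s, cf' g * ((1 : R i₀) ⊗ₜ[B] g) - 1) = 0 := by
    rw [map_sub, map_sum, map_one, sub_eq_zero, ← hcf]
    refine Finset.sum_congr rfl (fun g hg => ?_)
    rw [map_mul, hcf' g hg, Rm_tmul, map_one, smul_eq_mul]
  obtain ⟨i₁, φ₁, c₁, hk₁⟩ := t2L C H i₀ _ hw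
  refine ⟨i₁, fun j φ hφ => ?_⟩
  rw [Ideal.eq_top_iff_one]
  refine (Submodule.mem_span_image_finset_iff_exists_fun' (R := R j ⊗[B] C)).mpr
    ⟨fun g => Rm C φ (Rm C φ₁ (cf' g)), ?_⟩
  have h2 := congrArg (Rm C φ) hk₁
  rw [map_zero, map_sub, map_sub, map_one, map_one, sub_eq_zero, map_sum, map_sum] at h2
  rw [← h2]
  refine Finset.sum_congr rfl (fun g _ => ?_)
  rw [map_mul, map_mul, Rm_tmul, Rm_tmul, map_one, map_one, smul_eq_mul]

/-- the relative global complete intersection property of a base-level presentation descends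
to a finite stage, stably. -/
theorem exists_isRelGCI (H : Sys B R RA ρ) (n c : ℕ) (F₀ : Fin c → MvPolynomial (Fin n) B)
    (h : Synt.IsRelGCI RA n c (fun t => MvPolynomial.map (algebraMap B RA) (F₀ t))) :
    ∃ i, ∀ j (φ : R i →ₐ[B] R j), (ρ j).comp φ = ρ i →
      Synt.IsRelGCI (R j) n c (fun t => MvPolynomial.map (algebraMap B (R j)) (F₀ t)) := by
  classical
  let W₀ : Set (PrimeSpectrum (Synt.RelGCIRing B n c F₀)) :=
    {q | c ≤ n ∧ tfd (PrimeSpectrum.comap (algebraMap B (Synt.RelGCIRing B n c F₀))) q ≤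
      ((n - c : ℕ) : WithBot ℕ∞)}
  have hW₀ : IsOpen W₀ := by
    by_cases hcn : c ≤ n
    · have : W₀ = {q | tfd (PrimeSpectrum.comap (algebraMap B (Synt.RelGCIRing B n c F₀))) q ≤
          ((n - c : ℕ) : WithBot ℕ∞)} := by
        ext q; simp [W₀, hcn]
      rw [this]
      exact isOpen_setOf_tfd_le B (Synt.RelGCIRing B n c F₀) (n - c)
    · have : W₀ = ∅ := by
        ext q; simp [W₀, hcn]
      rw [this]
      exact isOpen_empty
  obtain ⟨J₀, hJ₀⟩ := (PrimeSpectrum.isClosed_iff_zeroLocus_ideal _).mp hW₀.isClosed_compl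
  have hJtop : J₀.map (natMap (algebraMap B RA) n c F₀) = ⊤ := by
    apply map_eq_top_of_forall_comap_not_le
    intro q hle
    have h1 : PrimeSpectrum.comap (natMap (algebraMap B RA) n c F₀) q ∈
        PrimeSpectrum.zeroLocus (J₀ : Set (Synt.RelGCIRing B n c F₀)) := hle
    rw [← hJ₀] at h1
    apply h1
    have h2 := tfd_le_of_isRelGCI RA n c _ h q
    rw [tfd_natMap B RA n c F₀ q] at h2
    exact h2
  -- finitely many elements of `J₀` suffice
  have h1 : (1 : Synt.RelGCIRing RA n c (fun t => MvPolynomial.map (algebraMap B RA) (F₀ t))) ∈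
      Ideal.span ((natMap (algebraMap B RA) n c F₀) '' (J₀ : Set (Synt.RelGCIRing B n c F₀))) := by
    have : Ideal.span ((natMap (algebraMap B RA) n c F₀) '' (J₀ : Set (Synt.RelGCIRing B n c F₀))) =
        J₀.map (natMap (algebraMap B RA) n c F₀) := rfl
    rw [this, hJtop]; trivial
  obtain ⟨T, hT, h1T⟩ := Submodule.mem_span_finite_of_mem_span h1
  obtain ⟨s, hsJ, rfl⟩ := Finset.subset_set_image_iff.mp hT
  obtain ⟨eA, heA⟩ := exists_baseChange_equiv B RA n c F₀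
  have hsA : Ideal.span ((fun g : Synt.RelGCIRing B n c F₀ => (1 : RA) ⊗ₜ[B] g) '' (s : Set _)) = ⊤ := by
    have h3 : Ideal.span ((natMap (algebraMap B RA) n c F₀) '' (s : Set (Synt.RelGCIRing B n c F₀))) = ⊤ := by
      rw [Ideal.eq_top_iff_one]
      rw [Finset.coe_image] at h1T
      exact h1T
    have h4 := congrArg (Ideal.map eA.symm.toRingEquiv) h3
    rw [Ideal.map_top, Ideal.map_span, ← Set.image_comp] at h4
    rw [← h4]
    congr 1
    apply Set.image_congr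
    intro g _
    simp only [Function.comp_apply]
    rw [← heA g]
    exact (eA.symm_apply_apply _).symm
  obtain ⟨i, hi⟩ := exists_span_eq_top (Synt.RelGCIRing B n c F₀) H s hsA
  refine ⟨i, fun j φ hφ => ?_⟩
  have hsj := hi j φ hφ
  obtain ⟨ej, hej⟩ := exists_baseChange_equiv B (R j) n c F₀
  have hJj : J₀.map (natMap (algebraMap B (R j)) n c F₀) = ⊤ := by
    have h4 := congrArg (Ideal.map ej.toRingEquiv) hsj
    rw [Ideal.map_top, Ideal.map_span, ← Set.image_comp] at h4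
    rw [eq_top_iff, ← h4, Ideal.span_le]
    rintro _ ⟨g, hg, rfl⟩
    simp only [Function.comp_apply]
    have : ej.toRingEquiv ((1 : R j) ⊗ₜ[B] g) = natMap (algebraMap B (R j)) n c F₀ g := hej g
    rw [this]
    exact Ideal.mem_map_of_mem _ (hsJ hg)
  apply isRelGCI_of_tfd_le
  intro q₁
  rw [tfd_natMap B (R j) n c F₀ q₁]
  by_contra hnot
  have h2 : PrimeSpectrum.comap (natMap (algebraMap B (R j)) n c F₀) q₁ ∈
      PrimeSpectrum.zeroLocus (J₀ : Set (Synt.RelGCIRing B n c F₀)) := by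
    rw [← hJ₀]; exact hnot
  have h3 : J₀.map (natMap (algebraMap B (R j)) n c F₀) ≤ q₁.asIdeal :=
    Ideal.map_le_iff_le_comap.mpr h2
  rw [hJj] at h3
  exact q₁.isPrime.ne_top (top_le_iff.mp h3)

end L

end Groth.Agent.H66.SyntLim
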