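import Groth.Agent.H66.SyntLim1

set_option autoImplicit false
universe u
open TensorProduct

namespace Groth.Agent.H66.SyntLim

open Groth.Agent.Lead.ColimDescent

section Ext

variable {B : Type u} [CommRing B] (D L : Type u) [CommRing D] [CommRing L] [Algebra B D] [Algebra B L]
  {X Y : Type u} [CommRing X] [CommRing Y] [Algebra B X] [Algebra B Y]

/-- extension of `σ : D → X ⊗ L` to an `X`-algebra map `X ⊗ D → X ⊗ L`. -/
noncomputable def ext (σ : D →ₐ[B] X ⊗[B] L) : X ⊗[B] D →ₐ[X] X ⊗[B] L :=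
  Algebra.TensorProduct.lift (Algebra.ofId X (X ⊗[B] L)) σ (fun _ _ => Commute.all _ _)

lemma ext_tmul (σ : D →ₐ[B] X ⊗[B] L) (x : X) (d : D) : ext D L σ (x ⊗ₜ d) = x • σ d := by
  rw [ext, Algebra.TensorProduct.lift_tmul, Algebra.ofId_apply, Algebra.smul_def]

lemma Rm_ext (φ : X →ₐ[B] Y) (σ : D →ₐ[B] X ⊗[B] L) (z : X ⊗[B] D) :
    Rm L φ (ext D L σ z) = ext D L ((Rm L φ).comp σ) (Rm D φ z) := by
  induction z using TensorProduct.induction_on with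
  | zero => simp
  | tmul x d => rw [ext_tmul, Rm_smul, Rm_tmul, ext_tmul, AlgHom.comp_apply]
  | add z₁ z₂ h₁ h₂ => simp only [map_add, h₁, h₂]

/-- `τ` is a left inverse of `σ` after extension. -/
def Inv (σ : D →ₐ[B] X ⊗[B] L) (τ : L →ₐ[B] X ⊗[B] D) : Prop :=
  ∀ d : D, ext L D τ (σ d) = (1 : X) ⊗ₜ[B] d

variable {D L}

lemma Inv.map {σ : D →ₐ[B] X ⊗[B] L} {τ : L →ₐ[B] X ⊗[B] D} (h : Inv D L σ τ) (φ : X →ₐ[B] Y) :
    Inv D L ((Rm L φ).comp σ) ((Rm D φ).comp τ) := by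
  intro d
  rw [AlgHom.comp_apply, ← Rm_ext, h d, Rm_tmul, map_one]

lemma Inv.ext_ext {σ : D →ₐ[B] X ⊗[B] L} {τ : L →ₐ[B] X ⊗[B] D} (h : Inv D L σ τ)
    (z : X ⊗[B] D) : ext L D τ (ext D L σ z) = z := by
  induction z using TensorProduct.induction_on with
  | zero => simp
  | tmul x d => rw [ext_tmul, map_smul, h d, TensorProduct.smul_tmul', smul_eq_mul, mul_one]
  | add z₁ z₂ h₁ h₂ => simp only [map_add, h₁, h₂]

end Ext

section Y

variable {ι : Type u} {B : Type u} [CommRing B] {R : ι → Type u} [∀ i, CommRing (R i)]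
  [∀ i, Algebra B (R i)] {RA : Type u} [CommRing RA] [Algebra B RA] {ρ : ∀ i, R i →ₐ[B] RA}
  (D C : Type u) [CommRing D] [CommRing C] [Algebra B D] [Algebra B C]

theorem factor (H : Sys B R RA ρ) [Algebra.FinitePresentation B D] (σ : D →ₐ[B] RA ⊗[B] C) :
    ∃ i, ∃ σ' : D →ₐ[B] R i ⊗[B] C, (Rm C (ρ i)).comp σ' = σ := by
  classical
  obtain ⟨n, fp, hfp, hker⟩ := Algebra.FinitePresentation.out (R := B) (A := D)
  obtain ⟨S, hS⟩ := hker
  obtain ⟨i, hi⟩ := liftL_finset C H (Finset.univ : Finset (Fin n))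
    (fun k => σ (fp (MvPolynomial.X k)))
  choose β hβ using fun k : Fin n => hi k (Finset.mem_univ k)
  let τ : MvPolynomial (Fin n) B →ₐ[B] R i ⊗[B] C := MvPolynomial.aeval β
  have hτ : (Rm C (ρ i)).comp τ = σ.comp fp := by
    apply MvPolynomial.algHom_ext
    intro k
    simp [τ, hβ]
  obtain ⟨j, φ, c, hk⟩ := killL_finset C H i (S.image τ) (by
    intro w hw
    obtain ⟨q, hq, rfl⟩ := Finset.mem_image.1 hw
    have hfq : fp q = 0 := by
      have hmem : q ∈ RingHom.ker fp.toRingHom := by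
        rw [← hS]; exact Ideal.subset_span hq
      exact hmem
    have h2 := DFunLike.congr_fun hτ q
    simp only [AlgHom.comp_apply] at h2
    rw [h2, hfq, map_zero])
  have hτ' : RingHom.ker fp.toRingHom ≤ RingHom.ker ((Rm C φ).comp τ).toRingHom := by
    rw [← hS]
    exact Ideal.span_le.2 (fun q hq => hk _ (Finset.mem_image_of_mem _ hq))
  refine ⟨j, AlgHom.liftOfSurjective fp hfp ((Rm C φ).comp τ) hτ', ?_⟩
  apply AlgHom.ext
  intro d
  obtain ⟨p, rfl⟩ := hfp d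
  rw [AlgHom.comp_apply, AlgHom.liftOfSurjective_apply, AlgHom.comp_apply, Rm_compat C φ c]
  have h2 := DFunLike.congr_fun hτ p
  simpa only [AlgHom.comp_apply] using h2

theorem equalize (H : Sys B R RA ρ) [Algebra.FiniteType B D] (i : ι)
    (σ σ' : D →ₐ[B] R i ⊗[B] C) (h : (Rm C (ρ i)).comp σ = (Rm C (ρ i)).comp σ') :
    ∃ j, ∃ φ : R i →ₐ[B] R j, (ρ j).comp φ = ρ i ∧ (Rm C φ).comp σ = (Rm C φ).comp σ' := by
  classical
  obtain ⟨s, hs⟩ := (Algebra.FiniteType.out : (⊤ : Subalgebra B D).FG)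
  obtain ⟨j, φ, c, hk⟩ := killL_finset C H i (s.image (fun d => σ d - σ' d)) (by
    intro w hw
    obtain ⟨d, hd, rfl⟩ := Finset.mem_image.1 hw
    have h2 := DFunLike.congr_fun h d
    simp only [AlgHom.comp_apply] at h2
    rw [map_sub, h2, sub_self])
  refine ⟨j, φ, c, AlgHom.ext_of_adjoin_eq_top hs ?_⟩
  intro d hd
  have h3 := hk _ (Finset.mem_image_of_mem _ hd)
  rw [map_sub, sub_eq_zero] at h3
  simpa only [AlgHom.comp_apply] using h3

lemma comp_compat {i j : ι} (φ : R i →ₐ[B] R j) (hφ : (ρ j).comp φ = ρ i)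
    (σ : D →ₐ[B] R i ⊗[B] C) :
    (Rm C (ρ j)).comp ((Rm C φ).comp σ) = (Rm C (ρ i)).comp σ := by
  apply AlgHom.ext
  intro d
  simp only [AlgHom.comp_apply]
  rw [Rm_compat C φ hφ]

/-- isomorphisms of base changes of finitely presented algebras descend to a finite stage,
stably. -/
theorem exists_equiv (H : Sys B R RA ρ) (D L : Type u) [CommRing D] [CommRing L] [Algebra B D]
    [Algebra B L] [Algebra.FinitePresentation B D] [Algebra.FinitePresentation B L]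
    (E : RA ⊗[B] D ≃ₐ[RA] RA ⊗[B] L) :
    ∃ i, ∀ j (φ : R i →ₐ[B] R j), (ρ j).comp φ = ρ i →
      Nonempty (R j ⊗[B] D ≃ₐ[R j] R j ⊗[B] L) := by
  let σA : D →ₐ[B] RA ⊗[B] L :=
    (E.toAlgHom.restrictScalars B).comp Algebra.TensorProduct.includeRight
  let τA : L →ₐ[B] RA ⊗[B] D :=
    (E.symm.toAlgHom.restrictScalars B).comp Algebra.TensorProduct.includeRight
  have hσA1 : ∀ d, σA d = E ((1 : RA) ⊗ₜ[B] d) := fun d => rfl
  have hτA1 : ∀ l, τA l = E.symm ((1 : RA) ⊗ₜ[B] l) := fun l => rfl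
  have hσA : ∀ z, ext D L σA z = E z := by
    intro z
    induction z using TensorProduct.induction_on with
    | zero => simp
    | tmul x d =>
      rw [ext_tmul, hσA1, ← map_smul, TensorProduct.smul_tmul', smul_eq_mul, mul_one]
    | add z₁ z₂ h₁ h₂ => simp only [map_add, h₁, h₂]
  have hτA : ∀ z, ext L D τA z = E.symm z := by
    intro z
    induction z using TensorProduct.induction_on with
    | zero => simp
    | tmul x d =>
      rw [ext_tmul, hτA1, ← map_smul, TensorProduct.smul_tmul', smul_eq_mul, mul_one]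
    | add z₁ z₂ h₁ h₂ => simp only [map_add, h₁, h₂]
  have hInvA : Inv D L σA τA := fun d => by rw [hτA, hσA1, AlgEquiv.symm_apply_apply]
  have hInvA' : Inv L D τA σA := fun l => by rw [hσA, hτA1, AlgEquiv.apply_symm_apply]
  obtain ⟨i₁, σ₁, hσ₁⟩ := factor D L H σA
  obtain ⟨i₂, τ₂, hτ₂⟩ := factor L D H τA
  obtain ⟨i₃, φ₁, φ₂, c₁, c₂⟩ := H.dir i₁ i₂
  obtain ⟨σ₃, hσ₃def⟩ : ∃ σ₃ : D →ₐ[B] R i₃ ⊗[B] L, σ₃ = (Rm L φ₁).comp σ₁ := ⟨_, rfl⟩
  obtain ⟨τ₃, hτ₃def⟩ : ∃ τ₃ : L →ₐ[B] R i₃ ⊗[B] D, τ₃ = (Rm D φ₂).comp τ₂ := ⟨_, rfl⟩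
  have hσ₃ : (Rm L (ρ i₃)).comp σ₃ = σA := by rw [hσ₃def, comp_compat D L φ₁ c₁, hσ₁]
  have hτ₃ : (Rm D (ρ i₃)).comp τ₃ = τA := by rw [hτ₃def, comp_compat L D φ₂ c₂, hτ₂]
  -- first identity
  have hu : (Rm D (ρ i₃)).comp (((ext L D τ₃).restrictScalars B).comp σ₃) =
      (Rm D (ρ i₃)).comp (Algebra.TensorProduct.includeRight : D →ₐ[B] R i₃ ⊗[B] D) := by
    apply AlgHom.ext
    intro d
    simp only [AlgHom.comp_apply, AlgHom.restrictScalars_apply,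
      Algebra.TensorProduct.includeRight_apply]
    rw [Rm_ext, hτ₃, Rm_tmul, map_one]
    have h2 := DFunLike.congr_fun hσ₃ d
    simp only [AlgHom.comp_apply] at h2
    rw [h2]
    exact hInvA d
  obtain ⟨i₄, ψ₄, c₄, h₄⟩ := equalize D D H i₃ _ _ hu
  obtain ⟨σ₄, hσ₄def⟩ : ∃ σ₄ : D →ₐ[B] R i₄ ⊗[B] L, σ₄ = (Rm L ψ₄).comp σ₃ := ⟨_, rfl⟩
  obtain ⟨τ₄, hτ₄def⟩ : ∃ τ₄ : L →ₐ[B] R i₄ ⊗[B] D, τ₄ = (Rm D ψ₄).comp τ₃ := ⟨_, rfl⟩
  have hσ₄ : (Rm L (ρ i₄)).comp σ₄ = σA := by rw [hσ₄def, comp_compat D L ψ₄ c₄, hσ₃]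
  have hτ₄ : (Rm D (ρ i₄)).comp τ₄ = τA := by rw [hτ₄def, comp_compat L D ψ₄ c₄, hτ₃]
  have hInv₄ : Inv D L σ₄ τ₄ := by
    intro d
    rw [hσ₄def, hτ₄def, AlgHom.comp_apply, ← Rm_ext]
    have h2 := DFunLike.congr_fun h₄ d
    simp only [AlgHom.comp_apply, AlgHom.restrictScalars_apply,
      Algebra.TensorProduct.includeRight_apply] at h2
    rw [h2, Rm_tmul, map_one]
  -- second identity
  have hv : (Rm L (ρ i₄)).comp (((ext D L σ₄).restrictScalars B).comp τ₄) =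
      (Rm L (ρ i₄)).comp (Algebra.TensorProduct.includeRight : L →ₐ[B] R i₄ ⊗[B] L) := by
    apply AlgHom.ext
    intro l
    simp only [AlgHom.comp_apply, AlgHom.restrictScalars_apply,
      Algebra.TensorProduct.includeRight_apply]
    rw [Rm_ext, hσ₄, Rm_tmul, map_one]
    have h2 := DFunLike.congr_fun hτ₄ l
    simp only [AlgHom.comp_apply] at h2
    rw [h2]
    exact hInvA' l
  obtain ⟨i₅, ψ₅, c₅, h₅⟩ := equalize L L H i₄ _ _ hv
  have hInv₅ : Inv D L ((Rm L ψ₅).comp σ₄) ((Rm D ψ₅).comp τ₄) := hInv₄.map ψ₅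
  have hInv₅' : Inv L D ((Rm D ψ₅).comp τ₄) ((Rm L ψ₅).comp σ₄) := by
    intro l
    rw [AlgHom.comp_apply, ← Rm_ext]
    have h2 := DFunLike.congr_fun h₅ l
    simp only [AlgHom.comp_apply, AlgHom.restrictScalars_apply,
      Algebra.TensorProduct.includeRight_apply] at h2
    rw [h2, Rm_tmul, map_one]
  refine ⟨i₅, fun j φ hφ => ?_⟩
  have h1 := hInv₅.map φ
  have h2 := hInv₅'.map φ
  exact ⟨AlgEquiv.ofAlgHom (ext D L _) (ext L D _) (AlgHom.ext h2.ext_ext)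
    (AlgHom.ext h1.ext_ext)⟩

end Y

end Groth.Agent.H66.SyntLim
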