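import Groth.Agent.H66.SyntLim2

set_option autoImplicit false
set_option warn.classDefReducibility false
set_option linter.style.haveILetI false
universe u
open TensorProduct

namespace Groth.Agent.H66.SyntLim

open Groth.Agent.Lead.ColimDescent

section Kill

variable {ι : Type u} {B : Type u} [CommRing B] {R : ι → Type u} [∀ i, CommRing (R i)]
  [∀ i, Algebra B (R i)] {RA : Type u} [CommRing RA] [Algebra B RA] {ρ : ∀ i, R i →ₐ[B] RA}

theorem kill_finset (H : Sys B R RA ρ) (i : ι) (s : Finset (R i)) (hs : ∀ x ∈ s, ρ i x = 0) :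
    ∃ j, ∃ φ : R i →ₐ[B] R j, (ρ j).comp φ = ρ i ∧ ∀ x ∈ s, φ x = 0 := by
  classical
  induction s using Finset.induction_on with
  | empty => exact ⟨i, AlgHom.id _ _, AlgHom.comp_id _, by simp⟩
  | insert q S' hq ih =>
    obtain ⟨j, φ, c, hk⟩ := ih (fun x hx => hs x (Finset.mem_insert_of_mem hx))
    have hq0 : ρ j (φ q) = 0 := by
      have h2 := DFunLike.congr_fun c q
      rw [AlgHom.comp_apply] at h2
      rw [h2]
      exact hs q (Finset.mem_insert_self _ _)
    obtain ⟨j', ψ, cψ, hk'⟩ := H.ker j _ hq0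
    refine ⟨j', ψ.comp φ, by rw [← AlgHom.comp_assoc, cψ, c], ?_⟩
    intro q' hq'
    rw [AlgHom.comp_apply]
    rcases Finset.mem_insert.1 hq' with rfl | hq'
    · exact hk'
    · rw [hk q' hq', map_zero]

end Kill

section Rebase

variable {ι : Type u} {B : Type u} [CommRing B] {R : ι → Type u} [∀ i, CommRing (R i)]
  [∀ i, Algebra B (R i)] {RA : Type u} [CommRing RA] [Algebra B RA] (ρ : ∀ i, R i →ₐ[B] RA)
  {κ : Type u} (r : κ → RA)

/-- stages together with lifts of the chosen elements. -/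
abbrev Idx : Type u := Σ j : ι, {rr : κ → R j // ∀ ν, ρ j (rr ν) = r ν}

/-- the polynomial-algebra structure on a stage given by the lifts. -/
noncomputable def algIdx (i' : Idx ρ r) : Algebra (MvPolynomial κ B) (R i'.1) :=
  (MvPolynomial.aeval (R := B) i'.2.1).toRingHom.toAlgebra

/-- the polynomial-algebra structure on the colimit. -/
noncomputable def algA : Algebra (MvPolynomial κ B) RA :=
  (MvPolynomial.aeval (R := B) r).toRingHom.toAlgebra

lemma algIdx_algebraMap (i' : Idx ρ r) (p : MvPolynomial κ B) :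
    @algebraMap _ _ _ _ (algIdx ρ r i') p = MvPolynomial.aeval i'.2.1 p := rfl

lemma algA_algebraMap (p : MvPolynomial κ B) :
    @algebraMap _ _ _ _ (algA (B := B) r) p = MvPolynomial.aeval r p := rfl

lemma tower_idx (i' : Idx ρ r) :
    @IsScalarTower B (MvPolynomial κ B) (R i'.1) _ (algIdx ρ r i').toSMul _ := by
  letI := algIdx ρ r i'
  refine IsScalarTower.of_algebraMap_eq (fun b => ?_)
  rw [algIdx_algebraMap, MvPolynomial.algebraMap_eq, MvPolynomial.aeval_C]

lemma tower_A : @IsScalarTower B (MvPolynomial κ B) RA _ (algA (B := B) r).toSMul _ := by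
  letI := algA (B := B) r
  refine IsScalarTower.of_algebraMap_eq (fun b => ?_)
  rw [algA_algebraMap, MvPolynomial.algebraMap_eq, MvPolynomial.aeval_C]

/-- a `B`-algebra map between stages respecting the lifts is a polynomial-algebra map. -/
noncomputable def mkHom (i' i'' : Idx ρ r) (φ : R i'.1 →ₐ[B] R i''.1)
    (h : ∀ ν, φ (i'.2.1 ν) = i''.2.1 ν) :
    @AlgHom (MvPolynomial κ B) (R i'.1) (R i''.1) _ _ _ (algIdx ρ r i') (algIdx ρ r i'') :=
  letI := algIdx ρ r i'
  letI := algIdx ρ r i''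
  { φ.toRingHom with
    commutes' := fun p => by
      show φ (MvPolynomial.aeval i'.2.1 p) = MvPolynomial.aeval i''.2.1 p
      rw [MvPolynomial.comp_aeval_apply]
      have h2 : (fun ν => φ (i'.2.1 ν)) = i''.2.1 := funext h
      rw [h2] }

/-- the structure maps to the colimit as polynomial-algebra maps. -/
noncomputable def ρ' (i' : Idx ρ r) :
    @AlgHom (MvPolynomial κ B) (R i'.1) RA _ _ _ (algIdx ρ r i') (algA r) :=
  letI := algIdx ρ r i'
  letI := algA (B := B) r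
  { (ρ i'.1).toRingHom with
    commutes' := fun p => by
      show ρ i'.1 (MvPolynomial.aeval i'.2.1 p) = MvPolynomial.aeval r p
      rw [MvPolynomial.comp_aeval_apply]
      have h2 : (fun ν => ρ i'.1 (i'.2.1 ν)) = r := funext i'.2.2
      rw [h2] }

lemma ρ'_apply (i' : Idx ρ r) (x : R i'.1) : ρ' ρ r i' x = ρ i'.1 x := rfl

lemma mkHom_apply (i' i'' : Idx ρ r) (φ : R i'.1 →ₐ[B] R i''.1)
    (h : ∀ ν, φ (i'.2.1 ν) = i''.2.1 ν) (x : R i'.1) : mkHom ρ r i' i'' φ h x = φ x := rfl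

variable {ρ}

theorem rebase_sys [Fintype κ] (H : Sys B R RA ρ) :
    @Sys (Idx ρ r) (MvPolynomial κ B) _ (fun i' => R i'.1) _ (algIdx ρ r) RA _ (algA r)
      (ρ' ρ r) := by
  classical
  letI := algA (B := B) r
  letI : ∀ i' : Idx ρ r, Algebra (MvPolynomial κ B) (R i'.1) := algIdx ρ r
  have hne : Nonempty (Idx ρ r) := by
    obtain ⟨i, hi⟩ := H.common (Finset.univ : Finset κ) (fun ν i => r ν ∈ Set.range (ρ i))
      (by
        rintro ν _ i j φ c ⟨x, hx⟩
        refine ⟨φ x, ?_⟩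
        have h2 := DFunLike.congr_fun c x
        rw [AlgHom.comp_apply] at h2
        rw [h2, hx])
      (fun ν _ => by
        obtain ⟨i, x, hx⟩ := H.surj (r ν)
        exact ⟨i, x, hx⟩)
    choose rr hrr using fun ν => hi ν (Finset.mem_univ ν)
    exact ⟨⟨i, rr, hrr⟩⟩
  refine ⟨hne, ?_, ?_, ?_⟩
  · -- surj
    intro a
    obtain ⟨i₀, x, hx⟩ := H.surj a
    obtain ⟨⟨j₁, rr₁, hrr₁⟩⟩ := hne
    obtain ⟨k, φ₀, φ₁, c₀, c₁⟩ := H.dir i₀ j₁
    refine ⟨⟨k, fun ν => φ₁ (rr₁ ν), fun ν => ?_⟩, φ₀ x, ?_⟩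
    · have h2 := DFunLike.congr_fun c₁ (rr₁ ν)
      rw [AlgHom.comp_apply] at h2
      rw [h2, hrr₁]
    · rw [ρ'_apply]
      have h2 := DFunLike.congr_fun c₀ x
      rw [AlgHom.comp_apply] at h2
      show ρ k (φ₀ x) = a
      rw [h2, hx]
  · -- dir
    rintro ⟨j, rr, hrr⟩ ⟨j', rr', hrr'⟩
    obtain ⟨k, φ, φ', c, c'⟩ := H.dir j j'
    have hc : ∀ x, ρ k (φ x) = ρ j x := fun x => by
      have h2 := DFunLike.congr_fun c x
      rwa [AlgHom.comp_apply] at h2
    have hc' : ∀ x, ρ k (φ' x) = ρ j' x := fun x => by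
      have h2 := DFunLike.congr_fun c' x
      rwa [AlgHom.comp_apply] at h2
    obtain ⟨k', ψ, cψ, hk⟩ := kill_finset H k
      (Finset.univ.image (fun ν => φ (rr ν) - φ' (rr' ν))) (by
        intro x hx
        obtain ⟨ν, -, rfl⟩ := Finset.mem_image.1 hx
        rw [map_sub, hc, hc', hrr, hrr', sub_self])
    have hcψ : ∀ x, ρ k' (ψ x) = ρ k x := fun x => by
      have h2 := DFunLike.congr_fun cψ x
      rwa [AlgHom.comp_apply] at h2
    have heq : ∀ ν, ψ (φ' (rr' ν)) = ψ (φ (rr ν)) := by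
      intro ν
      have h3 := hk _ (Finset.mem_image_of_mem _ (Finset.mem_univ ν))
      rw [map_sub, sub_eq_zero] at h3
      exact h3.symm
    refine ⟨⟨k', fun ν => ψ (φ (rr ν)), fun ν => by rw [hcψ, hc, hrr]⟩,
      mkHom ρ r ⟨j, rr, hrr⟩ ⟨k', fun ν => ψ (φ (rr ν)), fun ν => by rw [hcψ, hc, hrr]⟩
        (ψ.comp φ) (fun ν => rfl),
      mkHom ρ r ⟨j', rr', hrr'⟩ ⟨k', fun ν => ψ (φ (rr ν)), fun ν => by rw [hcψ, hc, hrr]⟩
        (ψ.comp φ') (fun ν => heq ν), ?_, ?_⟩
    · apply AlgHom.ext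
      intro x
      show ρ k' (ψ (φ x)) = ρ j x
      rw [hcψ, hc]
    · apply AlgHom.ext
      intro x
      show ρ k' (ψ (φ' x)) = ρ j' x
      rw [hcψ, hc']
  · -- ker
    rintro ⟨j, rr, hrr⟩ x hx
    have hx' : ρ j x = 0 := hx
    obtain ⟨k, φ, c, hk⟩ := H.ker j x hx'
    have hc : ∀ x, ρ k (φ x) = ρ j x := fun x => by
      have h2 := DFunLike.congr_fun c x
      rwa [AlgHom.comp_apply] at h2
    refine ⟨⟨k, fun ν => φ (rr ν), fun ν => by rw [hc, hrr]⟩,
      mkHom ρ r ⟨j, rr, hrr⟩ ⟨k, fun ν => φ (rr ν), fun ν => by rw [hc, hrr]⟩ φ (fun ν => rfl),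
      ?_, hk⟩
    apply AlgHom.ext
    intro x
    show ρ k (φ x) = ρ j x
    rw [hc]

end Rebase

end Groth.Agent.H66.SyntLim
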