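import Groth.Agent.H66.SyntLim3
import Groth.Agent.H66.AwayTensor
import Groth.Agent.H66.RelGCI5
import Groth.Agent.H66.RelCI4
import Groth.Agent.S9146

set_option autoImplicit false
universe u
open TensorProduct

namespace Groth.Agent.H66.SyntLim

open Groth.Agent.Lead.ColimDescent Groth.Agent.H66.RelGCI Groth.Agent.H66.RelCI
  Groth.Agent.H66.AwayTensor

section Xp

variable {ι : Type u} {B : Type u} [CommRing B] {R : ι → Type u} [∀ i, CommRing (R i)]
  [∀ i, Algebra B (R i)] {RA : Type u} [CommRing RA] [Algebra B RA] {ρ : ∀ i, R i →ₐ[B] RA}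

/-- descent of syntomicity when the charts are defined at base level. -/
theorem exists_syntomic_of_charts (H : Sys B R RA ρ) (C : Type u) [CommRing C] [Algebra B C]
    [Algebra.FinitePresentation B C] (gs : Finset C)
    (hspan : Ideal.span ((fun g : C => (1 : RA) ⊗ₜ[B] g) '' (gs : Set C)) = ⊤)
    (hch : ∀ g ∈ gs, ∃ (n c : ℕ) (F₀ : Fin c → MvPolynomial (Fin n) B),
      Synt.IsRelGCI RA n c (fun t => MvPolynomial.map (algebraMap B RA) (F₀ t)) ∧
      Nonempty (RA ⊗[B] Localization.Away g ≃ₐ[RA]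
        Synt.RelGCIRing RA n c (fun t => MvPolynomial.map (algebraMap B RA) (F₀ t)))) :
    ∃ i, Synt.IsSyntomic (R i) (R i ⊗[B] C) := by
  classical
  have hP : ∀ g ∈ gs, ∃ i, ∀ j (φ : R i →ₐ[B] R j), (ρ j).comp φ = ρ i →
      Synt.IsSyntomic (R j) (Localization.Away ((1 : R j) ⊗ₜ[B] g)) := by
    intro g hg
    obtain ⟨n, c, F₀, hrel, ⟨e⟩⟩ := hch g hg
    haveI : Algebra.FinitePresentation B (Synt.RelGCIRing B n c F₀) :=
      Algebra.FinitePresentation.quotient (Submodule.fg_span (Set.finite_range F₀))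
    haveI : Algebra.FinitePresentation C (Localization.Away g) :=
      IsLocalization.Away.finitePresentation g
    haveI : Algebra.FinitePresentation B (Localization.Away g) :=
      Algebra.FinitePresentation.trans B C (Localization.Away g)
    obtain ⟨eA, -⟩ := exists_baseChange_equiv B RA n c F₀
    obtain ⟨i₁, h₁⟩ := exists_equiv H (Synt.RelGCIRing B n c F₀) (Localization.Away g)
      (eA.trans e.symm)
    obtain ⟨i₂, h₂⟩ := exists_isRelGCI H n c F₀ hrel
    obtain ⟨i₃, φ₁, φ₂, c₁, c₂⟩ := H.dir i₁ i₂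
    refine ⟨i₃, fun j φ hφ => ?_⟩
    obtain ⟨E⟩ := h₁ j (φ.comp φ₁) (by rw [← AlgHom.comp_assoc, hφ, c₁])
    have hr := h₂ j (φ.comp φ₂) (by rw [← AlgHom.comp_assoc, hφ, c₂])
    obtain ⟨ej, -⟩ := exists_baseChange_equiv B (R j) n c F₀
    obtain ⟨ε⟩ := exists_away_tensor_equiv B (R j) C (R j ⊗[B] C) AlgEquiv.refl g
    have ε' : Localization.Away ((1 : R j) ⊗ₜ[B] g) ≃ₐ[R j] R j ⊗[B] Localization.Away g := ε
    exact isSyntomic_of_algEquiv ((ε'.trans E.symm).trans ej).symm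
      (isSyntomic_of_isRelGCI (R j) n c _ hr)
  obtain ⟨i₁, hi₁⟩ := H.common gs
    (fun g i => ∀ j (φ : R i →ₐ[B] R j), (ρ j).comp φ = ρ i →
      Synt.IsSyntomic (R j) (Localization.Away ((1 : R j) ⊗ₜ[B] g)))
    (by
      intro g _ i i₂ φ₀ c₀ hPi j φ hφ
      exact hPi j (φ.comp φ₀) (by rw [← AlgHom.comp_assoc, hφ, c₀]))
    hP
  obtain ⟨i₂, hi₂⟩ := exists_span_eq_top C H gs hspan
  obtain ⟨i, φ₁, φ₂, c₁, c₂⟩ := H.dir i₁ i₂
  refine ⟨i, Groth.Agent.S9146.result (R i) (R i ⊗[B] C)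
    (gs.image (fun g : C => (1 : R i) ⊗ₜ[B] g)) ?_ ?_⟩
  · rw [Finset.coe_image]
    exact hi₂ i φ₂ c₂
  · intro g' hg'
    obtain ⟨g, hg, rfl⟩ := Finset.mem_image.1 hg'
    exact hi₁ g hg i φ₁ c₁

end Xp

end Groth.Agent.H66.SyntLim
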