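import Groth.Agent.H66.SyntLim4

set_option autoImplicit false
set_option linter.style.haveILetI false
universe u
open TensorProduct

namespace Groth.Agent.H66.SyntLim

open Groth.Agent.Lead.ColimDescent Groth.Agent.H66.RelGCI Groth.Agent.H66.RelCI
  Groth.Agent.H66.AwayTensor

section Lift

variable {B : Type u} [CommRing B] {RA : Type u} [CommRing RA] [Algebra B RA]
  (C : Type u) [CommRing C] [Algebra B C]

/-- every tensor is defined over the polynomial algebra on finitely many elements. -/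
theorem exists_finset_tensor (z : RA ⊗[B] C) :
    ∃ Sz : Finset RA, ∀ (κ : Type u) (r : κ → RA), (↑Sz ⊆ Set.range r) →
      z ∈ Set.range (Algebra.TensorProduct.map
        (MvPolynomial.aeval r : MvPolynomial κ B →ₐ[B] RA) (AlgHom.id B C)) := by
  classical
  induction z using TensorProduct.induction_on with
  | zero => exact ⟨∅, fun κ r _ => ⟨0, map_zero _⟩⟩
  | tmul a c =>
    refine ⟨{a}, fun κ r hr => ?_⟩
    obtain ⟨ν, hν⟩ := hr (Finset.mem_singleton_self a)
    exact ⟨(MvPolynomial.X ν) ⊗ₜ[B] c, by simp [hν]⟩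
  | add z₁ z₂ h₁ h₂ =>
    obtain ⟨S₁, hS₁⟩ := h₁
    obtain ⟨S₂, hS₂⟩ := h₂
    refine ⟨S₁ ∪ S₂, fun κ r hr => ?_⟩
    obtain ⟨w₁, hw₁⟩ := hS₁ κ r (fun x hx => hr (by simp [Finset.mem_coe.1 hx]))
    obtain ⟨w₂, hw₂⟩ := hS₂ κ r (fun x hx => hr (by simp [Finset.mem_coe.1 hx]))
    exact ⟨w₁ + w₂, by rw [map_add, hw₁, hw₂]⟩

theorem exists_poly_lift {n : ℕ} (F : MvPolynomial (Fin n) RA) (κ : Type u) (r : κ → RA)
    (hr : (↑F.coeffs : Set RA) ⊆ Set.range r) :
    ∃ F₀ : MvPolynomial (Fin n) (MvPolynomial κ B),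
      MvPolynomial.map (MvPolynomial.aeval r : MvPolynomial κ B →ₐ[B] RA).toRingHom F₀ = F := by
  have : F ∈ Set.range (MvPolynomial.map
      (MvPolynomial.aeval r : MvPolynomial κ B →ₐ[B] RA).toRingHom) := by
    rw [MvPolynomial.mem_range_map_iff_coeffs_subset]
    intro x hx
    obtain ⟨ν, hν⟩ := hr hx
    exact ⟨MvPolynomial.X ν, by simp [hν]⟩
  exact this

end Lift

section X

variable {ι : Type u} {B : Type u} [CommRing B] {R : ι → Type u} [∀ i, CommRing (R i)]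
  [∀ i, Algebra B (R i)] {RA : Type u} [CommRing RA] [Algebra B RA] {ρ : ∀ i, R i →ₐ[B] RA}

set_option maxHeartbeats 800000 in
/-- **Limit descent of syntomic algebras** for a plain colimit system of `B`-algebras. -/
theorem exists_syntomic (H : Sys B R RA ρ) (C : Type u) [CommRing C] [Algebra B C]
    [Algebra.FinitePresentation B C] (h : Synt.IsSyntomic RA (RA ⊗[B] C)) :
    ∃ i, Synt.IsSyntomic (R i) (R i ⊗[B] C) := by
  classical
  obtain ⟨G, hGdef⟩ : ∃ G : Set (RA ⊗[B] C), G = {g | ∃ (n c : ℕ)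
      (F : Fin c → MvPolynomial (Fin n) RA), Synt.IsRelGCI RA n c F ∧
      Nonempty (Localization.Away g ≃ₐ[RA] Synt.RelGCIRing RA n c F)} := ⟨_, rfl⟩
  have hG : Ideal.span G = ⊤ := by
    by_contra hne
    obtain ⟨M, hM, hle⟩ := Ideal.exists_le_maximal _ hne
    obtain ⟨g, hgM, n, c, F, hrel, he⟩ := exists_relGCI_of_isSyntomic h ⟨M, hM.isPrime⟩
    refine hgM (hle (Ideal.subset_span ?_))
    rw [hGdef]
    exact ⟨n, c, F, hrel, he⟩
  have h1 : (1 : RA ⊗[B] C) ∈ Ideal.span G := by rw [hG]; trivial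
  obtain ⟨gs, hgsG, h1gs⟩ := Submodule.mem_span_finite_of_mem_span h1
  have hch : ∀ g : gs, ∃ (n c : ℕ) (F : Fin c → MvPolynomial (Fin n) RA),
      Synt.IsRelGCI RA n c F ∧
      Nonempty (Localization.Away g.1 ≃ₐ[RA] Synt.RelGCIRing RA n c F) := by
    intro g
    have := hgsG g.2
    rw [hGdef] at this
    exact this
  choose n c F hrel he using hch
  choose Sz hSz using fun g : gs => exists_finset_tensor (B := B) C g.1
  obtain ⟨Stot, hStot⟩ : ∃ Stot : Finset RA, Stot = Finset.univ.biUnion (fun g : gs =>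
      (Finset.univ.biUnion (fun t : Fin (c g) => (F g t).coeffs)) ∪ Sz g) := ⟨_, rfl⟩
  obtain ⟨r, hr⟩ : ∃ r : (↥Stot) → RA, r = Subtype.val := ⟨_, rfl⟩
  have hrange : Set.range r = ↑Stot := by rw [hr]; exact Subtype.range_coe
  have hF : ∀ (g : gs) (t : Fin (c g)), (↑(F g t).coeffs : Set RA) ⊆ Set.range r := by
    intro g t x hx
    rw [hrange, hStot]
    simp only [Finset.coe_biUnion, Finset.coe_univ, Set.mem_univ, Set.iUnion_true,
      Finset.coe_union, Set.mem_iUnion, Set.mem_union, Finset.mem_coe]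
    exact ⟨g, Or.inl ⟨t, hx⟩⟩
  have hS : ∀ g : gs, (↑(Sz g) : Set RA) ⊆ Set.range r := by
    intro g x hx
    rw [hrange, hStot]
    simp only [Finset.coe_biUnion, Finset.coe_univ, Set.mem_univ, Set.iUnion_true,
      Finset.coe_union, Set.mem_iUnion, Set.mem_union, Finset.mem_coe]
    exact ⟨g, Or.inr hx⟩
  choose F₀ hF₀ using fun (g : gs) (t : Fin (c g)) =>
    exists_poly_lift (B := B) (F g t) (↥Stot) r (hF g t)
  choose g₀ hg₀ using fun g : gs => hSz g (↥Stot) r (hS g)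
  letI algA' : Algebra (MvPolynomial (↥Stot) B) RA := algA (B := B) r
  letI algI : ∀ i' : Idx ρ r, Algebra (MvPolynomial (↥Stot) B) (R i'.1) := algIdx ρ r
  haveI towA : IsScalarTower B (MvPolynomial (↥Stot) B) RA := tower_A r
  haveI towI : ∀ i' : Idx ρ r, IsScalarTower B (MvPolynomial (↥Stot) B) (R i'.1) :=
    tower_idx ρ r
  have H' : Sys (MvPolynomial (↥Stot) B) (fun i' : Idx ρ r => R i'.1) RA (ρ' ρ r) :=
    rebase_sys r H
  let θA : RA ⊗[MvPolynomial (↥Stot) B] (MvPolynomial (↥Stot) B ⊗[B] C) ≃ₐ[RA] RA ⊗[B] C :=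
    Algebra.TensorProduct.cancelBaseChange B (MvPolynomial (↥Stot) B) RA RA C
  have hθ : ∀ x : MvPolynomial (↥Stot) B ⊗[B] C,
      θA ((1 : RA) ⊗ₜ[MvPolynomial (↥Stot) B] x) = Algebra.TensorProduct.map
        (MvPolynomial.aeval r : MvPolynomial (↥Stot) B →ₐ[B] RA) (AlgHom.id B C) x := by
    intro x
    induction x using TensorProduct.induction_on with
    | zero => simp
    | tmul b' c' =>
      rw [Algebra.TensorProduct.cancelBaseChange_tmul, Algebra.TensorProduct.map_tmul,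
        Algebra.smul_def, mul_one]
      rfl
    | add x₁ x₂ h₁ h₂ => rw [TensorProduct.tmul_add, map_add, map_add, h₁, h₂]
  have hθg : ∀ g : gs, θA ((1 : RA) ⊗ₜ[MvPolynomial (↥Stot) B] g₀ g) = g.1 :=
    fun g => by rw [hθ, hg₀]
  have hspan : Ideal.span ((fun g : MvPolynomial (↥Stot) B ⊗[B] C =>
      (1 : RA) ⊗ₜ[MvPolynomial (↥Stot) B] g) '' ((Finset.univ.image g₀ : Finset _) : Set _)) =
      ⊤ := by
    rw [eq_top_iff]
    have h3 : Ideal.map θA.symm.toRingEquiv (Ideal.span (gs : Set (RA ⊗[B] C))) = ⊤ := by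
      have hgt : Ideal.span (gs : Set (RA ⊗[B] C)) = ⊤ := (Ideal.eq_top_iff_one _).mpr h1gs
      rw [hgt, Ideal.map_top]
    rw [← h3, Ideal.map_span, Ideal.span_le]
    rintro _ ⟨g, hg, rfl⟩
    apply Ideal.subset_span
    refine ⟨g₀ ⟨g, hg⟩, by simp, ?_⟩
    show _ = θA.symm g
    rw [AlgEquiv.eq_symm_apply, hθg]
  have hch' : ∀ g' ∈ (Finset.univ.image g₀ : Finset (MvPolynomial (↥Stot) B ⊗[B] C)),
      ∃ (n c : ℕ) (F₀ : Fin c → MvPolynomial (Fin n) (MvPolynomial (↥Stot) B)),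
      Synt.IsRelGCI RA n c (fun t => MvPolynomial.map (algebraMap (MvPolynomial (↥Stot) B) RA)
        (F₀ t)) ∧
      Nonempty (RA ⊗[MvPolynomial (↥Stot) B] Localization.Away g' ≃ₐ[RA]
        Synt.RelGCIRing RA n c (fun t => MvPolynomial.map
          (algebraMap (MvPolynomial (↥Stot) B) RA) (F₀ t))) := by
    intro g' hg'
    obtain ⟨g, -, rfl⟩ := Finset.mem_image.1 hg'
    have hFeq : (fun t => MvPolynomial.map (algebraMap (MvPolynomial (↥Stot) B) RA)
        (F₀ g t)) = F g := funext (fun t => hF₀ g t)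
    refine ⟨n g, c g, F₀ g, ?_, ?_⟩
    · rw [hFeq]; exact hrel g
    · rw [hFeq]
      obtain ⟨ε₀⟩ := exists_away_tensor_equiv (MvPolynomial (↥Stot) B) RA
        (MvPolynomial (↥Stot) B ⊗[B] C) (RA ⊗[B] C) θA (g₀ g)
      have ε : Localization.Away g.1 ≃ₐ[RA]
          RA ⊗[MvPolynomial (↥Stot) B] Localization.Away (g₀ g) := hθg g ▸ ε₀
      exact ⟨ε.symm.trans (he g).some⟩
  obtain ⟨i', hi'⟩ := exists_syntomic_of_charts H' (MvPolynomial (↥Stot) B ⊗[B] C)
    (Finset.univ.image g₀) hspan hch'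
  exact ⟨i'.1, isSyntomic_of_algEquiv (Algebra.TensorProduct.cancelBaseChange B
    (MvPolynomial (↥Stot) B) (R i'.1) (R i'.1) C) hi'⟩

end X

end Groth.Agent.H66.SyntLim
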