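import Groth.Agent.H66.SyntBC
import Groth.Agent.H24.LimFlat2

set_option autoImplicit false
set_option linter.style.haveILetI false

open CategoryTheory AlgebraicGeometry Limits TopologicalSpace Topology TensorProduct Opposite

universe u

namespace Groth.Agent.H66.SyntLimSch

open Groth.Agent.Lead.SyntLocal Groth.Agent.H24 Groth.Agent.H66.SyntBC

theorem Q_isStableUnderBaseChange : RingHom.IsStableUnderBaseChange @Q := by
  refine RingHom.IsStableUnderBaseChange.mk propertyIsLocal.respectsIso ?_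
  intro R S T _ _ _ _ _ h
  rw [Q_algebraMap_iff] at h ⊢
  exact isSyntomic_baseChange R T S h

instance syntMor_isStableUnderBaseChange : SyntMor.IsStableUnderBaseChange :=
  HasRingHomProperty.isStableUnderBaseChange Q_isStableUnderBaseChange

instance syntMor_respects_isOpenImmersion : SyntMor.Respects @IsOpenImmersion :=
  HasRingHomProperty.respects_isOpenImmersion stableUnderCompositionWithLocalizationAwaySource

/-- cancelling a monomorphism on the right. -/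
theorem of_comp_mono (P : MorphismProperty Scheme.{u}) [P.IsStableUnderBaseChange]
    {X Y Z : Scheme.{u}} (g : X ⟶ Y) (j : Y ⟶ Z) [Mono j] (h : P (g ≫ j)) : P g := by
  have top : IsPullback (𝟙 X) g g (𝟙 Y) := IsPullback.of_horiz_isIso ⟨by simp⟩
  have bot : IsPullback (𝟙 Y) (𝟙 Y) j j := IsKernelPair.id_of_mono j
  have sq := top.paste_vert bot
  rw [Category.comp_id] at sq
  exact MorphismProperty.of_isPullback (P := P) sq h

/-- Factoring the target of a base change through an open (generic version of helper24's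
`flat_snd_resLE_target_iff`). -/
theorem snd_resLE_target_iff (P : MorphismProperty Scheme.{u}) [P.IsStableUnderBaseChange]
    [P.RespectsIso] [P.Respects @IsOpenImmersion]
    {A B T : Scheme.{u}} (m : A ⟶ B) (W : A.Opens) (O' : B.Opens)
    (hW : W ≤ m ⁻¹ᵁ O') (r : T ⟶ B) (U : T.Opens) (hU : U = r ⁻¹ᵁ O') (e : U ≤ r ⁻¹ᵁ O') :
    P (pullback.snd (W.ι ≫ m) r) ↔ P (pullback.snd (m.resLE O' W hW) (r.resLE O' U e)) := by
  subst hU
  have bot : IsPullback (r.resLE O' (r ⁻¹ᵁ O') e) (r ⁻¹ᵁ O').ι O'.ι r := by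
    rw [Scheme.Hom.resLE_eq_morphismRestrict]
    exact isPullback_morphismRestrict r O'
  have top := (IsPullback.of_hasPullback (m.resLE O' W hW) (r.resLE O' (r ⁻¹ᵁ O') e)).flip
  have sq := (top.paste_horiz bot.flip).flip
  rw [Scheme.Hom.resLE_comp_ι] at sq
  have e1 : pullback.snd (W.ι ≫ m) r = sq.isoPullback.inv ≫
      (pullback.snd (m.resLE O' W hW) (r.resLE O' (r ⁻¹ᵁ O') e) ≫ (r ⁻¹ᵁ O').ι) := by
    rw [Iso.eq_inv_comp, sq.isoPullback_hom_snd]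
  rw [e1, MorphismProperty.cancel_left_of_respectsIso P]
  constructor
  · intro h
    exact of_comp_mono P _ (r ⁻¹ᵁ O').ι h
  · intro h
    exact MorphismProperty.RespectsRight.postcomp (P := P) (Q := @IsOpenImmersion)
      (r ⁻¹ᵁ O').ι inferInstance _ h

/-- In a pushout square of commutative rings, syntomicity of the coprojection from `A` is
syntomicity of `A ⊗[R] B` over `A`. -/
theorem synt_inr_iff_of_isPushout {R A B P : CommRingCat.{u}} {f : R ⟶ B} {g : R ⟶ A}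
    {inl : B ⟶ P} {inr : A ⟶ P} (sq : IsPushout f g inl inr) :
    letI := g.hom.toAlgebra
    letI := f.hom.toAlgebra
    Q inr.hom ↔ Synt.IsSyntomic A (A ⊗[R] B) := by
  letI := g.hom.toAlgebra
  letI := f.hom.toAlgebra
  have sq' : IsPushout (CommRingCat.ofHom (algebraMap R A)) (CommRingCat.ofHom (algebraMap R B))
      inr inl := sq.flip
  let e : P ≅ CommRingCat.of (A ⊗[R] B) :=
    sq'.isColimit.coconePointUniqueUpToIso (CommRingCat.pushoutCoconeIsColimit R A B)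
  have he : inr ≫ e.hom = CommRingCat.ofHom
      (Algebra.TensorProduct.includeLeftRingHom (R := R) (A := A) (B := B)) :=
    sq'.isColimit.comp_coconePointUniqueUpToIso_hom
      (CommRingCat.pushoutCoconeIsColimit R A B) WalkingSpan.left
  have he' : (e.hom.hom).comp inr.hom =
      Algebra.TensorProduct.includeLeftRingHom (R := R) (A := A) (B := B) :=
    congrArg CommRingCat.Hom.hom he
  rw [← propertyIsLocal.respectsIso.cancel_right_isIso inr e.hom, he']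
  have h2 : (algebraMap A (A ⊗[R] B)) =
      Algebra.TensorProduct.includeLeftRingHom (R := R) (A := A) (B := B) := by
    ext a
    simp
  rw [← h2, Q_algebraMap_iff]

/-- Syntomicity of the base change of a morphism of affine schemes via tensor products. -/
theorem synt_snd_iff_synt_tensor {W T Z : Scheme.{u}} [IsAffine W] [IsAffine T] [IsAffine Z]
    (h : W ⟶ Z) (w : T ⟶ Z) :
    letI := w.appTop.hom.toAlgebra
    letI := h.appTop.hom.toAlgebra
    SyntMor (pullback.snd h w) ↔ Synt.IsSyntomic Γ(T, ⊤) (Γ(T, ⊤) ⊗[Γ(Z, ⊤)] Γ(W, ⊤)) := by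
  have sq := isPushout_appTop_of_isPullback (IsPullback.of_hasPullback h w)
  rw [← synt_inr_iff_of_isPushout sq]
  exact HasRingHomProperty.iff_of_isAffine (P := SyntMor)

section affine

open Groth.Agent.Lead.ColimDescent Groth.Agent.H66.SyntLim

variable {I : Type u} [SmallCategory I] [IsCofiltered I]
    (D : I ⥤ Scheme.{u}) (c : Limits.Cone D) (hc : Limits.IsLimit c)

include hc in
/-- Affine case of syntomic descent. -/
theorem exists_synt_pullback_stage_affine [∀ i, IsAffine (D.obj i)] [IsAffine c.pt]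
    (i₀ : I) {W₀ : Scheme.{u}} [IsAffine W₀] (h₀ : W₀ ⟶ D.obj i₀)
    [LocallyOfFinitePresentation h₀] (h : SyntMor (pullback.snd h₀ (c.π.app i₀))) :
    ∃ m : Over i₀, SyntMor (pullback.snd h₀ (D.map m.hom)) := by
  classical
  obtain ⟨α, _, hdir, hne, k, τ, hτ1, hτ2, hcof1, hcof2⟩ := exists_directed_cofinal (Over i₀)
  haveI := hdir
  haveI := hne
  letI algA : Algebra Γ(D.obj i₀, ⊤) Γ(c.pt, ⊤) := (c.π.app i₀).appTop.hom.toAlgebra
  letI algB : Algebra Γ(D.obj i₀, ⊤) Γ(W₀, ⊤) := h₀.appTop.hom.toAlgebra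
  letI algG : ∀ a : α, Algebra Γ(D.obj i₀, ⊤) Γ(D.obj (k a).left, ⊤) :=
    fun a => (D.map (k a).hom).appTop.hom.toAlgebra
  haveI hfp : Algebra.FinitePresentation Γ(D.obj i₀, ⊤) Γ(W₀, ⊤) :=
    HasRingHomProperty.appTop @LocallyOfFinitePresentation h₀ inferInstance
  let g : ∀ a b : α, a ≤ b →
      Γ(D.obj (k a).left, ⊤) →ₐ[Γ(D.obj i₀, ⊤)] Γ(D.obj (k b).left, ⊤) := fun a b hab =>
    { (D.map (τ hab).left).appTop.hom with
      commutes' := fun x => by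
        change (D.map (τ hab).left).appTop ((D.map (k a).hom).appTop x) =
          (D.map (k b).hom).appTop x
        rw [← appTop_comp_apply, ← D.map_comp, Over.w (τ hab)] }
  let gA : ∀ a : α, Γ(D.obj (k a).left, ⊤) →ₐ[Γ(D.obj i₀, ⊤)] Γ(c.pt, ⊤) := fun a =>
    { (c.π.app (k a).left).appTop.hom with
      commutes' := fun x => by
        change (c.π.app (k a).left).appTop ((D.map (k a).hom).appTop x) =
          (c.π.app i₀).appTop x
        rw [← appTop_comp_apply, c.w] }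
  have H : Sys Γ(D.obj i₀, ⊤) (fun a : α => Γ(D.obj (k a).left, ⊤)) Γ(c.pt, ⊤) gA := by
    refine Sys.of_directed g ?_ ?_ ?_
    · intro a b hab
      apply AlgHom.ext
      intro x
      change (c.π.app (k b).left).appTop ((D.map (τ hab).left).appTop x) =
        (c.π.app (k a).left).appTop x
      rw [← appTop_comp_apply, c.w]
    · intro x
      obtain ⟨i, y, hy⟩ := exists_appTop_π_eq_of_isAffine_of_isLimit D c hc x
      obtain ⟨a, ⟨v⟩⟩ := hcof1 (Over.mk (IsCofiltered.minToRight i i₀))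
      refine ⟨a, (D.map (v.left ≫ IsCofiltered.minToLeft i i₀)).appTop y, ?_⟩
      change (c.π.app (k a).left).appTop
        ((D.map (v.left ≫ IsCofiltered.minToLeft i i₀)).appTop y) = x
      rw [← appTop_comp_apply, c.w, hy]
    · intro a x hx
      obtain ⟨j, f, hf⟩ :=
        exists_appTop_map_eq_zero_of_isAffine_of_isLimit D c hc (k a).left x hx
      obtain ⟨b, hab, v, hv⟩ := hcof2 a (Over.mk (f ≫ (k a).hom)) (Over.homMk f rfl)
      refine ⟨b, hab, ?_⟩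
      change (D.map (τ hab).left).appTop x = 0
      rw [← hv, Over.comp_left, D.map_comp, appTop_comp_apply]
      have h0 : (D.map (Over.homMk f rfl : Over.mk (f ≫ (k a).hom) ⟶ k a).left).appTop x = 0 :=
        hf
      rw [h0, map_zero]
  have h1 : Synt.IsSyntomic Γ(c.pt, ⊤) (Γ(c.pt, ⊤) ⊗[Γ(D.obj i₀, ⊤)] Γ(W₀, ⊤)) :=
    (synt_snd_iff_synt_tensor (T := c.pt) h₀ (c.π.app i₀)).mp h
  obtain ⟨a, ha⟩ := exists_syntomic H Γ(W₀, ⊤) h1
  exact ⟨k a, (synt_snd_iff_synt_tensor h₀ (D.map (k a).hom)).mpr ha⟩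

end affine

section glob

variable {I : Type u} [SmallCategory I] [IsCofiltered I]
    (D : I ⥤ Scheme.{u}) (c : Limits.Cone D) (hc : Limits.IsLimit c)
    [∀ {i j : I} (f : i ⟶ j), IsAffineHom (D.map f)]

include hc in
/-- **Syntomicity descends along base change** (stage form): `ι₀` locally of finite presentation
with quasi-compact source. -/
theorem exists_synt_stage_of_lfp (i₀ : I) {Z₀ : Scheme.{u}} [CompactSpace Z₀]
    (ι₀ : Z₀ ⟶ D.obj i₀) [LocallyOfFinitePresentation ι₀]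
    (h : SyntMor (pullback.snd ι₀ (c.π.app i₀))) :
    ∃ (j : I) (φ : j ⟶ i₀), SyntMor (pullback.snd ι₀ (D.map φ)) := by
  classical
  have hπ := isAffineHom_π_app D c hc
  let 𝔹 := {p : Z₀.affineOpens × (D.obj i₀).affineOpens // (p.1 : Z₀.Opens) ≤ ι₀ ⁻¹ᵁ p.2.1}
  have hcov : IsOpenCover (fun p : 𝔹 => (p.1.1 : Z₀.Opens)) := by
    refine IsOpenCover.mk (eq_top_iff.mpr fun x _ => ?_)
    obtain ⟨_, ⟨V, hV : IsAffineOpen V, rfl⟩, hxV, -⟩ :=
      (D.obj i₀).isBasis_affineOpens.exists_subset_of_mem_open (Set.mem_univ (ι₀ x)) isOpen_univ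
    obtain ⟨_, ⟨U, hU : IsAffineOpen U, rfl⟩, hxU, hUV⟩ :=
      Z₀.isBasis_affineOpens.exists_subset_of_mem_open
        (show x ∈ ((ι₀ ⁻¹ᵁ V : Z₀.Opens) : Set Z₀) from hxV) (ι₀ ⁻¹ᵁ V).isOpen
    exact Opens.mem_iSup.mpr ⟨⟨⟨⟨U, hU⟩, ⟨V, hV⟩⟩, hUV⟩, hxU⟩
  obtain ⟨t, ht⟩ := hcov.exists_finite_of_compactSpace
  let P : Over i₀ → 𝔹 → Prop := fun l p =>
    SyntMor (pullback.snd (p.1.1.1.ι ≫ ι₀) (D.map l.hom))
  have hP : ∀ p ∈ (t : Set 𝔹), ∀ l₁ : Over i₀,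
      ∃ (l : Over i₀) (_ : l ⟶ l₁), ∀ (l' : Over i₀) (_ : l' ⟶ l), P l' p := by
    intro p _ l₁
    have pers : ∀ (l l' : Over i₀) (ψ : l' ⟶ l), P l p → P l' p := by
      intro l l' ψ hl
      have e : D.map l'.hom = D.map ψ.left ≫ D.map l.hom := by rw [← D.map_comp, Over.w ψ]
      change SyntMor (pullback.snd (p.1.1.1.ι ≫ ι₀) (D.map l'.hom))
      rw [snd_iff_of_eq (p.1.1.1.ι ≫ ι₀) SyntMor e]
      exact snd_comp_of_stable SyntMor _ _ _ hl
    obtain ⟨⟨W, O⟩, hWO⟩ := p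
    have hO' : D.map (Over.mk (𝟙 i₀)).hom ⁻¹ᵁ O.1 = O.1 := by
      change D.map (𝟙 i₀) ⁻¹ᵁ O.1 = O.1
      rw [D.map_id]
      rfl
    have hWO' : W.1 ≤ ι₀ ⁻¹ᵁ (D.map (Over.mk (𝟙 i₀)).hom ⁻¹ᵁ O.1) := by
      rw [hO']
      exact hWO
    have haff : ∀ l : Over i₀, IsAffine ((opensDiagram D i₀ O.1).obj l) := fun l =>
      O.2.preimage (D.map l.hom)
    have hptaff : IsAffine (opensCone D c i₀ O.1).pt := O.2.preimage (c.π.app i₀)
    have hWaff : IsAffine W.1.toScheme := W.2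
    have hlfp : LocallyOfFinitePresentation
        (ι₀.resLE (D.map (Over.mk (𝟙 i₀)).hom ⁻¹ᵁ O.1) W.1 hWO') := by
      have : LocallyOfFinitePresentation
          (ι₀.resLE (D.map (Over.mk (𝟙 i₀)).hom ⁻¹ᵁ O.1) W.1 hWO' ≫
            (D.map (Over.mk (𝟙 i₀)).hom ⁻¹ᵁ O.1).ι) := by
        rw [Scheme.Hom.resLE_comp_ι]
        infer_instance
      exact locallyOfFinitePresentation_of_comp _ (D.map (Over.mk (𝟙 i₀)).hom ⁻¹ᵁ O.1).ι
    -- the hypothesis at the limit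
    have hrInf : c.π.app i₀ ≫ D.map (Over.mk (𝟙 i₀)).hom = c.π.app i₀ := c.w _
    have hUInf : c.π.app i₀ ⁻¹ᵁ O.1 =
        c.π.app i₀ ⁻¹ᵁ (D.map (Over.mk (𝟙 i₀)).hom ⁻¹ᵁ O.1) := by
      rw [← Scheme.Hom.comp_preimage, hrInf]
    have hsrc : SyntMor (pullback.snd (W.1.ι ≫ ι₀) (c.π.app i₀)) := by
      rw [← snd_restrict_source_iff SyntMor]
      exact IsZariskiLocalAtSource.comp (P := SyntMor) h _
    have hInf : SyntMor (pullback.snd (ι₀.resLE (D.map (Over.mk (𝟙 i₀)).hom ⁻¹ᵁ O.1) W.1 hWO')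
        ((c.π.app i₀).resLE (D.map (Over.mk (𝟙 i₀)).hom ⁻¹ᵁ O.1) (c.π.app i₀ ⁻¹ᵁ O.1)
          hUInf.le)) :=
      (snd_resLE_target_iff SyntMor ι₀ W.1 _ hWO' (c.π.app i₀) (c.π.app i₀ ⁻¹ᵁ O.1) hUInf
        hUInf.le).mp hsrc
    obtain ⟨m, hm⟩ := @exists_synt_pullback_stage_affine (Over i₀) _ _
      (opensDiagram D i₀ O.1) (opensCone D c i₀ O.1) (isLimitOpensCone D c hc i₀ O.1) haff hptaff
      (Over.mk (𝟙 i₀)) _ hWaff
      (ι₀.resLE (D.map (Over.mk (𝟙 i₀)).hom ⁻¹ᵁ O.1) W.1 hWO') hlfp hInf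
    have hUm : D.map m.left.hom ⁻¹ᵁ O.1 =
        D.map m.hom.left ⁻¹ᵁ (D.map (Over.mk (𝟙 i₀)).hom ⁻¹ᵁ O.1) := by
      rw [← Scheme.Hom.comp_preimage, ← D.map_comp, Over.w m.hom]
    have hm1 : SyntMor (pullback.snd (ι₀.resLE (D.map (Over.mk (𝟙 i₀)).hom ⁻¹ᵁ O.1) W.1 hWO')
        ((D.map m.hom.left).resLE (D.map (Over.mk (𝟙 i₀)).hom ⁻¹ᵁ O.1)
          (D.map m.left.hom ⁻¹ᵁ O.1) hUm.le)) := hm
    have hm2 : SyntMor (pullback.snd (W.1.ι ≫ ι₀) (D.map m.hom.left)) :=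
      (snd_resLE_target_iff SyntMor ι₀ W.1 _ hWO' (D.map m.hom.left) (D.map m.left.hom ⁻¹ᵁ O.1) hUm
        hUm.le).mpr hm1
    have em : D.map m.hom.left = D.map m.left.hom :=
      congrArg D.map (by simpa using Over.w m.hom)
    have hm' : P m.left ⟨⟨W, O⟩, hWO⟩ := by
      change SyntMor (pullback.snd (W.1.ι ≫ ι₀) (D.map m.left.hom))
      rw [← snd_iff_of_eq (W.1.ι ≫ ι₀) SyntMor em]
      exact hm2
    refine ⟨IsCofiltered.min l₁ m.left, IsCofiltered.minToLeft _ _, fun l' ψ => ?_⟩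
    exact pers m.left l' (ψ ≫ IsCofiltered.minToRight _ _) hm'
  obtain ⟨l, _, hl⟩ := exists_index_forall_finite (I := Over i₀) (t : Set 𝔹) t.finite_toSet P hP
    (Over.mk (𝟙 i₀))
  refine ⟨l.left, l.hom, ?_⟩
  refine IsZariskiLocalAtSource.of_iSup_eq_top (P := SyntMor)
    (fun p : t => pullback.fst ι₀ (D.map l.hom) ⁻¹ᵁ p.1.1.1.1) ?_ (fun p => ?_)
  · refine eq_top_iff.mpr fun x _ => ?_
    obtain ⟨p, hp⟩ := ht.exists_mem (pullback.fst ι₀ (D.map l.hom) x)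
    exact Opens.mem_iSup.mpr ⟨p, hp⟩
  · rw [snd_restrict_source_iff SyntMor]
    exact hl l (𝟙 l) p.1 p.2

end glob

section descend

variable {I : Type u} [SmallCategory I] [IsCofiltered I]
    (D : I ⥤ Scheme.{u}) (c : Limits.Cone D) (hc : Limits.IsLimit c)
    [∀ {i j : I} (f : i ⟶ j), IsAffineHom (D.map f)]
    (i₀ : I) {X₀ Y₀ : Scheme.{u}} (f₀ : X₀ ⟶ Y₀) (g₀ : Y₀ ⟶ D.obj i₀)

include hc in
/-- **Syntomic morphisms descend to a finite stage.** -/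
theorem exists_synt_pbRel [CompactSpace X₀] [LocallyOfFinitePresentation f₀]
    {X Y : Scheme.{u}} (f : X ⟶ Y) (g : Y ⟶ c.pt) (qY : Y ⟶ Y₀) (qX : X ⟶ X₀)
    (hY : IsPullback qY g g₀ (c.π.app i₀)) (hX : IsPullback qX f f₀ qY) (hf : SyntMor f) :
    ∃ j : Over i₀, SyntMor (pbRel D (𝟙 i₀) f₀ g₀ j) := by
  have hlfp : LocallyOfFinitePresentation (pbRel D (𝟙 i₀) f₀ g₀ (Over.mk (𝟙 i₀))) :=
    MorphismProperty.of_isPullback (P := @LocallyOfFinitePresentation)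
      (isPullback_pbRel D (𝟙 i₀) f₀ g₀ (Over.mk (𝟙 i₀))) inferInstance
  have hcomp : CompactSpace ↥(pullback (f₀ ≫ g₀) (D.map ((Over.mk (𝟙 i₀)).hom ≫ 𝟙 i₀))) :=
    compactSpace_pbDiagram_obj D i₀ f₀ g₀ (Over.mk (𝟙 i₀))
  have sq := isPullback_pbLift_pbRel D (𝟙 i₀) f₀ g₀ c f g qY qX hY hX (Over.mk (𝟙 i₀))
  have hfl : SyntMor (pullback.snd (pbRel D (𝟙 i₀) f₀ g₀ (Over.mk (𝟙 i₀)))
      (pbLift D (𝟙 i₀) g₀ c qY g hY.w (Over.mk (𝟙 i₀)))) := by
    have e : pullback.snd (pbRel D (𝟙 i₀) f₀ g₀ (Over.mk (𝟙 i₀)))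
        (pbLift D (𝟙 i₀) g₀ c qY g hY.w (Over.mk (𝟙 i₀))) = sq.isoPullback.inv ≫ f := by
      rw [Iso.eq_inv_comp, sq.isoPullback_hom_snd]
    rw [e, MorphismProperty.cancel_left_of_respectsIso SyntMor]
    exact hf
  obtain ⟨j, φ, hj⟩ := @exists_synt_stage_of_lfp (Over i₀) _ _
    (pbDiagram D (𝟙 i₀) g₀) (pbCone D (𝟙 i₀) g₀ c qY g hY.w)
    (isLimitPbCone D (𝟙 i₀) g₀ c hc qY g hY) _ (Over.mk (𝟙 i₀)) _ hcomp
    (pbRel D (𝟙 i₀) f₀ g₀ (Over.mk (𝟙 i₀))) hlfp hfl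
  refine ⟨j, ?_⟩
  have sq' := isPullback_pbMap_pbRel D (𝟙 i₀) f₀ g₀ φ
  have hj' : SyntMor (pullback.snd (pbRel D (𝟙 i₀) f₀ g₀ (Over.mk (𝟙 i₀)))
      (pbMap D (𝟙 i₀) g₀ φ)) := hj
  rw [← sq'.isoPullback_hom_snd, MorphismProperty.cancel_left_of_respectsIso SyntMor]
  exact hj'

end descend

/-- scheme-level limit descent of syntomic morphisms (the form of S9198). -/
theorem exists_syntomic_descend {I : Type u} [SmallCategory I] [IsCofiltered I]
    (D : I ⥤ Scheme.{u}) (c : Limits.Cone D) (hc : Limits.IsLimit c)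
    [∀ (i j : I) (f : i ⟶ j), IsAffineHom (D.map f)] (i₀ : I)
    {X₀ Y₀ : Scheme.{u}} (f₀ : X₀ ⟶ Y₀) (g₀ : Y₀ ⟶ D.obj i₀)
    [CompactSpace X₀] [LocallyOfFinitePresentation f₀]
    {X Y : Scheme.{u}} (f : X ⟶ Y) (g : Y ⟶ c.pt) (qY : Y ⟶ Y₀) (qX : X ⟶ X₀)
    (hY : IsPullback qY g g₀ (c.π.app i₀)) (hX : IsPullback qX f f₀ qY)
    (hf : Synt.IsSyntomicMor f) :
    ∃ (i : I) (φ : i ⟶ i₀) (Xi Yi : Scheme.{u}) (fi : Xi ⟶ Yi) (gi : Yi ⟶ D.obj i) (pY : Yi ⟶ Y₀)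
      (pX : Xi ⟶ X₀), IsPullback pY gi g₀ (D.map φ) ∧ IsPullback pX fi f₀ pY ∧
        Synt.IsSyntomicMor fi := by
  have hAff : ∀ {i j : I} (f : i ⟶ j), IsAffineHom (D.map f) := fun f => inferInstance
  obtain ⟨j, hj⟩ := exists_synt_pbRel D c hc i₀ f₀ g₀ f g qY qX hY hX hf
  exact ⟨j.left, j.hom ≫ 𝟙 i₀, _, _, pbRel D (𝟙 i₀) f₀ g₀ j, Limits.pullback.snd g₀ _,
    Limits.pullback.fst g₀ _, Limits.pullback.fst (f₀ ≫ g₀) _, IsPullback.of_hasPullback _ _,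
    isPullback_pbRel D (𝟙 i₀) f₀ g₀ j, hj⟩

end Groth.Agent.H66.SyntLimSch
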