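import Mathlib
import Groth.Prelude.Def_GrTwist
import Groth.Agent.H18.EventuallyBij

/-!
# (E1) for helper88's S9573/S9574 squad: `Proj.map ψ` is an isomorphism when `ψ` is bijective in
large degrees.
-/

set_option autoImplicit false
universe u
open CategoryTheory CategoryTheory.Limits AlgebraicGeometry Opposite TopologicalSpace
open scoped HomogeneousIdeal

namespace Groth.Agent.H66.TwAdj_E1

section Eventually

variable {R A : Type u} [CommRing R] [CommRing A] [Algebra R A] (𝒜 : ℕ → Submodule R A)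
  [GradedAlgebra 𝒜] {B : Type u} [CommRing B] [Algebra R B] (ℬ : ℕ → Submodule R B) [GradedAlgebra ℬ]
  (ψ : 𝒜 →+*ᵍ ℬ) (d₀ : ℕ) (hbij : ∀ d : ℕ, d₀ ≤ d → Set.BijOn ψ (𝒜 d) (ℬ d))
  (hψ : HomogeneousIdeal.irrelevant ℬ ≤ (HomogeneousIdeal.irrelevant 𝒜).map ψ)

include hbij in
/-- (E1) -/
theorem isIso_map_of_eventually_bijective : IsIso (Proj.map ψ hψ) := by
  have hdom := Groth.Agent.H18.EventuallyBij.dom_eq_top ψ d₀ hbij
  have hiso : IsIso (PCone.dom ψ).ι := by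
    rw [isIso_iff_isOpenImmersion_and_surjective]
    refine ⟨inferInstance, ⟨fun x => ⟨⟨x, ?_⟩, rfl⟩⟩⟩
    rw [hdom]; trivial
  have hp : ∀ (d : ℕ) (f : A) (hd : 0 < d) (hf : f ∈ 𝒜 d),
      PCone.chart ψ hf hd ≫ ((PCone.dom ψ).ι ≫ Proj.map ψ hψ) =
        Spec.map (CommRingCat.ofHom (HomogeneousLocalization.Away.map ψ f)) ≫
          Proj.awayι 𝒜 f hf hd := by
    intro d f hd hf
    rw [← Category.assoc, Groth.Agent.H18.chart_ι, Proj.awayι_comp_map]
  have hpiso : IsIso ((PCone.dom ψ).ι ≫ Proj.map ψ hψ) :=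
    Groth.Agent.H18.EventuallyBij.isIso_of_chart_compat ψ d₀ hbij _ hp
  exact IsIso.of_isIso_comp_left (PCone.dom ψ).ι (Proj.map ψ hψ)

end Eventually

end Groth.Agent.H66.TwAdj_E1
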