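import Mathlib
import Groth.Prelude.Def_GrTwist
import Groth.Agent.H18.EventuallyBij

/-!
# (L1b) for helper88's S9573/S9574 squad: the image of `Proj A_g → Proj A` (`g` of degree `0`) is
the preimage of `D(g)` under the structure map `Proj A → Spec A₀`.
-/

set_option autoImplicit false
universe u
open CategoryTheory CategoryTheory.Limits AlgebraicGeometry Opposite TopologicalSpace
open scoped HomogeneousIdeal
open HomogeneousLocalization

namespace Groth.Agent.H66.TwAdj_L1b

section ProjGeneral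

variable {σ : Type*} {B : Type u} [CommRing B] [SetLike σ B] [AddSubgroupClass σ B]
  (𝒜 : ℕ → σ) [GradedRing 𝒜]

/-- (copied from `Groth.Agent.H95.ProjSpaceChart`) -/
theorem fromZero_val' (f : B) (y : 𝒜 0) :
    (fromZeroRingHom 𝒜 (Submonoid.powers f) y).val =
      Localization.mk ((y : B) * f ^ 0) ⟨f ^ 0, pow_mem (Submonoid.mem_powers f) 0⟩ := by
  show (HomogeneousLocalization.mk ⟨0, y, 1, one_mem _⟩ :
    HomogeneousLocalization 𝒜 (Submonoid.powers f)).val = _
  rw [HomogeneousLocalization.val_mk, Localization.mk_eq_mk_iff, Localization.r_iff_exists]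
  exact ⟨1, by simp⟩

/-- the structure morphism `Proj 𝒜 → Spec 𝒜_0` and basic opens of degree-zero elements
(copied from `Groth.Agent.H95.ProjSpaceChart`) -/
theorem toSpecZero_mem_basicOpen_iff' {d : ℕ} (hd : 0 < d) {f : B} (hf : f ∈ 𝒜 d)
    (b : 𝒜 0) (Q : Proj 𝒜) (hfQ : f ∉ Q.asHomogeneousIdeal) :
    (Proj.toSpecZero 𝒜).base Q ∈ PrimeSpectrum.basicOpen b ↔
      (b : B) ∉ Q.asHomogeneousIdeal := by
  have hQf : Q ∈ Proj.basicOpen 𝒜 f := (Proj.mem_basicOpen 𝒜 f Q).mpr hfQ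
  rw [← Proj.opensRange_awayι 𝒜 f hf hd] at hQf
  obtain ⟨y, rfl⟩ := hQf
  have h1 : (Proj.toSpecZero 𝒜).base ((Proj.awayι 𝒜 f hf hd).base y) =
      (Spec.map (CommRingCat.ofHom (fromZeroRingHom 𝒜 (Submonoid.powers f)))).base y :=
    congrArg (fun k => k.base y) (Proj.awayι_toSpecZero 𝒜 f hf hd)
  rw [h1]
  have hbf : (b : B) * f ∈ 𝒜 d := by simpa using SetLike.mul_mem_graded b.2 hf
  have h2 := Proj.awayι_preimage_basicOpen 𝒜 hf hd hbf hd
  have h3 : (Proj.awayι 𝒜 f hf hd).base y ∈ Proj.basicOpen 𝒜 ((b : B) * f) ↔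
      y ∈ PrimeSpectrum.basicOpen (Away.isLocalizationElem hf hbf) := by
    rw [← h2]; exact Iff.rfl
  have h4 : Away.isLocalizationElem hf hbf = (fromZeroRingHom 𝒜 (Submonoid.powers f) b) ^ d := by
    apply HomogeneousLocalization.val_injective
    rw [HomogeneousLocalization.val_pow, fromZero_val', Away.val_mk, Localization.mk_pow,
      Localization.mk_eq_mk_iff, Localization.r_iff_exists]
    refine ⟨1, ?_⟩
    simp only [OneMemClass.coe_one, one_mul, pow_zero, mul_one, one_pow, SubmonoidClass.coe_pow]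
    ring
  rw [h4, PrimeSpectrum.basicOpen_pow _ d hd] at h3
  have h5 : (b : B) ∉ ((Proj.awayι 𝒜 f hf hd).base y).asHomogeneousIdeal ↔
      (Proj.awayι 𝒜 f hf hd).base y ∈ Proj.basicOpen 𝒜 ((b : B) * f) := by
    rw [Proj.mem_basicOpen]
    constructor
    · intro hb hbfQ
      rcases ((Proj.awayι 𝒜 f hf hd).base y).isPrime.mem_or_mem hbfQ with h | h
      · exact hb h
      · exact hfQ h
    · intro hbfQ hb
      exact hbfQ (Ideal.mul_mem_right _ _ hb)
  rw [h5, h3]
  exact Iff.rfl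

end ProjGeneral

section Away

variable {R A : Type u} [CommRing R] [CommRing A] [Algebra R A] (𝒜 : ℕ → Submodule R A)
  [GradedAlgebra 𝒜] {B : Type u} [CommRing B] [Algebra R B] (ℬ : ℕ → Submodule R B) [GradedAlgebra ℬ]
  (ψ : 𝒜 →+*ᵍ ℬ) (g : A) (hg : g ∈ 𝒜 0) [Algebra A B] (hψA : ∀ a : A, ψ a = algebraMap A B a)
  [IsLocalization.Away g B]
  (hdeg : ∀ (n : ℕ) (b : B), b ∈ ℬ n ↔ ∃ (k : ℕ) (a : A), a ∈ 𝒜 n ∧ ψ g ^ k * b = ψ a)
  (hψ : HomogeneousIdeal.irrelevant ℬ ≤ (HomogeneousIdeal.irrelevant 𝒜).map ψ)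

include hg hψA hdeg in
/-- (L1b) -/
theorem range_map_away : Set.range (Proj.map ψ hψ).base =
    (Proj.toSpecZero 𝒜).base ⁻¹'
      (PrimeSpectrum.basicOpen (⟨g, hg⟩ : 𝒜 0) : Set (PrimeSpectrum (𝒜 0))) := by
  classical
  have _hdeg := hdeg
  have hunit : IsUnit (ψ g) := by
    rw [hψA]; exact IsLocalization.Away.algebraMap_isUnit g
  have hfun : (⇑ψ : A → B) = ⇑(algebraMap A B) := funext hψA
  ext x
  constructor
  · rintro ⟨y, rfl⟩
    show (Proj.toSpecZero 𝒜).base ((Proj.map ψ hψ).base y) ∈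
      PrimeSpectrum.basicOpen (⟨g, hg⟩ : 𝒜 0)
    obtain ⟨d, hd, f, hf, hfx⟩ :=
      Groth.Agent.H18.exists_homogeneous_pos_not_mem 𝒜 ((Proj.map ψ hψ).base y)
    rw [toSpecZero_mem_basicOpen_iff' 𝒜 hd hf ⟨g, hg⟩ _ hfx]
    intro hgx
    have hgy : ψ g ∈ y.asHomogeneousIdeal.toIdeal := hgx
    exact y.isPrime.ne_top (Ideal.eq_top_of_isUnit_mem _ hgy hunit)
  · intro hx
    have hx' : (Proj.toSpecZero 𝒜).base x ∈ PrimeSpectrum.basicOpen (⟨g, hg⟩ : 𝒜 0) := hx
    obtain ⟨d, hd, f, hf, hfx⟩ := Groth.Agent.H18.exists_homogeneous_pos_not_mem 𝒜 x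
    rw [toSpecZero_mem_basicOpen_iff' 𝒜 hd hf ⟨g, hg⟩ x hfx] at hx'
    have hPprime : (x.asHomogeneousIdeal.toIdeal).IsPrime := x.isPrime
    have hdisj : Disjoint (Submonoid.powers g : Set A) (x.asHomogeneousIdeal.toIdeal : Set A) := by
      rw [Set.disjoint_left]
      rintro _ ⟨k, rfl⟩ hk
      exact hx' (hPprime.mem_of_pow_mem k hk)
    have hQprime : ((x.asHomogeneousIdeal.toIdeal).map (algebraMap A B)).IsPrime :=
      IsLocalization.isPrime_of_isPrime_disjoint (Submonoid.powers g) B _ hPprime hdisj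
    have hcomap : ((x.asHomogeneousIdeal.toIdeal).map (algebraMap A B)).comap (algebraMap A B) =
        x.asHomogeneousIdeal.toIdeal :=
      IsLocalization.under_map_of_isPrime_disjoint (Submonoid.powers g) B hPprime hdisj
    have hQh : (x.asHomogeneousIdeal.map ψ).toIdeal =
        (x.asHomogeneousIdeal.toIdeal).map (algebraMap A B) := by
      rw [HomogeneousIdeal.toIdeal_map]
      show Ideal.span (⇑ψ '' _) = Ideal.span (⇑(algebraMap A B) '' _)
      rw [hfun]
    let y : ProjectiveSpectrum ℬ :=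
      { asHomogeneousIdeal := x.asHomogeneousIdeal.map ψ
        isPrime := by rw [hQh]; exact hQprime
        not_irrelevant_le := by
          intro hle
          have h1 : ψ f ∈ HomogeneousIdeal.irrelevant ℬ :=
            HomogeneousIdeal.mem_irrelevant_of_mem ℬ hd (ψ.2 hf)
          have h2 : ψ f ∈ (x.asHomogeneousIdeal.map ψ).toIdeal := hle h1
          rw [hQh, hψA] at h2
          have h3 : f ∈ ((x.asHomogeneousIdeal.toIdeal).map (algebraMap A B)).comap
              (algebraMap A B) := h2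
          rw [hcomap] at h3
          exact hfx h3 }
    have key : ProjectiveSpectrum.comap ψ hψ y = x := by
      apply ProjectiveSpectrum.ext
      apply HomogeneousIdeal.toIdeal_injective
      show ((x.asHomogeneousIdeal.map ψ).comap ψ).toIdeal = x.asHomogeneousIdeal.toIdeal
      rw [HomogeneousIdeal.toIdeal_comap, hQh]
      ext a
      rw [Ideal.mem_comap, hψA, ← Ideal.mem_comap, hcomap]
    exact ⟨y, key⟩

end Away

end Groth.Agent.H66.TwAdj_L1b
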