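import Mathlib

/-!
# Localizations of a product of domains at a prime ideal (helper66)

For a family `R i` of domains and a prime `P` of `∀ i, R i`, the prime defines an ultrafilter-like
notion of "large" subsets of the index set (via indicator idempotents).  We prove that any
localization `L` of the product at `P` is a domain, is a (pre)valuation ring if all `R i` are,
and is integrally closed if all `R i` are.
-/

set_option autoImplicit false

namespace Groth.Agent.H66.UltraProd

open Classical Polynomial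

universe u v w

variable {ι : Type u} {R : ι → Type v} [∀ i, CommRing (R i)]

/-- indicator idempotent of a subset of the index set -/
noncomputable def ind (R : ι → Type v) [∀ i, CommRing (R i)] (S : Set ι) : ∀ i, R i :=
  fun i => if i ∈ S then 1 else 0

lemma ind_mul_ind (S T : Set ι) : ind R S * ind R T = ind R (S ∩ T) := by
  funext i
  by_cases hS : i ∈ S <;> by_cases hT : i ∈ T <;> simp [ind, hS, hT]

lemma ind_add_compl (S : Set ι) : ind R S + ind R Sᶜ = 1 := by
  funext i
  by_cases hS : i ∈ S <;> simp [ind, hS]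

lemma ind_mul_compl (S : Set ι) : ind R S * ind R Sᶜ = 0 := by
  funext i
  by_cases hS : i ∈ S <;> simp [ind, hS]

/-- A subset of the index set is large w.r.t. `P` if its indicator idempotent is not in `P`. -/
def Large (P : Ideal (∀ i, R i)) (S : Set ι) : Prop := ind R S ∉ P

variable {P : Ideal (∀ i, R i)} [hP : P.IsPrime]

lemma large_or_compl (S : Set ι) : Large P S ∨ Large P Sᶜ := by
  by_contra h
  simp only [Large, not_or, not_not] at h
  have : (1 : ∀ i, R i) ∈ P := by
    rw [← ind_add_compl S]; exact P.add_mem h.1 h.2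
  exact hP.ne_top ((Ideal.eq_top_iff_one P).2 this)

lemma not_large_compl {S : Set ι} (h : Large P S) : ¬ Large P Sᶜ := by
  intro h'
  have h0 : ind R S * ind R Sᶜ ∈ P := by rw [ind_mul_compl]; exact P.zero_mem
  rcases hP.mem_or_mem h0 with h1 | h1
  · exact h h1
  · exact h' h1

lemma large_compl_iff {S : Set ι} : Large P Sᶜ ↔ ¬ Large P S :=
  ⟨fun h h' => not_large_compl h' h, fun h => (large_or_compl S).resolve_left h⟩

lemma Large.inter {S T : Set ι} (hS : Large P S) (hT : Large P T) : Large P (S ∩ T) := by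
  intro h
  rw [← ind_mul_ind] at h
  rcases hP.mem_or_mem h with h1 | h1
  · exact hS h1
  · exact hT h1

omit hP in
lemma Large.mono {S T : Set ι} (hS : Large P S) (hST : S ⊆ T) : Large P T := by
  intro h
  apply hS
  have : ind R S = ind R S * ind R T := by
    rw [ind_mul_ind, Set.inter_eq_left.2 hST]
  rw [this]
  exact P.mul_mem_left _ h

omit hP in
lemma large_of_not_mem {m : ∀ i, R i} (hm : m ∉ P) : Large P {i | m i ≠ 0} := by
  intro h
  apply hm
  have : m = m * ind R {i | m i ≠ 0} := by
    funext i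
    by_cases hi : m i = 0
    · simp [hi]
    · simp [ind, hi]
  rw [this]
  exact P.mul_mem_left _ h

section Loc

variable (L : Type w) [CommRing L] [Algebra (∀ i, R i) L] [IsLocalization.AtPrime L P]
variable [∀ i, IsDomain (R i)]

lemma algebraMap_eq_zero_iff (z : ∀ i, R i) :
    algebraMap (∀ i, R i) L z = 0 ↔ Large P {i | z i = 0} := by
  rw [IsLocalization.map_eq_zero_iff P.primeCompl L z]
  constructor
  · rintro ⟨m, hm⟩
    refine (large_of_not_mem (P := P) (Ideal.mem_primeCompl_iff.1 m.2)).mono ?_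
    intro i hi
    have := congrFun hm i
    simp only [Pi.mul_apply, Pi.zero_apply, mul_eq_zero] at this
    exact this.resolve_left hi
  · intro h
    refine ⟨⟨ind R {i | z i = 0}, Ideal.mem_primeCompl_iff.2 h⟩, ?_⟩
    funext i
    by_cases hi : z i = 0
    · simp [hi]
    · simp [ind, hi]

lemma algebraMap_ne_zero_iff (z : ∀ i, R i) :
    algebraMap (∀ i, R i) L z ≠ 0 ↔ Large P {i | z i ≠ 0} := by
  rw [Ne, algebraMap_eq_zero_iff (P := P) L z, ← large_compl_iff]
  rfl

lemma algebraMap_eq_iff (x y : ∀ i, R i) :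
    algebraMap (∀ i, R i) L x = algebraMap (∀ i, R i) L y ↔ Large P {i | x i = y i} := by
  rw [← sub_eq_zero, ← map_sub, algebraMap_eq_zero_iff (P := P) L]
  have : {i | (x - y) i = 0} = {i | x i = y i} := by
    ext i; simp [sub_eq_zero]
  rw [this]

include P in
theorem isDomain : IsDomain L := by
  haveI : Nontrivial L := (IsLocalization.AtPrime.isLocalRing L P).toNontrivial
  haveI : NoZeroDivisors L := by
    refine ⟨fun {a b} hab => ?_⟩
    obtain ⟨⟨x, s⟩, hx⟩ := IsLocalization.surj P.primeCompl a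
    obtain ⟨⟨y, t⟩, hy⟩ := IsLocalization.surj P.primeCompl b
    simp only at hx hy
    have hs : IsUnit (algebraMap (∀ i, R i) L s) := IsLocalization.map_units L s
    have ht : IsUnit (algebraMap (∀ i, R i) L t) := IsLocalization.map_units L t
    have hxy : algebraMap (∀ i, R i) L (x * y) = 0 := by
      rw [map_mul, ← hx, ← hy]
      calc a * algebraMap (∀ i, R i) L s * (b * algebraMap (∀ i, R i) L t)
          = (a * b) * (algebraMap (∀ i, R i) L s * algebraMap (∀ i, R i) L t) := by ring
        _ = 0 := by rw [hab, zero_mul]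
    rw [algebraMap_eq_zero_iff (P := P) L] at hxy
    by_contra hne
    rw [not_or] at hne
    have hx0 : algebraMap (∀ i, R i) L x ≠ 0 := by
      rw [← hx]; exact fun h => hne.1 (hs.mul_left_eq_zero.1 h)
    have hy0 : algebraMap (∀ i, R i) L y ≠ 0 := by
      rw [← hy]; exact fun h => hne.2 (ht.mul_left_eq_zero.1 h)
    rw [algebraMap_ne_zero_iff (P := P) L] at hx0 hy0
    have h3 : Large P {i | x i * y i = 0}ᶜ := by
      refine (hx0.inter hy0).mono ?_
      rintro i ⟨h1, h2⟩
      exact mul_ne_zero h1 h2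
    exact not_large_compl hxy h3
  exact NoZeroDivisors.to_isDomain L

include P in
theorem preValuationRing [∀ i, ValuationRing (R i)] : PreValuationRing L := by
  have key : ∀ (a b : L) (x y : ∀ i, R i) (s t : P.primeCompl),
      a * algebraMap (∀ i, R i) L s = algebraMap (∀ i, R i) L x →
      b * algebraMap (∀ i, R i) L t = algebraMap (∀ i, R i) L y →
      Large P {i | ∃ c, x i * c = y i} → ∃ c, a * c = b := by
    intro a b x y s t hx hy hS
    obtain ⟨ut, hut⟩ := IsLocalization.map_units L t
    let c : ∀ i, R i := fun i => if h : ∃ c, x i * c = y i then h.choose else 0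
    have hc : algebraMap (∀ i, R i) L (x * c) = algebraMap (∀ i, R i) L y := by
      rw [algebraMap_eq_iff (P := P) L]
      refine hS.mono ?_
      intro i hi
      have hi' : ∃ c, x i * c = y i := hi
      simp only [Set.mem_ofPred_eq, Pi.mul_apply, c, dif_pos hi']
      exact hi'.choose_spec
    refine ⟨algebraMap (∀ i, R i) L c * algebraMap (∀ i, R i) L s * ↑ut⁻¹, ?_⟩
    calc a * (algebraMap (∀ i, R i) L c * algebraMap (∀ i, R i) L s * ↑ut⁻¹)
        = (a * algebraMap (∀ i, R i) L s) * algebraMap (∀ i, R i) L c * ↑ut⁻¹ := by ring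
      _ = algebraMap (∀ i, R i) L y * ↑ut⁻¹ := by rw [hx, ← map_mul, hc]
      _ = b := by rw [← hy, ← hut, mul_assoc, Units.mul_inv, mul_one]
  refine ⟨fun a b => ?_⟩
  obtain ⟨⟨x, s⟩, hx⟩ := IsLocalization.surj P.primeCompl a
  obtain ⟨⟨y, t⟩, hy⟩ := IsLocalization.surj P.primeCompl b
  simp only at hx hy
  rcases large_or_compl (P := P) {i | ∃ c, x i * c = y i} with h | h
  · obtain ⟨c, hc⟩ := key a b x y s t hx hy h
    exact ⟨c, Or.inl hc⟩
  · have h' : Large P {i | ∃ c, y i * c = x i} := by
      refine h.mono ?_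
      intro i hi
      obtain ⟨c, hc | hc⟩ := ValuationRing.cond (x i) (y i)
      · exact absurd ⟨c, hc⟩ hi
      · exact ⟨c, hc⟩
    obtain ⟨c, hc⟩ := key b a y x t s hy hx h'
    exact ⟨c, Or.inr hc⟩

end Loc

/-- homogenization of a polynomial evaluated at a pair `(a, b)` in degree `n` -/
noncomputable def homog {A : Type*} [CommRing A] (g : A[X]) (a b : A) (n : ℕ) : A :=
  ∑ k ∈ Finset.range (n + 1), g.coeff k * a ^ k * b ^ (n - k)

lemma map_homog {A K : Type*} [CommRing A] [Field K] (φ : A →+* K) (g : A[X]) (a b : A) (n : ℕ)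
    (hn : g.natDegree ≤ n) (hb : φ b ≠ 0) :
    φ (homog g a b n) = (φ b) ^ n * eval₂ φ (φ a / φ b) g := by
  rw [eval₂_eq_sum_range' φ (Nat.lt_succ_of_le hn) (φ a / φ b), homog, map_sum, Finset.mul_sum]
  refine Finset.sum_congr rfl fun k hk => ?_
  have hk' : k ≤ n := Nat.lt_succ_iff.1 (Finset.mem_range.1 hk)
  rw [map_mul, map_mul, map_pow, map_pow, div_pow]
  have h1 : (φ b) ^ n = (φ b) ^ k * (φ b) ^ (n - k) := by
    rw [← pow_add, Nat.add_sub_cancel' hk']
  have hbk : (φ b) ^ k ≠ 0 := pow_ne_zero _ hb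
  rw [h1]
  field_simp

lemma homog_apply (g : (∀ i, R i)[X]) (a b : ∀ i, R i) (n : ℕ) (i : ι) :
    homog g a b n i = homog (g.map (Pi.evalRingHom R i)) (a i) (b i) n := by
  simp only [homog, Finset.sum_apply, Pi.mul_apply, Pi.pow_apply, coeff_map, Pi.evalRingHom_apply]

lemma exists_multiple {A : Type*} [CommRing A] (M : Submonoid A) {B : Type*} [CommRing B]
    [Algebra A B] [IsLocalization M B] {K : Type*} [CommRing K] [Algebra B K] (ξ : K)
    (hξ : IsIntegral B ξ) :
    ∃ (m : M) (g : A[X]), g.Monic ∧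
      eval₂ ((algebraMap B K).comp (algebraMap A B)) (algebraMap B K (algebraMap A B m) * ξ) g
        = 0 := by
  letI : Algebra A K := ((algebraMap B K).comp (algebraMap A B)).toAlgebra
  haveI : IsScalarTower A B K := IsScalarTower.of_algebraMap_eq (fun x => rfl)
  obtain ⟨m, g, hg, hg0⟩ := IsIntegral.exists_multiple_integral_of_isLocalization M ξ hξ
  refine ⟨m, g, hg, ?_⟩
  rw [Submonoid.smul_def, Algebra.smul_def] at hg0
  exact hg0

section IC

variable (L : Type w) [CommRing L] [Algebra (∀ i, R i) L] [IsLocalization.AtPrime L P]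
variable [∀ i, IsDomain (R i)]

include P in
theorem isIntegrallyClosed [∀ i, IsIntegrallyClosed (R i)] : IsIntegrallyClosed L := by
  haveI : IsDomain L := isDomain (P := P) L
  rw [isIntegrallyClosed_iff (FractionRing L)]
  intro ξ hξ
  obtain ⟨m, g, hg, hg0⟩ := exists_multiple P.primeCompl ξ hξ
  have hψinj : Function.Injective (algebraMap L (FractionRing L)) :=
    IsFractionRing.injective L (FractionRing L)
  obtain ⟨a, b, hb, rfl⟩ := IsFractionRing.div_surjective (A := L) ξ
  have hb0 : b ≠ 0 := nonZeroDivisors.ne_zero hb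
  obtain ⟨⟨α, s⟩, hα⟩ := IsLocalization.surj P.primeCompl a
  obtain ⟨⟨β, t⟩, hβ⟩ := IsLocalization.surj P.primeCompl b
  simp only at hα hβ
  set ψ := algebraMap L (FractionRing L) with hψ
  set ρ := algebraMap (∀ i, R i) L with hρ
  have hs : IsUnit (ρ s) := IsLocalization.map_units L s
  have ht : IsUnit (ρ t) := IsLocalization.map_units L t
  have hm : IsUnit (ρ m) := IsLocalization.map_units L m
  have hψs : ψ (ρ s) ≠ 0 := (hs.map ψ).ne_zero
  have hψt : ψ (ρ t) ≠ 0 := (ht.map ψ).ne_zero
  have hψb : ψ b ≠ 0 := fun h => hb0 (hψinj (h.trans (map_zero ψ).symm))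
  have hφB : ψ (ρ (β * s)) ≠ 0 := by
    rw [map_mul, ← hβ, map_mul, map_mul]
    exact mul_ne_zero (mul_ne_zero hψb hψt) hψs
  have hξ' : ψ (ρ m) * (ψ a / ψ b) = ψ (ρ (m * α * t)) / ψ (ρ (β * s)) := by
    simp only [map_mul, ← hα, ← hβ]
    field_simp
  rw [hξ'] at hg0
  set A : ∀ i, R i := m * α * t with hA
  set B : ∀ i, R i := β * s with hB
  set n := g.natDegree with hn
  have h1 : ψ (ρ (homog g A B n)) = 0 := by
    have h := map_homog (ψ.comp ρ) g A B n le_rfl hφB
    simp only [RingHom.comp_apply] at h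
    rw [h, hg0, mul_zero]
  have h2 : ρ (homog g A B n) = 0 := hψinj (h1.trans (map_zero ψ).symm)
  have hS1 : Large P {i | homog g A B n i = 0} := (algebraMap_eq_zero_iff (P := P) L _).1 h2
  have hρB : ρ B ≠ 0 := fun h => hφB (by rw [h, map_zero])
  have hS2 : Large P {i | B i ≠ 0} := (algebraMap_ne_zero_iff (P := P) L _).1 hρB
  have hsub : {i | homog g A B n i = 0} ∩ {i | B i ≠ 0} ⊆ {i | ∃ r, B i * r = A i} := by
    rintro i ⟨hi1, hi2⟩
    simp only [Set.mem_ofPred_eq] at hi1 hi2 ⊢
    rw [homog_apply] at hi1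
    have hinj : Function.Injective (algebraMap (R i) (FractionRing (R i))) :=
      IsFractionRing.injective (R i) (FractionRing (R i))
    have hBi : algebraMap (R i) (FractionRing (R i)) (B i) ≠ 0 :=
      fun h => hi2 (hinj (h.trans (map_zero _).symm))
    have hdeg : (g.map (Pi.evalRingHom R i)).natDegree ≤ n := natDegree_map_le
    have h := map_homog (algebraMap (R i) (FractionRing (R i))) (g.map (Pi.evalRingHom R i))
      (A i) (B i) n hdeg hBi
    rw [hi1, map_zero] at h
    have h0 : eval₂ (algebraMap (R i) (FractionRing (R i)))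
        (algebraMap (R i) (FractionRing (R i)) (A i) / algebraMap (R i) (FractionRing (R i)) (B i))
        (g.map (Pi.evalRingHom R i)) = 0 := by
      rcases mul_eq_zero.1 h.symm with h' | h'
      · exact absurd h' (pow_ne_zero n hBi)
      · exact h'
    have hint : IsIntegral (R i)
        (algebraMap (R i) (FractionRing (R i)) (A i) / algebraMap (R i) (FractionRing (R i)) (B i)) :=
      ⟨g.map (Pi.evalRingHom R i), hg.map _, h0⟩
    obtain ⟨r, hr⟩ := IsIntegrallyClosed.algebraMap_eq_of_integral hint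
    refine ⟨r, hinj ?_⟩
    rw [map_mul, hr]
    field_simp
  have hS3 : Large P {i | ∃ r, B i * r = A i} := (hS1.inter hS2).mono hsub
  let r : ∀ i, R i := fun i => if h : ∃ r, B i * r = A i then h.choose else 0
  have hr : ρ (B * r) = ρ A := by
    refine (algebraMap_eq_iff (P := P) L (B * r) A).2 (hS3.mono ?_)
    intro i hi
    have hi' : ∃ r, B i * r = A i := hi
    simp only [Set.mem_ofPred_eq, Pi.mul_apply, r, dif_pos hi']
    exact hi'.choose_spec
  have h3 : ψ (ρ m) * (ψ a / ψ b) = ψ (ρ r) := by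
    rw [hξ', ← hr, map_mul, map_mul]
    field_simp
  obtain ⟨um, hum⟩ := hm
  refine ⟨↑um⁻¹ * ρ r, ?_⟩
  rw [map_mul, ← h3, ← mul_assoc, ← map_mul, ← hum, Units.inv_mul, map_one, one_mul]

end IC

end Groth.Agent.H66.UltraProd
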