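import Mathlib
import Groth.Agent.H66.GLnH90

/-!
# Hilbert 90 for the units of `K ⊗ A` (helper66)

* `lovasz`: for finite modules over a ring, `M^d ≃ N^d` implies `M ≃ N` (hom counting).
* `exists_unit_twisted_invariant`: for a finite Galois extension `K/k`, a finite-dimensional
  `k`-algebra `A` and a cocycle `c` with values in `K ⊗ A`, there is a unit `b` with
  `c σ * σ b = b`.
-/

set_option autoImplicit false

namespace Groth.Agent.H66.UnitsH90

open scoped TensorProduct

universe u v w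

section Lovasz

variable {B : Type*} [Ring B] {M : Type*} [AddCommGroup M] [Module B M]

/-- homs out of `M` whose kernel contains `M'` -/
abbrev HomGE (M' : Submodule B M) (Y : Type*) [AddCommGroup Y] [Module B Y] : Type _ :=
  {f : M →ₗ[B] Y // M' ≤ LinearMap.ker f}

/-- homs out of `M` whose kernel is `M'` -/
abbrev HomEq (M' : Submodule B M) (Y : Type*) [AddCommGroup Y] [Module B Y] : Type _ :=
  {f : M →ₗ[B] Y // LinearMap.ker f = M'}

instance instFiniteHom [Finite M] (Y : Type*) [AddCommGroup Y] [Module B Y] [Finite Y] :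
    Finite (M →ₗ[B] Y) :=
  Finite.of_injective (fun f : M →ₗ[B] Y => (f : M → Y)) DFunLike.coe_injective

/-- partition homs by their kernel -/
def homGEEquivSigma (M' : Submodule B M) (Y : Type*) [AddCommGroup Y] [Module B Y] :
    HomGE M' Y ≃ Σ M'' : {M'' : Submodule B M // M' ≤ M''}, HomEq M''.1 Y where
  toFun f := ⟨⟨LinearMap.ker f.1, f.2⟩, ⟨f.1, rfl⟩⟩
  invFun x := ⟨x.2.1, by rw [x.2.2]; exact x.1.2⟩
  left_inv f := rfl
  right_inv := by
    rintro ⟨⟨M'', h⟩, ⟨f, hf⟩⟩
    change LinearMap.ker f = M'' at hf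
    subst hf
    rfl

/-- homs into a power -/
def homGEPiEquiv (M' : Submodule B M) (Y : Type*) [AddCommGroup Y] [Module B Y] (d : ℕ) :
    HomGE M' (Fin d → Y) ≃ (Fin d → HomGE M' Y) where
  toFun f i := ⟨(LinearMap.proj i).comp f.1, fun m hm => by
    have h := LinearMap.mem_ker.mp (f.2 hm)
    rw [LinearMap.mem_ker, LinearMap.comp_apply, h]
    exact map_zero _⟩
  invFun g := ⟨LinearMap.pi fun i => (g i).1, fun m hm => by
    rw [LinearMap.mem_ker]
    funext i
    exact LinearMap.mem_ker.mp ((g i).2 hm)⟩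
  left_inv f := Subtype.ext (LinearMap.ext fun m => funext fun i => rfl)
  right_inv g := funext fun i => Subtype.ext (LinearMap.ext fun m => rfl)

/-- transport along an isomorphism of the target -/
def homGECongr (M' : Submodule B M) {Y Z : Type*} [AddCommGroup Y] [Module B Y] [AddCommGroup Z]
    [Module B Z] (Φ : Y ≃ₗ[B] Z) : HomGE M' Y ≃ HomGE M' Z where
  toFun f := ⟨Φ.toLinearMap.comp f.1, fun m hm => by
    rw [LinearMap.mem_ker, LinearMap.comp_apply, LinearMap.mem_ker.mp (f.2 hm), map_zero]⟩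
  invFun f := ⟨Φ.symm.toLinearMap.comp f.1, fun m hm => by
    rw [LinearMap.mem_ker, LinearMap.comp_apply, LinearMap.mem_ker.mp (f.2 hm), map_zero]⟩
  left_inv f := Subtype.ext (LinearMap.ext fun m => by simp)
  right_inv f := Subtype.ext (LinearMap.ext fun m => by simp)

lemma card_homGE [Finite M] (M' : Submodule B M) (Y : Type*) [AddCommGroup Y] [Module B Y]
    [Finite Y] [Fintype {M'' : Submodule B M // M' ≤ M''}] :
    Nat.card (HomGE M' Y) =
      ∑ x : {M'' : Submodule B M // M' ≤ M''}, Nat.card (HomEq x.1 Y) := by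
  rw [Nat.card_congr (homGEEquivSigma M' Y), Nat.card_sigma]

/-- Hom-counting cancellation: finite modules with isomorphic `d`-th powers are isomorphic. -/
theorem lovasz {N : Type*} [AddCommGroup N] [Module B N] [Finite M] [Finite N] {d : ℕ}
    (hd : d ≠ 0) (Φ : (Fin d → M) ≃ₗ[B] (Fin d → N)) : Nonempty (M ≃ₗ[B] N) := by
  classical
  haveI : Finite (Submodule B M) :=
    Finite.of_injective (fun p : Submodule B M => (p : Set M)) SetLike.coe_injective
  have hcardGE : ∀ M' : Submodule B M, Nat.card (HomGE M' M) = Nat.card (HomGE M' N) := by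
    intro M'
    have e1 : Nat.card (Fin d → HomGE M' M) = Nat.card (Fin d → HomGE M' N) :=
      Nat.card_congr ((homGEPiEquiv M' M d).symm.trans
        ((homGECongr M' Φ).trans (homGEPiEquiv M' N d)))
    rw [Nat.card_fun, Nat.card_fun, Nat.card_fin] at e1
    exact Nat.pow_left_injective hd e1
  have hcardEq : ∀ M' : Submodule B M, Nat.card (HomEq M' M) = Nat.card (HomEq M' N) := by
    intro M'
    refine WellFoundedGT.induction
      (motive := fun M' : Submodule B M => Nat.card (HomEq M' M) = Nat.card (HomEq M' N)) M' ?_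
    intro M' ih
    haveI : Fintype {M'' : Submodule B M // M' ≤ M''} := Fintype.ofFinite _
    have hM := card_homGE M' M
    have hN := card_homGE M' N
    rw [hcardGE M', hN] at hM
    let x₀ : {M'' : Submodule B M // M' ≤ M''} := ⟨M', le_rfl⟩
    have hN' : Nat.card (HomEq M' N) + ∑ x ∈ Finset.univ.erase x₀, Nat.card (HomEq x.1 N) =
        ∑ x : {M'' : Submodule B M // M' ≤ M''}, Nat.card (HomEq x.1 N) :=
      Finset.add_sum_erase Finset.univ (fun x : {M'' : Submodule B M // M' ≤ M''} =>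
        Nat.card (HomEq x.1 N)) (Finset.mem_univ x₀)
    have hM' : Nat.card (HomEq M' M) + ∑ x ∈ Finset.univ.erase x₀, Nat.card (HomEq x.1 M) =
        ∑ x : {M'' : Submodule B M // M' ≤ M''}, Nat.card (HomEq x.1 M) :=
      Finset.add_sum_erase Finset.univ (fun x : {M'' : Submodule B M // M' ≤ M''} =>
        Nat.card (HomEq x.1 M)) (Finset.mem_univ x₀)
    have hrest : ∑ x ∈ Finset.univ.erase x₀, Nat.card (HomEq x.1 M) =
        ∑ x ∈ Finset.univ.erase x₀, Nat.card (HomEq x.1 N) :=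
      Finset.sum_congr rfl fun x hx => ih x.1 (lt_of_le_of_ne x.2
        (fun h => (Finset.ne_of_mem_erase hx) (Subtype.ext h.symm)))
    omega
  have h0 := hcardEq ⊥
  have hpos : 0 < Nat.card (HomEq (⊥ : Submodule B M) M) :=
    Nat.card_pos_iff.mpr ⟨⟨⟨LinearMap.id, LinearMap.ker_id⟩⟩, inferInstance⟩
  rw [h0] at hpos
  obtain ⟨⟨f, hf⟩⟩ := (Nat.card_pos_iff.mp hpos).1
  have hinj : Function.Injective f := LinearMap.ker_eq_bot.mp hf
  have hcard : Nat.card M = Nat.card N := by
    have e := Nat.card_congr Φ.toEquiv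
    rw [Nat.card_fun, Nat.card_fun, Nat.card_fin] at e
    exact Nat.pow_left_injective hd e
  exact ⟨LinearEquiv.ofBijective f (hinj.bijective_of_nat_card_le hcard.ge)⟩

end Lovasz

section Core

variable {k : Type u} [Field k] {K : Type v} [Field K] [Algebra k K]
  {A : Type w} [Ring A] [Algebra k A]

/-- the action of the Galois group on `K ⊗ A` -/
noncomputable def tw (σ : K ≃ₐ[k] K) : K ⊗[k] A →ₐ[k] K ⊗[k] A :=
  Algebra.TensorProduct.map (σ : K →ₐ[k] K) (AlgHom.id k A)

@[simp] lemma tw_tmul (σ : K ≃ₐ[k] K) (x : K) (a : A) :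
    tw σ (x ⊗ₜ[k] a) = σ x ⊗ₜ[k] a := by
  simp [tw]

lemma tw_smul (σ : K ≃ₐ[k] K) (l : K) (v : K ⊗[k] A) : tw σ (l • v) = σ l • tw σ v := by
  induction v using TensorProduct.induction_on with
  | zero => simp
  | tmul x a =>
    rw [TensorProduct.smul_tmul', tw_tmul, tw_tmul, TensorProduct.smul_tmul', smul_eq_mul,
      smul_eq_mul, map_mul]
  | add x y hx hy => rw [smul_add, map_add, map_add, smul_add, hx, hy]

lemma tw_mul (σ τ : K ≃ₐ[k] K) (v : K ⊗[k] A) : tw (σ * τ) v = tw σ (tw τ v) := by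
  induction v using TensorProduct.induction_on with
  | zero => simp
  | tmul x a => rw [tw_tmul, tw_tmul, tw_tmul, AlgEquiv.mul_apply]
  | add x y hx hy => rw [map_add, map_add, map_add, hx, hy]

lemma tw_one (v : K ⊗[k] A) : tw (1 : K ≃ₐ[k] K) v = v := by
  induction v using TensorProduct.induction_on with
  | zero => simp
  | tmul x a => rw [tw_tmul, AlgEquiv.one_apply]
  | add x y hx hy => rw [map_add, hx, hy]

variable (c : (K ≃ₐ[k] K) → K ⊗[k] A)

/-- the twisted semilinear action attached to a cocycle -/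
noncomputable def F (σ : K ≃ₐ[k] K) (v : K ⊗[k] A) : K ⊗[k] A := c σ * tw σ v

lemma F_add (σ : K ≃ₐ[k] K) (v w : K ⊗[k] A) : F c σ (v + w) = F c σ v + F c σ w := by
  simp [F, mul_add]

lemma F_zero (σ : K ≃ₐ[k] K) : F c σ 0 = 0 := by simp [F]

lemma F_sum {ι : Type*} (s : Finset ι) (g : ι → K ⊗[k] A) (σ : K ≃ₐ[k] K) :
    F c σ (∑ i ∈ s, g i) = ∑ i ∈ s, F c σ (g i) := by
  simp [F, Finset.mul_sum]

lemma F_smul (σ : K ≃ₐ[k] K) (l : K) (v : K ⊗[k] A) : F c σ (l • v) = σ l • F c σ v := by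
  rw [F, F, tw_smul, mul_smul_comm]

lemma F_ksmul (σ : K ≃ₐ[k] K) (r : k) (v : K ⊗[k] A) : F c σ (r • v) = r • F c σ v := by
  rw [F, F, map_smul, mul_smul_comm]

lemma F_mul_right (σ : K ≃ₐ[k] K) (v : K ⊗[k] A) (a : A) :
    F c σ (v * (1 ⊗ₜ[k] a)) = F c σ v * (1 ⊗ₜ[k] a) := by
  rw [F, F, map_mul, tw_tmul, map_one, mul_assoc]

/-- the twisted invariants, as a `k`-subspace -/
def Wk : Submodule k (K ⊗[k] A) where
  carrier := {v | ∀ σ, F c σ v = v}
  add_mem' := fun {v w} hv hw σ => by rw [F_add, hv σ, hw σ]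
  zero_mem' := fun σ => F_zero c σ
  smul_mem' := fun r v hv σ => by rw [F_ksmul, hv σ]

lemma mem_Wk {v : K ⊗[k] A} : v ∈ Wk c ↔ ∀ σ, F c σ v = v := Iff.rfl

variable (hc1 : c 1 = 1) (hc : ∀ σ τ : K ≃ₐ[k] K, c (σ * τ) = c σ * tw σ (c τ))

include hc1 in
lemma F_one (v : K ⊗[k] A) : F c 1 v = v := by rw [F, hc1, tw_one, one_mul]

include hc in
lemma F_comp (σ τ : K ≃ₐ[k] K) (v : K ⊗[k] A) : F c σ (F c τ v) = F c (σ * τ) v := by
  rw [F, F, F, hc, tw_mul, map_mul, mul_assoc]

lemma isUnit_of_bijective_mulLeft (b : K ⊗[k] A)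
    (h : Function.Bijective (LinearMap.mulLeft K b)) : IsUnit b := by
  obtain ⟨x, hx⟩ := h.2 1
  have hx' : b * x = 1 := hx
  have h2 : x * b = 1 := by
    apply h.1
    show b * (x * b) = b * 1
    rw [← mul_assoc, hx', one_mul, mul_one]
  exact ⟨⟨b, x, hx', h2⟩, rfl⟩

variable [FiniteDimensional k K] [IsGalois k K]

/-- the twisted trace -/
noncomputable def T (v : K ⊗[k] A) : K ⊗[k] A := ∑ σ : K ≃ₐ[k] K, F c σ v

lemma T_add (v w : K ⊗[k] A) : T c (v + w) = T c v + T c w := by
  simp [T, F_add, Finset.sum_add_distrib]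

/-- `T` as an additive map -/
noncomputable def Tadd : K ⊗[k] A →+ K ⊗[k] A := AddMonoidHom.mk' (T c) (T_add c)

lemma Tadd_apply (v : K ⊗[k] A) : Tadd c v = T c v := rfl

include hc in
lemma T_mem (v : K ⊗[k] A) : T c v ∈ Wk c := by
  intro τ
  rw [T, F_sum]
  simp_rw [F_comp c hc]
  exact Equiv.sum_comp (Equiv.mulLeft τ) (fun σ => F c σ v)

lemma T_smul_of_mem {w : K ⊗[k] A} (hw : w ∈ Wk c) (l : K) :
    T c (l • w) = (Algebra.trace k K l) • w := by
  rw [T]
  simp_rw [F_smul, hw _]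
  rw [← Finset.sum_smul, ← trace_eq_sum_automorphisms, algebraMap_smul]

include hc1 hc in
lemma span_Wk : Submodule.span K (Wk c : Set (K ⊗[k] A)) = ⊤ := by
  by_contra hne
  obtain ⟨f, hf0, hf⟩ := Submodule.exists_le_ker_of_lt_top _ (lt_top_iff_ne_top.mpr hne)
  apply hf0
  apply LinearMap.ext
  intro v
  have key : ∀ σ : K ≃ₐ[k] K, f (F c σ v) = 0 := by
    refine Groth.Agent.H66.dedekind_aut (fun σ => f (F c σ v)) ?_
    intro z
    have h1 : f (T c (z • v)) = 0 :=
      LinearMap.mem_ker.mp (hf (Submodule.subset_span (T_mem c hc _)))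
    rw [T, map_sum] at h1
    rw [← h1]
    refine Finset.sum_congr rfl fun σ _ => ?_
    rw [F_smul, map_smul, smul_eq_mul, mul_comm]
  have h := key 1
  rw [F_one c hc1] at h
  rw [h]
  rfl

variable [FiniteDimensional k A]

include hc1 hc in
lemma exists_unit_of_infinite [Infinite k] : ∃ b ∈ Wk c, IsUnit b := by
  classical
  obtain ⟨s, hs, hspan, hli⟩ := exists_linearIndependent K (Wk c : Set (K ⊗[k] A))
  rw [span_Wk c hc1 hc] at hspan
  let β : Module.Basis s K (K ⊗[k] A) :=
    Module.Basis.mk hli (by rw [Subtype.range_coe]; exact hspan.ge)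
  have hβ : ∀ i : s, β i = (i : K ⊗[k] A) := fun i => by simp [β]
  letI : Fintype s := FiniteDimensional.fintypeBasisIndex β
  let Mi : s → Matrix s s K := fun i =>
    LinearMap.toMatrix β β (LinearMap.mulLeft K (i : K ⊗[k] A))
  let P : MvPolynomial s K :=
    Matrix.det (∑ i : s, (MvPolynomial.X i : MvPolynomial s K) • (Mi i).map MvPolynomial.C)
  have heval : ∀ l : s → K, MvPolynomial.eval l P =
      LinearMap.det (LinearMap.mulLeft K (∑ i : s, l i • (i : K ⊗[k] A))) := by
    intro l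
    rw [← LinearMap.det_toMatrix β]
    have h1 : MvPolynomial.eval l P = Matrix.det ((MvPolynomial.eval l).mapMatrix
        (∑ i : s, (MvPolynomial.X i : MvPolynomial s K) • (Mi i).map MvPolynomial.C)) :=
      RingHom.map_det _ _
    rw [h1]
    have hlin : LinearMap.toMatrix β β
        (LinearMap.mulLeft K (∑ i : s, l i • (i : K ⊗[k] A))) = ∑ i : s, l i • Mi i := by
      have h2 : LinearMap.mulLeft K (∑ i : s, l i • (i : K ⊗[k] A)) =
          ∑ i : s, l i • LinearMap.mulLeft K (i : K ⊗[k] A) := by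
        apply LinearMap.ext
        intro x
        simp [LinearMap.sum_apply, Finset.sum_mul]
      rw [h2, map_sum]
      simp only [map_smul]
      rfl
    rw [hlin]
    congr 1
    ext a b'
    simp only [RingHom.mapMatrix_apply, Matrix.map_apply, Matrix.sum_apply, Matrix.smul_apply,
      smul_eq_mul, map_sum, map_mul, MvPolynomial.eval_X, MvPolynomial.eval_C]
  have hP : P ≠ 0 := by
    intro hP0
    have h1 := heval (β.equivFun 1)
    have hsum : ∑ i : s, (β.equivFun 1) i • (i : K ⊗[k] A) = 1 := by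
      have := β.sum_equivFun 1
      simpa [hβ] using this
    rw [hsum, hP0, map_zero, LinearMap.mulLeft_one, LinearMap.det_id] at h1
    exact zero_ne_one h1
  by_contra hno
  push Not at hno
  apply hP
  apply MvPolynomial.funext_set (fun _ : s => Set.range (algebraMap k K))
    (fun _ => Set.infinite_range_of_injective (algebraMap k K).injective)
  intro x hx
  rw [map_zero, heval]
  have hxi : ∀ i : s, ∃ t : k, algebraMap k K t = x i := fun i => hx i (Set.mem_univ i)
  choose t ht using hxi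
  have hbW : (∑ i : s, x i • (i : K ⊗[k] A)) ∈ Wk c := by
    refine Submodule.sum_mem _ fun i _ => ?_
    rw [← ht i, algebraMap_smul]
    exact Submodule.smul_mem _ _ (hs i.2)
  by_contra hdet
  apply hno _ hbW
  apply isUnit_of_bijective_mulLeft
  have hu : IsUnit (LinearMap.mulLeft K (∑ i : s, x i • (i : K ⊗[k] A))) :=
    (LinearMap.isUnit_iff_isUnit_det _).mpr (Ne.isUnit hdet)
  exact (Module.End.isUnit_iff _).mp hu

include hc1 hc in
lemma exists_unit_of_finite [Finite k] : ∃ b ∈ Wk c, IsUnit b := by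
  classical
  haveI : Finite K := Module.finite_of_finite k
  haveI : Finite A := Module.finite_of_finite k
  haveI : Finite (K ⊗[k] A) := Module.finite_of_finite K
  letI instR : Module Aᵐᵒᵖ (K ⊗[k] A) :=
    Module.compHom (K ⊗[k] A)
      (RingHom.op (Algebra.TensorProduct.includeRight : A →ₐ[k] K ⊗[k] A).toRingHom)
  have hop : ∀ (a : Aᵐᵒᵖ) (v : K ⊗[k] A), a • v = v * (1 ⊗ₜ[k] a.unop) := fun a v => rfl
  let WA : Submodule Aᵐᵒᵖ (K ⊗[k] A) :=
    { carrier := {v | ∀ σ, F c σ v = v}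
      add_mem' := fun {v w} hv hw σ => by rw [F_add, hv σ, hw σ]
      zero_mem' := fun σ => F_zero c σ
      smul_mem' := fun a v hv σ => by rw [hop, F_mul_right, hv σ] }
  have hWA : ∀ v, v ∈ WA ↔ v ∈ Wk c := fun v => Iff.rfl
  have hcoe_smul : ∀ (a : Aᵐᵒᵖ) (w : WA), ((a • w : WA) : K ⊗[k] A) =
      (w : K ⊗[k] A) * (1 ⊗ₜ[k] a.unop) := fun a w => rfl
  have hdpos : Module.finrank k K ≠ 0 := (Module.finrank_pos).ne'
  let κ : Module.Basis (Fin (Module.finrank k K)) k K := Module.finBasis k K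
  let ΨA : (Fin (Module.finrank k K) → A) →ₗ[Aᵐᵒᵖ] (K ⊗[k] A) :=
    { toFun := fun a => ∑ j, κ j ⊗ₜ[k] a j
      map_add' := fun a a' => by simp [TensorProduct.tmul_add, Finset.sum_add_distrib]
      map_smul' := fun r a => by
        show ∑ j, κ j ⊗ₜ[k] (r • a) j = r • ∑ j, κ j ⊗ₜ[k] a j
        rw [hop, Finset.sum_mul]
        refine Finset.sum_congr rfl fun j _ => ?_
        rw [Algebra.TensorProduct.tmul_mul_tmul, mul_one, Pi.smul_apply,
          MulOpposite.smul_eq_mul_unop] }
  have hΨA : Function.Bijective ΨA := by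
    have h1 : (ΨA : (Fin (Module.finrank k K) → A) → K ⊗[k] A) =
        (TensorProduct.equivFinsuppOfBasisLeft κ).symm ∘
          (Finsupp.equivFunOnFinite (α := Fin (Module.finrank k K)) (M := A)).symm := by
      funext a
      show ∑ j, κ j ⊗ₜ[k] a j = _
      rw [Function.comp_apply, TensorProduct.equivFinsuppOfBasisLeft_symm_apply,
        Finsupp.sum_fintype _ _ (by simp)]
      rfl
    rw [h1]
    exact (LinearEquiv.bijective _).comp (Equiv.bijective _)
  let ΨW : (Fin (Module.finrank k K) → WA) →ₗ[Aᵐᵒᵖ] (K ⊗[k] A) :=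
    { toFun := fun w => ∑ j, κ j • (w j : K ⊗[k] A)
      map_add' := fun w w' => by simp [smul_add, Finset.sum_add_distrib]
      map_smul' := fun r w => by
        show ∑ j, κ j • ((r • w) j : K ⊗[k] A) = r • ∑ j, κ j • (w j : K ⊗[k] A)
        rw [hop, Finset.sum_mul]
        refine Finset.sum_congr rfl fun j _ => ?_
        rw [smul_mul_assoc, Pi.smul_apply, hcoe_smul] }
  have hΨW_apply : ∀ w, ΨW w = ∑ j, κ j • (w j : K ⊗[k] A) := fun w => rfl
  have hΨWinj : Function.Injective ΨW := by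
    rw [← LinearMap.ker_eq_bot, LinearMap.ker_eq_bot']
    intro w hw
    funext i
    apply Subtype.ext
    show (w i : K ⊗[k] A) = 0
    let κd := (Algebra.traceForm k K).dualBasis (traceForm_nondegenerate k K) κ
    have h1 : Tadd c (κd i • ΨW w) = 0 := by rw [hw, smul_zero, map_zero]
    have h2 : Tadd c (κd i • ΨW w) = (w i : K ⊗[k] A) := by
      rw [hΨW_apply, Finset.smul_sum, map_sum]
      simp_rw [smul_smul, Tadd_apply]
      have h3 : ∀ j, T c ((κd i * κ j) • (w j : K ⊗[k] A)) =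
          (Algebra.trace k K (κd i * κ j)) • (w j : K ⊗[k] A) := fun j =>
        T_smul_of_mem c ((hWA _).mp (w j).2) _
      simp_rw [h3]
      have h4 : ∀ j, Algebra.trace k K (κd i * κ j) = if j = i then 1 else 0 := fun j => by
        have := LinearMap.BilinForm.apply_dualBasis_left (traceForm_nondegenerate k K) κ i j
        rwa [Algebra.traceForm_apply] at this
      simp_rw [h4]
      rw [Finset.sum_eq_single i]
      · rw [if_pos rfl, one_smul]
      · intro j _ hji
        rw [if_neg hji, zero_smul]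
      · intro h; exact absurd (Finset.mem_univ i) h
    rw [← h2, h1]
  have hΨWsurj : Function.Surjective ΨW := by
    let S : Submodule K (K ⊗[k] A) :=
      { carrier := Set.range ΨW
        add_mem' := by
          rintro _ _ ⟨w, rfl⟩ ⟨w', rfl⟩
          exact ⟨w + w', map_add _ _ _⟩
        zero_mem' := ⟨0, map_zero _⟩
        smul_mem' := by
          rintro l _ ⟨w, rfl⟩
          have hmem : ∀ i, (∑ j, (κ.repr (l * κ j) i) • (w j : K ⊗[k] A)) ∈ WA := fun i =>
            (hWA _).mpr (Submodule.sum_mem _ fun j _ =>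
              Submodule.smul_mem _ _ ((hWA _).mp (w j).2))
          refine ⟨fun i => ⟨_, hmem i⟩, ?_⟩
          show ∑ i, κ i • (∑ j, (κ.repr (l * κ j) i) • (w j : K ⊗[k] A)) =
            l • ∑ j, κ j • (w j : K ⊗[k] A)
          simp_rw [Finset.smul_sum]
          rw [Finset.sum_comm]
          refine Finset.sum_congr rfl fun j _ => ?_
          have h1 : ∀ i, κ i • ((κ.repr (l * κ j) i) • (w j : K ⊗[k] A)) =
              ((κ.repr (l * κ j) i) • κ i) • (w j : K ⊗[k] A) := fun i => by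
            rw [smul_comm, smul_assoc]
          simp_rw [h1]
          rw [← Finset.sum_smul, κ.sum_repr, mul_smul] }
    have hle : Submodule.span K (Wk c : Set (K ⊗[k] A)) ≤ S := by
      rw [Submodule.span_le]
      intro v hv
      refine ⟨fun j => ⟨(κ.repr 1 j) • v, (hWA _).mpr (Submodule.smul_mem _ _ hv)⟩, ?_⟩
      show ∑ j, κ j • ((κ.repr 1 j) • v) = v
      have h1 : ∀ j, κ j • ((κ.repr 1 j) • v) = ((κ.repr 1 j) • κ j) • v := fun j => by
        rw [smul_comm, smul_assoc]
      simp_rw [h1]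
      rw [← Finset.sum_smul, κ.sum_repr, one_smul]
    rw [span_Wk c hc1 hc] at hle
    intro v
    exact hle (Submodule.mem_top : v ∈ ⊤)
  let ΦW : (Fin (Module.finrank k K) → WA) ≃ₗ[Aᵐᵒᵖ] (K ⊗[k] A) :=
    LinearEquiv.ofBijective ΨW ⟨hΨWinj, hΨWsurj⟩
  let ΦA : (Fin (Module.finrank k K) → A) ≃ₗ[Aᵐᵒᵖ] (K ⊗[k] A) := LinearEquiv.ofBijective ΨA hΨA
  obtain ⟨e⟩ := lovasz hdpos (ΦW.trans ΦA.symm)
  have hgen : ∀ w : WA, (w : K ⊗[k] A) = ((e.symm 1 : WA) : K ⊗[k] A) * (1 ⊗ₜ[k] (e w)) := by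
    intro w
    have h1 : w = (MulOpposite.op (e w)) • e.symm 1 := by
      apply e.injective
      rw [map_smul, LinearEquiv.apply_symm_apply, MulOpposite.smul_eq_mul_unop, one_mul,
        MulOpposite.unop_op]
    conv_lhs => rw [h1]
    rw [hcoe_smul, MulOpposite.unop_op]
  refine ⟨((e.symm 1 : WA) : K ⊗[k] A), (hWA _).mp (e.symm 1).2, ?_⟩
  apply isUnit_of_bijective_mulLeft
  have hsurj : Function.Surjective (LinearMap.mulLeft K ((e.symm 1 : WA) : K ⊗[k] A)) := by
    have hle : Submodule.span K (Wk c : Set (K ⊗[k] A)) ≤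
        LinearMap.range (LinearMap.mulLeft K ((e.symm 1 : WA) : K ⊗[k] A)) := by
      rw [Submodule.span_le]
      intro v hv
      exact ⟨1 ⊗ₜ[k] (e ⟨v, (hWA v).mpr hv⟩), (hgen ⟨v, (hWA v).mpr hv⟩).symm⟩
    rw [span_Wk c hc1 hc] at hle
    exact LinearMap.range_eq_top.mp (top_le_iff.mp hle)
  exact ⟨(LinearMap.injective_iff_surjective).mpr hsurj, hsurj⟩

include hc1 hc in
/-- Core of Hilbert 90 for the units of `K ⊗ A`. -/
theorem exists_unit_twisted_invariant :
    ∃ b : K ⊗[k] A, IsUnit b ∧ ∀ σ : K ≃ₐ[k] K, c σ * tw σ b = b := by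
  rcases finite_or_infinite k with h | h
  · obtain ⟨b, hb, hu⟩ := exists_unit_of_finite c hc1 hc
    exact ⟨b, hu, hb⟩
  · obtain ⟨b, hb, hu⟩ := exists_unit_of_infinite c hc1 hc
    exact ⟨b, hu, hb⟩

end Core

end Groth.Agent.H66.UnitsH90
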