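import Mathlib
import Groth.Prelude.Def_PBC
import Groth.Prelude.Def_ProEtS
import Groth.Agent.S0679
import Groth.Agent.S0778
import Groth.Agent.S0755
import Groth.Agent.S0736
import Groth.Agent.H23.WCover

/-! (N2) for helper23's S0722 squad: the quotient of a w-contractible ring by an ideal whose
zero locus has quasi-compact complement is w-contractible. -/

set_option autoImplicit false
set_option backward.isDefEq.respectTransparency.types false
universe u

open CategoryTheory CategoryTheory.Limits AlgebraicGeometry Opposite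

namespace Groth.Agent.H66.WC_N2

/-- (N1) the quotient of a w-contractible ring by a nil ideal is w-contractible. -/
theorem isWContractible_quotient_of_le_nilradical (B : Type u) [CommRing B] (J : Ideal B)
    (hJ : J ≤ nilradical B) (h : EtPBC.IsWContractible B) : EtPBC.IsWContractible (B ⧸ J) := by
  rw [Groth.Agent.S0778.result]
  intro Cb _ _ hff hie
  obtain ⟨C, _, _, hC, ⟨e⟩⟩ := Groth.Agent.S0755.result B J Cb hie
  haveI hwe : Algebra.WeaklyEtale B C := Groth.Agent.S0736.result B C hC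
  haveI : Module.Flat B C := hwe.flat
  let ψ : C →+* Cb :=
    (e.toRingEquiv.toRingHom).comp (Ideal.Quotient.mk (J.map (algebraMap B C)))
  have hψ : ψ.comp (algebraMap B C) = (algebraMap (B ⧸ J) Cb).comp (Ideal.Quotient.mk J) := by
    ext b
    change e (Ideal.Quotient.mk _ (algebraMap B C b)) =
      algebraMap (B ⧸ J) Cb (Ideal.Quotient.mk J b)
    rw [← e.commutes]
    rfl
  haveI : Module.FaithfullyFlat B C := by
    refine { submodule_ne_top := fun 𝔪 h𝔪 htop => ?_ }
    have h1 : 𝔪.map (algebraMap B C) = ⊤ := by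
      rw [Ideal.eq_top_iff_one]
      have h2 : (1 : C) ∈ 𝔪 • (⊤ : Submodule B C) := by rw [htop]; trivial
      rw [Ideal.smul_top_eq_map] at h2
      exact h2
    have h3 : (𝔪.map (Ideal.Quotient.mk J)).map (algebraMap (B ⧸ J) Cb) = ⊤ := by
      rw [Ideal.map_map, ← hψ, ← Ideal.map_map, h1, Ideal.map_top]
    have h4 : 𝔪.map (Ideal.Quotient.mk J) ≠ ⊤ := by
      intro h5
      have h6 : (1 : B ⧸ J) ∈ 𝔪.map (Ideal.Quotient.mk J) := by rw [h5]; trivial
      obtain ⟨x, hx, hx1⟩ :=
        (Ideal.mem_map_iff_of_surjective _ Ideal.Quotient.mk_surjective).1 h6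
      have h7 : x - 1 ∈ J := by
        rw [← Ideal.Quotient.eq_zero_iff_mem, map_sub, hx1, map_one, sub_self]
      haveI := h𝔪.isPrime
      have h8 : x - 1 ∈ 𝔪 := nilradical_le_prime 𝔪 (hJ h7)
      have h9 : (1 : B) ∈ 𝔪 := by
        have h10 := 𝔪.sub_mem hx h8
        simpa using h10
      exact h𝔪.ne_top ((Ideal.eq_top_iff_one 𝔪).2 h9)
    have h10 := ((Module.FaithfullyFlat.iff_flat_and_proper_ideal (B ⧸ J) Cb).1 hff).2 _ h4
    apply h10
    rw [Ideal.smul_top_eq_map, h3, Submodule.restrictScalars_top]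
  obtain ⟨r⟩ := (Groth.Agent.S0778.result B).1 h C inferInstance hC
  have hle : J.map (algebraMap B C) ≤
      RingHom.ker ((Ideal.Quotient.mk J).comp r.toRingHom) := by
    rw [Ideal.map_le_iff_le_comap]
    intro b hb
    rw [Ideal.mem_comap, RingHom.mem_ker]
    change Ideal.Quotient.mk J (r (algebraMap B C b)) = 0
    rw [r.commutes]
    exact Ideal.Quotient.eq_zero_iff_mem.2 hb
  let rbar : (C ⧸ J.map (algebraMap B C)) →+* (B ⧸ J) :=
    Ideal.Quotient.lift _ ((Ideal.Quotient.mk J).comp r.toRingHom) (fun c hc => hle hc)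
  refine ⟨{ toRingHom := rbar.comp (e.symm.toRingEquiv.toRingHom), commutes' := ?_ }⟩
  intro x
  obtain ⟨b, rfl⟩ := Ideal.Quotient.mk_surjective x
  change rbar (e.symm (algebraMap (B ⧸ J) Cb (Ideal.Quotient.mk J b))) =
    algebraMap (B ⧸ J) (B ⧸ J) (Ideal.Quotient.mk J b)
  rw [e.symm.commutes]
  change rbar (Ideal.Quotient.mk _ (algebraMap B C b)) = Ideal.Quotient.mk J b
  rw [Ideal.Quotient.lift_mk]
  change Ideal.Quotient.mk J (r (algebraMap B C b)) = _
  rw [r.commutes]
  rfl

theorem isWContractible_quotient_of_isCompact (A : Type u) [CommRing A] (I : Ideal A)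
    (hI : IsCompact ((PrimeSpectrum.zeroLocus (I : Set A))ᶜ)) (h : EtPBC.IsWContractible A) :
    EtPBC.IsWContractible (A ⧸ I) := by
  classical
  have hcov : (PrimeSpectrum.zeroLocus (I : Set A))ᶜ ⊆
      ⋃ x : I, (PrimeSpectrum.basicOpen (x : A) : Set (PrimeSpectrum A)) := by
    intro p hp
    rw [Set.mem_compl_iff, PrimeSpectrum.mem_zeroLocus, Set.not_subset] at hp
    obtain ⟨x, hxI, hxp⟩ := hp
    exact Set.mem_iUnion.2 ⟨⟨x, hxI⟩, (PrimeSpectrum.mem_basicOpen _ _).2 hxp⟩
  obtain ⟨t, ht⟩ := hI.elim_finite_subcover _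
    (fun x : I => PrimeSpectrum.isOpen_basicOpen) hcov
  set I₀ : Ideal A := Ideal.span ((fun x : I => (x : A)) '' (t : Set I)) with hI₀
  have hI₀le : I₀ ≤ I := by
    rw [hI₀, Ideal.span_le]
    rintro _ ⟨x, _, rfl⟩
    exact x.2
  have hI₀fg : I₀.FG := ⟨t.image (fun x : I => (x : A)), by rw [Finset.coe_image]⟩
  have hrad : I ≤ I₀.radical := by
    have hz : PrimeSpectrum.zeroLocus (I₀ : Set A) ⊆ PrimeSpectrum.zeroLocus (I : Set A) := by
      intro p hp
      by_contra hpI
      have h1 := ht hpI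
      simp only [Set.mem_iUnion] at h1
      obtain ⟨x, hxt, hxp⟩ := h1
      rw [PrimeSpectrum.mem_zeroLocus] at hp
      exact (PrimeSpectrum.mem_basicOpen _ _).1 hxp (hp (Ideal.subset_span ⟨x, hxt, rfl⟩))
    rw [← PrimeSpectrum.vanishingIdeal_zeroLocus_eq_radical]
    intro x hx
    rw [PrimeSpectrum.mem_vanishingIdeal]
    intro p hp
    exact (PrimeSpectrum.mem_zeroLocus _ _).1 (hz hp) hx
  haveI : Algebra.FinitePresentation A (A ⧸ I₀) := Algebra.FinitePresentation.quotient hI₀fg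
  haveI : Module.Finite A (A ⧸ I₀) :=
    Module.Finite.of_surjective (Algebra.linearMap A (A ⧸ I₀)) Ideal.Quotient.mk_surjective
  have hB : EtPBC.IsWContractible (A ⧸ I₀) := Groth.Agent.S0679.result A (A ⧸ I₀) h
  have hJ : I.map (Ideal.Quotient.mk I₀) ≤ nilradical (A ⧸ I₀) := by
    intro y hy
    obtain ⟨x, hx, rfl⟩ :=
      (Ideal.mem_map_iff_of_surjective _ Ideal.Quotient.mk_surjective).1 hy
    obtain ⟨n, hn⟩ := hrad hx
    rw [mem_nilradical]
    exact ⟨n, by rw [← map_pow]; exact Ideal.Quotient.eq_zero_iff_mem.2 hn⟩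
  have hC := isWContractible_quotient_of_le_nilradical (A ⧸ I₀) _ hJ hB
  exact Groth.Agent.H23.WCover.isWContractible_of_ringEquiv
    (DoubleQuot.quotQuotEquivQuotOfLE hI₀le) hC

end Groth.Agent.H66.WC_N2
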