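import Mathlib

/-! (ALT) for helper74's WeilCoh squad: a finite-dimensional space with a perfect skew-symmetric
pairing in characteristic zero has even dimension. -/

set_option autoImplicit false
universe u v

open CategoryTheory CategoryTheory.Limits AlgebraicGeometry
open Matrix

namespace Groth.Agent.H66.WF_ALT

/-- (ALT) -/
theorem even_finrank_of_skew {K : Type v} {V : Type*} [Field K] [CharZero K] [AddCommGroup V]
    [Module K V] [Module.Finite K V] (B : V →ₗ[K] V →ₗ[K] K) (hB : B.IsPerfPair)
    (h : ∀ v w, B v w = - B w v) : Even (Module.finrank K V) := by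
  classical
  haveI := hB
  let b := Module.finBasis K V
  let M := LinearMap.toMatrix b b.dualBasis (B.toPerfPair : V →ₗ[K] Module.Dual K V)
  have hM : ∀ i j, M i j = B (b j) (b i) := by
    intro i j
    simp [M, LinearMap.toMatrix_apply]
  have hu : IsUnit M.det := LinearEquiv.isUnit_det B.toPerfPair b b.dualBasis
  have hT : Mᵀ = -M := by
    ext i j
    rw [Matrix.transpose_apply, Matrix.neg_apply, hM, hM, h]
  have hdet : M.det = (-1) ^ (Module.finrank K V) * M.det := by
    conv_lhs => rw [← Matrix.det_transpose, hT, Matrix.det_neg, Fintype.card_fin]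
  by_contra hodd
  rw [Nat.not_even_iff_odd] at hodd
  rw [hodd.neg_one_pow, neg_one_mul] at hdet
  have h0 : M.det = 0 := by
    have h2 : (2 : K) * M.det = 0 := by linear_combination hdet
    exact (mul_eq_zero.1 h2).resolve_left two_ne_zero
  exact hu.ne_zero h0

end Groth.Agent.H66.WF_ALT
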