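import Mathlib

/-! (LIN1) for helper74's WeilCoh squad: determinants and characteristic polynomials of two
endomorphisms adjoint up to a scalar for a perfect pairing. -/

set_option autoImplicit false
universe u v

open CategoryTheory CategoryTheory.Limits AlgebraicGeometry
open Matrix Polynomial

namespace Groth.Agent.H66.WF_LIN1

/-- Matrix form of (LIN1b). -/
theorem matrix_key {n : Type*} [Fintype n] [DecidableEq n] {K : Type*} [CommRing K]
    (A P : Matrix n n K) (c : K) (h : A * P = c • (1 : Matrix n n K)) :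
    C (det A) * P.charpolyRev = (-1) ^ Fintype.card n * A.charpoly.comp (C c * X) := by
  have h1 : C (det A) = det (A.map C) := by
    rw [RingHom.map_det]
    rfl
  have h2 : A.charpoly.comp (C c * X) = det (Matrix.scalar n (C c * X) - A.map C) := by
    rw [← Polynomial.coe_compRingHom_apply, Matrix.charpoly, RingHom.map_det]
    congr 1
    ext i j
    by_cases hij : i = j
    · subst hij
      simp [charmatrix_apply_eq]
    · simp [charmatrix_apply_ne _ _ _ hij, hij]
  have h3 : A.map C * (1 - (X : K[X]) • P.map C) = A.map C - Matrix.scalar n (C c * X) := by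
    rw [mul_sub, mul_one, Matrix.mul_smul, ← Matrix.map_mul, h]
    congr 1
    ext i j
    by_cases hij : i = j
    · subst hij
      simp only [Matrix.smul_apply, Matrix.map_apply, Matrix.one_apply_eq, smul_eq_mul, mul_one,
        Matrix.scalar_apply, Matrix.diagonal_apply_eq]
      ring
    · simp only [Matrix.smul_apply, Matrix.map_apply, Matrix.one_apply_ne hij, smul_eq_mul,
        mul_zero, map_zero, Matrix.scalar_apply, Matrix.diagonal_apply_ne _ hij]
  rw [Matrix.charpolyRev, h1, ← det_mul, h3, h2, ← det_neg, neg_sub]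

/-- Matrices of `φ`, `ψ` in dual bases. -/
theorem exists_matrices {K : Type v} {V W : Type*} [Field K] [AddCommGroup V] [Module K V]
    [AddCommGroup W] [Module K W] [Module.Finite K V] [Module.Finite K W]
    (B : V →ₗ[K] W →ₗ[K] K) (hB : B.IsPerfPair) (φ : V →ₗ[K] V) (ψ : W →ₗ[K] W) (c : K)
    (h : ∀ v w, B (φ v) (ψ w) = c * B v w) :
    ∃ (Φ Ψ : Matrix (Fin (Module.finrank K V)) (Fin (Module.finrank K V)) K),
      Φ.det = LinearMap.det φ ∧ Ψ.det = LinearMap.det ψ ∧ Φ.charpoly = φ.charpoly ∧
      Ψ.charpoly = ψ.charpoly ∧ Φᵀ * Ψ = c • (1 : Matrix _ _ K) := by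
  classical
  haveI := hB
  let b := Module.finBasis K V
  let b' : Module.Basis (Fin (Module.finrank K V)) K W :=
    b.dualBasis.map (B.flip.toPerfPair).symm
  have hδ : ∀ i j, B (b i) (b' j) = if i = j then 1 else 0 := by
    intro i j
    have h1 : B.flip.toPerfPair (b' j) = b.dualBasis j := by simp [b']
    have h2 := congrArg (fun f => f (b i)) h1
    simp only [LinearMap.toPerfPair_apply, LinearMap.flip_apply] at h2
    rw [h2, Module.Basis.dualBasis_apply_self]
  refine ⟨LinearMap.toMatrix b b φ, LinearMap.toMatrix b' b' ψ, LinearMap.det_toMatrix b φ,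
    LinearMap.det_toMatrix b' ψ, LinearMap.charpoly_toMatrix φ b,
    LinearMap.charpoly_toMatrix ψ b', ?_⟩
  ext i j
  have hφ : φ (b i) = ∑ k, (LinearMap.toMatrix b b φ) k i • b k := by
    simp only [LinearMap.toMatrix_apply]
    exact (b.sum_repr _).symm
  have hψ : ψ (b' j) = ∑ l, (LinearMap.toMatrix b' b' ψ) l j • b' l := by
    simp only [LinearMap.toMatrix_apply]
    exact (b'.sum_repr _).symm
  have h3 := h (b i) (b' j)
  rw [hφ, hψ] at h3
  simp only [map_sum, map_smul, LinearMap.sum_apply, LinearMap.smul_apply, hδ, smul_eq_mul,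
    mul_ite, mul_one, mul_zero, Finset.sum_ite_eq, Finset.sum_ite_eq', Finset.mem_univ,
    if_true] at h3
  simp only [Matrix.mul_apply, Matrix.transpose_apply, Matrix.smul_apply, Matrix.one_apply,
    smul_eq_mul, mul_ite, mul_one, mul_zero]
  rw [← h3]
  exact Finset.sum_congr rfl (fun x _ => mul_comm _ _)

/-- (LIN1a) -/
theorem det_mul_det_of_pairing {K : Type v} {V W : Type*} [Field K] [AddCommGroup V] [Module K V]
    [AddCommGroup W] [Module K W] [Module.Finite K V] [Module.Finite K W]
    (B : V →ₗ[K] W →ₗ[K] K) (hB : B.IsPerfPair) (φ : V →ₗ[K] V) (ψ : W →ₗ[K] W) (c : K)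
    (h : ∀ v w, B (φ v) (ψ w) = c * B v w) :
    LinearMap.det ψ * LinearMap.det φ = c ^ Module.finrank K V := by
  obtain ⟨Φ, Ψ, hΦ, hΨ, -, -, hrel⟩ := exists_matrices B hB φ ψ c h
  have h1 := congrArg Matrix.det hrel
  rw [Matrix.det_mul, Matrix.det_transpose, Matrix.det_smul, Matrix.det_one, mul_one,
    Fintype.card_fin, hΦ, hΨ] at h1
  rw [mul_comm]
  exact h1

/-- (LIN1b) -/
theorem det_smul_charpoly_reverse {K : Type v} {V W : Type*} [Field K] [AddCommGroup V]
    [Module K V] [AddCommGroup W] [Module K W] [Module.Finite K V] [Module.Finite K W]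
    (B : V →ₗ[K] W →ₗ[K] K) (hB : B.IsPerfPair) (φ : V →ₗ[K] V) (ψ : W →ₗ[K] W) (c : K)
    (hc : c ≠ 0) (h : ∀ v w, B (φ v) (ψ w) = c * B v w) :
    LinearMap.det φ • (LinearMap.charpoly ψ).reverse =
      (-1 : Polynomial K) ^ Module.finrank K V *
        (LinearMap.charpoly φ).comp (Polynomial.C c * Polynomial.X) := by
  obtain ⟨Φ, Ψ, hΦ, hΨ, hΦc, hΨc, hrel⟩ := exists_matrices B hB φ ψ c h
  have h1 := matrix_key Φᵀ Ψ c hrel
  rw [Matrix.det_transpose, Matrix.charpoly_transpose, ← Matrix.reverse_charpoly, hΦ, hΦc, hΨc,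
    Fintype.card_fin] at h1
  rw [Polynomial.smul_eq_C_mul]
  exact h1

/-- (LIN1c) -/
theorem finrank_eq_of_pairing {K : Type v} {V W : Type*} [Field K] [AddCommGroup V] [Module K V]
    [AddCommGroup W] [Module K W] [Module.Finite K V] [Module.Finite K W]
    (B : V →ₗ[K] W →ₗ[K] K) (hB : B.IsPerfPair) : Module.finrank K W = Module.finrank K V := by
  haveI := hB
  exact (Module.finrank_of_isPerfPair B).symm

end Groth.Agent.H66.WF_LIN1
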