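import Mathlib
import Groth.Agent.H74.WK.Defs

/-!
# Pieces (SQ1) + (SQ2) for S14485 (helper74): the comparison map `X' ×_{S'} X' ⟶ X ×_S X`
-/

set_option autoImplicit false
universe u
open CategoryTheory CategoryTheory.Limits AlgebraicGeometry
open Groth.Agent.H74.WK

namespace Groth.Agent.H66.WK_SQ

variable {X S S' : Scheme.{u}} (f : X ⟶ S) (g : S' ⟶ S)

theorem pi_fst : pi f g ≫ pullback.fst f f =
    pullback.fst (pullback.snd f g) (pullback.snd f g) ≫ pullback.fst f g := by
  unfold Groth.Agent.H74.WK.pi pullback.map
  exact pullback.lift_fst _ _ _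

theorem pi_snd : pi f g ≫ pullback.snd f f =
    pullback.snd (pullback.snd f g) (pullback.snd f g) ≫ pullback.fst f g := by
  unfold Groth.Agent.H74.WK.pi pullback.map
  exact pullback.lift_snd _ _ _

theorem hom_ext_P' {T : Scheme.{u}}
    (m m' : T ⟶ pullback (pullback.snd f g) (pullback.snd f g))
    (h₁ : m ≫ pi f g = m' ≫ pi f g)
    (h₂ : m ≫ pullback.fst (pullback.snd f g) (pullback.snd f g) ≫ pullback.snd f g =
      m' ≫ pullback.fst (pullback.snd f g) (pullback.snd f g) ≫ pullback.snd f g) : m = m' := by
  have hA : m ≫ pullback.fst (pullback.snd f g) (pullback.snd f g) ≫ pullback.fst f g =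
      m' ≫ pullback.fst (pullback.snd f g) (pullback.snd f g) ≫ pullback.fst f g := by
    rw [← pi_fst, ← Category.assoc, h₁, Category.assoc]
  have hC : m ≫ pullback.snd (pullback.snd f g) (pullback.snd f g) ≫ pullback.fst f g =
      m' ≫ pullback.snd (pullback.snd f g) (pullback.snd f g) ≫ pullback.fst f g := by
    rw [← pi_snd, ← Category.assoc, h₁, Category.assoc]
  have hD : m ≫ pullback.snd (pullback.snd f g) (pullback.snd f g) ≫ pullback.snd f g =
      m' ≫ pullback.snd (pullback.snd f g) (pullback.snd f g) ≫ pullback.snd f g := by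
    rw [← pullback.condition]; exact h₂
  apply pullback.hom_ext
  · apply pullback.hom_ext
    · simpa only [Category.assoc] using hA
    · simpa only [Category.assoc] using h₂
  · apply pullback.hom_ext
    · simpa only [Category.assoc] using hC
    · simpa only [Category.assoc] using hD

theorem exists_lift {T : Scheme.{u}} (a : T ⟶ pullback f f) (b : T ⟶ S')
    (h : a ≫ pullback.fst f f ≫ f = b ≫ g) :
    ∃ l : T ⟶ pullback (pullback.snd f g) (pullback.snd f g), l ≫ pi f g = a ∧
      l ≫ pullback.fst (pullback.snd f g) (pullback.snd f g) ≫ pullback.snd f g = b := by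
  have h1 : (a ≫ pullback.fst f f) ≫ f = b ≫ g := by rw [Category.assoc]; exact h
  have h2 : (a ≫ pullback.snd f f) ≫ f = b ≫ g := by
    rw [Category.assoc, ← pullback.condition]; exact h
  have h3 : pullback.lift (a ≫ pullback.fst f f) b h1 ≫ pullback.snd f g =
      pullback.lift (a ≫ pullback.snd f f) b h2 ≫ pullback.snd f g := by
    rw [pullback.lift_snd, pullback.lift_snd]
  refine ⟨pullback.lift (pullback.lift (a ≫ pullback.fst f f) b h1)
    (pullback.lift (a ≫ pullback.snd f f) b h2) h3, ?_, ?_⟩
  · apply pullback.hom_ext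
    · rw [Category.assoc, pi_fst, pullback.lift_fst_assoc, pullback.lift_fst]
    · rw [Category.assoc, pi_snd, pullback.lift_snd_assoc, pullback.lift_fst]
  · rw [pullback.lift_fst_assoc, pullback.lift_snd]

/-- (SQ1) -/
theorem isPullback_pi {X S S' : Scheme.{u}} (f : X ⟶ S) (g : S' ⟶ S) :
    IsPullback (pi f g)
      (pullback.fst (pullback.snd f g) (pullback.snd f g) ≫ pullback.snd f g)
      (pullback.fst f f ≫ f) g := by
  have w : pi f g ≫ pullback.fst f f ≫ f =
      (pullback.fst (pullback.snd f g) (pullback.snd f g) ≫ pullback.snd f g) ≫ g := by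
    rw [← Category.assoc, pi_fst, Category.assoc, Category.assoc, pullback.condition]
  refine ⟨⟨w⟩, ⟨PullbackCone.IsLimit.mk _
    (fun s => (exists_lift f g s.fst s.snd s.condition).choose)
    (fun s => (exists_lift f g s.fst s.snd s.condition).choose_spec.1)
    (fun s => (exists_lift f g s.fst s.snd s.condition).choose_spec.2)
    (fun s m h₁ h₂ => hom_ext_P' f g _ _
      (h₁.trans (exists_lift f g s.fst s.snd s.condition).choose_spec.1.symm)
      (h₂.trans (exists_lift f g s.fst s.snd s.condition).choose_spec.2.symm))⟩⟩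

/-- (SQ2) -/
theorem isPullback_diagonal {X S S' : Scheme.{u}} (f : X ⟶ S) (g : S' ⟶ S) :
    IsPullback (pullback.diagonal (pullback.snd f g)) (pullback.fst f g)
      (pi f g) (pullback.diagonal f) := by
  have w : pullback.diagonal (pullback.snd f g) ≫ pi f g =
      pullback.fst f g ≫ pullback.diagonal f := by
    apply pullback.hom_ext
    · rw [Category.assoc, pi_fst]; simp
    · rw [Category.assoc, pi_snd]; simp
  have key : ∀ (s : PullbackCone (pi f g) (pullback.diagonal f)),
      s.fst ≫ pullback.fst (pullback.snd f g) (pullback.snd f g) =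
        s.fst ≫ pullback.snd (pullback.snd f g) (pullback.snd f g) := by
    intro s
    have hc := s.condition
    apply pullback.hom_ext
    · have e1 : s.fst ≫ pi f g ≫ pullback.fst f f = s.snd := by
        rw [← Category.assoc, hc]; simp
      have e2 : s.fst ≫ pi f g ≫ pullback.snd f f = s.snd := by
        rw [← Category.assoc, hc]; simp
      rw [pi_fst] at e1
      rw [pi_snd] at e2
      rw [Category.assoc, Category.assoc, e1, e2]
    · rw [Category.assoc, Category.assoc, pullback.condition]
  refine ⟨⟨w⟩, ⟨PullbackCone.IsLimit.mk _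
    (fun s => s.fst ≫ pullback.fst (pullback.snd f g) (pullback.snd f g)) ?_ ?_ ?_⟩⟩
  · intro s
    apply pullback.hom_ext
    · simp
    · rw [Category.assoc, Category.assoc, pullback.diagonal_snd, Category.comp_id]
      exact key s
  · intro s
    have hc := s.condition
    have e1 : s.fst ≫ pi f g ≫ pullback.fst f f = s.snd := by
      rw [← Category.assoc, hc]; simp
    rw [pi_fst] at e1
    rw [Category.assoc]; exact e1
  · intro s m h₁ _
    rw [← h₁]; simp

end Groth.Agent.H66.WK_SQ
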